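import Cfsg.Agent.Mrg.Omega.CloseA.Coord
import Cfsg.Agent.Mrg.Omega.CloseA.Weak
import Cfsg.Agent.StdRank2.B2Torus
import Cfsg.Agent.Mrg.Omega.ExitsThree
import Cfsg.Agent.Mrg.Omega.HOne.NSSide
import Cfsg.Agent.Mrg.Omega.HOne.Main
import Cfsg.Agent.Mrg.Omega.HOne.SplitVQ
import Cfsg.Agent.Mrg.Omega.MixOne.OfSplit
import Cfsg.Agent.Omega.HOneEnd.EndIn
import Cfsg.Agent.Mrg.Omega.HOneTwo.TransSide
import Cfsg.Agent.Mrg.Omega.HTwo.AlphaP
import Cfsg.Agent.Mrg.Omega.HTwo.Entry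
import Cfsg.Agent.S0311
import Cfsg.Agent.S0312
import Cfsg.Agent.S0319

-- merged: Cfsg.Agent.Mrg.Omega.CloseA.IdFour
section

/-!
# `Co4 ⟹ Q₁Q₂` is isomorphic to a Sylow 2-subgroup of `PSp₄(F)`

`nform`: the normal forms `s(a) d(b, p) t(q)` of `Q₁Q₂`.
`nform_std`: the normal forms of the positive part of a package of type `Sp₄(F)`.
`exists_sylow`: the isomorphism, `|F| > 2`.
-/

set_option autoImplicit false

namespace Cfsg.Agent.Omega.CloseA.IdFour

open Cfsg.Agent.Omega.CloseA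

/-- The normal forms in `Q₁Q₂`. -/
theorem nform {G : Type*} [Group G] {F : Type*} [Field F] [CharP F 2] {Q₁ Q₂ D C₁ C₂ : Subgroup G}
    {x y z z' : G → F} (h : Co4 Q₁ Q₂ D C₁ C₂ x y z z') :
    ∃ n : F → F → F → F → G, NForm (Q₁ ⊔ Q₂) n := by
  obtain ⟨s, s_mem, x_s, s_add⟩ := sect h.sq₁ h.x_mul h.x_surj
  obtain ⟨t, t_mem, y_t, t_add⟩ := sect h.sq₂ h.y_mul h.y_surj
  choose d d_mem z_d z'_d using h.z_surj
  have D₁ : ∀ {u}, u ∈ D → u ∈ Q₁ := fun hu => ((h.inf _).1 hu).1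
  have D₂ : ∀ {u}, u ∈ D → u ∈ Q₂ := fun hu => ((h.inf _).1 hu).2
  have comm : ∀ {Q : Subgroup G}, (∀ u ∈ Q, u * u = 1) → ∀ u ∈ Q, ∀ v ∈ Q, u * v = v * u := by
    intro Q sq u hu v hv
    have h1 := sq _ (mul_mem hu hv)
    have h2 : u⁻¹ = u := inv_eq_of_mul_eq_one_left (sq u hu)
    have h3 : v⁻¹ = v := inv_eq_of_mul_eq_one_left (sq v hv)
    have h4 : u * v = (u * v)⁻¹ := eq_inv_of_mul_eq_one_left h1
    rw [h4, mul_inv_rev, h2, h3]
  have z_one : z 1 = 0 := by
    have := h.z_mul 1 (one_mem _) 1 (one_mem _)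
    rw [mul_one] at this
    exact left_eq_add.1 this
  have z'_one : z' 1 = 0 := by
    have := h.z'_mul 1 (one_mem _) 1 (one_mem _)
    rw [mul_one] at this
    exact left_eq_add.1 this
  have sqD : ∀ u ∈ D, u * u = 1 := fun u hu => h.sq₁ u (D₁ hu)
  have D_eq : ∀ u ∈ D, ∀ v ∈ D, z u = z v → z' u = z' v → u = v := by
    intro u hu v hv e e'
    have h1 : u * v = 1 := by
      apply h.z_inj _ (mul_mem hu hv)
      · rw [h.z_mul u hu v hv, e, CharTwo.add_self_eq_zero]
      · rw [h.z'_mul u hu v hv, e', CharTwo.add_self_eq_zero]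
    rw [eq_inv_of_mul_eq_one_left h1]
    exact inv_eq_of_mul_eq_one_left (sqD v hv)
  have d_add : ∀ a a' b b', d (a + b) (a' + b') = d a a' * d b b' := by
    intro a a' b b'
    apply D_eq _ (d_mem _ _) _ (mul_mem (d_mem _ _) (d_mem _ _))
    · rw [z_d, h.z_mul _ (d_mem _ _) _ (d_mem _ _), z_d, z_d]
    · rw [z'_d, h.z'_mul _ (d_mem _ _) _ (d_mem _ _), z'_d, z'_d]
  have eq_d : ∀ u ∈ D, u = d (z u) (z' u) := fun u hu =>
    D_eq _ hu _ (d_mem _ _) (z_d _ _).symm (z'_d _ _).symm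
  have d_s : ∀ a b c, d a b * s c = s c * d a b := fun a b c =>
    comm h.sq₁ _ (D₁ (d_mem _ _)) _ (s_mem _)
  have d_t : ∀ a b c, d a b * t c = t c * d a b := fun a b c =>
    comm h.sq₂ _ (D₂ (d_mem _ _)) _ (t_mem _)
  have d_d : ∀ a b a' b', d a b * d a' b' = d a' b' * d a b := fun a b a' b' =>
    comm h.sq₂ _ (D₂ (d_mem _ _)) _ (D₂ (d_mem _ _))
  -- `t q * s a = s a * t q * d`
  have t_s : ∀ a q, t q * s a = s a * d (a * q) (a * a * q) * t q := by
    intro a q
    have h1 := h.mem _ (s_mem a) _ (t_mem q)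
    have h2 := h.com _ (s_mem a) _ (t_mem q)
    have h3 := h.com' _ (s_mem a) _ (t_mem q)
    rw [x_s, y_t] at h2 h3
    have h4 : s a * t q * (s a)⁻¹ * (t q)⁻¹ = d (a * q) (a * a * q) :=
      D_eq _ h1 _ (d_mem _ _) (h2.trans (z_d _ _).symm) (h3.trans (z'_d _ _).symm)
    have h5 : d (a * q) (a * a * q) * d (a * q) (a * a * q) = 1 := sqD _ (d_mem _ _)
    have h6 : s a * t q = d (a * q) (a * a * q) * (t q * s a) := by rw [← h4]; group
    calc t q * s a = d (a * q) (a * a * q) * d (a * q) (a * a * q) * (t q * s a) := by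
          rw [h5, one_mul]
      _ = d (a * q) (a * a * q) * (d (a * q) (a * a * q) * (t q * s a)) := by group
      _ = d (a * q) (a * a * q) * s a * t q := by rw [← h6]; group
      _ = _ := by rw [d_s]
  have s_zero : s 0 = 1 := by
    have := s_add 0 0
    rw [add_zero] at this
    exact left_eq_mul.1 this
  have t_zero : t 0 = 1 := by
    have := t_add 0 0
    rw [add_zero] at this
    exact left_eq_mul.1 this
  have d_zero : d 0 0 = 1 := by
    have := d_add 0 0 0 0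
    rw [add_zero] at this
    exact left_eq_mul.1 this
  have Q₁_eq : ∀ u ∈ Q₁, u = s (x u) * d (z ((s (x u))⁻¹ * u)) (z' ((s (x u))⁻¹ * u)) := by
    intro u hu
    have h1 : (s (x u))⁻¹ * u ∈ D := by
      rw [← h.x_ker _ (mul_mem (inv_mem (s_mem _)) hu)]
      have h2 : (s (x u))⁻¹ = s (x u) := inv_eq_of_mul_eq_one_left (h.sq₁ _ (s_mem _))
      rw [h2, h.x_mul _ (s_mem _) _ hu, x_s, CharTwo.add_self_eq_zero]
    rw [← eq_d _ h1]
    group
  have Q₂_eq : ∀ u ∈ Q₂, u = d (z (u * (t (y u))⁻¹)) (z' (u * (t (y u))⁻¹)) * t (y u) := by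
    intro u hu
    have h1 : u * (t (y u))⁻¹ ∈ D := by
      rw [← h.y_ker _ (mul_mem hu (inv_mem (t_mem _)))]
      have h2 : (t (y u))⁻¹ = t (y u) := inv_eq_of_mul_eq_one_left (h.sq₂ _ (t_mem _))
      rw [h2, h.y_mul _ hu _ (t_mem _), y_t, CharTwo.add_self_eq_zero]
    rw [← eq_d _ h1]
    group
  have mul : ∀ a p b q a' p' b' q',
      (s a * d b p * t q) * (s a' * d b' p' * t q') =
      s (a + a') * d (b + a' * q + b') (p + a' * a' * q + p') * t (q + q') := by
    intro a p b q a' p' b' q'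
    calc (s a * d b p * t q) * (s a' * d b' p' * t q')
        = s a * d b p * (t q * s a') * d b' p' * t q' := by group
      _ = s a * d b p * (s a' * d (a' * q) (a' * a' * q) * t q) * d b' p' * t q' := by rw [t_s]
      _ = s a * (d b p * s a') * d (a' * q) (a' * a' * q) * (t q * d b' p') * t q' := by group
      _ = s a * (s a' * d b p) * d (a' * q) (a' * a' * q) * (d b' p' * t q) * t q' := by
        rw [d_s, ← d_t]
      _ = (s a * s a') * (d b p * d (a' * q) (a' * a' * q) * d b' p') * (t q * t q') := by group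
      _ = _ := by rw [← s_add, ← t_add, ← d_add, ← d_add]
  have inj : ∀ a p b q, s a * d b p * t q = 1 → a = 0 ∧ p = 0 ∧ b = 0 ∧ q = 0 := by
    intro a p b q e
    have h1 : s a * d b p = (t q)⁻¹ := eq_inv_of_mul_eq_one_left e
    have h2 : s a * d b p ∈ D := by
      rw [h.inf]
      exact ⟨mul_mem (s_mem _) (D₁ (d_mem _ _)), h1 ▸ inv_mem (t_mem _)⟩
    have h3 : s a ∈ D := by
      have := mul_mem h2 (inv_mem (d_mem b p))
      rwa [mul_inv_cancel_right] at this
    have h4 : a = 0 := by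
      rw [← x_s a]
      exact (h.x_ker _ (s_mem _)).2 h3
    have h5 : t q ∈ D := by
      rw [h1] at h2
      exact inv_mem_iff.1 h2
    have h6 : q = 0 := by
      rw [← y_t q]
      exact (h.y_ker _ (t_mem _)).2 h5
    subst h4 h6
    rw [s_zero, t_zero, one_mul, mul_one] at e
    refine ⟨rfl, ?_, ?_, rfl⟩
    · rw [← z'_d b p, e, z'_one]
    · rw [← z_d b p, e, z_one]
  refine ⟨fun a p b q => s a * d b p * t q, fun a p b q => ?_, fun g hg => ?_, ?_, fun a p b q a' p' b' q' =>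
    mul a p b q a' p' b' q'⟩
  · exact mul_mem (mul_mem (Subgroup.mem_sup_left (s_mem _)) (Subgroup.mem_sup_left (D₁ (d_mem _ _))))
      (Subgroup.mem_sup_right (t_mem _))
  · rw [Subgroup.sup_eq_closure] at hg
    refine Subgroup.closure_induction_right
      (p := fun u _ => ∃ a p b q, u = s a * d b p * t q) ⟨0, 0, 0, 0, by simp [s_zero, t_zero, d_zero]⟩
      ?_ ?_ hg
    · rintro _ _ u hu ⟨a, p, b, q, rfl⟩
      rcases hu with hu | hu
      · rw [Q₁_eq u hu]
        have := mul a p b q (x u) (z' ((s (x u))⁻¹ * u)) (z ((s (x u))⁻¹ * u)) 0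
        rw [t_zero, mul_one] at this
        exact ⟨_, _, _, _, this⟩
      · rw [Q₂_eq u hu]
        have := mul a p b q 0 (z' (u * (t (y u))⁻¹)) (z (u * (t (y u))⁻¹)) (y u)
        rw [s_zero, one_mul] at this
        exact ⟨_, _, _, _, this⟩
    · rintro _ _ u hu ⟨a, p, b, q, rfl⟩
      rcases hu with hu | hu
      · have hu' : u⁻¹ ∈ Q₁ := inv_mem hu
        rw [Q₁_eq u⁻¹ hu']
        have := mul a p b q (x u⁻¹) (z' ((s (x u⁻¹))⁻¹ * u⁻¹)) (z ((s (x u⁻¹))⁻¹ * u⁻¹)) 0
        rw [t_zero, mul_one] at this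
        exact ⟨_, _, _, _, this⟩
      · have hu' : u⁻¹ ∈ Q₂ := inv_mem hu
        rw [Q₂_eq u⁻¹ hu']
        have := mul a p b q 0 (z' (u⁻¹ * (t (y u⁻¹))⁻¹)) (z (u⁻¹ * (t (y u⁻¹))⁻¹)) (y u⁻¹)
        rw [s_zero, one_mul] at this
        exact ⟨_, _, _, _, this⟩
  · intro a p b q a' p' b' q' e
    -- multiply by the inverse of the second
    have h1 := mul a' p' b' q' a' (p' + a' * a' * q') (b' + a' * q') q'
    have h2 := mul a p b q a' (p' + a' * a' * q') (b' + a' * q') q'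
    change s a * d b p * t q = s a' * d b' p' * t q' at e
    rw [e, h1] at h2
    have e1 : a' + a' = 0 := CharTwo.add_self_eq_zero a'
    have e2 : b' + a' * q' + (b' + a' * q') = 0 := CharTwo.add_self_eq_zero _
    have e3 : p' + a' * a' * q' + (p' + a' * a' * q') = 0 := CharTwo.add_self_eq_zero _
    have e4 : q' + q' = 0 := CharTwo.add_self_eq_zero q'
    rw [e1, e2, e3, e4, s_zero, t_zero, d_zero, one_mul, mul_one] at h2
    obtain ⟨k1, k2, k3, k4⟩ := inj _ _ _ _ h2.symm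
    have hc : (2 : F) = 0 := CharTwo.two_eq_zero
    have r1 : a = a' := by linear_combination k1 - a' * hc
    have r4 : q = q' := by linear_combination k4 - q' * hc
    subst r1 r4
    refine ⟨rfl, ?_, ?_, rfl⟩
    · linear_combination k2 - (p' + a * a * q) * hc
    · linear_combination k3 - (b' + a * q) * hc

section std

open Cfsg.Agent.TitsThree.B2Pkg Cfsg.Agent.TitsThree.StdData Cfsg.Agent.StdRank2.B2Std

variable {F : Type*} [Field F]

/-- the element of the parameter group -/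
def tt (c : F) : (stdSp F).T := ⟨(), c, trivial⟩

theorem tt_mul (a b : F) : tt a * tt b = tt (a + b) := by
  ext
  change a + b - 0 = a + b; ring

theorem tr_eq [CharP F 2] (a b : F) : (stdSp F).tr a b = 1 := by
  have h2 : (2 : F) = 0 := CharTwo.two_eq_zero
  ext
  change a * b - (-1) * a * b = 0
  linear_combination a * b * h2

/-- The normal forms of the positive part. -/
theorem nform_std {A : Type*} [Group A] [Finite F] [CharP F 2] (S : Std (stdSp F) A) :
    NForm S.U fun a p b q => nf S.m a (tt p) b (tt q) := by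
  have hc2 : (2 : F) = 0 := CharTwo.two_eq_zero
  refine ⟨fun a p b q => nf_mem _ _ _ _, fun g hg => ?_, fun a p b q a' p' b' q' e => ?_,
    fun a p b q a' p' b' q' => ?_⟩
  · obtain ⟨a, p, b, q, rfl⟩ := exists_nf S.rel hg
    exact ⟨a, p.c, b, q.c, rfl⟩
  · obtain ⟨h1, h2, h3, h4⟩ := S.nf_inj e
    exact ⟨h1, congrArg PQDatum.T.c h2, h3, congrArg PQDatum.T.c h4⟩
  · have h1 : (stdSp F).sc (-a') (tt q) = tt (a' * a' * q) := by
      ext
      change -a' * -a' * q = a' * a' * q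
      ring
    rw [mul_nf S.rel, tr_eq, inv_one, mul_one, h1, tt_mul, tt_mul, tt_mul]
    congr 1
    change b + (-1) * a' * q + 0 + b' = b + a' * q + b'
    linear_combination -(a' * q) * hc2

end std

open Cfsg.Agent.TitsThree.StdData Cfsg.Agent.StdRank2.B2Std in
/-- **`Q₁Q₂` is isomorphic to a Sylow 2-subgroup of `PSp₄(F)`.** -/
theorem exists_sylow {G : Type*} [Group G] {F : Type*} [Field F] [Finite F] [CharP F 2]
    (hF : 3 ≤ Nat.card F) {Q₁ Q₂ D C₁ C₂ : Subgroup G} {x y z z' : G → F}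
    (h : Co4 Q₁ Q₂ D C₁ C₂ x y z z') :
    ∃ P : Sylow 2 (Cfsg.PSp 2 F),
      Nonempty (↥(Q₁ ⊔ Q₂) ≃* ↥(P : Subgroup (Cfsg.PSp 2 F))) := by
  have := Fintype.ofFinite F
  have hs : IsSimpleGroup (Cfsg.PSp 2 F) :=
    Cfsg.Agent.S0270.result 2 le_rfl (fun _ => by rw [← Nat.card_eq_fintype_card]; exact hF)
  obtain ⟨S⟩ := Cfsg.Agent.StdRank2.B2Inst.exists_std_Sp hF
  have : Finite (stdSp F).T := Finite.of_injective (fun p => p.c) (fun p q h => by
    ext
    exact h)
  have hZ : Odd (Nat.card (Subgroup.center (Cfsg.PSp 2 F))) := by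
    have h1 : Subgroup.center (Cfsg.PSp 2 F) = ⊥ := by
      rcases (inferInstance : (Subgroup.center (Cfsg.PSp 2 F)).Normal).eq_bot_or_eq_top with h1 | h1
      · exact h1
      · exfalso
        have h2 := (nform_std S).mul 1 0 0 0 0 0 0 1
        have h3 := (nform_std S).mul 0 0 0 1 1 0 0 0
        have h4 : nf S.m 1 (tt 0) 0 (tt 0) ∈ Subgroup.center (Cfsg.PSp 2 F) := by
          rw [h1]
          exact Subgroup.mem_top _
        have h5 := Subgroup.mem_center_iff.1 h4 (nf S.m 0 (tt 0) 0 (tt 1))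
        have h6 := (nform_std S).inj _ _ _ _ _ _ _ _ (h2.symm.trans (h5.symm.trans h3))
        have h7 := h6.2.1
        simp at h7
    rw [h1, Subgroup.card_bot]
    exact odd_one
  obtain ⟨P, hP⟩ := Cfsg.Agent.StdRank2.B2Torus.Std.exists_sylow S
    Cfsg.Agent.StdRank2.B2Torus.scal_Sp hZ
  obtain ⟨n, hn⟩ := nform h
  refine ⟨P, ?_⟩
  rw [hP]
  exact hn.equiv (nform_std S)

end Cfsg.Agent.Omega.CloseA.IdFour

end

-- merged: Cfsg.Agent.Mrg.Omega.HOne.NSEnd
section

section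


/-!
# Two members of `P*(S)` over one `S` which do not commute, `C_V(O²(P₁)) ≠ 1`, `q ≥ 4`: `G = Sp₄(q)`

`known` : `P₁, P₂ ∈ P*(S)`, natural (one factor), `[V_{P₁}, V_{P₂}] ≠ 1`, `C_{V_{P₁}}(O²(P₁)) ≠ 1`, `q ≥ 4`: `G` is
known (type `L₃(q)` is impossible by orders, type `Sp₄(q)`: S1740).
-/

set_option autoImplicit false

namespace Cfsg.Agent.Omega.HOne.NSEnd

open Subgroup Cfsg Cfsg.Agent.ZN Cfsg.Agent.Omega.MinPar Cfsg.Agent.Omega.CloseA
open Cfsg.Agent.Omega.FrameFF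
open Cfsg.Agent.Omega.FFOne (relIndex_ker' card_of_relIndex)

universe u

section

variable {G : Type u} [Group G] {F : Type} [Field F] {Q₁ Q₂ D C₁ C₂ : Subgroup G} {x y z z' : G → F}

theorem card_co3 (h : Co3 Q₁ Q₂ D x y z) : Nat.card Q₁ = Nat.card F * Nat.card F := by
  have h1 : D.relIndex Q₁ = Nat.card F := relIndex_ker' h.x_mul h.x_surj fun u hu => (h.x_ker u hu).symm
  have h2 : (⊥ : Subgroup G).relIndex D = Nat.card F := by
    refine relIndex_ker' h.z_mul h.z_surj fun u hu => ?_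
    constructor
    · intro h0
      rw [mem_bot.1 h0]
      have := h.z_mul 1 (one_mem _) 1 (one_mem _)
      rw [mul_one] at this
      exact left_eq_add.1 this
    · intro h0
      exact mem_bot.2 (h.z_inj u hu h0)
  have h3 := card_of_relIndex (H := D) (K := Q₁) fun u hu => ((h.inf u).1 hu).1
  rw [relIndex_bot_left] at h2
  rw [h1, h2] at h3
  exact h3.symm

theorem le_card_co4 [Finite G] [Finite F] (h : Co4 Q₁ Q₂ D C₁ C₂ x y z z') :
    Nat.card F * Nat.card F ≤ Nat.card Q₁ := by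
  have h1 : D.relIndex Q₁ = Nat.card F := relIndex_ker' h.x_mul h.x_surj fun u hu => (h.x_ker u hu).symm
  have h2 : Nat.card F ≤ Nat.card D := by
    refine Nat.card_le_card_of_surjective (fun u : D => z u) fun a => ?_
    obtain ⟨u, hu, hu', -⟩ := h.z_surj a 0
    exact ⟨⟨u, hu⟩, hu'⟩
  have h3 := card_of_relIndex (H := D) (K := Q₁) fun u hu => ((h.inf u).1 hu).1
  rw [← h3, h1]
  exact Nat.mul_le_mul_left _ h2

theorem not_rank [Finite G] [Finite F] (h : Co4 Q₁ Q₂ D C₁ C₂ x y z z') (hF : 4 ≤ Nat.card F) : ¬ PRankLE 2 2 G := by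
  intro h0
  have h1 := h0 Q₁ ⟨⟨fun a b => ?_⟩⟩ fun a ha => by rw [pow_two]; exact h.sq₁ a ha
  · have h2 := le_card_co4 h
    have h3 : 4 * 4 ≤ Nat.card F * Nat.card F := Nat.mul_le_mul hF hF
    have h4 : (2 : ℕ) ^ 2 = 4 := by norm_num
    omega
  · apply Subtype.ext
    change (a : G) * b = b * a
    have h3 := h.sq₁ _ (mul_mem a.2 b.2)
    have h4 := h.sq₁ a a.2
    have h5 := h.sq₁ b b.2
    calc (a : G) * b = a * (a * b * (a * b)) * b := by rw [h3]; group
      _ = (a * a) * b * a * (b * b) := by group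
      _ = b * a := by rw [h4, h5]; group

end

/-- `Co4`, `S = Q₁Q₂`, `q ≥ 4`: `G = Sp₄(q)` -/
theorem known_co4 (h40 : Outputs.St1740.{u}) {G : Type u} [Group G] [Finite G] [IsSimpleGroup G]
    (hna : ¬ IsMulCommutative G) (S : Sylow 2 G) {F : Type} [Field F] [Finite F] [CharP F 2]
    {Q₁ Q₂ D C₁ C₂ : Subgroup G} {x y z z' : G → F} (h : Co4 Q₁ Q₂ D C₁ C₂ x y z z')
    (hS : (S : Subgroup G) = Q₁ ⊔ Q₂) (hF : 4 ≤ Nat.card F) : IsKnownSimple' G := by
  obtain ⟨P, hP⟩ := IdFour.exists_sylow (by omega) h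
  rw [← hS] at hP
  have := Fintype.ofFinite F
  obtain ⟨n, -, hn⟩ := FiniteField.card F 2
  have hn2 : 2 ≤ (n : ℕ) := by
    by_contra hc
    have h1 : (n : ℕ) = 1 := by have := n.pos; omega
    rw [Nat.card_eq_fintype_card, hn, h1] at hF
    norm_num at hF
  exact Exits.known_1740 hn2 (h40 G hna (not_rank h hF) S n
    (Or.inl ⟨F, inferInstance, inferInstance, hn, Or.inr (Or.inr ⟨hn2, P, hP⟩)⟩))

/-- **The end of THEOREM NS.** -/
theorem known (h40 : Outputs.St1740.{u}) {G : Type u} [Group G] [Finite G] (hc : Frame.Ctx G) (S : Sylow 2 G)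
    {P₁ P₂ : Subgroup G} (h₁ : IsParS (S : Subgroup G) P₁) (h₂ : IsParS (S : Subgroup G) P₂)
    {F₁ F₂ : Type} [Field F₁] [Finite F₁] [CharP F₁ 2] [Field F₂] [Finite F₂] [CharP F₂ 2]
    (M₁ : NatOver F₁ P₁ (zl (S : Subgroup G) P₁) (cv (S : Subgroup G) P₁))
    (M₂ : NatOver F₂ P₂ (zl (S : Subgroup G) P₂) (cv (S : Subgroup G) P₂))
    (hne : ⁅zl (S : Subgroup G) P₁, zl (S : Subgroup G) P₂⁆ ≠ ⊥) (hF : 4 ≤ Nat.card F₁)
    (hfr : ¬ Free (S : Subgroup G) P₁) : IsKnownSimple' G := by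
  haveI := hc.simple
  rcases NSMut.exit hc.char2 S h₁ h₂ M₁ M₂ hne (by omega) with ⟨X, Y, Z, h, -⟩ | ⟨C₁, C₂, X, Y, Z, Z', h, hS⟩
  · exfalso
    apply hfr
    have h1 := card_co3 h
    have h2 := NSMut.relIndex_cv S M₁
    have h3 := card_of_relIndex (cv_le (S : Subgroup G) P₁)
    have h4 : Nat.card (zl (S : Subgroup G) P₁) ≤ Nat.card (o2 P₁) :=
      Nat.card_le_card_of_injective _ (inclusion_injective (NSMut.zl_le_o2 hc.char2 S h₁))
    rw [h2] at h3
    rw [← h3, h1] at h4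
    have h5 : 0 < Nat.card F₁ * Nat.card F₁ := Nat.mul_pos (by omega) (by omega)
    have h6 : Nat.card (cv (S : Subgroup G) P₁) ≤ 1 := by
      by_contra hcon
      push Not at hcon
      have := Nat.mul_lt_mul_of_pos_left hcon h5
      omega
    exact (card_le_one_iff_eq_bot _).1 h6
  · exact known_co4 h40 hc.nonComm S h hS hF

end Cfsg.Agent.Omega.HOne.NSEnd

end

section


/-!
# THEOREM NS plugged into the leaf II.0h1

`nonsplit4` : `Outputs.St1740` implies `HOne.Main.Nonsplit4 K`.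
-/

set_option autoImplicit false

namespace Cfsg.Agent.Omega.HOne.NSPlug

open Subgroup Cfsg Cfsg.Agent.ZN Cfsg.Agent.Omega.MinPar Cfsg.Agent.Omega.Frame Cfsg.Agent.Omega.FrameFF
open Cfsg.Agent.Omega.HOne.Main

universe u

/-- **THEOREM NS**: a mutual pair with a nonsplit member, `q ≥ 4`. -/
theorem nonsplit4 (h40 : Outputs.St1740.{u}) {K : Cls.{u}} : Nonsplit4 K := by
  intro G _ _ hG _ S _ _ hS P₁ P₂ x m hns F _ _ _ M₁ hq
  obtain ⟨F₂, _, _, _, ⟨M₂⟩⟩ := (hS P₁ P₂ x m).2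
  obtain ⟨P₃, h₃, ⟨M₃⟩, hne⟩ := NSMain.common hG.char2 S m M₁ M₂ hq hns
  refine NSEnd.known h40 hG S m.star₁ h₃ M₁ M₃ hne hq fun h0 => hns ?_
  unfold SplitPar
  unfold Free at h0
  rw [h0, inf_bot_eq]

end Cfsg.Agent.Omega.HOne.NSPlug

end

section


/-!
# Leaf II.0h1: the open sockets

`leafH1 : St1740 → Same4 K → Same2 K → LeafH1 K`; closed: `splitPar_of_two` (`q = 2` is split), `both`,
`normH` (`HOne/NormH.lean`), `mixed4`, `mixed2` (`MixOne/Frame4.lean`, `Frame2.lean`), `nonsplit4`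
(`HOne/NSPlug.lean`, it uses `St1740`).
-/

set_option autoImplicit false

namespace Cfsg.Agent.Omega.HOne.Leaf

open Subgroup Cfsg Cfsg.Agent.ZN Cfsg.Agent.Omega.MinPar Cfsg.Agent.Omega.Frame
open Cfsg.Agent.Omega.FrameFF (LeafH1 two_le_card)
open Cfsg.Agent.Omega.HOne.Main

universe u

theorem nonsplit_of {K : Cls.{u}} (h : Nonsplit4 K) : Nonsplit K := by
  intro G _ _ hG hK S hF hI hS P₁ P₂ x hm hns
  obtain ⟨F, _, _, _, ⟨M⟩⟩ := (hS P₁ P₂ x hm).1
  rcases two_le_card (F := F) with h2 | h4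
  · exact absurd (splitPar_of_two hG.char2 S hm.star₁ M h2) hns
  · exact h G hG hK S hF hI hS P₁ P₂ x hm hns F M h4

/-- **Leaf II.0h1 from its two open sockets.** -/
theorem leafH1 (h40 : Outputs.St1740.{u}) {K : Cls.{u}} (h4 : Same4 K) (h2 : Same2 K) : LeafH1 K :=
  leaf_of_sockets (nonsplit_of (NSPlug.nonsplit4 h40)) (both K) MixOne.mixed4 MixOne.mixed2 (normH K) h4 h2

end Cfsg.Agent.Omega.HOne.Leaf

end

end

-- merged: Cfsg.Agent.Mrg.Omega.HOne.Cut
section

section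


/-!
# Leaf II.0h1: the cut of `Same4` and `Same2`

Everything goes through the interface `HOneEnd.EndIn` of the END.

* `StEnd K` : the END (`EndIn` and the normal form `Same` imply that `G` is known);
* `StFour K` : `q ≥ 4`: the normal form gives `EndIn`;
* `StTS K` : `q = 2`: the transvection statement `TSz` holds for some `z ∈ C_Z(P)`, `M = ⟨C(r) ∩ C(z), X⟩`;
* `StThree K`, `StMore K` : `q = 2`: `TSz` gives `EndIn` (`|N_r| = 8`, `Sp_{2m+2}(2)`; `|N_r| ≠ 8`, `F₄(2)`).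

`same4_of`, `same2_of`, `leafH1_of`.

Local forms of the `q = 2` part (only `Pos`; nothing about mutual pairs, `Full`, `AllIn`, `K`): `TS0`, `Three0`, `More0`;
`ends_of_pos`, `same2_of'`, `leafH1_of'`. `EndL` : the END in the strong form; `known_of_pos` : the exit `Pos` for
every leaf.
-/

set_option autoImplicit false

namespace Cfsg.Agent.Omega.HOne.Cut

open Subgroup Cfsg Cfsg.Agent.ZN Cfsg.Agent.Omega.MinPar Cfsg.Agent.Omega.Frame
open Cfsg.Agent.Omega.NatPair (NatMod)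
open Cfsg.Agent.Omega.FrameFF (AllSingle LeafH1)
open Cfsg.Agent.Omega.FrameLE (AllIn)
open Cfsg.Agent.Omega.BTwo
open Cfsg.Agent.Omega.HOne.Main (Same Same2 Same4 AllSplit)
open Cfsg.Agent.Omega.HTwo.Entry (Pos)
open Cfsg.Agent.Omega.HTwo.AlphaP (MP)
open Cfsg.Agent.Omega.HOneTwo.Trans (gn gen)
open Cfsg.Agent.Omega.HOneEnd (EndIn)

universe u v

/-- the output of the chains: `EndIn` for `R = R o`, and `N ≤ G₀`, `N_G(N) ≤ N_G(G₀)` -/
def Ends {G : Type u} [Group G] (S N R : Subgroup G) : Prop :=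
  ∃ (G₀ U : Subgroup G) (v : G), EndIn S G₀ U R v ∧ N ≤ G₀ ∧ normalizer (N : Set G) ≤ normalizer (G₀ : Set G)

/-- TS(z) : the transvection statement for `M = ⟨N(R o) ∩ C(z), X⟩`, `U = ⟨r^M⟩`, `N r = ⟨z^{C(r)}⟩`:
`|U : U ∩ Q| = 2`, `[U, N r] = ⟨z r⟩`. -/
structure TSz {G : Type u} [Group G] {ι : Type*} (V : Subgroup G) (R : ι → Subgroup G) (o : ι) (r z : G) :
    Prop where
  idx : ∀ u ∈ gn (MP V R o z) r, ∀ u' ∈ gn (MP V R o z) r, u ∉ QQ (R o) → u' ∉ QQ (R o) → u * u' ∈ QQ (R o)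
  act : ∀ u ∈ gn (MP V R o z) r, ∀ n ∈ gen r z, n * u = u * n ∨ n * u = z * r * (u * n)
  ne : ∃ u ∈ gn (MP V R o z) r, ∃ n ∈ gen r z, n * u ≠ u * n

section local_

/-- **TS**, purely local form (#15959 helper916, JUNCTION 202 / 972 / 677 / 773): the transvection statement for some `z` -/
def TS0 : Prop :=
  ∀ (G : Type u) [Group G] [Finite G] (S : Sylow 2 G) (P V : Subgroup G) (ι : Type v) (R : ι → Subgroup G) (o : ι)
    (r z : G), Pos S P V R o r z → ∃ z', Pos S P V R o r z' ∧ TSz V R o r z'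

/-- **after TS, `|N_r| = 8`**, purely local form (#15507 (1)-(7): helper773, 663, 176) -/
def Three0 : Prop :=
  ∀ (G : Type u) [Group G] [Finite G] (S : Sylow 2 G) (P V : Subgroup G) (ι : Type v) (R : ι → Subgroup G) (o : ι)
    (r z : G), Pos S P V R o r z → TSz V R o r z → Nat.card (gen r z) = 8 → Ends (S : Subgroup G) V (R o)

/-- **after TS, `|N_r| ≠ 8`**, purely local form (#16429 helper779) -/
def More0 : Prop :=
  ∀ (G : Type u) [Group G] [Finite G] (S : Sylow 2 G) (P V : Subgroup G) (ι : Type v) (R : ι → Subgroup G) (o : ι)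
    (r z : G), Pos S P V R o r z → TSz V R o r z → Nat.card (gen r z) ≠ 8 → Ends (S : Subgroup G) V (R o)

/-- the position `Pos` gives `EndIn` (no hypothesis on mutual pairs) -/
theorem ends_of_pos (hT : TS0.{u, v}) (h3 : Three0.{u, v}) (hm : More0.{u, v}) {G : Type u} [Group G] [Finite G]
    {S : Sylow 2 G} {P V : Subgroup G} {ι : Type v} {R : ι → Subgroup G} {o : ι} {r z : G}
    (p : Pos S P V R o r z) : Ends (S : Subgroup G) V (R o) := by
  obtain ⟨z', p', ht⟩ := hT G S P V ι R o r z p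
  by_cases h8 : Nat.card (gen r z') = 8
  · exact h3 G S P V ι R o r z' p' ht h8
  · exact hm G S P V ι R o r z' p' ht h8

/-- **the END**, strong form (helper124, 384): only `Ctx`, `Full`, `AllIn` and `EndIn` -/
def EndL : Prop :=
  ∀ (G : Type u) [Group G] [Finite G], Ctx G → ∀ (S : Sylow 2 G), Full (S : Subgroup G) → AllIn (S : Subgroup G) →
    ∀ (G₀ U R : Subgroup G) (v : G), EndIn (S : Subgroup G) G₀ U R v → IsKnownSimple' G

/-- **the exit `Pos`** (for every leaf: nothing is assumed about the other mutual pairs) -/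
theorem known_of_pos (hT : TS0.{u, v}) (h3 : Three0.{u, v}) (hm : More0.{u, v}) (hE : EndL.{u}) {G : Type u} [Group G]
    [Finite G] (hG : Ctx G) {S : Sylow 2 G} (hF : Full (S : Subgroup G)) (hI : AllIn (S : Subgroup G))
    {P V : Subgroup G} {ι : Type v} {R : ι → Subgroup G} {o : ι} {r z : G} (p : Pos S P V R o r z) :
    IsKnownSimple' G := by
  obtain ⟨G₀, U, w, h, -, -⟩ := ends_of_pos hT h3 hm p
  exact hE G hG S hF hI G₀ U _ w h

end local_

section props

variable (K : Cls.{u})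

/-- **the END** (helper124, 384, ..) -/
def StEnd : Prop :=
  ∀ (G : Type u) [Group G] [Finite G], Ctx G → K G → ∀ (S : Sylow 2 G), Full (S : Subgroup G) →
    AllIn (S : Subgroup G) → AllSingle (S : Subgroup G) → AllSplit (S : Subgroup G) →
    ∀ (P : Subgroup G) (g : G) (F : Type) [Field F] [Finite F] [CharP F 2] (N : Subgroup G) (M : NatMod F N),
      Same (S : Subgroup G) P g M → ∀ o : Pt M, (S : Subgroup G) ≤ normalizer (pt M o : Set G) →
        Ends (S : Subgroup G) N (pt M o) → IsKnownSimple' G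

/-- **SAME4**: the normal form, `q ≥ 4`, gives `EndIn` (helper811 #14148, #16450) -/
def StFour : Prop :=
  ∀ (G : Type u) [Group G] [Finite G], Ctx G → K G → ∀ (S : Sylow 2 G), Full (S : Subgroup G) →
    AllIn (S : Subgroup G) → AllSingle (S : Subgroup G) → AllSplit (S : Subgroup G) →
    ∀ (P : Subgroup G) (g : G) (F : Type) [Field F] [Finite F] [CharP F 2] (N : Subgroup G) (M : NatMod F N),
      Same (S : Subgroup G) P g M → 4 ≤ Nat.card F →
        ∃ o : Pt M, (S : Subgroup G) ≤ normalizer (pt M o : Set G) ∧ Ends (S : Subgroup G) N (pt M o)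

/-- **TS** (#15959 helper916, #16932 + THEOREM U helper677, #17168 helper766): the transvection statement for some `z` -/
def StTS : Prop :=
  ∀ (G : Type u) [Group G] [Finite G], Ctx G → K G → ∀ (S : Sylow 2 G), Full (S : Subgroup G) →
    AllIn (S : Subgroup G) → AllSingle (S : Subgroup G) → AllSplit (S : Subgroup G) →
    ∀ (P V : Subgroup G) (ι : Type u) (R : ι → Subgroup G) (o : ι) (r z : G), Pos S P V R o r z →
      IsParS (S : Subgroup G) P →
      zl (S : Subgroup G) P = V ⊔ (zc (S : Subgroup G) ⊓ centralizer (P : Set G)) →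
        ∃ z', Pos S P V R o r z' ∧ TSz V R o r z'

/-- **after TS, `|N_r| = 8`** (#15507 (1)-(7): helper773, 663, 176) -/
def StThree : Prop :=
  ∀ (G : Type u) [Group G] [Finite G], Ctx G → K G → ∀ (S : Sylow 2 G), Full (S : Subgroup G) →
    AllIn (S : Subgroup G) → AllSingle (S : Subgroup G) → AllSplit (S : Subgroup G) →
    ∀ (P V : Subgroup G) (ι : Type u) (R : ι → Subgroup G) (o : ι) (r z : G), Pos S P V R o r z →
      IsParS (S : Subgroup G) P →
      zl (S : Subgroup G) P = V ⊔ (zc (S : Subgroup G) ⊓ centralizer (P : Set G)) →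
        TSz V R o r z → Nat.card (gen r z) = 8 → Ends (S : Subgroup G) V (R o)

/-- **after TS, `|N_r| ≠ 8`** (#16429, helper779's plan #17243) -/
def StMore : Prop :=
  ∀ (G : Type u) [Group G] [Finite G], Ctx G → K G → ∀ (S : Sylow 2 G), Full (S : Subgroup G) →
    AllIn (S : Subgroup G) → AllSingle (S : Subgroup G) → AllSplit (S : Subgroup G) →
    ∀ (P V : Subgroup G) (ι : Type u) (R : ι → Subgroup G) (o : ι) (r z : G), Pos S P V R o r z →
      IsParS (S : Subgroup G) P →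
      zl (S : Subgroup G) P = V ⊔ (zc (S : Subgroup G) ⊓ centralizer (P : Set G)) →
        TSz V R o r z → Nat.card (gen r z) ≠ 8 → Ends (S : Subgroup G) V (R o)

end props

variable {K : Cls.{u}}

theorem stEnd_of (h : EndL.{u}) : StEnd K := by
  intro G _ _ hG _ S hF hI _ _ P g F _ _ _ N M _ o _ he
  obtain ⟨G₀, U, w, h', -, -⟩ := he
  exact h G hG S hF hI G₀ U _ w h'

theorem same4_of (h4 : StFour K) (hE : StEnd K) : Same4 K := by
  intro G _ _ hG hK S hF hI hS hs P g F _ _ _ N M h hq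
  obtain ⟨o, ho, he⟩ := h4 G hG hK S hF hI hS hs P g F N M h hq
  exact hE G hG hK S hF hI hS hs P g F N M h o ho he

theorem same2_of (hT : StTS K) (h3 : StThree K) (hm : StMore K) (hE : StEnd K) : Same2 K := by
  intro G _ _ hG hK S hF hI hS hs P g F _ _ _ N M h h2
  obtain ⟨o, r, z, p⟩ := HTwo.Entry.exists_pos hG.char2 h h2
  have hz : zl (S : Subgroup G) P = N ⊔ (zc (S : Subgroup G) ⊓ centralizer (P : Set G)) := by
    rw [HTwo.Entry.cz_eq h hG.char2, h.sup]
  obtain ⟨z', p', ht⟩ := hT G hG hK S hF hI hS hs P N (Pt M) (pt M) o r z p h.mp.star₁ hz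
  refine hE G hG hK S hF hI hS hs P g F N M h o p.S_R ?_
  by_cases h8 : Nat.card (gen r z') = 8
  · exact h3 G hG hK S hF hI hS hs P N (Pt M) (pt M) o r z' p' h.mp.star₁ hz ht h8
  · exact hm G hG hK S hF hI hS hs P N (Pt M) (pt M) o r z' p' h.mp.star₁ hz ht h8

theorem same2_of' (hT : TS0.{u, u}) (h3 : Three0.{u, u}) (hm : More0.{u, u}) (hE : StEnd K) : Same2 K := by
  intro G _ _ hG hK S hF hI hS hs P g F _ _ _ N M h h2
  obtain ⟨o, r, z, p⟩ := HTwo.Entry.exists_pos hG.char2 h h2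
  exact hE G hG hK S hF hI hS hs P g F N M h o p.S_R (ends_of_pos hT h3 hm p)

/-- **Leaf II.0h1 from the five open statements**, the `q = 2` part in the local form. -/
theorem leafH1_of' (h40 : Outputs.St1740.{u}) (h4 : StFour K) (hT : TS0.{u, u}) (h3 : Three0.{u, u})
    (hm : More0.{u, u}) (hE : StEnd K) : LeafH1 K :=
  Leaf.leafH1 h40 (same4_of h4 hE) (same2_of' hT h3 hm hE)

/-- **Leaf II.0h1 from the five open statements.** -/
theorem leafH1_of (h40 : Outputs.St1740.{u}) (h4 : StFour K) (hT : StTS K) (h3 : StThree K) (hm : StMore K)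
    (hE : StEnd K) : LeafH1 K :=
  Leaf.leafH1 h40 (same4_of h4 hE) (same2_of hT h3 hm hE)

end Cfsg.Agent.Omega.HOne.Cut

end

section


/-!
# II.0h1, `q = 2`: from a BN-pair with Borel subgroup `S` to the interface `EndIn` of the END

`G₀` has an irreducible BN-pair of rank `≥ 3` with `B = S` (THEOREM FREE), contains `C(r)`; all but one of the
distinguished generators lie in `C(r)`; `|S|` divides `|[G₀, G₀]|`; no 2-subgroup `≠ 1` is normal in `G₀`.

* `simple_of` : `G₀` is simple (Tits);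
* `endIn_of` : `EndIn S G₀ S R z`;
* `ends_of` : the same over `Pos`: `Ends S V (R o)`.
-/

set_option autoImplicit false

namespace Cfsg.Agent.Omega.HOneEnd.OfTwo

open Subgroup Cfsg

section bn

variable {L : Type*} [Group L]

/-- a normal subgroup containing `B` is the whole group -/
theorem eq_top_of_normal (Q : Cfsg.BNPair L) {K : Subgroup L} [hK : K.Normal] (h : Q.B ≤ K) : K = ⊤ := by
  obtain ⟨J, hJ, rfl⟩ := Cfsg.Agent.S0311.result Q K h
  have h1 := Cfsg.Agent.S0312.result Q hJ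
  rw [← h1]
  exact Subgroup.normalizer_eq_top_iff.2 hK

/-- `N(B) = B` -/
theorem normalizer_B (Q : Cfsg.BNPair L) : normalizer (Q.B : Set L) = Q.B := by
  have h1 := Cfsg.Agent.S0312.result Q (J := ∅) (Set.empty_subset _)
  have h2 : Q.parabolic ∅ = Q.B := by
    unfold Cfsg.BNPair.parabolic
    rw [Subgroup.closure_empty, sup_bot_eq]
  rwa [h2] at h1

/-- a subgroup containing `B` and all but one of the distinguished generators is maximal -/
theorem eq_top_of_lt (Q : Cfsg.BNPair L) {H : Subgroup L} (hB : Q.B ≤ H) {s₀ : L}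
    (hs : ∀ s ∈ Q.S, s ≠ s₀ → s ∈ H) {K : Subgroup L} (hK : H < K) : K = ⊤ := by
  obtain ⟨J, hJ, hH⟩ := Cfsg.Agent.S0311.result Q K (hB.trans hK.le)
  have h0 : s₀ ∈ J := by
    by_contra h0
    apply hK.not_ge
    rw [hH]
    unfold Cfsg.BNPair.parabolic
    refine sup_le hB ((Subgroup.closure_le _).2 fun s hs' => hs s (hJ hs') ?_)
    rintro rfl
    exact h0 hs'
  rw [eq_top_iff, ← Q.sup_eq_top]
  refine sup_le (hB.trans hK.le) ?_
  have h1 : closure Q.S ≤ K := by
    refine (Subgroup.closure_le _).2 fun s hs' => ?_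
    by_cases h : s = s₀
    · rw [h, hH]
      exact le_sup_right (α := Subgroup L) (Subgroup.subset_closure h0)
    · exact hK.le (hs s hs' h)
  rw [← Q.closure_sup]
  exact sup_le h1 (inf_le_left.trans (hB.trans hK.le))

end bn

variable {G : Type*} [Group G] [Finite G]

/-- `S` Sylow in `G₀`, `|S|` divides `|K|`, `K` normal in `G₀` : `S ≤ K` -/
theorem le_of_card_dvd {L : Type*} [Group L] [Finite L] (T : Sylow 2 L) {K : Subgroup L} [K.Normal]
    (h : Nat.card T ∣ Nat.card K) : (T : Subgroup L) ≤ K := by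
  have h1 : Nat.card (T : Subgroup L) = 2 ^ (Nat.card L).factorization 2 := T.card_eq_multiplicity
  have h2 : (Nat.card L).factorization 2 ≤ (Nat.card K).factorization 2 := by
    have h3 : 2 ^ (Nat.card L).factorization 2 ∣ Nat.card K := by rw [← h1]; exact h
    exact (Nat.prime_two.pow_dvd_iff_le_factorization Nat.card_pos.ne').1 h3
  have h3 : ¬ 2 ∣ K.index := by
    intro h4
    have h5 : (Nat.card L).factorization 2 = (Nat.card K).factorization 2 + K.index.factorization 2 := by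
      rw [← K.card_mul_index, Nat.factorization_mul Nat.card_pos.ne' K.index_ne_zero_of_finite]
      rfl
    have h6 : 0 < K.index.factorization 2 := Nat.prime_two.factorization_pos_of_dvd K.index_ne_zero_of_finite h4
    omega
  have h5 : ∀ x ∈ (T : Subgroup L), x ∈ K := by
    intro x hx
    have h6 : orderOf (QuotientGroup.mk' K x) ∣ K.index := by
      rw [Subgroup.index]
      exact orderOf_dvd_natCard _
    have h7 : ∃ k, orderOf (QuotientGroup.mk' K x) = 2 ^ k := by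
      obtain ⟨k, hk⟩ := T.2 ⟨x, hx⟩
      have hk' : x ^ 2 ^ k = 1 := congrArg Subtype.val hk
      have h8 : orderOf (QuotientGroup.mk' K x) ∣ 2 ^ k := by
        apply orderOf_dvd_of_pow_eq_one
        rw [← map_pow, hk', map_one]
      obtain ⟨j, -, hj⟩ := (Nat.dvd_prime_pow Nat.prime_two).1 h8
      exact ⟨j, hj⟩
    obtain ⟨k, hk⟩ := h7
    rcases Nat.eq_zero_or_pos k with rfl | hpos
    · rw [pow_zero, orderOf_eq_one_iff] at hk
      exact (QuotientGroup.eq_one_iff x).1 hk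
    · exfalso
      apply h3
      refine Dvd.dvd.trans ?_ h6
      rw [hk]
      exact dvd_pow_self 2 hpos.ne'
  exact h5

/-- **simplicity** (Tits), from `|S| ∣ |[G₀, G₀]|` -/
theorem simple_of {S : Sylow 2 G} {G₀ : Subgroup G} (hS : (S : Subgroup G) ≤ G₀) (Q : Cfsg.BNPair ↥G₀)
    (hB : Q.B = (S : Subgroup G).subgroupOf G₀) (hirr : Q.Irreducible)
    (hper : Nat.card (S : Subgroup G) ∣ Nat.card (commutator ↥G₀))
    (hloc : ∀ K ≤ (S : Subgroup G), G₀ ≤ normalizer (K : Set G) → K = ⊥)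
    (hne : (S : Subgroup G) ≠ ⊥) : IsSimpleGroup ↥G₀ := by
  have hcardS : Nat.card ((S : Subgroup G).subgroupOf G₀) = Nat.card (S : Subgroup G) :=
    Nat.card_congr (subgroupOfEquivOfLe hS).toEquiv
  have h2 : IsPGroup 2 ((S : Subgroup G).subgroupOf G₀) := S.2.comap_of_injective _ (Subgroup.subtype_injective _)
  obtain ⟨x, hx, hx1⟩ : ∃ x ∈ (S : Subgroup G), x ≠ 1 := by
    by_contra hcon
    push Not at hcon
    exact hne (eq_bot_iff.2 fun x hx => mem_bot.2 (hcon x hx))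
  have hnt : Nontrivial ↥G₀ := ⟨⟨⟨x, hS hx⟩, 1, fun h => hx1 (congrArg Subtype.val h)⟩⟩
  let T : Sylow 2 ↥G₀ := S.subtype hS
  have hT : (T : Subgroup ↥G₀) = (S : Subgroup G).subgroupOf G₀ := S.coe_subtype hS
  have hcomm : commutator ↥G₀ = ⊤ := by
    apply eq_top_of_normal Q
    rw [hB, ← hT]
    apply le_of_card_dvd T
    have : Nat.card (T : Subgroup ↥G₀) = Nat.card (S : Subgroup G) := by rw [hT]; exact hcardS
    rw [show Nat.card T = Nat.card (T : Subgroup ↥G₀) from rfl, this]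
    exact hper
  have hsol : Group.IsSolvable ↥Q.B := by
    rw [hB]
    have : Group.IsNilpotent ↥((S : Subgroup G).subgroupOf G₀) := h2.isNilpotent
    infer_instance
  have hcore : Q.B.normalCore = ⊥ := by
    have h3 : (Q.B.normalCore).map G₀.subtype = ⊥ := by
      apply hloc
      · rintro _ ⟨y, hy, rfl⟩
        have := Q.B.normalCore_le hy
        rw [hB] at this
        exact mem_subgroupOf.1 this
      · intro g hg
        have h4 : Q.B.normalCore.Normal := inferInstance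
        rw [Subgroup.mem_normalizer_iff]
        intro y
        constructor
        · rintro ⟨y', hy', rfl⟩
          exact ⟨⟨g, hg⟩ * y' * ⟨g, hg⟩⁻¹, h4.conj_mem _ hy' _, rfl⟩
        · rintro ⟨y', hy', he⟩
          refine ⟨⟨g, hg⟩⁻¹ * y' * ⟨g, hg⟩, ?_, ?_⟩
          · have := h4.conj_mem _ hy' (⟨g, hg⟩⁻¹)
            rwa [inv_inv] at this
          · change g⁻¹ * (y' : G) * g = y
            rw [show (y' : G) = g * y * g⁻¹ from he]
            group
    rw [eq_bot_iff]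
    intro y hy
    have h5 : (y : G) ∈ (Q.B.normalCore).map G₀.subtype := ⟨y, hy, rfl⟩
    rw [h3, mem_bot] at h5
    exact mem_bot.2 (Subtype.ext h5)
  exact Cfsg.Agent.S0319.result Q hirr hsol hcomm hcore

/-- **the interface `EndIn`** for `q = 2` -/
theorem endIn_of {S : Sylow 2 G} {G₀ R : Subgroup G} {r z : G} (hS : (S : Subgroup G) ≤ G₀) (Q : Cfsg.BNPair ↥G₀)
    (hB : Q.B = (S : Subgroup G).subgroupOf G₀) (h3 : 3 ≤ Q.rank) (hirr : Q.Irreducible)
    (hper : Nat.card (S : Subgroup G) ∣ Nat.card (commutator ↥G₀))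
    (hloc : ∀ K ≤ (S : Subgroup G), G₀ ≤ normalizer (K : Set G) → K = ⊥)
    (hR : ∀ x, x ∈ R ↔ x = 1 ∨ x = r) (r_ne : r ≠ 1) (r_S : r ∈ (S : Subgroup G))
    (S_r : (S : Subgroup G) ≤ centralizer {r}) (hr : centralizer {r} ≤ G₀)
    (z_S : z ∈ (S : Subgroup G)) (S_z : (S : Subgroup G) ≤ centralizer {z}) (z_ne : z ≠ 1)
    (hzr : ∃ x ∈ G₀, x ∈ centralizer {z} ∧ x ∉ centralizer {r})
    (hpar : ∃ s₀ : ↥G₀, ∀ s ∈ Q.S, s ≠ s₀ → (s : G) ∈ centralizer {r})
    (hW : ∃ W ≤ G₀, IsPGroup 2 W ∧ centralizer {r} ≤ normalizer (W : Set G) ∧ ¬ W ≤ centralizer (W : Set G)) :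
    EndIn (S : Subgroup G) G₀ (S : Subgroup G) R z := by
  have hNR : normalizer (R : Set G) = centralizer {r} := by
    have hrR : r ∈ R := (hR r).2 (Or.inr rfl)
    apply le_antisymm
    · intro x hx
      rw [mem_centralizer_singleton_iff]
      have h1 := (Subgroup.mem_normalizer_iff.1 hx r).1 hrR
      rcases (hR _).1 h1 with h2 | h2
      · exact absurd (conj_eq_one_iff.1 h2) r_ne
      · exact (mul_inv_eq_iff_eq_mul.1 h2)
    · intro x hx
      rw [mem_centralizer_singleton_iff] at hx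
      rw [Subgroup.mem_normalizer_iff]
      intro y
      rw [hR, hR]
      constructor
      · rintro (rfl | rfl)
        · exact Or.inl (by group)
        · exact Or.inr (by rw [hx]; group)
      · rintro (h | h)
        · exact Or.inl (conj_eq_one_iff.1 h)
        · right
          have : y = x⁻¹ * (x * y * x⁻¹) * x := by group
          rw [this, h, mul_assoc, ← hx]
          group
  have hRS : R ≤ (S : Subgroup G) := by
    intro x hx
    rcases (hR x).1 hx with rfl | rfl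
    · exact one_mem _
    · exact r_S
  have hRne : R ≠ ⊥ := by
    intro h
    have : r ∈ R := (hR r).2 (Or.inr rfl)
    rw [h, mem_bot] at this
    exact r_ne this
  have hsim : IsSimpleGroup ↥G₀ := by
    refine simple_of hS Q hB hirr hper hloc fun h => r_ne ?_
    rw [h, mem_bot] at r_S
    exact r_S
  have hnotle : ¬ G₀ ≤ centralizer {r} := by
    obtain ⟨x, hx, -, hxr⟩ := hzr
    exact fun h => hxr (h hx)
  refine {
    simple := hsim, bn := ⟨Q, hB.ge, h3, hirr⟩, cent := ?_, S_two := S.2,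
    S_G₀ := hS.trans le_normalizer, S_R := ?_, S_inf := inf_eq_left.2 hS, odd := ?_,
    N_R := ?_, R_U := hRS, U_R := ?_, R_ne := hRne, NU := ?_, R_lt := ?_, max := ?_, v_U := z_S,
    U_v := S_z, v_ne := z_ne, v_R := ?_, nonab := ?_ }
  · -- `C(G₀) = 1`
    have h1 : centralizer (G₀ : Set G) ≤ G₀ := by
      refine le_trans (centralizer_le ?_) hr
      rintro _ rfl
      exact hS r_S
    have h2 : Subgroup.center ↥G₀ = ⊥ := by
      rcases hsim.eq_bot_or_eq_top_of_normal (Subgroup.center ↥G₀) inferInstance with h | h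
      · exact h
      · exfalso
        apply hnotle
        intro x hx
        rw [mem_centralizer_singleton_iff]
        have h3 : (⟨x, hx⟩ : ↥G₀) ∈ Subgroup.center ↥G₀ := by rw [h]; trivial
        exact (congrArg Subtype.val (Subgroup.mem_center_iff.1 h3 ⟨r, hS r_S⟩)).symm
    rw [eq_bot_iff]
    intro x hx
    have h3 : (⟨x, h1 hx⟩ : ↥G₀) ∈ Subgroup.center ↥G₀ := by
      rw [Subgroup.mem_center_iff]
      intro y
      exact Subtype.ext (mem_centralizer_iff.1 hx y y.2)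
    rw [h2, mem_bot] at h3
    exact mem_bot.2 (congrArg Subtype.val h3)
  · rw [hNR]; exact S_r
  · -- odd
    have h1 : ¬ 2 ∣ (S : Subgroup G).index := S.not_dvd_index
    have h2 : (S : Subgroup G).relIndex G₀ ∣ (S : Subgroup G).index := relIndex_dvd_index_of_le hS
    rw [← Nat.not_even_iff_odd, even_iff_two_dvd]
    exact fun h => h1 (h.trans h2)
  · rw [hNR]; exact hr.trans le_normalizer
  · intro s hs
    rw [mem_centralizer_iff]
    intro x hx
    rcases (hR x).1 hx with rfl | rfl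
    · rw [one_mul, mul_one]
    · exact (mem_centralizer_singleton_iff.1 (S_r hs)).symm
  · -- `N_{G₀}(S) = S`
    rintro x ⟨hx, hxS⟩
    rw [hNR]
    apply S_r
    have h1 : (⟨x, hx⟩ : ↥G₀) ∈ normalizer (Q.B : Set ↥G₀) := by
      rw [hB]
      exact (mem_normalizer_subgroupOf hS).2 hxS
    rw [normalizer_B, hB] at h1
    exact mem_subgroupOf.1 h1
  · rw [hNR]; exact hnotle
  · -- maximality
    rintro M hM hlt
    rw [hNR] at hlt
    obtain ⟨s₀, hs⟩ := hpar
    have h1 : M.subgroupOf G₀ = ⊤ := by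
      refine eq_top_of_lt Q (H := (centralizer {r}).subgroupOf G₀) (s₀ := s₀) ?_ ?_ ?_
      · rw [hB]
        exact fun x hx => mem_subgroupOf.2 (S_r (mem_subgroupOf.1 hx))
      · exact fun s hs' hne => mem_subgroupOf.2 (hs s hs' hne)
      · refine lt_of_le_of_ne ?_ ?_
        · intro x hx
          exact mem_subgroupOf.2 (hlt.le ⟨x.2, mem_subgroupOf.1 hx⟩)
        · intro he
          obtain ⟨x, hx, hx1⟩ := SetLike.exists_of_lt hlt
          apply hx1
          have h2 : (⟨x, hM hx⟩ : ↥G₀) ∈ M.subgroupOf G₀ := mem_subgroupOf.2 hx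
          rw [← he] at h2
          exact ⟨hM hx, mem_subgroupOf.1 h2⟩
    exact le_antisymm hM (subgroupOf_eq_top.1 h1)
  · rw [hNR]
    obtain ⟨x, hx, hxz, hxr⟩ := hzr
    exact fun h => hxr (h ⟨hx, hxz⟩)
  · rw [hNR]
    obtain ⟨W, hW, h1, h2, h4⟩ := hW
    exact ⟨W, hW, h1, inf_le_right.trans h2, h4⟩

/-! ### over `Pos` -/

section pos

open Cfsg.Agent.ZN Cfsg.Agent.Omega.MinPar Cfsg.Agent.Omega.BTwo Cfsg.Agent.Omega.HOneTwo
open Cfsg.Agent.Omega.HTwo.Entry (Pos)
open Cfsg.Agent.Omega.HTwo.AlphaP (MP)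
open Cfsg.Agent.Omega.HOneTwo.Trans (gn gen)
open Cfsg.Agent.Omega.HOne.Cut (Ends TSz)

universe u

variable {G : Type u} [Group G] [Finite G] {S : Sylow 2 G} {P V : Subgroup G} {ι : Type*} {R : ι → Subgroup G}
  {o : ι} {r z : G}

/-- `N(V) ≤ G₀` -/
theorem NV_le (p : Pos S P V R o r z) {G₀ : Subgroup G} (hr : centralizer {r} ≤ G₀) (hX : XX V R ≤ G₀) :
    normalizer (V : Set G) ≤ G₀ := by
  intro g hg
  obtain ⟨j, hj⟩ := p.perm g hg o
  obtain ⟨x, hx, hxj⟩ := p.toBT.trans_X_one o j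
  have h1 : x⁻¹ * g ∈ normalizer (R o : Set G) := by
    rw [← cj_eq_self_iff, cj_mul, hj, ← hxj, cj_inv_cj]
  rw [p.normalizer_eq] at h1
  have h2 : g = x * (x⁻¹ * g) := by group
  rw [h2]
  exact mul_mem (hX hx) (hr h1)

theorem S_le_cen (p : Pos S P V R o r z) : (S : Subgroup G) ≤ centralizer {r} := by
  rw [← p.normalizer_eq]; exact p.S_R

/-- **the end of the chains for `q = 2`** -/
theorem ends_of (p : Pos S P V R o r z) {G₀ : Subgroup G} (Q : Cfsg.BNPair ↥G₀)
    (hB : Q.B = (S : Subgroup G).subgroupOf G₀) (h3 : 3 ≤ Q.rank) (hirr : Q.Irreducible)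
    (hper : Nat.card (S : Subgroup G) ∣ Nat.card (⁅G₀, G₀⁆ : Subgroup G))
    (hr : centralizer {r} ≤ G₀) (hX : XX V R ≤ G₀)
    (hpar : ∃ s₀ : ↥G₀, ∀ s ∈ Q.S, s ≠ s₀ → (s : G) ∈ centralizer {r}) :
    Ends (S : Subgroup G) V (R o) := by
  have hS : (S : Subgroup G) ≤ G₀ := (S_le_cen p).trans hr
  have hz : z ∈ zc (S : Subgroup G) := p.z_mem.1
  have hz' := mem_zc.1 hz
  have hNV := NV_le p hr hX
  refine ⟨G₀, (S : Subgroup G), z, ?_, p.toHT.V_le_S.trans hS, hNV.trans le_normalizer⟩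
  refine endIn_of hS Q hB h3 hirr ?_ ?_ p.r_iff p.r_ne ?_ (S_le_cen p) hr ?_ ?_ p.z_ne ?_ hpar ?_
  · have h1 := Subgroup.map_subtype_commutator G₀
    have h2 : Nat.card (commutator ↥G₀) = Nat.card (⁅G₀, G₀⁆ : Subgroup G) := by
      rw [← h1]
      exact (Nat.card_congr ((commutator ↥G₀).equivMapOfInjective _ (Subgroup.subtype_injective _)).toEquiv)
    rw [h2]; exact hper
  · intro K hK hG
    refine p.toHT.nonloc_o (A := XX V R) (fun i => p.toBT.trans_X_one o i) (S.2.to_le hK) (hX.trans hG) ?_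
    rw [p.normalizer_eq]
    exact hr.trans hG
  · exact p.toHT.V_le_S (p.R_le o p.r_mem)
  · exact hz'.1
  · intro s hs
    rw [mem_centralizer_singleton_iff]
    exact hz'.2.1 s hs
  · -- some element of `X` moves `r`
    obtain ⟨j, k, hj, -, -⟩ := p.toHT.one_lt
    obtain ⟨x, hx, hxj⟩ := p.toBT.trans_X_one o j
    refine ⟨x, hX hx, p.X_le hx, fun hxr => hj ?_⟩
    rw [← p.normalizer_eq, ← cj_eq_self_iff, hxj] at hxr
    exact p.toBT.R_index hxr
  · refine ⟨QQ (R o), ?_, ?_, ?_, ?_⟩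
    · exact p.toHT.Q_le_S.trans hS
    · exact S.2.to_le p.toHT.Q_le_S
    · rw [← p.normalizer_eq]
      exact le_normalizer_O2 _
    · intro h
      obtain ⟨t, ht, v, hv, hne⟩ := HTwo.AlphaFive.exists_mv p.toHT p.r_iff
      exact hne (mem_centralizer_iff.1 (h (p.V_Q o hv)) t ht)

/-! ### elements of `[G₀, G₀]` -/

/-- `[G₀, G₀]` is normalised by `G₀` -/
theorem comm_conj {G₀ : Subgroup G} {x g : G} (hg : g ∈ G₀) (hx : x ∈ (⁅G₀, G₀⁆ : Subgroup G)) :
    g * x * g⁻¹ ∈ (⁅G₀, G₀⁆ : Subgroup G) := by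
  have h1 : g * x * g⁻¹ * x⁻¹ ∈ (⁅G₀, G₀⁆ : Subgroup G) :=
    Subgroup.commutator_mem_commutator hg (Subgroup.commutator_le_self G₀ hx)
  have h2 := mul_mem h1 hx
  rwa [inv_mul_cancel_right] at h2

/-- `r ∈ [G₀, G₀]` -/
theorem r_mem_comm (p : Pos S P V R o r z) {G₀ : Subgroup G} (hX : XX V R ≤ G₀) (hV : V ≤ G₀) :
    r ∈ (⁅G₀, G₀⁆ : Subgroup G) := by
  obtain ⟨j, k, hj, -, -⟩ := p.toHT.one_lt
  obtain ⟨x, hx, hxj⟩ := p.toBT.trans_X_one o j
  have hrV : r ∈ V := p.R_le o p.r_mem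
  have h1 : x * r * x⁻¹ * r⁻¹ ∈ (⁅G₀, G₀⁆ : Subgroup G) :=
    Subgroup.commutator_mem_commutator (hX hx) (hV hrV)
  have h2 : x * r * x⁻¹ ∈ R j := by
    rw [← hxj]
    exact conj_mem_cj p.r_mem
  have h3 : x * r * x⁻¹ * r⁻¹ ∈ V := mul_mem (p.R_le j h2) (inv_mem hrV)
  have h4 : x * r * x⁻¹ * r⁻¹ ≠ 1 := by
    intro h
    have h5 : x * r * x⁻¹ = r := mul_inv_eq_one.1 h
    have h6 : r ∈ R j ⊓ R o := ⟨h5 ▸ h2, p.r_mem⟩
    rw [p.R_inf j o hj, mem_bot] at h6
    exact p.r_ne h6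
  obtain ⟨i, hi⟩ := p.R_cov _ h3
  obtain ⟨y, hy, hyo⟩ := p.toBT.trans_X_one i o
  have h5 : y * (x * r * x⁻¹ * r⁻¹) * y⁻¹ ∈ R o := by
    rw [← hyo]
    exact conj_mem_cj hi
  have h6 := comm_conj (hX hy) h1
  rcases (p.r_iff _).1 h5 with h | h
  · exact absurd (conj_eq_one_iff.1 h) h4
  · rwa [h] at h6

/-- `z ∈ [G₀, G₀]` -/
theorem z_mem_comm (p : Pos S P V R o r z) (t : TSz V R o r z) {G₀ : Subgroup G} (hr : centralizer {r} ≤ G₀)
    (hX : XX V R ≤ G₀) : z ∈ (⁅G₀, G₀⁆ : Subgroup G) := by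
  have hS : (S : Subgroup G) ≤ G₀ := (S_le_cen p).trans hr
  have hV : V ≤ G₀ := p.toHT.V_le_S.trans hS
  have hrG : r ∈ G₀ := hV (p.R_le o p.r_mem)
  have hzG : z ∈ G₀ := hS (mem_zc.1 p.z_mem.1).1
  have hM : MP V R o z ≤ G₀ := by
    refine sup_le (inf_le_left.trans ?_) hX
    rw [p.normalizer_eq]
    exact hr
  have hgn : gn (MP V R o z) r ≤ G₀ := by
    refine (closure_le _).2 ?_
    rintro _ ⟨m, hm, rfl⟩
    exact mul_mem (mul_mem (hM hm) hrG) (inv_mem (hM hm))
  have hgen : gen r z ≤ G₀ := by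
    refine (closure_le _).2 ?_
    rintro _ ⟨m, hm, rfl⟩
    have : m ∈ G₀ := hr (mem_centralizer_singleton_iff.2 hm)
    exact mul_mem (mul_mem this hzG) (inv_mem this)
  obtain ⟨u, hu, n, hn, hne⟩ := t.ne
  have h1 : n * u * n⁻¹ * u⁻¹ ∈ (⁅G₀, G₀⁆ : Subgroup G) :=
    Subgroup.commutator_mem_commutator (hgen hn) (hgn hu)
  rcases t.act u hu n hn with h | h
  · exact absurd h hne
  · have e : n * u * n⁻¹ * u⁻¹ = z * r := by
      rw [h]; group
    rw [e] at h1
    have h2 := mul_mem h1 (inv_mem (r_mem_comm p hX hV))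
    rwa [mul_inv_cancel_right] at h2

/-- `⟨z^{C(r)}⟩ ≤ [G₀, G₀]` -/
theorem gen_le_comm (p : Pos S P V R o r z) (t : TSz V R o r z) {G₀ : Subgroup G} (hr : centralizer {r} ≤ G₀)
    (hX : XX V R ≤ G₀) : gen r z ≤ (⁅G₀, G₀⁆ : Subgroup G) := by
  refine (closure_le _).2 ?_
  rintro _ ⟨m, hm, rfl⟩
  exact comm_conj (hr (mem_centralizer_singleton_iff.2 hm)) (z_mem_comm p t hr hX)

/-- `⟨r^M⟩ ≤ [G₀, G₀]` -/
theorem gn_le_comm (p : Pos S P V R o r z) {G₀ : Subgroup G} (hr : centralizer {r} ≤ G₀)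
    (hX : XX V R ≤ G₀) : gn (MP V R o z) r ≤ (⁅G₀, G₀⁆ : Subgroup G) := by
  have hS : (S : Subgroup G) ≤ G₀ := (S_le_cen p).trans hr
  have hM : MP V R o z ≤ G₀ := by
    refine sup_le (inf_le_left.trans ?_) hX
    rw [p.normalizer_eq]
    exact hr
  refine (closure_le _).2 ?_
  rintro _ ⟨m, hm, rfl⟩
  exact comm_conj (hM hm) (r_mem_comm p hX (p.toHT.V_le_S.trans hS))

end pos

end Cfsg.Agent.Omega.HOneEnd.OfTwo

end

end
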