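import Cfsg.Agent.Mrg.Omega.HOne.QuadAbs
import Mathlib
import Cfsg.Agent.Lib.NormalAbelian
import Cfsg.Agent.Omega.NatPair.Mod

-- merged: Cfsg.Agent.Mrg.Omega.HOne.TvOpp
section

section


/-!
# II.0h1, `q = 2`, case (beta): (4), (5), (6) of #15959

* `TvH.jOpp : JOpp M r t Q N`;
* `TvH.jNon : JNon M r t N`.
-/

set_option autoImplicit false
set_option linter.unusedSectionVars false

namespace Cfsg.Agent.Omega.HOne.TvDef

open Subgroup

variable {G : Type*} [Group G] {M : Subgroup G} {r t : G} {Q N : G → Subgroup G}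

/-- the elements of `I_s` moved by `n` modulo `K_s` -/
def mvs (M : Subgroup G) (r : G) (Q : G → Subgroup G) (s n : G) : Set G :=
  {u | u ∈ UU M r ∧ u ∈ Q s ∧ n * u * n⁻¹ * u⁻¹ ∉ ZC Q s}

namespace TvH

variable (h : TvH M r t Q N)
include h

theorem Adj_UU {s a : G} (ha : Adj M r t s a) : a ∈ UU M r := Om_le_UU (h.Adj_right ha)

/-- `x y x = y` in `U` -/
theorem UU_cancel {x y : G} (hx : x ∈ UU M r) (hy : y ∈ UU M r) : x * y * x = y := by
  rw [h.UU_comm hx hy, mul_assoc, h.UU_sq hx, mul_one]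

theorem UU_cancel' {x : G} (hx : x ∈ UU M r) (y : G) : x * (x * y) = y := by
  rw [← mul_assoc, h.UU_sq hx, one_mul]

/-- `[n, u]` for `n ∈ N a`, `u ∈ I_s` -/
theorem cm {s a u n : G} (ha : Adj M r t s a) (hu : u ∈ UU M r) (hus : u ∈ Q s) (hn : n ∈ N a) :
    n * u * n⁻¹ * u⁻¹ ∈ UU M r ∧ n * u * n⁻¹ * u⁻¹ ∈ ZC Q a ∧
      (n * u * n⁻¹ * u⁻¹ ∈ ZC Q s ∨ a * (n * u * n⁻¹ * u⁻¹) ∈ ZC Q s) := by
  have h1 := UU_comm_mem (h.N_le_M (h.Adj_right ha) hn) hu
  have h2 := h.UU_inv h1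
  have e : n * u * n⁻¹ * u⁻¹ = u * n * u⁻¹ * n⁻¹ := by
    rw [← h2]; group
  obtain ⟨h3, -, h4⟩ := h.comm_IN ha hu hus hn
  rw [← e] at h3 h4
  exact ⟨h1, h3, h4⟩

/-- if `n ∈ N a` fixes the line `⟨s, b⟩` modulo `K_s` then it centralises `b` -/
theorem fix_of {s a b n : G} (ha : Adj M r t s a) (hb : Adj M r t s b) (hn : n ∈ N a)
    (hz : n * b * n⁻¹ * b⁻¹ ∈ ZC Q s) : n * b * n⁻¹ = b := by
  have hbU := h.Adj_UU hb
  have hb' := h.Adj_N ha hb hn
  have hbU' := h.Adj_UU hb'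
  have e : n * b * n⁻¹ * b⁻¹ = b * (n * b * n⁻¹) := by
    rw [h.UU_inv hbU, h.UU_comm hbU' hbU]
  rw [e] at hz
  rcases h.noPar_at hb hb' hz with h1 | h1
  · exact h1
  · exfalso
    have h2 := (h.cm ha hbU (h.Adj_mem hb) hn).2.1
    rw [h1, mul_inv_cancel_right] at h2
    exact h.not_both ha h2

/-- `n` commutes with the elements of `Z(Q a)` -/
theorem N_ZC {a n c : G} (ha : a ∈ Om M r) (hn : n ∈ N a) (hc : c ∈ ZC Q a) : n * c * n⁻¹ = c := by
  rw [← h.ZC_comm hc (h.N_le_Q ha hn), mul_inv_cancel_right]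

theorem N_fix_self {a n : G} (ha : a ∈ Om M r) (hn : n ∈ N a) : n * a * n⁻¹ = a :=
  h.N_ZC ha hn (h.mem_ZC ha)

theorem N_fix_s {s a n : G} (ha : Adj M r t s a) (hn : n ∈ N a) : n * s * n⁻¹ = s := by
  rw [h.N_comm ha hn, mul_inv_cancel_right]

/-- if `n ∈ N a` moves `b` -/
theorem mv_c {s a b n : G} (ha : Adj M r t s a) (hb : Adj M r t s b) (hn : n ∈ N a)
    (hne : n * b * n⁻¹ ≠ b) :
    ∃ c, c ∈ UU M r ∧ c ∈ ZC Q s ∧ c ∈ ZC Q a ∧ n * b * n⁻¹ = a * b * c := by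
  have hbU := h.Adj_UU hb
  have haU := h.Adj_UU ha
  obtain ⟨h1, h2, h3⟩ := h.cm ha hbU (h.Adj_mem hb) hn
  have h4 := h3.resolve_left fun hz => hne (h.fix_of ha hb hn hz)
  refine ⟨a * (n * b * n⁻¹ * b⁻¹), mul_mem haU h1, h4, mul_mem (h.mem_ZC (h.Adj_right ha)) h2, ?_⟩
  have e := h.UU_comm haU hbU
  calc n * b * n⁻¹ = b * (n * b * n⁻¹ * b⁻¹) := by
        rw [h.UU_comm hbU h1]; group
    _ = b * (a * a) * (n * b * n⁻¹ * b⁻¹) := by rw [h.UU_sq haU, mul_one]
    _ = a * b * (a * (n * b * n⁻¹ * b⁻¹)) := by rw [e]; group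

theorem mv_uniq {s a b n m c : G} (ha : Adj M r t s a) (hb : Adj M r t s b) (hn : n ∈ N a) (hm : m ∈ N a)
    (hcU : c ∈ UU M r) (hcs : c ∈ ZC Q s) (hnb : n * b * n⁻¹ = a * b * c) :
    m * b * m⁻¹ = b ∨ m * b * m⁻¹ = a * b * c := by
  by_cases hne : m * b * m⁻¹ = b
  · exact Or.inl hne
  right
  obtain ⟨c', hcU', hcs', hca', e'⟩ := h.mv_c ha hb hm hne
  have hbU := h.Adj_UU hb
  have haU := h.Adj_UU ha
  have hA := h.Adj_right ha
  have e1 : n * m * b * (n * m)⁻¹ = b * (c * c') := by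
    calc n * m * b * (n * m)⁻¹ = n * (m * b * m⁻¹) * n⁻¹ := by group
      _ = (n * a * n⁻¹) * (n * b * n⁻¹) * (n * c' * n⁻¹) := by rw [e']; group
      _ = a * (a * b * c) * c' := by rw [h.N_fix_self hA hn, hnb, h.N_ZC hA hn hca']
      _ = (a * a) * b * c * c' := by group
      _ = b * (c * c') := by rw [h.UU_sq haU]; group
  have h1 := h.fix_of ha hb (mul_mem hn hm) (by
    rw [e1, h.UU_comm hbU (mul_mem hcU hcU'), mul_inv_cancel_right]
    exact mul_mem hcs hcs')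
  rw [e1, mul_eq_left] at h1
  have h2 : c' = c := by
    have h3 : c * (c * c') = c * 1 := by rw [h1]
    rwa [h.UU_cancel' hcU, mul_one] at h3
  rw [e', h2]

/-! ### the action modulo `K_s` -/

/-- `K_s` is normalised by the elements commuting with `s` -/
theorem K_conj {s g x : G} (hg : g * s = s * g) (hx : x ∈ ZC Q s) : g * x * g⁻¹ ∈ ZC Q s :=
  (h.ZC_fix hg).2 hx

theorem inv_comm {g s : G} (hg : g * s = s * g) : g⁻¹ * s = s * g⁻¹ := by
  have _ := h
  rw [inv_mul_eq_iff_eq_mul, ← mul_assoc, hg, mul_inv_cancel_right]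

/-- `[m⁻¹, u] ∈ K_s` iff `[m, u] ∈ K_s` -/
theorem cm_inv {s m u : G} (hm : m * s = s * m) (hz : m * u * m⁻¹ * u⁻¹ ∈ ZC Q s) : m⁻¹ * u * m⁻¹⁻¹ * u⁻¹ ∈ ZC Q s := by
  have h1 := h.K_conj (h.inv_comm hm) (inv_mem hz)
  have e : m⁻¹ * (m * u * m⁻¹ * u⁻¹)⁻¹ * m⁻¹⁻¹ = m⁻¹ * u * m⁻¹⁻¹ * u⁻¹ := by group
  rwa [e] at h1

/-- the functional of a commutator -/
theorem mvs_comm {s a b n m c : G} (ha : Adj M r t s a) (hb : Adj M r t s b) (hn : n ∈ N a) (hm : m ∈ N b)
    (hma : m * a * m⁻¹ = a) (hcs : c ∈ ZC Q s) (hnb : n * b * n⁻¹ = a * b * c) :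
    mvs M r Q s (m * n * m⁻¹ * n⁻¹) = mvs M r Q s m := by
  have hbU := h.Adj_UU hb
  have haU := h.Adj_UU ha
  have hA := h.Adj_right ha
  have hB := h.Adj_right hb
  have hnM := h.N_le_M hA hn
  have hmM := h.N_le_M hB hm
  have hns := h.N_comm ha hn
  have hms := h.N_comm hb hm
  have key : ∀ u ∈ UU M r, u ∈ Q s → (m * n * m⁻¹ * n⁻¹ * u * (m * n * m⁻¹ * n⁻¹)⁻¹ * u⁻¹ ∈ ZC Q s ↔
      m * u * m⁻¹ * u⁻¹ ∈ ZC Q s) := by
    intro u hu hus
    -- `v = n⁻¹ u n = d₁ u`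
    obtain ⟨d₁, hd₁⟩ : ∃ d, d = n⁻¹ * u * n⁻¹⁻¹ * u⁻¹ := ⟨_, rfl⟩
    obtain ⟨hd₁U, -, hd₁'⟩ := h.cm ha hu hus (inv_mem hn)
    rw [← hd₁] at hd₁U hd₁'
    obtain ⟨v, hv⟩ : ∃ v, v = n⁻¹ * u * n⁻¹⁻¹ := ⟨_, rfl⟩
    have hvU : v ∈ UU M r := by rw [hv]; exact UU_conj (M.inv_mem hnM) hu
    have hvs : v ∈ Q s := by rw [hv]; exact (h.Q_fix (h.inv_comm hns)).2 hus
    have hvd : v = d₁ * u := by rw [hv, hd₁]; group
    -- `m⁻¹` on `d₁`
    have hmd : m⁻¹ * d₁ * m⁻¹⁻¹ * d₁⁻¹ ∈ ZC Q s := by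
      rcases hd₁' with h1 | h1
      · exact mul_mem (h.K_conj (h.inv_comm hms) h1) (inv_mem h1)
      · have h2 : m⁻¹ * a * m⁻¹⁻¹ = a := by
          nth_rewrite 1 [← hma]; group
        have h3 := mul_mem (h.K_conj (h.inv_comm hms) h1) (inv_mem h1)
        have e : m⁻¹ * (a * d₁) * m⁻¹⁻¹ * (a * d₁)⁻¹ = m⁻¹ * d₁ * m⁻¹⁻¹ * d₁⁻¹ := by
          have h4 := h.UU_comm haU (mul_mem (UU_conj (M.inv_mem hmM) hd₁U) (inv_mem hd₁U))
          calc m⁻¹ * (a * d₁) * m⁻¹⁻¹ * (a * d₁)⁻¹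
              = (m⁻¹ * a * m⁻¹⁻¹) * (m⁻¹ * d₁ * m⁻¹⁻¹ * d₁⁻¹) * a⁻¹ := by group
            _ = (a * (m⁻¹ * d₁ * m⁻¹⁻¹ * d₁⁻¹)) * a⁻¹ := by rw [h2]
            _ = _ := by rw [h4, mul_inv_cancel_right]
        rwa [e] at h3
    -- `m⁻¹` moves `v` iff `m` moves `u`
    obtain ⟨d₂, hd₂⟩ : ∃ d, d = m⁻¹ * v * m⁻¹⁻¹ * v⁻¹ := ⟨_, rfl⟩
    obtain ⟨hd₂U, -, hd₂'⟩ := h.cm hb hvU hvs (inv_mem hm)
    rw [← hd₂] at hd₂U hd₂'
    have e2 : d₂ = (m⁻¹ * d₁ * m⁻¹⁻¹ * d₁⁻¹) * (m⁻¹ * u * m⁻¹⁻¹ * u⁻¹) := by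
      have h4 := h.UU_comm (inv_mem hd₁U) (mul_mem (UU_conj (M.inv_mem hmM) hu) (inv_mem hu))
      calc d₂ = (m⁻¹ * d₁ * m⁻¹⁻¹) * ((m⁻¹ * u * m⁻¹⁻¹ * u⁻¹) * d₁⁻¹) := by rw [hd₂, hvd]; group
        _ = _ := by rw [← h4]; group
    have e3 : d₂ ∈ ZC Q s ↔ m * u * m⁻¹ * u⁻¹ ∈ ZC Q s := by
      rw [e2, mul_mem_cancel_left hmd]
      constructor
      · intro h1
        have h2 := h.cm_inv (h.inv_comm hms) h1
        rwa [inv_inv] at h2
      · exact h.cm_inv hms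
    -- the commutator
    have e4 : m * n * m⁻¹ * n⁻¹ * u * (m * n * m⁻¹ * n⁻¹)⁻¹ * u⁻¹ =
        (m * n * d₂ * (m * n)⁻¹) * (m * u * m⁻¹ * u⁻¹) := by
      calc m * n * m⁻¹ * n⁻¹ * u * (m * n * m⁻¹ * n⁻¹)⁻¹ * u⁻¹
          = m * n * (m⁻¹ * v * m⁻¹⁻¹) * (m * n)⁻¹ * u⁻¹ := by rw [hv]; group
        _ = m * n * (d₂ * v) * (m * n)⁻¹ * u⁻¹ := by rw [hd₂]; group
        _ = _ := by rw [hv]; group
    have hmn : m * n * s = s * (m * n) := by rw [mul_assoc, hns, ← mul_assoc, hms, mul_assoc]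
    rw [e4]
    by_cases hd : d₂ ∈ ZC Q s
    · rw [mul_mem_cancel_left (h.K_conj hmn hd)]
    · have h1 := hd₂'.resolve_left hd
      -- `d₂ = b k`
      have hdm := fun x => hd (e3.2 x)
      refine iff_of_false ?_ hdm
      have h2 := (h.cm hb hu hus hm).2.2.resolve_left hdm
      intro h3
      -- `m n d₂ ... = a b k'`
      have e5 : m * n * (b * d₂) * (m * n)⁻¹ = a * b * (m * c * m⁻¹) * (m * n * d₂ * (m * n)⁻¹) := by
        calc m * n * (b * d₂) * (m * n)⁻¹ = m * (n * b * n⁻¹) * m⁻¹ * (m * n * d₂ * (m * n)⁻¹) := by group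
          _ = (m * a * m⁻¹) * (m * b * m⁻¹) * (m * c * m⁻¹) * (m * n * d₂ * (m * n)⁻¹) := by
            rw [hnb]; group
          _ = _ := by rw [hma, h.N_fix_self hB hm]
      have h6 := h.K_conj hmn h1
      have hk := h.K_conj hms hcs
      rw [e5] at h6
      have hcU' : m * c * m⁻¹ ∈ ZC Q s := hk
      -- `a b (m n d₂ ...) ∈ K_s`
      obtain ⟨x, hx⟩ : ∃ x, x = m * n * d₂ * (m * n)⁻¹ := ⟨_, rfl⟩
      obtain ⟨y, hy⟩ : ∃ y, y = m * u * m⁻¹ * u⁻¹ := ⟨_, rfl⟩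
      have hxU : x ∈ UU M r := by rw [hx]; exact UU_conj (mul_mem hmM hnM) hd₂U
      have hyU : y ∈ UU M r := by rw [hy]; exact UU_comm_mem hmM hu
      rw [← hx] at h6 h3
      rw [← hy] at h3 h2
      have hcUU : c ∈ UU M r := by
        have : c = (a * b)⁻¹ * (n * b * n⁻¹) := by rw [hnb]; group
        rw [this]
        exact mul_mem (inv_mem (mul_mem haU hbU)) (UU_conj hnM hbU)
      have hkU : m * c * m⁻¹ ∈ UU M r := UU_conj hmM hcUU
      have h7 : a * b * x ∈ ZC Q s := by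
        have e6 : a * b * x = (a * b * (m * c * m⁻¹) * x) * (m * c * m⁻¹)⁻¹ := by
          rw [mul_assoc (a * b), h.UU_comm hkU hxU]; group
        rw [e6]
        exact mul_mem h6 (inv_mem hk)
      -- `a ∈ K_s`
      have h8 : a ∈ ZC Q s := by
        have e7 : a = (a * b * x) * (x * y) * (b * y) := by
          have e8 := h.UU_comm hyU hbU
          calc a = a * (b * (x * x) * (y * (y * b))) := by
                rw [h.UU_sq hxU, h.UU_cancel' hyU, mul_one, h.UU_sq hbU, mul_one]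
            _ = (a * b * x) * (x * y) * (y * b) := by group
            _ = _ := by rw [e8]
        rw [e7]
        exact mul_mem (mul_mem h7 h3) h2
      exact h.Adj_not_mem ha h8
  ext u
  constructor
  · rintro ⟨hu, hus, h1⟩
    exact ⟨hu, hus, fun h2 => h1 ((key u hu hus).2 h2)⟩
  · rintro ⟨hu, hus, h1⟩
    exact ⟨hu, hus, fun h2 => h1 ((key u hu hus).1 h2)⟩

/-- conjugation of `mvs` -/
theorem mvs_conj {s g n : G} (hg : g ∈ M) (hgs : g * s = s * g) :
    mvs M r Q s (g * n * g⁻¹) = (fun x => g * x * g⁻¹) '' mvs M r Q s n := by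
  have hg' := h.inv_comm hgs
  ext u
  constructor
  · rintro ⟨hu, hus, h1⟩
    refine ⟨g⁻¹ * u * g, ⟨?_, ?_, ?_⟩, by group⟩
    · have := UU_conj (M.inv_mem hg) hu
      rwa [inv_inv] at this
    · have := (h.Q_fix hg').2 hus
      rwa [inv_inv] at this
    · intro h2
      apply h1
      have h3 := h.K_conj hgs h2
      have e : g * (n * (g⁻¹ * u * g) * n⁻¹ * (g⁻¹ * u * g)⁻¹) * g⁻¹ =
        g * n * g⁻¹ * u * (g * n * g⁻¹)⁻¹ * u⁻¹ := by group
      rwa [e] at h3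
  · rintro ⟨v, ⟨hv, hvs, h1⟩, rfl⟩
    refine ⟨UU_conj hg hv, (h.Q_fix hgs).2 hvs, fun h2 => h1 ?_⟩
    have h3 := h.K_conj hg' h2
    have e : g⁻¹ * (g * n * g⁻¹ * (g * v * g⁻¹) * (g * n * g⁻¹)⁻¹ * (g * v * g⁻¹)⁻¹) * g⁻¹⁻¹ =
      n * v * n⁻¹ * v⁻¹ := by group
    rwa [e] at h3

/-- `opp` is symmetric -/
theorem opp_symm [Finite G] {s a b : G} (H : Opp M r t N s a b) : Opp M r t N s b a := by
  obtain ⟨ha, hb, n, hn, hne⟩ := H
  refine ⟨hb, ha, ?_⟩
  by_contra hcon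
  push Not at hcon
  obtain ⟨c, -, hcs, -, hnb⟩ := h.mv_c ha hb hn hne
  -- the two families
  set A : Set (Set G) := {X | ∃ n ∈ N a, X = mvs M r Q s n} with hA
  set B : Set (Set G) := {X | ∃ n ∈ N b, X = mvs M r Q s n} with hB
  obtain ⟨m₁, hm₁, e1, e2⟩ := ha
  obtain ⟨m₂, hm₂, e3, e4⟩ := hb
  have ha : Adj M r t s a := ⟨m₁, hm₁, e1, e2⟩
  have hb : Adj M r t s b := ⟨m₂, hm₂, e3, e4⟩
  set g := m₂ * m₁⁻¹ with hg
  have hgM : g ∈ M := M.mul_mem hm₂ (M.inv_mem hm₁)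
  have hgs' : g * s * g⁻¹ = s := by
    calc g * s * g⁻¹ = m₂ * (m₁⁻¹ * s * m₁) * m₂⁻¹ := by rw [hg]; group
      _ = m₂ * r * m₂⁻¹ := by rw [← e1]; group
      _ = s := e3
  have hgs : g * s = s * g := mul_inv_eq_iff_eq_mul.1 hgs'
  have hga : g * a * g⁻¹ = b := by
    calc g * a * g⁻¹ = m₂ * (m₁⁻¹ * a * m₁) * m₂⁻¹ := by rw [hg]; group
      _ = m₂ * t * m₂⁻¹ := by rw [← e2]; group
      _ = b := e4
  have hBA : B ⊆ A := by
    rintro X ⟨m, hm, rfl⟩
    refine ⟨m * n * m⁻¹ * n⁻¹, ?_, (h.mvs_comm ha hb hn hm (hcon m hm) hcs hnb).symm⟩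
    exact mul_mem ((h.N_fix (mul_inv_eq_iff_eq_mul.1 (hcon m hm))).2 hn) (inv_mem hn)
  have hAB : A.ncard ≤ B.ncard := by
    have h1 : (fun X : Set G => (fun x => g * x * g⁻¹) '' X) '' A ⊆ B := by
      rintro _ ⟨_, ⟨n, hn, rfl⟩, rfl⟩
      refine ⟨g * n * g⁻¹, ?_, (h.mvs_conj hgM hgs).symm⟩
      rw [← hga]
      exact h.N_conj.2 hn
    have hinj : Function.Injective (fun X : Set G => (fun x => g * x * g⁻¹) '' X) := by
      apply Set.image_injective.2
      intro x y hxy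
      exact mul_left_cancel (mul_right_cancel hxy)
    rw [← Set.ncard_image_of_injective A hinj]
    exact Set.ncard_le_ncard h1 (Set.toFinite _)
  have hE : B = A := Set.eq_of_subset_of_ncard_le hBA hAB (Set.toFinite _)
  have h1 : mvs M r Q s n ∈ B := by
    rw [hE]
    exact ⟨n, hn, rfl⟩
  obtain ⟨m, hm, e⟩ := h1
  have h2 : b ∈ mvs M r Q s n :=
    ⟨h.Adj_UU hb, h.Adj_mem hb, fun hz => hne (h.fix_of ha hb hn hz)⟩
  rw [e] at h2
  apply h2.2.2
  rw [h.N_fix_self (h.Adj_right hb) hm, mul_inv_cancel]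
  exact one_mem _

/-- `n` moves `s b` iff it moves `b` -/
theorem opp_right {s a b : G} (H : Opp M r t N s a b) : Opp M r t N s a (s * b) := by
  obtain ⟨ha, hb, n, hn, hne⟩ := H
  refine ⟨ha, h.Adj_mul hb, n, hn, fun e => hne ?_⟩
  have e1 : n * (s * b) * n⁻¹ = s * (n * b * n⁻¹) := by
    calc n * (s * b) * n⁻¹ = (n * s * n⁻¹) * (n * b * n⁻¹) := by group
      _ = _ := by rw [h.N_fix_s ha hn]
  rw [e1] at e
  exact mul_left_cancel e

theorem opp_left [Finite G] {s a b : G} (H : Opp M r t N s a b) : Opp M r t N s (s * a) b :=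
  h.opp_symm (h.opp_right (h.opp_symm H))

/-- **(4), (5) of #15959** -/
theorem jOpp [Finite G] : JOpp M r t Q N := by
  intro s a b H
  have H' := h.opp_symm H
  refine ⟨H', h.opp_left H, h.opp_right H, ?_, ?_, ?_⟩
  · rintro rfl
    obtain ⟨ha, -, n, hn, hne⟩ := H
    exact hne (h.N_fix_self (h.Adj_right ha) hn)
  · rintro rfl
    obtain ⟨ha, -, n, hn, hne⟩ := H
    apply hne
    calc n * (s * a) * n⁻¹ = (n * s * n⁻¹) * (n * a * n⁻¹) := by group
      _ = s * a := by rw [h.N_fix_s ha hn, h.N_fix_self (h.Adj_right ha) hn]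
  obtain ⟨ha, hb, n, hn, hne⟩ := H
  obtain ⟨-, -, n', hn', hne'⟩ := H'
  have haU := h.Adj_UU ha
  have hbU := h.Adj_UU hb
  have hA := h.Adj_right ha
  have hB := h.Adj_right hb
  have hS := ha.left
  have hsU : s ∈ UU M r := Om_le_UU hS
  obtain ⟨c, hcU, hcs, hca, hnb⟩ := h.mv_c ha hb hn hne
  obtain ⟨c', hcU', hcs', hcb', hnb'⟩ := h.mv_c hb ha hn' hne'
  have hab := h.UU_comm haU hbU
  rw [← hab] at hnb'
  have hT : Adj M r t s (a * b * c) := by rw [← hnb]; exact h.Adj_N ha hb hn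
  have hT' : Adj M r t s (a * b * c') := by rw [← hnb']; exact h.Adj_N hb ha hn'
  -- `c' ∈ {c, s c}`
  have h1 : a * b * c * (a * b * c') ∈ ZC Q s := by
    have e : a * b * c * (a * b * c') = c * c' := by
      have h2 := h.UU_comm (mul_mem haU hbU) hcU
      calc a * b * c * (a * b * c') = (a * b) * (c * (a * b)) * c' := by group
        _ = ((a * b) * (a * b)) * c * c' := by rw [← h2]; group
        _ = c * c' := by rw [h.UU_sq (mul_mem haU hbU), one_mul]
    rw [e]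
    exact mul_mem hcs hcs'
  have h2 : c' = c ∨ c' = s * c := by
    rcases h.noPar_at hT hT' h1 with h3 | h3
    · left
      exact mul_left_cancel h3
    · right
      have h4 : s * (a * b * c) = a * b * (s * c) := by
        rw [← mul_assoc s, h.UU_comm hsU (mul_mem haU hbU), mul_assoc]
      rw [h4] at h3
      exact mul_left_cancel h3
  -- `c ∈ C(Q (a b c'))`, `c' ∈ C(Q (a b c))`
  have hnc' : n * c' * n⁻¹ = c' := by
    rcases h2 with h3 | h3
    · rw [h3]; exact h.N_ZC hA hn hca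
    · rw [h3]
      calc n * (s * c) * n⁻¹ = (n * s * n⁻¹) * (n * c * n⁻¹) := by group
        _ = s * c := by rw [h.N_fix_s ha hn, h.N_ZC hA hn hca]
  have hnc : n' * c * n'⁻¹ = c := by
    have h4 : c = c' ∨ c = s * c' := by
      rcases h2 with h3 | h3
      · exact Or.inl h3.symm
      · right; rw [h3, h.UU_cancel' hsU]
    rcases h4 with h3 | h3
    · rw [h3]; exact h.N_ZC hB hn' hcb'
    · rw [h3]
      calc n' * (s * c') * n'⁻¹ = (n' * s * n'⁻¹) * (n' * c' * n'⁻¹) := by group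
        _ = s * c' := by rw [h.N_fix_s hb hn', h.N_ZC hB hn' hcb']
  have h5 : c' ∈ ZC Q (a * b * c) := by
    have := (h.ZC_conj (g := n)).2 hcb'
    rwa [hnc', hnb] at this
  have h6 : c ∈ ZC Q (a * b * c') := by
    have := (h.ZC_conj (g := n')).2 hca
    rwa [hnc, hnb'] at this
  have h7 : c ∈ ZC Q (a * b * c) := by
    rcases h2 with h3 | h3
    · rwa [h3] at h6
    · have h8 := h.Adj_CV hT' hcs h6
      have h9 : s * (a * b * c') = a * b * c := by
        have h4 : s * (a * b * c) = a * b * (s * c) := by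
          rw [← mul_assoc s, h.UU_comm hsU (mul_mem haU hbU), mul_assoc]
        rw [h3, ← h4, h.UU_cancel' hsU]
      rwa [h9] at h8
  have h8 : c' = c := by
    rcases h2 with h3 | h3
    · exact h3
    · exfalso
      have h9 : s ∈ ZC Q (a * b * c) := by
        have : s = c' * c := by rw [h3, mul_assoc, h.UU_sq hcU, mul_one]
        rw [this]
        exact mul_mem h5 h7
      exact h.not_both hT h9
  rw [h8] at hnb' hcb'
  refine ⟨c, ?_, hcU, hcs, hca, hcb', h7, hT, fun m hm => h.mv_uniq ha hb hn hm hcU hcs hnb, ?_⟩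
  · rintro rfl
    rw [mul_one] at hnb
    have h9 := h.red_at hA hbU (by
      intro m hm
      have h10 : m * b * m⁻¹ = b ∨ m * b * m⁻¹ = a * b := by
        have := h.mv_uniq ha hb hn hm hcU hcs (by rw [mul_one]; exact hnb)
        rwa [mul_one] at this
      have e : b * m * b⁻¹ * m⁻¹ = b * (m * b * m⁻¹)⁻¹ := by group
      rcases h10 with h11 | h11
      · left; rw [e, h11, mul_inv_cancel]
      · right
        rw [e, h11, hab, mul_inv_rev, h.UU_inv haU]
        rw [h.UU_comm haU (inv_mem hbU), ← mul_assoc, mul_inv_cancel, one_mul]) n hn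
    apply hne
    rw [← h9, mul_inv_cancel_right]
  · intro m hm
    have h9 := h.mv_uniq hb ha hn' hm hcU hcs (by rw [← hab]; exact hnb')
    rwa [← hab] at h9

/-! ### (6) -/

/-- lines on `s` which are not opposite: there is `y ∈ Q a` fixing `s` and moving `b` -/
theorem exists_y {s a b : G} (ha : Adj M r t s a) (hb : Adj M r t s b) (h1 : b ≠ a) (h2 : b ≠ s * a)
    (hba : b ∈ Q a) : ∃ y ∈ Q a, y * s = s * y ∧ y * b * y⁻¹ = a * b := by
  have hA := h.Adj_right ha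
  have haU := h.Adj_UU ha
  have hbU := h.Adj_UU hb
  have hS := ha.left
  have hsU : s ∈ UU M r := Om_le_UU hS
  have has := h.Adj_symm ha
  have hcm : ∀ y ∈ Q a, ∀ x ∈ Q a, y * x * y⁻¹ = x ∨ y * x * y⁻¹ = a * x := by
    intro y hy x hx
    rcases h.comm_Q hA hy hx with h3 | h3
    · left; exact mul_inv_eq_one.1 h3
    · right; exact mul_inv_eq_iff_eq_mul.1 h3
  by_contra hcon
  push Not at hcon
  have hfix : ∀ y ∈ Q a, y * s = s * y → y * b * y⁻¹ = b := by
    intro y hy hys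
    exact (hcm y hy b hba).resolve_right (hcon y hy hys)
  obtain ⟨q, hq, hqs⟩ := h.Adj_q has
  -- every `y` or `q⁻¹ y` commutes with `s`
  have hsa : s ∈ Q a := h.Adj_mem has
  have hor : ∀ y ∈ Q a, y * s = s * y ∨ (q⁻¹ * y) * s = s * (q⁻¹ * y) := by
    intro y hy
    rcases hcm y hy s hsa with h3 | h3
    · left; exact mul_inv_eq_iff_eq_mul.1 h3
    · right
      apply mul_inv_eq_iff_eq_mul.1
      calc q⁻¹ * y * s * (q⁻¹ * y)⁻¹ = q⁻¹ * (y * s * y⁻¹) * q := by group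
        _ = q⁻¹ * (q * s * q⁻¹) * q := by rw [h3, hqs]
        _ = s := by group
  -- `b' = b` or `s b` is in `Z(Q a)`
  have key : ∀ x, x ∈ UU M r → q * x * q⁻¹ = x → (∀ y ∈ Q a, y * s = s * y → y * x * y⁻¹ = x) → x ∈ ZC Q a := by
    intro x _ hqx hyx
    rw [mem_centralizer_iff]
    intro y hy
    rcases hor y hy with h3 | h3
    · exact mul_inv_eq_iff_eq_mul.1 (hyx y hy h3)
    · have h4 := hyx (q⁻¹ * y) ((Q a).mul_mem ((Q a).inv_mem hq) hy) h3
      apply mul_inv_eq_iff_eq_mul.1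
      calc y * x * y⁻¹ = q * (q⁻¹ * y * x * (q⁻¹ * y)⁻¹) * q⁻¹ := by group
        _ = x := by rw [h4, hqx]
  have hsQ : s ∈ ZC Q s := h.mem_ZC hS
  rcases hcm q hq b hba with h3 | h3
  · have h4 := key b hbU h3 hfix
    rcases h.Adj_ZQ has h4 (h.Adj_mem hb) with h5 | h5
    · exact h.Adj_not_mem hb h5
    · rcases h.noPar_at ha hb h5 with h6 | h6
      · exact h1 h6
      · exact h2 h6
  · have h4 := key (s * b) (mul_mem hsU hbU) (by
      calc q * (s * b) * q⁻¹ = (q * s * q⁻¹) * (q * b * q⁻¹) := by group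
        _ = a * s * (a * b) := by rw [hqs, h3]
        _ = (a * s * a) * b := by group
        _ = s * b := by rw [h.UU_cancel haU hsU]) (by
      intro y hy hys
      calc y * (s * b) * y⁻¹ = (y * s) * y⁻¹ * (y * b * y⁻¹) := by group
        _ = s * b := by rw [hys, hfix y hy hys, mul_inv_cancel_right])
    rcases h.Adj_ZQ has h4 (mul_mem (h.mem_Q hS) (h.Adj_mem hb)) with h5 | h5
    · exact h.Adj_not_mem hb ((mul_mem_cancel_left hsQ).1 h5)
    · have e : a * (s * b) = s * (a * b) := by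
        rw [← mul_assoc, h.UU_comm haU hsU, mul_assoc]
      rw [e, mul_mem_cancel_left hsQ] at h5
      rcases h.noPar_at ha hb h5 with h6 | h6
      · exact h1 h6
      · exact h2 h6

/-- **(6) of #15959** -/
theorem jNon [Finite G] : JNon M r t N := by
  intro s a b ha hb h1 h2 hno
  have hA := h.Adj_right ha
  have hB := h.Adj_right hb
  have haU := h.Adj_UU ha
  have hbU := h.Adj_UU hb
  have hS := ha.left
  have hsU : s ∈ UU M r := Om_le_UU hS
  have hba : b ∈ Q a := by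
    refine h.UN_at hA hbU fun n hn => ?_
    by_contra hne
    exact hno ⟨ha, hb, n, hn, fun e => hne (mul_inv_eq_iff_eq_mul.1 e).symm⟩
  have hab : a ∈ Q b := by
    refine h.UN_at hB haU fun n hn => ?_
    by_contra hne
    exact hno (h.opp_symm ⟨hb, ha, n, hn, fun e => hne (mul_inv_eq_iff_eq_mul.1 e).symm⟩)
  have h1' : a ≠ b := fun e => h1 e.symm
  have h2' : a ≠ s * b := by
    intro e
    apply h2
    rw [e, h.UU_cancel' hsU]
  obtain ⟨y, hy, hys, hyb⟩ := h.exists_y ha hb h1 h2 hba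
  have hconj : ∀ {g s' x : G}, g ∈ M → g * s' = s' * g → Adj M r t s' x → Adj M r t s' (g * x * g⁻¹) := by
    intro g s' x hg hgs hx
    have := hx.conj hg
    rwa [hgs, mul_inv_cancel_right] at this
  have r1 : Adj M r t s (a * b) := by
    rw [← hyb]
    exact hconj (h.Q_le_M hA hy) hys hb
  refine ⟨r1, ?_⟩
  -- `x ∈ Q b`, `s^x = b s`, `a^x = a`
  obtain ⟨x, hx, hxs, hxa⟩ : ∃ x ∈ Q b, x * s * x⁻¹ = b * s ∧ x * a * x⁻¹ = a := by
    obtain ⟨q, hq, hqs⟩ := h.Adj_q (h.Adj_symm hb)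
    rcases h.comm_Q hB hq hab with h3 | h3
    · exact ⟨q, hq, hqs, mul_inv_eq_one.1 h3⟩
    · have h4 : q * a * q⁻¹ = b * a := mul_inv_eq_iff_eq_mul.1 h3
      obtain ⟨y', hy', hys', hya'⟩ := h.exists_y hb ha h1' h2' hab
      have hqb : q * b * q⁻¹ = b := by
        rw [← h.ZC_comm (h.mem_ZC hB) hq, mul_inv_cancel_right]
      refine ⟨q * y', mul_mem hq hy', ?_, ?_⟩
      · calc q * y' * s * (q * y')⁻¹ = q * (y' * s) * y'⁻¹ * q⁻¹ := by group
          _ = q * s * q⁻¹ := by rw [hys']; group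
          _ = b * s := hqs
      · calc q * y' * a * (q * y')⁻¹ = q * (y' * a * y'⁻¹) * q⁻¹ := by group
          _ = (q * b * q⁻¹) * (q * a * q⁻¹) := by rw [hya']; group
          _ = b * (b * a) := by rw [hqb, h4]
          _ = a := h.UU_cancel' hbU a
  -- `x' ∈ Q s`, `b^x' = s b`, `a^x' = a`
  obtain ⟨x', hx', hxb', hxa'⟩ : ∃ x ∈ Q s, x * b * x⁻¹ = s * b ∧ x * a * x⁻¹ = a := by
    have hcm : ∀ y ∈ Q s, ∀ x ∈ Q s, y * x * y⁻¹ = x ∨ y * x * y⁻¹ = s * x := by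
      intro y hy x hx
      rcases h.comm_Q hS hy hx with h3 | h3
      · left; exact mul_inv_eq_one.1 h3
      · right; exact mul_inv_eq_iff_eq_mul.1 h3
    have hQs : ∀ y ∈ Q s, y * s * y⁻¹ = s := by
      intro y hy
      rw [← h.ZC_comm (h.mem_ZC hS) hy, mul_inv_cancel_right]
    obtain ⟨q, hq, hqb⟩ := h.Adj_q hb
    rcases hcm q hq a (h.Adj_mem ha) with h3 | h3
    · exact ⟨q, hq, hqb, h3⟩
    · -- an element moving exactly one of `a, b`
      by_contra hcon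
      push Not at hcon
      have h4 : a * b ∈ ZC Q s := by
        rw [mem_centralizer_iff]
        intro x hx
        apply mul_inv_eq_iff_eq_mul.1
        have e : x * (a * b) * x⁻¹ = (x * a * x⁻¹) * (x * b * x⁻¹) := by group
        rw [e]
        rcases hcm x hx a (h.Adj_mem ha) with h5 | h5
        · rcases hcm x hx b (h.Adj_mem hb) with h6 | h6
          · rw [h5, h6]
          · exact absurd h5 (hcon x hx h6)
        · rcases hcm x hx b (h.Adj_mem hb) with h6 | h6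
          · exfalso
            refine hcon (q * x) (mul_mem hq hx) ?_ ?_
            · calc q * x * b * (q * x)⁻¹ = q * (x * b * x⁻¹) * q⁻¹ := by group
                _ = s * b := by rw [h6, hqb]
            · calc q * x * a * (q * x)⁻¹ = q * (x * a * x⁻¹) * q⁻¹ := by group
                _ = (q * s * q⁻¹) * (q * a * q⁻¹) := by rw [h5]; group
                _ = s * (s * a) := by rw [hQs q hq, h3]
                _ = a := h.UU_cancel' hsU a
          · rw [h5, h6]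
            calc s * a * (s * b) = (s * a * s) * b := by group
              _ = a * b := by rw [h.UU_cancel hsU haU]
      rcases h.noPar_at ha hb h4 with h6 | h6
      · exact h1 h6
      · exact h2 h6
  have r2 : Adj M r t a (b * s) := by
    rw [← hxs]
    exact hconj (h.Q_le_M hB hx) (mul_inv_eq_iff_eq_mul.1 hxa) (h.Adj_symm ha)
  have r3 := hconj (h.Q_le_M hS hx') (mul_inv_eq_iff_eq_mul.1 hxa') r2
  have e : x' * (b * s) * x'⁻¹ = b := by
    have hs' : x' * s * x'⁻¹ = s := by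
      rw [← h.ZC_comm (h.mem_ZC hS) hx', mul_inv_cancel_right]
    calc x' * (b * s) * x'⁻¹ = (x' * b * x'⁻¹) * (x' * s * x'⁻¹) := by group
      _ = s * b * s := by rw [hxb', hs']
      _ = b := h.UU_cancel hsU hbU
  rwa [e] at r3

end TvH

end Cfsg.Agent.Omega.HOne.TvDef

end

section


/-!
# II.0h1, `q = 2`, case (β): the dichotomy (7) of the transvection statement (helper865)

The residue at a point `s`, abstractly: `K ≤ W` subgroups of an abelian group `U` of exponent two, `Γ` a set of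
representatives of the lines on `s` (`W - K = ⋃_{t ∈ Γ} tK`), `N t` acts on `W / K` by transvections with centre `tK`.

* `relIndex_le_two`: three subgroups of the same order covering `W` have index at most two;
* `Res`: the hypotheses, `Res.opp`: opposite lines;
* `Res.dich`: either all pairs of distinct lines are opposite, or `n ∈ N t` moves all the opposites of `t` as soon as it
  moves one of them.
-/

set_option autoImplicit false

namespace Cfsg.Agent.Omega.HOne.TvLin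

open Subgroup

variable {G : Type*} [Group G]

/-- Three subgroups of the same order covering `W` have index at most two in `W`. -/
theorem card_le_two_mul [Finite G] {A B C W : Subgroup G} (hA : A ≤ W)
    (h : ∀ w ∈ W, w ∈ A ∨ w ∈ B ∨ w ∈ C) (hB : Nat.card B = Nat.card A) (hC : Nat.card C = Nat.card A) :
    Nat.card W ≤ 2 * Nat.card A := by
  classical
  have hfin : ∀ H : Subgroup G, (H : Set G).Finite := fun H => Set.toFinite _
  have hsub : (W : Set G) ⊆ {1} ∪ (((A : Set G) \ {1}) ∪ ((B : Set G) \ {1}) ∪ ((C : Set G) \ {1})) := by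
    intro w hw
    by_cases h1 : w = 1
    · exact Or.inl h1
    · right
      rcases h w hw with h2 | h2 | h2
      · exact Or.inl (Or.inl ⟨h2, h1⟩)
      · exact Or.inl (Or.inr ⟨h2, h1⟩)
      · exact Or.inr ⟨h2, h1⟩
  have hc : ∀ H : Subgroup G, ((H : Set G) \ {1}).ncard = Nat.card H - 1 := by
    intro H
    rw [Set.ncard_sdiff_singleton_of_mem H.one_mem]
    rfl
  have h1 : (W : Set G).ncard ≤ 1 + (Nat.card A - 1 + (Nat.card B - 1) + (Nat.card C - 1)) := by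
    refine (Set.ncard_le_ncard hsub (Set.toFinite _)).trans ((Set.ncard_union_le _ _).trans ?_)
    rw [Set.ncard_singleton]
    refine Nat.add_le_add_left ((Set.ncard_union_le _ _).trans ?_) 1
    rw [hc C]
    refine Nat.add_le_add_right ((Set.ncard_union_le _ _).trans ?_) _
    rw [hc A, hc B]
  have hpos : 0 < Nat.card A := Nat.card_pos
  have hW : (W : Set G).ncard = Nat.card W := rfl
  rw [hW, hB, hC] at h1
  obtain ⟨k, hk⟩ := card_dvd_of_le hA
  rw [hk] at h1 ⊢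
  have h3 : k < 3 := by
    by_contra h3
    have h4 : Nat.card A * 3 ≤ Nat.card A * k := Nat.mul_le_mul le_rfl (not_lt.mp h3)
    omega
  rw [mul_comm 2]
  exact Nat.mul_le_mul le_rfl (by omega)

/-- The residue at a point. -/
structure Res (U K W : Subgroup G) (Γ : Set G) (N : G → Subgroup G) : Prop where
  comm : ∀ a ∈ U, ∀ b ∈ U, a * b = b * a
  sq : ∀ a ∈ U, a * a = 1
  WU : W ≤ U
  KW : K ≤ W
  ΓW : ∀ t ∈ Γ, t ∈ W
  ΓK : ∀ t ∈ Γ, t ∉ K
  /-- the nonzero vectors of `W / K` are the lines -/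
  cov : ∀ w ∈ W, w ∉ K → ∃ t ∈ Γ, t * w ∈ K
  /-- `N t` normalises `K` -/
  NK : ∀ t ∈ Γ, ∀ n ∈ N t, ∀ k ∈ K, n * k * n⁻¹ ∈ K
  /-- transvections with centre `tK` -/
  tv : ∀ t ∈ Γ, ∀ n ∈ N t, ∀ w ∈ W, n * w * n⁻¹ * w ∈ K ∨ n * w * n⁻¹ * w * t ∈ K
  /-- `N t` centralises `t` -/
  Nt : ∀ t ∈ Γ, ∀ n ∈ N t, n * t = t * n
  /-- if `n ∈ N t` fixes the line of `t'`, it centralises `t'` -/
  fix : ∀ t ∈ Γ, ∀ n ∈ N t, ∀ t' ∈ Γ, n * t' * n⁻¹ * t' ∈ K → n * t' = t' * n
  /-- if `m ∈ N t'` centralises `t`, it normalises `N t` -/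
  norm : ∀ t ∈ Γ, ∀ t' ∈ Γ, ∀ m ∈ N t', m * t = t * m → ∀ n ∈ N t, m * n * m⁻¹ ∈ N t
  /-- opposite is symmetric -/
  symm : ∀ t ∈ Γ, ∀ t' ∈ Γ, (∃ n ∈ N t, n * t' ≠ t' * n) → ∃ n ∈ N t', n * t ≠ t * n
  /-- the lines are conjugate -/
  tran : ∀ t ∈ Γ, ∀ t' ∈ Γ, ∃ g : G, (∀ x, x ∈ K ↔ g * x * g⁻¹ ∈ K) ∧ (∀ x, x ∈ W ↔ g * x * g⁻¹ ∈ W) ∧
    ∀ x, x ∈ N t ↔ g * x * g⁻¹ ∈ N t'

namespace Res

variable {U K W : Subgroup G} {Γ : Set G} {N : G → Subgroup G} (h : Res U K W Γ N)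

include h

/-- `C_W(N t mod K)` -/
def _root_.Cfsg.Agent.Omega.HOne.TvLin.fixSet (K W : Subgroup G) (T : Set G) : Set G :=
  {w | w ∈ W ∧ ∀ n ∈ T, n * w * n⁻¹ * w ∈ K}

theorem conj_mem {t : G} (ht : t ∈ Γ) {n : G} (hn : n ∈ N t) {w : G} (hw : w ∈ W) : n * w * n⁻¹ ∈ W := by
  have hwU := h.WU hw
  rcases h.tv t ht n hn w hw with h1 | h1
  · have h2 : n * w * n⁻¹ = (n * w * n⁻¹ * w) * w := by rw [mul_assoc (n * w * n⁻¹) w w, h.sq w hwU, mul_one]
    rw [h2]
    exact W.mul_mem (h.KW h1) hw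
  · have h2 : n * w * n⁻¹ = (n * w * n⁻¹ * w * t) * (t * w) := by
      have h3 := h.sq t (h.WU (h.ΓW t ht))
      have h4 := h.sq w hwU
      calc n * w * n⁻¹ = n * w * n⁻¹ * (w * w) := by rw [h4, mul_one]
        _ = n * w * n⁻¹ * w * (t * t) * w := by rw [h3, mul_one]; group
        _ = _ := by group
    rw [h2]
    exact W.mul_mem (h.KW h1) (W.mul_mem (h.ΓW t ht) hw)

/-- The subgroup `C_W(T mod K)`. -/
def _root_.Cfsg.Agent.Omega.HOne.TvLin.Res.fixK (h : Res U K W Γ N) {t : G} (ht : t ∈ Γ) (T : Set G)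
    (hT : T ⊆ N t) : Subgroup G where
  carrier := fixSet K W T
  one_mem' := ⟨W.one_mem, fun n _ => by
    rw [mul_one, mul_one, mul_inv_cancel]
    exact K.one_mem⟩
  mul_mem' := by
    rintro a b ⟨ha, ha'⟩ ⟨hb, hb'⟩
    refine ⟨W.mul_mem ha hb, fun n hn => ?_⟩
    have h1 := h.comm a (h.WU ha) (n * b * n⁻¹) (h.WU (h.conj_mem ht (hT hn) hb))
    have h2 : n * (a * b) * n⁻¹ * (a * b) = (n * a * n⁻¹ * a) * (n * b * n⁻¹ * b) := by
      calc n * (a * b) * n⁻¹ * (a * b) = (n * a * n⁻¹) * ((n * b * n⁻¹) * a) * b := by group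
        _ = (n * a * n⁻¹) * (a * (n * b * n⁻¹)) * b := by rw [h1]
        _ = _ := by group
    rw [h2]
    exact K.mul_mem (ha' n hn) (hb' n hn)
  inv_mem' := by
    rintro a ⟨ha, ha'⟩
    have h1 : a⁻¹ = a := inv_eq_of_mul_eq_one_left (h.sq a (h.WU ha))
    rw [h1]
    exact ⟨ha, ha'⟩

theorem mem_fixK {t : G} (ht : t ∈ Γ) {T : Set G} (hT : T ⊆ N t) {w : G} :
    w ∈ h.fixK ht T hT ↔ w ∈ W ∧ ∀ n ∈ T, n * w * n⁻¹ * w ∈ K := Iff.rfl

/-- `A_t` -/
def _root_.Cfsg.Agent.Omega.HOne.TvLin.Res.A (h : Res U K W Γ N) {t : G} (ht : t ∈ Γ) : Subgroup G :=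
  h.fixK ht (N t) subset_rfl

theorem mem_A {t : G} (ht : t ∈ Γ) {w : G} : w ∈ h.A ht ↔ w ∈ W ∧ ∀ n ∈ N t, n * w * n⁻¹ * w ∈ K := Iff.rfl

theorem K_le {t : G} (ht : t ∈ Γ) {T : Set G} (hT : T ⊆ N t) : K ≤ h.fixK ht T hT :=
  fun k hk => ⟨h.KW hk, fun n hn => K.mul_mem (h.NK t ht n (hT hn) k hk) hk⟩

theorem self_mem {t : G} (ht : t ∈ Γ) : t ∈ h.A ht := ⟨h.ΓW t ht, fun n hn => by
  rw [h.Nt t ht n hn, mul_inv_cancel_right, h.sq t (h.WU (h.ΓW t ht))]
  exact K.one_mem⟩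

/-- `t' ∈ A_t` iff `N t` centralises `t'` -/
theorem mem_A_iff {t t' : G} (ht : t ∈ Γ) (ht' : t' ∈ Γ) : t' ∈ h.A ht ↔ ∀ n ∈ N t, n * t' = t' * n := by
  constructor
  · rintro ⟨-, h1⟩ n hn
    exact h.fix t ht n hn t' ht' (h1 n hn)
  · intro h1
    refine ⟨h.ΓW t' ht', fun n hn => ?_⟩
    rw [h1 n hn, mul_inv_cancel_right, h.sq t' (h.WU (h.ΓW t' ht'))]
    exact K.one_mem

theorem mem_A_comm {t t' : G} (ht : t ∈ Γ) (ht' : t' ∈ Γ) : t' ∈ h.A ht ↔ t ∈ h.A ht' := by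
  rw [h.mem_A_iff ht ht', h.mem_A_iff ht' ht]
  constructor
  · intro h1
    by_contra h2
    push Not at h2
    obtain ⟨n, hn, hn'⟩ := h.symm t' ht' t ht h2
    exact hn' (h1 n hn)
  · intro h1
    by_contra h2
    push Not at h2
    obtain ⟨n, hn, hn'⟩ := h.symm t ht t' ht' h2
    exact hn' (h1 n hn)

/-- membership only depends on the coset of `K` -/
theorem mem_A_congr {t : G} (ht : t ∈ Γ) {w w' : G} (hw : w * w' ∈ K) (hw' : w' ∈ W) :
    w ∈ h.A ht ↔ w' ∈ h.A ht := by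
  have hK : w * w' ∈ h.A ht := h.K_le ht subset_rfl hw
  have h1 : w = w * w' * w' := by rw [mul_assoc, h.sq w' (h.WU hw'), mul_one]
  constructor
  · intro h2
    exact (mul_mem_cancel_left h2).1 hK
  · intro h2
    rw [h1]
    exact (h.A ht).mul_mem hK h2

/-- `N t` normalises `K`, both ways -/
theorem conj_K_iff {t : G} (ht : t ∈ Γ) {n : G} (hn : n ∈ N t) {x : G} : n * x * n⁻¹ ∈ K ↔ x ∈ K := by
  constructor
  · intro h1
    have h2 := h.NK t ht n⁻¹ ((N t).inv_mem hn) _ h1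
    have h3 : n⁻¹ * (n * x * n⁻¹) * n⁻¹⁻¹ = x := by group
    rwa [h3] at h2
  · exact h.NK t ht n hn x

/-- **Step 1.** `m ∈ N t'` centralising `t` fixes all of `A_t` modulo `K`, for `t'` opposite to `t`. -/
theorem step {t t' : G} (ht : t ∈ Γ) (ht' : t' ∈ Γ) (ho : t' ∉ h.A ht) {m : G} (hm : m ∈ N t')
    (hmt : m * t = t * m) {w : G} (hw : w ∈ h.A ht) : m * w * m⁻¹ * w ∈ K := by
  by_contra hcon
  obtain ⟨hwW, hw'⟩ := hw
  have hwU := h.WU hwW
  have htU := h.WU (h.ΓW t ht)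
  have ht'U := h.WU (h.ΓW t' ht')
  -- `w ^ m = w t'` modulo `K`
  have h1 : m * w * m⁻¹ * w * t' ∈ K := (h.tv t' ht' m hm w hwW).resolve_left hcon
  -- `n ∈ N t` moving `t'`
  have h2 : ∃ n ∈ N t, n * t' * n⁻¹ * t' ∉ K := by
    by_contra h3
    push Not at h3
    exact ho ⟨h.ΓW t' ht', h3⟩
  obtain ⟨n, hn, hnt'⟩ := h2
  have h3 : n * t' * n⁻¹ * t' * t ∈ K := (h.tv t ht n hn t' (h.ΓW t' ht')).resolve_left hnt'
  -- `m n m⁻¹ n⁻¹ ∈ N t` moves `w`
  have h4 : m * n * m⁻¹ * n⁻¹ ∈ N t := (N t).mul_mem (h.norm t ht t' ht' m hm hmt n hn) ((N t).inv_mem hn)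
  have h5 := hw' _ h4
  -- the cosets
  set k1 := m * w * m⁻¹ * w * t' with hk1
  set k2 := n * t' * n⁻¹ * t' * t with hk2
  have sqt := h.sq t htU
  have sqt' := h.sq t' ht'U
  have sqw := h.sq w hwU
  have e1 : m * w * m⁻¹ = k1 * (t' * w) := by
    rw [hk1]
    calc m * w * m⁻¹ = m * w * m⁻¹ * (w * w) := by rw [sqw, mul_one]
      _ = m * w * m⁻¹ * w * (t' * t') * w := by rw [sqt', mul_one]; group
      _ = _ := by group
  have e2 : n * t' * n⁻¹ = k2 * (t * t') := by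
    rw [hk2]
    calc n * t' * n⁻¹ = n * t' * n⁻¹ * (t' * t') := by rw [sqt', mul_one]
      _ = n * t' * n⁻¹ * t' * (t * t) * t' := by rw [sqt, mul_one]; group
      _ = _ := by group
  -- `w ^ n = w` modulo `K`
  have h6 := hw' n⁻¹ ((N t).inv_mem hn)
  set k3 := n⁻¹ * w * n⁻¹⁻¹ * w with hk3
  have e3 : n⁻¹ * w * n⁻¹⁻¹ = k3 * w := by
    rw [hk3, mul_assoc _ w w, sqw, mul_one]
  have hmi : m⁻¹ ∈ N t' := (N t').inv_mem hm
  -- `w ^ (m⁻¹)`
  have h7 : m⁻¹ * w * m⁻¹⁻¹ * w * t' ∈ K := by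
    refine (h.tv t' ht' m⁻¹ hmi w hwW).resolve_left fun h8 => hcon ?_
    have h9 := h.NK t' ht' m hm _ h8
    have h10 : m * (m⁻¹ * w * m⁻¹⁻¹ * w) * m⁻¹ = w * (m * w * m⁻¹) := by group
    rw [h10, h.comm w hwU _ (h.WU (h.conj_mem ht' hm hwW))] at h9
    exact h9
  set k4 := m⁻¹ * w * m⁻¹⁻¹ * w * t' with hk4
  have e4 : m⁻¹ * w * m⁻¹⁻¹ = k4 * (t' * w) := by
    rw [hk4]
    calc m⁻¹ * w * m⁻¹⁻¹ = m⁻¹ * w * m⁻¹⁻¹ * (w * w) := by rw [sqw, mul_one]
      _ = m⁻¹ * w * m⁻¹⁻¹ * w * (t' * t') * w := by rw [sqt', mul_one]; group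
      _ = _ := by group
  have hnt : n * t * n⁻¹ = t := by rw [h.Nt t ht n hn, mul_inv_cancel_right]
  have hmt1 : m * t * m⁻¹ = t := by rw [hmt, mul_inv_cancel_right]
  have hmt' : m⁻¹ * t' * m⁻¹⁻¹ = t' := by
    have := h.Nt t' ht' m⁻¹ hmi
    rw [this, mul_inv_cancel_right]
  have hmt'' : m * t' * m⁻¹ = t' := by rw [h.Nt t' ht' m hm, mul_inv_cancel_right]
  -- conjugate `w` by `m n m⁻¹ n⁻¹`
  have e5 : m * n * m⁻¹ * n⁻¹ * w * (m * n * m⁻¹ * n⁻¹)⁻¹ =
      (m * (n * (m⁻¹ * k3 * m⁻¹⁻¹) * n⁻¹) * m⁻¹) * (m * (n * k4 * n⁻¹) * m⁻¹) *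
        (m * k2 * m⁻¹) * (t * t') * (m * (n * w * n⁻¹) * m⁻¹) := by
    calc m * n * m⁻¹ * n⁻¹ * w * (m * n * m⁻¹ * n⁻¹)⁻¹
        = m * (n * (m⁻¹ * (n⁻¹ * w * n⁻¹⁻¹) * m⁻¹⁻¹) * n⁻¹) * m⁻¹ := by group
      _ = m * (n * (m⁻¹ * (k3 * w) * m⁻¹⁻¹) * n⁻¹) * m⁻¹ := by rw [e3]
      _ = m * (n * ((m⁻¹ * k3 * m⁻¹⁻¹) * (m⁻¹ * w * m⁻¹⁻¹)) * n⁻¹) * m⁻¹ := by group
      _ = m * (n * ((m⁻¹ * k3 * m⁻¹⁻¹) * (k4 * (t' * w))) * n⁻¹) * m⁻¹ := by rw [e4]
      _ = (m * (n * (m⁻¹ * k3 * m⁻¹⁻¹) * n⁻¹) * m⁻¹) * (m * (n * k4 * n⁻¹) * m⁻¹) *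
            (m * (n * t' * n⁻¹) * m⁻¹) * (m * (n * w * n⁻¹) * m⁻¹) := by group
      _ = (m * (n * (m⁻¹ * k3 * m⁻¹⁻¹) * n⁻¹) * m⁻¹) * (m * (n * k4 * n⁻¹) * m⁻¹) *
            (m * (k2 * (t * t')) * m⁻¹) * (m * (n * w * n⁻¹) * m⁻¹) := by rw [e2]
      _ = (m * (n * (m⁻¹ * k3 * m⁻¹⁻¹) * n⁻¹) * m⁻¹) * (m * (n * k4 * n⁻¹) * m⁻¹) *
            ((m * k2 * m⁻¹) * ((m * t * m⁻¹) * (m * t' * m⁻¹))) * (m * (n * w * n⁻¹) * m⁻¹) := by group
      _ = _ := by rw [hmt1, hmt'']; group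
  have h8 := hw' n hn
  set k5 := n * w * n⁻¹ * w with hk5
  have e6 : n * w * n⁻¹ = k5 * w := by rw [hk5, mul_assoc _ w w, sqw, mul_one]
  have e7 : m * (n * w * n⁻¹) * m⁻¹ = (m * k5 * m⁻¹) * (k1 * (t' * w)) := by
    rw [e6, ← e1]
    group
  -- all the `k`'s are in `K`
  have c1 : m * (n * (m⁻¹ * k3 * m⁻¹⁻¹) * n⁻¹) * m⁻¹ ∈ K :=
    h.NK t' ht' m hm _ (h.NK t ht n hn _ (h.NK t' ht' m⁻¹ hmi _ h6))
  have c2 : m * (n * k4 * n⁻¹) * m⁻¹ ∈ K := h.NK t' ht' m hm _ (h.NK t ht n hn _ h7)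
  have c3 : m * k2 * m⁻¹ ∈ K := h.NK t' ht' m hm _ h3
  have c4 : m * k5 * m⁻¹ ∈ K := h.NK t' ht' m hm _ h8
  rw [e5, e7] at h5
  set a := m * (n * (m⁻¹ * k3 * m⁻¹⁻¹) * n⁻¹) * m⁻¹ with ha
  set b := m * (n * k4 * n⁻¹) * m⁻¹ with hb
  set c := m * k2 * m⁻¹ with hc
  set d := m * k5 * m⁻¹ with hd
  -- `a b c (t t') d k1 (t' w) w ∈ K`, so `t ∈ K`
  have KU : K ≤ U := h.KW.trans h.WU
  have h9 : a * b * c * (t * t') * (d * (k1 * (t' * w))) * w = (a * b * c * d * k1) * t := by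
    have f1 : (t * t') * (d * k1) = (d * k1) * (t * t') :=
      h.comm _ (U.mul_mem htU ht'U) _ (KU (K.mul_mem c4 h1))
    calc a * b * c * (t * t') * (d * (k1 * (t' * w))) * w
        = a * b * c * ((t * t') * (d * k1)) * t' * (w * w) := by group
      _ = a * b * c * ((d * k1) * (t * t')) * t' * (w * w) := by rw [f1]
      _ = a * b * c * (d * k1) * t * (t' * t') * (w * w) := by group
      _ = _ := by rw [sqt', sqw]; group
  rw [h9] at h5
  refine h.ΓK t ht ((mul_mem_cancel_left ?_).1 h5)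
  exact K.mul_mem (K.mul_mem (K.mul_mem (K.mul_mem c1 c2) c3) c4) h1

/-- one element does not move two vectors and their product -/
theorem mv_mul {t n : G} (ht : t ∈ Γ) (hn : n ∈ N t) {w w' : G} (hw : w ∈ W) (hw' : w' ∈ W)
    (h1 : n * w * n⁻¹ * w ∉ K) (h2 : n * w' * n⁻¹ * w' ∉ K) : n * (w * w') * n⁻¹ * (w * w') ∈ K := by
  have h3 := (h.tv t ht n hn w hw).resolve_left h1
  have h4 := (h.tv t ht n hn w' hw').resolve_left h2
  have htU := h.WU (h.ΓW t ht)
  have KU : K ≤ U := h.KW.trans h.WU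
  have h5 := h.comm w (h.WU hw) (n * w' * n⁻¹) (h.WU (h.conj_mem ht hn hw'))
  have h6 := h.comm t htU (n * w' * n⁻¹ * w') (U.mul_mem (h.WU (h.conj_mem ht hn hw')) (h.WU hw'))
  have h7 : n * (w * w') * n⁻¹ * (w * w') = (n * w * n⁻¹ * w * t) * (n * w' * n⁻¹ * w' * t) := by
    calc n * (w * w') * n⁻¹ * (w * w') = (n * w * n⁻¹) * ((n * w' * n⁻¹) * w) * w' := by group
      _ = (n * w * n⁻¹) * (w * (n * w' * n⁻¹)) * w' := by rw [h5]
      _ = (n * w * n⁻¹ * w) * (n * w' * n⁻¹ * w') := by group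
      _ = (n * w * n⁻¹ * w) * (t * t) * (n * w' * n⁻¹ * w') := by rw [h.sq t htU, mul_one]
      _ = (n * w * n⁻¹ * w * t) * (t * (n * w' * n⁻¹ * w')) := by group
      _ = _ := by rw [h6]
  rw [h7]
  exact K.mul_mem h3 h4

theorem mv_mul_left {t n : G} (ht : t ∈ Γ) (hn : n ∈ N t) {w w' : G} (hw : w ∈ W) (hw' : w' ∈ W)
    (h1 : n * w * n⁻¹ * w ∉ K) (h2 : n * w' * n⁻¹ * w' ∈ K) : n * (w * w') * n⁻¹ * (w * w') ∉ K := by
  intro h3
  have hT : {n} ⊆ (N t : Set G) := Set.singleton_subset_iff.mpr hn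
  have h4 : w' ∈ h.fixK ht {n} hT := (h.mem_fixK ht hT).2 ⟨hw', fun m hm => by rw [Set.mem_singleton_iff.mp hm]; exact h2⟩
  have h5 : w * w' ∈ h.fixK ht {n} hT :=
    (h.mem_fixK ht hT).2 ⟨W.mul_mem hw hw', fun m hm => by rw [Set.mem_singleton_iff.mp hm]; exact h3⟩
  have h6 := (mul_mem_cancel_right h4).1 h5
  exact h1 (((h.mem_fixK ht hT).1 h6).2 n rfl)

/-- composition: `n` not moving `w`, then `n n'` moves `w` iff `n'` does. -/
theorem mv_comp_right {t n n' : G} (ht : t ∈ Γ) (hn : n ∈ N t) {w : G} (hw : w ∈ W)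
    (h1 : n * w * n⁻¹ * w ∈ K) : (n * n') * w * (n * n')⁻¹ * w ∈ K ↔ n' * w * n'⁻¹ * w ∈ K := by
  have e : (n * n') * w * (n * n')⁻¹ * w = (n * (n' * w * n'⁻¹ * w) * n⁻¹) * (n * w * n⁻¹ * w)
      := by
    have h2 : (n * w * n⁻¹) * (n * w * n⁻¹) = 1 := by
      calc (n * w * n⁻¹) * (n * w * n⁻¹) = n * (w * w) * n⁻¹ := by group
        _ = 1 := by rw [h.sq w (h.WU hw)]; group
    calc (n * n') * w * (n * n')⁻¹ * w = (n * (n' * w * n'⁻¹) * n⁻¹) * 1 * w := by group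
      _ = (n * (n' * w * n'⁻¹) * n⁻¹) * ((n * w * n⁻¹) * (n * w * n⁻¹)) * w := by rw [h2]
      _ = _ := by group
  rw [e, mul_mem_cancel_right h1, h.conj_K_iff ht hn]

/-- two moving elements: their product does not move. -/
theorem mv_comp {t n n' : G} (ht : t ∈ Γ) (hn : n ∈ N t) (hn' : n' ∈ N t) {w : G} (hw : w ∈ W)
    (h1 : n * w * n⁻¹ * w ∉ K) (h2 : n' * w * n'⁻¹ * w ∉ K) : (n * n') * w * (n * n')⁻¹ * w ∈ K := by
  have h3 := (h.tv t ht n hn w hw).resolve_left h1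
  have h4 := (h.tv t ht n' hn' w hw).resolve_left h2
  have hwU := h.WU hw
  have htU := h.WU (h.ΓW t ht)
  have hnt : n * t * n⁻¹ = t := by rw [h.Nt t ht n hn, mul_inv_cancel_right]
  have e : (n * n') * w * (n * n')⁻¹ * w = (n * (n' * w * n'⁻¹ * w * t) * n⁻¹) * (n * w * n⁻¹ * w * t) := by
    have h5 : t * (n * w * n⁻¹) = (n * w * n⁻¹) * t := h.comm t htU _ (h.WU (h.conj_mem ht hn hw))
    have h2 : (n * w * n⁻¹) * (n * w * n⁻¹) = 1 := by
      calc (n * w * n⁻¹) * (n * w * n⁻¹) = n * (w * w) * n⁻¹ := by group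
        _ = 1 := by rw [h.sq w hwU]; group
    symm
    calc (n * (n' * w * n'⁻¹ * w * t) * n⁻¹) * (n * w * n⁻¹ * w * t)
        = (n * (n' * w * n'⁻¹) * n⁻¹) * (n * w * n⁻¹) * ((n * t * n⁻¹) * (n * w * n⁻¹)) * w * t := by group
      _ = (n * (n' * w * n'⁻¹) * n⁻¹) * (n * w * n⁻¹) * ((n * w * n⁻¹) * t) * w * t := by rw [hnt, h5]
      _ = (n * (n' * w * n'⁻¹) * n⁻¹) * ((n * w * n⁻¹) * (n * w * n⁻¹)) * (t * w) * t := by group
      _ = (n * (n' * w * n'⁻¹) * n⁻¹) * (w * t) * t := by rw [h2, mul_one, h.comm t htU w hwU]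
      _ = (n * (n' * w * n'⁻¹) * n⁻¹) * w * (t * t) := by group
      _ = _ := by rw [h.sq t htU]; group
  rw [e]
  exact K.mul_mem (h.NK t ht n hn _ h4) h3

/-- **Step 1'.** -/
theorem step' {t t' : G} (ht : t ∈ Γ) (ht' : t' ∈ Γ) (ho : t' ∉ h.A ht) {w : G} (hw : w ∈ h.A ht) :
    w ∈ h.A ht' ∨ w * t ∈ h.A ht' := by
  by_cases h1 : w ∈ h.A ht'
  · exact Or.inl h1
  right
  have hwW : w ∈ W := hw.1
  have htW := h.ΓW t ht
  have h2 : ∃ m ∈ N t', m * w * m⁻¹ * w ∉ K := by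
    by_contra h3
    push Not at h3
    exact h1 ⟨hwW, h3⟩
  obtain ⟨m₀, hm₀, hm₀w⟩ := h2
  have key : ∀ m ∈ N t', m * t * m⁻¹ * t ∈ K → m * w * m⁻¹ * w ∈ K := fun m hm hmt =>
    h.step ht ht' ho hm (h.fix t' ht' m hm t ht hmt) hw
  have hm₀t : m₀ * t * m₀⁻¹ * t ∉ K := fun h3 => hm₀w (key m₀ hm₀ h3)
  refine ⟨W.mul_mem hwW htW, fun m hm => ?_⟩
  by_cases hmt : m * t * m⁻¹ * t ∈ K
  · by_contra h3
    have h4 := h.mv_mul_left ht' hm (W.mul_mem hwW htW) htW h3 hmt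
    have h5 : w * t * t = w := by rw [mul_assoc, h.sq t (h.WU htW), mul_one]
    rw [h5] at h4
    exact h4 (key m hm hmt)
  · have h3 := key _ ((N t').mul_mem hm hm₀) (h.mv_comp ht' hm hm₀ htW hmt hm₀t)
    have h4 : m * w * m⁻¹ * w ∉ K := fun h5 => hm₀w ((h.mv_comp_right (n' := m₀) ht' hm hwW h5).1 h3)
    exact h.mv_mul ht' hm hwW htW h4 hmt

theorem card_A [Finite G] {t t' : G} (ht : t ∈ Γ) (ht' : t' ∈ Γ) : Nat.card (h.A ht) = Nat.card (h.A ht') := by
  obtain ⟨g, hK, hW, hN⟩ := h.tran t ht t' ht'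
  have h1 : ∀ w, w ∈ h.A ht ↔ g * w * g⁻¹ ∈ h.A ht' := by
    intro w
    rw [h.mem_A, h.mem_A, ← hW]
    refine and_congr Iff.rfl ⟨fun h2 n hn => ?_, fun h2 n hn => ?_⟩
    · have h3 := h2 (g⁻¹ * n * g) ((hN _).2 (by
        have : g * (g⁻¹ * n * g) * g⁻¹ = n := by group
        rwa [this]))
      have h4 := (hK _).1 h3
      have h5 : g * (g⁻¹ * n * g * w * (g⁻¹ * n * g)⁻¹ * w) * g⁻¹ = n * (g * w * g⁻¹) * n⁻¹ * (g * w * g⁻¹) := by
        group
      rwa [h5] at h4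
    · have h3 := h2 (g * n * g⁻¹) ((hN _).1 hn)
      rw [hK]
      have h5 : g * n * g⁻¹ * (g * w * g⁻¹) * (g * n * g⁻¹)⁻¹ * (g * w * g⁻¹) = g * (n * w * n⁻¹ * w) * g⁻¹ := by
        group
      rwa [h5] at h3
  refine Nat.card_congr
    { toFun := fun x => ⟨g * x * g⁻¹, (h1 x).1 x.2⟩
      invFun := fun x => ⟨g⁻¹ * x * g, (h1 _).2 (by
        have : g * (g⁻¹ * (x : G) * g) * g⁻¹ = x := by group
        rw [this]
        exact x.2)⟩
      left_inv := fun x => Subtype.ext (by simp [mul_assoc])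
      right_inv := fun x => Subtype.ext (by simp [mul_assoc]) }

/-- **The dichotomy (7).** Either two distinct lines are always opposite, or an element of `N t` that moves one of the
opposites of `t` moves all of them. -/
theorem dich [Finite G] :
    (∀ t ∈ Γ, ∀ t' ∈ Γ, t * t' ∉ K → ∃ n ∈ N t, n * t' ≠ t' * n) ∨
      ∀ t ∈ Γ, ∀ t' ∈ Γ, ∀ u ∈ Γ, (∃ n ∈ N t, n * t' ≠ t' * n) → (∃ n ∈ N t, n * u ≠ u * n) →
        ∀ n ∈ N t, n * t' = t' * n → n * u = u * n := by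
  by_cases hall : ∀ t ∈ Γ, ∀ t' ∈ Γ, t * t' ∉ K → ∃ n ∈ N t, n * t' ≠ t' * n
  · exact Or.inl hall
  right
  push Not at hall
  obtain ⟨x, hx, w, hw, hxw, hcen⟩ := hall
  have hwx : w ∈ h.A hx := (h.mem_A_iff hx hw).2 hcen
  obtain ⟨v, hv, hv'⟩ := h.cov (x * w) (W.mul_mem (h.ΓW x hx) (h.ΓW w hw)) hxw
  have hxwW : x * w ∈ W := W.mul_mem (h.ΓW x hx) (h.ΓW w hw)
  have hcov : ∀ y ∈ W, y ∈ h.A hx ∨ y ∈ h.A hw ∨ y ∈ h.A hv := by
    intro y hy
    by_cases hyK : y ∈ K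
    · exact Or.inl (h.K_le hx subset_rfl hyK)
    obtain ⟨t', ht', hty⟩ := h.cov y hy hyK
    have hc : ∀ {r : G} (hr : r ∈ Γ), t' ∈ h.A hr ↔ y ∈ h.A hr := fun hr => h.mem_A_congr hr hty hy
    rw [← hc hx, ← hc hw, ← hc hv]
    by_cases h1 : t' ∈ h.A hx
    · exact Or.inl h1
    right
    rcases h.step' hx ht' h1 hwx with h2 | h2
    · exact Or.inl ((h.mem_A_comm ht' hw).1 h2)
    · right
      refine (h.mem_A_comm ht' hv).1 ((h.mem_A_congr ht' hv' hxwW).2 ?_)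
      rwa [h.comm x (h.WU (h.ΓW x hx)) w (h.WU (h.ΓW w hw))]
  have hcard : Nat.card W ≤ 2 * Nat.card (h.A hx) :=
    card_le_two_mul (fun y hy => hy.1) hcov (h.card_A hw hx) (h.card_A hv hx)
  intro t ht t' ht' u hu ho' hou n hn hnt'
  by_contra hnu
  have hT : {n} ⊆ (N t : Set G) := Set.singleton_subset_iff.mpr hn
  have hF : h.A ht ≤ h.fixK ht {n} hT := fun y hy => ⟨hy.1, fun m hm => by
    rw [Set.mem_singleton_iff.mp hm]
    exact hy.2 n hn⟩
  have hFW : h.fixK ht {n} hT ≤ W := fun y hy => hy.1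
  have huF : u ∉ h.fixK ht {n} hT := fun h1 => hnu (h.fix t ht n hn u hu (h1.2 n rfl))
  have ht'F : t' ∈ h.fixK ht {n} hT := ⟨h.ΓW t' ht', fun m hm => by
    rw [Set.mem_singleton_iff.mp hm, hnt', mul_inv_cancel_right, h.sq t' (h.WU (h.ΓW t' ht'))]
    exact K.one_mem⟩
  have ht'A : t' ∉ h.A ht := by
    intro h1
    obtain ⟨m, hm, hm'⟩ := ho'
    exact hm' ((h.mem_A_iff ht ht').1 h1 m hm)
  have hcard' : Nat.card W ≤ 2 * Nat.card (h.A ht) := by rwa [h.card_A ht hx]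
  have h1 : Nat.card (h.fixK ht {n} hT) < Nat.card W := by
    refine lt_of_le_of_ne (Nat.le_of_dvd Nat.card_pos (card_dvd_of_le hFW)) fun h2 => huF ?_
    have h3 : h.fixK ht {n} hT = W := eq_of_le_of_card_ge hFW h2.ge
    rw [h3]
    exact h.ΓW u hu
  have h2 : Nat.card (h.A ht) < Nat.card (h.fixK ht {n} hT) := by
    refine lt_of_le_of_ne (Nat.le_of_dvd Nat.card_pos (card_dvd_of_le hF)) fun h2 => ht'A ?_
    have h3 : h.A ht = h.fixK ht {n} hT := eq_of_le_of_card_ge hF h2.ge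
    rw [h3]
    exact ht'F
  obtain ⟨a, ha⟩ := card_dvd_of_le hF
  obtain ⟨b, hb⟩ := card_dvd_of_le hFW
  have ha2 : 2 ≤ a := by
    by_contra h3
    have h4 : Nat.card (h.A ht) * a ≤ Nat.card (h.A ht) * 1 := Nat.mul_le_mul le_rfl (by omega)
    omega
  have hb2 : 2 ≤ b := by
    by_contra h3
    have h4 : Nat.card (h.fixK ht {n} hT) * b ≤ Nat.card (h.fixK ht {n} hT) * 1 :=
      Nat.mul_le_mul le_rfl (by omega)
    omega
  have h4 : Nat.card (h.A ht) * 2 ≤ Nat.card (h.fixK ht {n} hT) := by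
    rw [ha]
    exact Nat.mul_le_mul le_rfl ha2
  have h5 : Nat.card (h.fixK ht {n} hT) * 2 ≤ Nat.card W := by
    rw [hb]
    exact Nat.mul_le_mul le_rfl hb2
  have h6 : 0 < Nat.card (h.A ht) := Nat.card_pos
  omega

end Res

end Cfsg.Agent.Omega.HOne.TvLin

end

section


/-!
# II.0h1, `q = 2`, case (β): block (7) of the transvection statement #15959 (helper865)

* `Opp.conj`: opposite pairs are conjugate;
* `exists_opp`: every line has an opposite line (at every point);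
* `res`: the residue at a point in the sense of `TvLin.Res`;
* `dich`: JOINT (7), `AllOpp ∨ E1`.
-/

set_option autoImplicit false
set_option linter.unusedSectionVars false

namespace Cfsg.Agent.Omega.HOne.TvDef

open Subgroup

variable {G : Type*} [Group G] {M : Subgroup G} {r t : G} {Q N : G → Subgroup G}

namespace TvH

variable (h : TvH M r t Q N)
include h

theorem opp_conj {m s a b : G} (hm : m ∈ M) (ho : Opp M r t N s a b) :
    Opp M r t N (m * s * m⁻¹) (m * a * m⁻¹) (m * b * m⁻¹) := by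
  obtain ⟨h1, h2, n, hn, h3⟩ := ho
  refine ⟨h1.conj hm, h2.conj hm, m * n * m⁻¹, h.Nc m _ _ hn, fun h4 => h3 ?_⟩
  have h5 : m * n * m⁻¹ * (m * b * m⁻¹) * (m * n * m⁻¹)⁻¹ = m * (n * b * n⁻¹) * m⁻¹ := by group
  rw [h5] at h4
  exact (MulAut.conj m).injective h4

theorem opp_conj_iff {m s a b : G} (hm : m ∈ M) :
    Opp M r t N (m * s * m⁻¹) (m * a * m⁻¹) (m * b * m⁻¹) ↔ Opp M r t N s a b := by
  refine ⟨fun h1 => ?_, h.opp_conj hm⟩
  have h2 := h.opp_conj (M.inv_mem hm) h1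
  have e : ∀ x : G, m⁻¹ * (m * x * m⁻¹) * m⁻¹⁻¹ = x := fun x => by group
  rwa [e, e, e] at h2

/-- **Every line has an opposite line.** -/
theorem exists_opp (hN : JNon M r t N) {s a : G} (hsa : Adj M r t s a) : ∃ b, Opp M r t N s a b := by
  by_contra hno
  push Not at hno
  -- no opposite pairs at all
  have hno' : ∀ x y z, ¬ Opp M r t N x y z := by
    intro x y z ho
    obtain ⟨m, hm, rfl, rfl⟩ := hsa
    obtain ⟨p, hp, h1, h2⟩ := ho.1
    apply hno (m * p⁻¹ * z * (m * p⁻¹)⁻¹)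
    have h3 := h.opp_conj (M.mul_mem hm (M.inv_mem hp)) ho
    have e1 : m * p⁻¹ * x * (m * p⁻¹)⁻¹ = m * r * m⁻¹ := by rw [← h1]; group
    have e2 : m * p⁻¹ * y * (m * p⁻¹)⁻¹ = m * t * m⁻¹ := by rw [← h2]; group
    rwa [e1, e2] at h3
  -- the closed neighbourhoods of collinear points are equal
  have key : ∀ x y z, Adj M r t x y → (z = x ∨ Adj M r t x z) → z = y ∨ Adj M r t y z := by
    intro x y z hxy hz
    rcases hz with rfl | hz
    · exact Or.inr (h.Adj_symm hxy)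
    by_cases h1 : z = y
    · exact Or.inl h1
    right
    by_cases h2 : z = x * y
    · rw [h2]
      exact h.Adj_mul' hxy
    · exact (hN x y z hxy hz h1 h2 (hno' x y z)).2
  have hall : ∀ z ∈ Om M r, z = r ∨ Adj M r t r z := by
    intro z hz
    refine h.conn_ind (P := fun z => ∀ y, (y = z ∨ Adj M r t z y) → y = r ∨ Adj M r t r y) ?_ ?_ hz z
      (Or.inl rfl)
    · exact fun y hy => hy
    · intro x y hxy hx w hw
      exact hx w (key y x w (h.Adj_symm hxy) hw)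
  obtain ⟨u, hu, hu'⟩ := h.beta
  apply hu'
  have hle : UU M r ≤ Q r := by
    unfold UU
    rw [Subgroup.closure_le]
    intro z hz
    rcases hall z hz with rfl | h1
    · exact h.mem_Q Om_base
    · exact h.Adj_mem h1
  exact hle hu

/-- the full preimage of the set of the lines on `s` -/
def _root_.Cfsg.Agent.Omega.HOne.TvDef.TvH.WW (h : TvH M r t Q N) (hO : JOpp M r t Q N) (hN : JNon M r t N)
    (s : G) (hs : s ∈ Om M r) : Subgroup G where
  carrier := {w | w ∈ UU M r ∧ (w ∈ ZC Q s ∨ ∃ a, Adj M r t s a ∧ a * w ∈ ZC Q s)}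
  one_mem' := ⟨(UU M r).one_mem, Or.inl (ZC Q s).one_mem⟩
  mul_mem' := by
    rintro x y ⟨hx, hx'⟩ ⟨hy, hy'⟩
    refine ⟨(UU M r).mul_mem hx hy, ?_⟩
    rcases hx' with hx' | ⟨a, ha, hax⟩ <;> rcases hy' with hy' | ⟨b, hb, hby⟩
    · exact Or.inl (mul_mem hx' hy')
    · right
      refine ⟨b, hb, ?_⟩
      have e : b * (x * y) = x * (b * y) := by
        rw [← mul_assoc, h.UU_comm (Om_le_UU (h.Adj_right hb)) hx, mul_assoc]
      rw [e]
      exact mul_mem hx' hby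
    · right
      refine ⟨a, ha, ?_⟩
      rw [← mul_assoc]
      exact mul_mem hax hy'
    · have haU := Om_le_UU (h.Adj_right ha)
      have hbU := Om_le_UU (h.Adj_right hb)
      have e : ∀ c ∈ UU M r, (a * b * c) * (x * y) = (a * x) * (b * y) * c := by
        intro c hc
        have e1 := h.UU_comm hbU hx
        have e2 := h.UU_comm hc ((UU M r).mul_mem hx hy)
        calc (a * b * c) * (x * y) = a * b * (c * (x * y)) := by group
          _ = a * (b * x) * y * c := by rw [e2]; group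
          _ = _ := by rw [e1]; group
      by_cases h1 : b = a
      · left
        subst h1
        have h2 := e 1 (UU M r).one_mem
        rw [mul_one, mul_one, h.Om_sq (h.Adj_right hb), one_mul] at h2
        rw [h2]
        exact mul_mem hax hby
      by_cases h2 : b = s * a
      · left
        have hsU := Om_le_UU hs
        have h3 : a * b = s := by
          rw [h2, ← mul_assoc, h.UU_comm haU hsU, mul_assoc, h.Om_sq (h.Adj_right ha), mul_one]
        have h4 := e s hsU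
        rw [h3, h.Om_sq hs, one_mul] at h4
        rw [h4]
        exact mul_mem (mul_mem hax hby) (h.mem_ZC hs)
      right
      by_cases ho : Opp M r t N s a b
      · obtain ⟨-, -, -, -, -, c, -, hcU, hcs, -, -, -, habc, -, -⟩ := hO s a b ho
        refine ⟨a * b * c, habc, ?_⟩
        rw [e c hcU]
        exact mul_mem (mul_mem hax hby) hcs
      · refine ⟨a * b, (hN s a b ha hb h1 h2 ho).1, ?_⟩
        have h3 := e 1 (UU M r).one_mem
        rw [mul_one, mul_one] at h3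
        rw [h3]
        exact mul_mem hax hby
  inv_mem' := by
    rintro x ⟨hx, hx'⟩
    rw [h.UU_inv hx]
    exact ⟨hx, hx'⟩

theorem mem_WW (hO : JOpp M r t Q N) (hN : JNon M r t N) {s : G} (hs : s ∈ Om M r) {w : G} :
    w ∈ h.WW hO hN s hs ↔ w ∈ UU M r ∧ (w ∈ ZC Q s ∨ ∃ a, Adj M r t s a ∧ a * w ∈ ZC Q s) := Iff.rfl

theorem WW_le_Q (hO : JOpp M r t Q N) (hN : JNon M r t N) {s : G} (hs : s ∈ Om M r) {w : G}
    (hw : w ∈ h.WW hO hN s hs) : w ∈ Q s := by
  rcases hw.2 with h1 | ⟨a, ha, h1⟩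
  · exact h.ZC_le_Q hs h1
  · exact (mul_mem_cancel_left (h.Adj_mem ha)).1 (h.ZC_le_Q hs h1)

/-- **The residue at `s`.** -/
theorem res (hO : JOpp M r t Q N) (hN : JNon M r t N) {s : G} (hs : s ∈ Om M r) :
    TvLin.Res (UU M r) (UU M r ⊓ ZC Q s) (h.WW hO hN s hs) {a | Adj M r t s a} N := by
  have hcom : ∀ {x y : G}, x ∈ UU M r → y ∈ UU M r → x * y = y * x := fun hx hy => h.UU_comm hx hy
  have conjU : ∀ {a : G}, Adj M r t s a → ∀ {n : G}, n ∈ N a → ∀ {u : G}, u ∈ UU M r → n * u * n⁻¹ ∈ UU M r :=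
    fun ha _ hn _ hu => UU_conj (h.N_le_M (h.Adj_right ha) hn) hu
  -- `[w, n] = w (n w n⁻¹)`
  have comm_eq : ∀ {a : G}, Adj M r t s a → ∀ {n : G}, n ∈ N a → ∀ {u : G}, u ∈ UU M r →
      u * n * u⁻¹ * n⁻¹ = n * u * n⁻¹ * u := by
    intro a ha n hn u hu
    have h1 := hcom hu (conjU ha hn hu)
    rw [h.UU_inv hu, ← h1]
    group
  refine
    { comm := fun a ha b hb => hcom ha hb
      sq := fun a ha => h.UU_sq ha
      WU := fun w hw => hw.1
      KW := fun k hk => ⟨hk.1, Or.inl hk.2⟩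
      ΓW := fun a ha => ⟨Om_le_UU (h.Adj_right ha), Or.inr ⟨a, ha, by
        rw [h.Om_sq (h.Adj_right ha)]
        exact (ZC Q s).one_mem⟩⟩
      ΓK := fun a ha hk => h.Adj_not_mem ha hk.2
      cov := ?_
      NK := fun a ha n hn k hk => ⟨conjU ha hn hk.1, (h.ZC_fix (h.N_comm ha hn)).2 hk.2⟩
      tv := ?_
      Nt := fun a ha n hn => h.N_self (h.Adj_right ha) hn
      fix := ?_
      norm := fun a ha b hb m hm hma n hn => (h.N_fix hma).2 hn
      symm := ?_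
      tran := ?_ }
  · intro w hw hwK
    rcases hw.2 with h1 | ⟨a, ha, h1⟩
    · exact absurd ⟨hw.1, h1⟩ hwK
    · exact ⟨a, ha, (UU M r).mul_mem (Om_le_UU (h.Adj_right ha)) hw.1, h1⟩
  · intro a ha n hn w hw
    have hwU : w ∈ UU M r := hw.1
    have haU := Om_le_UU (h.Adj_right ha)
    have h1 := h.comm_IN ha hwU (h.WW_le_Q hO hN hs hw) hn
    rw [comm_eq ha hn hwU] at h1
    have hU : n * w * n⁻¹ * w ∈ UU M r := (UU M r).mul_mem (conjU ha hn hwU) hwU
    rcases h1.2.2 with h2 | h2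
    · exact Or.inl ⟨hU, h2⟩
    · right
      rw [← hcom haU hU]
      exact ⟨(UU M r).mul_mem haU hU, h2⟩
  · intro a ha n hn b hb hK
    have hbU := Om_le_UU (h.Adj_right hb)
    have haU := Om_le_UU (h.Adj_right ha)
    have hsU := Om_le_UU hs
    rcases h.noPar_at (h.Adj_N ha hb hn) hb hK.2 with h1 | h1
    · have h2 : n * b * n⁻¹ * n = b * n := by rw [← h1]
      rwa [inv_mul_cancel_right] at h2
    · exfalso
      -- `[b, n] = s`
      have h2 := (h.comm_IN ha hbU (h.Adj_mem hb) hn).1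
      rw [comm_eq ha hn hbU] at h2
      have h3 : n * b * n⁻¹ * b = s := by
        have h4 : s * b = n * b * n⁻¹ := by
          conv_lhs => rw [h1]
          exact h.mul_cancel hs _
        rw [← h4, mul_assoc, h.Om_sq (h.Adj_right hb), mul_one]
      rw [h3] at h2
      exact h.not_both ha h2
  · rintro a ha b hb ⟨n, hn, hne⟩
    have ho : Opp M r t N s a b := ⟨ha, hb, n, hn, fun h1 => hne (by
      have h2 : n * b * n⁻¹ * n = b * n := by rw [h1]
      rwa [inv_mul_cancel_right] at h2)⟩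
    obtain ⟨-, -, m, hm, h1⟩ := (hO s a b ho).1
    exact ⟨m, hm, fun h2 => h1 (by rw [h2, mul_inv_cancel_right])⟩
  · intro a ha b hb
    obtain ⟨m, hm, hmr, hmt⟩ := ha
    obtain ⟨p, hp, hpr, hpt⟩ := hb
    have hgM : p * m⁻¹ ∈ M := M.mul_mem hp (M.inv_mem hm)
    have hgs : p * m⁻¹ * s * (p * m⁻¹)⁻¹ = s := by
      conv_lhs => rw [← hmr]
      conv_rhs => rw [← hpr]
      group
    have hga : p * m⁻¹ * a * (p * m⁻¹)⁻¹ = b := by
      rw [← hmt, ← hpt]
      group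
    set g := p * m⁻¹ with hg
    have hgs' : g * s = s * g := by
      have h1 : g * s * g⁻¹ * g = s * g := by rw [hgs]
      rwa [inv_mul_cancel_right] at h1
    have hUU : ∀ x, x ∈ UU M r ↔ g * x * g⁻¹ ∈ UU M r := by
      intro x
      refine ⟨UU_conj hgM, fun h1 => ?_⟩
      have h2 := UU_conj (M.inv_mem hgM) h1
      have e : g⁻¹ * (g * x * g⁻¹) * g⁻¹⁻¹ = x := by group
      rwa [e] at h2
    have hZ : ∀ x, x ∈ ZC Q s ↔ g * x * g⁻¹ ∈ ZC Q s := fun x => (h.ZC_fix hgs').symm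
    refine ⟨g, fun x => and_congr (hUU x) (hZ x), fun x => ?_, fun x => ?_⟩
    · refine and_congr (hUU x) (or_congr (hZ x) ⟨?_, ?_⟩)
      · rintro ⟨c, hc, hcx⟩
        refine ⟨g * c * g⁻¹, ?_, ?_⟩
        · have := hc.conj hgM
          rwa [hgs] at this
        · have := (hZ _).1 hcx
          have e : g * c * g⁻¹ * (g * x * g⁻¹) = g * (c * x) * g⁻¹ := by group
          rwa [e]
      · rintro ⟨c, hc, hcx⟩
        refine ⟨g⁻¹ * c * g⁻¹⁻¹, ?_, ?_⟩
        · have h1 := hc.conj (M.inv_mem hgM)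
          have e : g⁻¹ * s * g⁻¹⁻¹ = s := by
            conv_lhs => rw [← hgs]
            group
          rwa [e] at h1
        · refine (hZ _).2 ?_
          have e : g * (g⁻¹ * c * g⁻¹⁻¹ * x) * g⁻¹ = c * (g * x * g⁻¹) := by group
          rwa [e]
    · have h1 := h.N_conj (g := g) (s := a) (x := x)
      rw [hga] at h1
      exact h1.symm

/-- **JOINT (7).** -/
theorem dich [Finite G] (hO : JOpp M r t Q N) (hN : JNon M r t N) : JDich M r t N := by
  have key : ∀ {n b : G}, n * b * n⁻¹ = b ↔ n * b = b * n := fun {n b} => mul_inv_eq_iff_eq_mul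
  rcases (h.res hO hN Om_base).dich with h1 | h1
  · left
    rintro s a b ⟨m, hm, rfl, rfl⟩ hb hne hne'
    have hb' : Adj M r t r (m⁻¹ * b * m) := by
      have := hb.conj (M.inv_mem hm)
      simpa [mul_assoc] using this
    have hK : t * (m⁻¹ * b * m) ∉ UU M r ⊓ ZC Q r := by
      intro hK
      rcases h.noPar_at Adj_base hb' hK.2 with h2 | h2
      · apply hne
        rw [← h2]
        group
      · apply hne'
        have : b = m * (m⁻¹ * b * m) * m⁻¹ := by group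
        rw [this, h2]
        group
    obtain ⟨n, hn, hnb⟩ := h1 t Adj_base _ hb' hK
    have h3 : Opp M r t N r t (m⁻¹ * b * m) := ⟨Adj_base, hb', n, hn, fun h4 => hnb (key.1 h4)⟩
    have h4 := h.opp_conj hm h3
    have e : m * (m⁻¹ * b * m) * m⁻¹ = b := by group
    rwa [e] at h4
  · right
    rintro s a b c hb hc n hn
    have main : ∀ x y, Opp M r t N s a x → Opp M r t N s a y → n * x = x * n → n * y = y * n := by
      intro x y hx hy hnx
      obtain ⟨m, hm, rfl, rfl⟩ := hx.1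
      have hx' := h.opp_conj (M.inv_mem hm) hx
      have hy' := h.opp_conj (M.inv_mem hm) hy
      have e : ∀ z : G, m⁻¹ * (m * z * m⁻¹) * m⁻¹⁻¹ = z := fun z => by group
      rw [e, e] at hx' hy'
      have hn' : m⁻¹ * n * m⁻¹⁻¹ ∈ N t := by
        have := h.Nc m⁻¹ _ _ hn
        rwa [e] at this
      obtain ⟨-, hx1, p, hp, hp'⟩ := hx'
      obtain ⟨-, hy1, q, hq, hq'⟩ := hy'
      have h2 := h1 t Adj_base _ hx1 _ hy1 ⟨p, hp, fun h4 => hp' (key.2 h4)⟩ ⟨q, hq, fun h4 => hq' (key.2 h4)⟩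
        _ hn' (by
          have e1 : m⁻¹ * n * m⁻¹⁻¹ * (m⁻¹ * x * m⁻¹⁻¹) = m⁻¹ * (n * x) * m⁻¹⁻¹ := by group
          have e2 : m⁻¹ * x * m⁻¹⁻¹ * (m⁻¹ * n * m⁻¹⁻¹) = m⁻¹ * (x * n) * m⁻¹⁻¹ := by group
          rw [e1, e2, hnx])
      have e1 : m⁻¹ * n * m⁻¹⁻¹ * (m⁻¹ * y * m⁻¹⁻¹) = m⁻¹ * (n * y) * m⁻¹⁻¹ := by group
      have e2 : m⁻¹ * y * m⁻¹⁻¹ * (m⁻¹ * n * m⁻¹⁻¹) = m⁻¹ * (y * n) * m⁻¹⁻¹ := by group
      rw [e1, e2] at h2
      exact (MulAut.conj m⁻¹).injective h2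
    exact ⟨main b c hb hc, main c b hc hb⟩

end TvH

end Cfsg.Agent.Omega.HOne.TvDef

end

section


/-!
# II.0h1, `q = 2`, case (beta): (13) of #15959

`j13` : if `u₀ ∈ U` centralises `N0` (index 2 in `N r`, normalised by `S`) and `[u₀, n₁] = r c`, then
`[w, n₁] ∈ {1, r c}` for every `w ∈ C_U(N0)`.
-/

set_option autoImplicit false
set_option linter.unusedSectionVars false

namespace Cfsg.Agent.Omega.HOne.TvThirteen

open Subgroup Cfsg.Agent.Omega.HOne.TvDef

variable {G : Type*} [Group G] {M S : Subgroup G} {r t : G} {Q N : G → Subgroup G}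

theorem le_norm_of {H : Subgroup G} {S : Subgroup G} (hS : ∀ x ∈ S, ∀ y ∈ H, x * y * x⁻¹ ∈ H) :
    S ≤ normalizer (H : Set G) := by
  intro x hx
  rw [mem_normalizer_iff]
  intro y
  refine ⟨hS x hx y, fun hy => ?_⟩
  have := hS x⁻¹ (inv_mem hx) _ hy
  simpa [mul_assoc] using this

/-- a nontrivial section `B / A` has a nontrivial fixed point under a 2-group -/
theorem exists_fixed_mod [Finite G] {S B A : Subgroup G} (hS : IsPGroup 2 S) (hB2 : IsPGroup 2 B)
    (hBn : ∀ x ∈ S, ∀ b ∈ B, x * b * x⁻¹ ∈ B) (hAn : ∀ x ∈ S, ∀ b ∈ A, x * b * x⁻¹ ∈ A)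
    (hAB : ∀ x ∈ B, ∀ b ∈ A, x * b * x⁻¹ ∈ A) (hne : ¬ B ≤ A) :
    ∃ m ∈ B, m ∉ A ∧ ∀ t ∈ S, t * m * t⁻¹ * m⁻¹ ∈ A := by
  have : Fact (Nat.Prime 2) := ⟨Nat.prime_two⟩
  set T : Subgroup G := S ⊔ B with hTdef
  have hSB : S ≤ normalizer (B : Set G) := le_norm_of hBn
  have hT : IsPGroup 2 T := IsPGroup.to_sup_of_normal_right' hS hB2 hSB
  have hBT : B ≤ T := le_sup_right
  have hB : T ≤ normalizer (B : Set G) := sup_le hSB le_normalizer
  have hA : T ≤ normalizer (A : Set G) := sup_le (le_norm_of hAn) (le_norm_of hAB)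
  have hnA : (A.subgroupOf T).Normal := normal_subgroupOf_of_le_normalizer hA
  have hnB : (B.subgroupOf T).Normal := normal_subgroupOf_of_le_normalizer hB
  have hp : IsPGroup 2 (T ⧸ A.subgroupOf T) := hT.to_quotient _
  have : Group.IsNilpotent (T ⧸ A.subgroupOf T) := hp.isNilpotent
  let K : Subgroup (T ⧸ A.subgroupOf T) := (B.subgroupOf T).map (QuotientGroup.mk' (A.subgroupOf T))
  have hK : K.Normal := hnB.map _ (QuotientGroup.mk'_surjective _)
  have hK1 : K ≠ ⊥ := by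
    intro h
    apply hne
    intro x hx
    have h1 : QuotientGroup.mk' (A.subgroupOf T) ⟨x, hBT hx⟩ ∈ K := ⟨⟨x, hBT hx⟩, hx, rfl⟩
    rw [h, mem_bot] at h1
    exact (QuotientGroup.eq_one_iff (⟨x, hBT hx⟩ : T)).1 h1
  have h2 := Lib.NormalAbelian.normal_inf_center_ne_bot K hK1
  obtain ⟨⟨y, hy⟩, hy1⟩ := Subgroup.ne_bot_iff_exists_ne_one.1 h2
  obtain ⟨⟨m, hm, rfl⟩, hyc⟩ := mem_inf.1 hy
  refine ⟨m, hm, fun h => hy1 ?_, fun t ht => ?_⟩
  · apply Subtype.ext
    exact (QuotientGroup.eq_one_iff m).2 h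
  · have ht' : t ∈ T := (le_sup_left : S ≤ T) ht
    have h3 := mem_center_iff.1 hyc (QuotientGroup.mk' (A.subgroupOf T) ⟨t, ht'⟩)
    rw [← map_mul, ← map_mul] at h3
    have h4 : QuotientGroup.mk' (A.subgroupOf T) (⟨t, ht'⟩ * m * (⟨t, ht'⟩ : T)⁻¹ * m⁻¹) = 1 := by
      rw [mul_assoc, map_mul, h3, ← map_mul]
      rw [show m * ⟨t, ht'⟩ * ((⟨t, ht'⟩ : T)⁻¹ * m⁻¹) = 1 by group, map_one]
    have h5 := (QuotientGroup.eq_one_iff ((⟨t, ht'⟩ : T) * m * (⟨t, ht'⟩ : T)⁻¹ * m⁻¹)).1 h4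
    exact h5

/-- (13), general form: only `c ∈ U ∩ C_V` fixed by `S` -/
theorem j13' [Finite G] (h : TvH M r t Q N) (hS : TvS M S r t N) {c : G} (hcU : c ∈ UU M r)
    (hcr : c ∈ ZC Q r) (hct : c ∈ ZC Q t) (hcS : ∀ x ∈ S, x * c = c * x)
    {N0 : Subgroup G} {n1 u0 : G} (hN0 : N0 ≤ N r) (hn1 : n1 ∈ N r)
    (hcov : ∀ n ∈ N r, n ∈ N0 ∨ n1 * n ∈ N0) (hSN : ∀ x ∈ S, ∀ n ∈ N0, x * n * x⁻¹ ∈ N0)
    (hu0 : u0 ∈ UU M r) (hu0N : ∀ n ∈ N0, u0 * n = n * u0) (hu0n : u0 * n1 * u0⁻¹ = n1 * (r * c)) :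
    ∀ w ∈ UU M r, (∀ n ∈ N0, w * n = n * w) → w * n1 * w⁻¹ = n1 ∨ w * n1 * w⁻¹ = n1 * (r * c) := by
  have hrU : r ∈ UU M r := Om_le_UU Om_base
  have hrcU : r * c ∈ UU M r := mul_mem hrU hcU
  have hrcZ : r * c ∈ ZC Q r := mul_mem (h.mem_ZC Om_base) hcr
  have hNM : N r ≤ M := h.N_le_M Om_base
  have hNQ : N r ≤ Q r := h.N_le_Q Om_base
  -- `r c ∉ ZC t`
  have hrct : r * c ∉ ZC Q t := by
    intro h1
    have h2 : r ∈ ZC Q t := by
      have : r = (r * c) * c⁻¹ := by group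
      rw [this]; exact mul_mem h1 (inv_mem hct)
    exact h.not_both Adj_base h2
  have hrc1 : r * c ≠ 1 := fun e => hrct (e ▸ one_mem _)
  -- the group of commutators
  let CC : Subgroup G :=
    { carrier := {a | a ∈ UU M r ∧ a ∈ ZC Q r ∧ ∃ w ∈ UU M r, (∀ n ∈ N0, w * n = n * w) ∧
        w * n1 * w⁻¹ = n1 * a}
      one_mem' := ⟨one_mem _, one_mem _, 1, one_mem _, fun n _ => by simp, by simp⟩
      mul_mem' := by
        rintro a b ⟨ha, ha', w, hw, hwN, hwa⟩ ⟨hb, hb', v, hv, hvN, hvb⟩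
        refine ⟨mul_mem ha hb, mul_mem ha' hb', v * w, mul_mem hv hw, ?_, ?_⟩
        · intro n hn
          calc v * w * n = v * (w * n) := by group
            _ = (v * n) * w := by rw [hwN n hn]; group
            _ = n * (v * w) := by rw [hvN n hn]; group
        · calc v * w * n1 * (v * w)⁻¹ = v * (w * n1 * w⁻¹) * v⁻¹ := by group
            _ = (v * n1 * v⁻¹) * (v * a * v⁻¹) := by rw [hwa]; group
            _ = n1 * b * a := by rw [hvb, h.UU_comm hv ha]; group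
            _ = n1 * (a * b) := by rw [h.UU_comm ha hb]; group
      inv_mem' := by
        rintro a ⟨ha, ha', w, hw, hwN, hwa⟩
        have : a⁻¹ = a := h.UU_inv ha
        rw [this]
        exact ⟨ha, ha', w, hw, hwN, hwa⟩ }
  have memCC : ∀ w ∈ UU M r, (∀ n ∈ N0, w * n = n * w) → n1⁻¹ * (w * n1 * w⁻¹) ∈ CC := by
    intro w hw hwN
    have e1 : n1⁻¹ * (w * n1 * w⁻¹) = n1⁻¹ * w * n1⁻¹⁻¹ * w⁻¹ := by group
    refine ⟨?_, ?_, w, hw, hwN, by group⟩
    · rw [e1]; exact UU_comm_mem (M.inv_mem (hNM hn1)) hw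
    · have hwr : w * r = r * w := h.UU_comm hw hrU
      exact mul_mem (inv_mem (h.N_le_ZC Om_base hn1)) ((h.ZC_fix hwr).2 (h.N_le_ZC Om_base hn1))
  -- `r ∉ CC`
  have hrCC : r ∉ CC := by
    rintro ⟨-, -, w, hw, hwN, hwa⟩
    have hwr : w * r = r * w := h.UU_comm hw hrU
    have hn1r : n1 * r = r * n1 := h.N_self Om_base hn1
    have h1 := h.red w hw (by
      intro n hn
      rcases hcov n hn with h2 | h2
      · left
        rw [hwN n h2]; group
      · right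
        have h3 := hwN _ h2
        -- w n w⁻¹ = (w n1 w⁻¹)⁻¹ (n1 n)
        have h4 : w * n * w⁻¹ = (w * n1 * w⁻¹)⁻¹ * (n1 * n) := by
          calc w * n * w⁻¹ = (w * n1 * w⁻¹)⁻¹ * (w * (n1 * n) * w⁻¹) := by group
            _ = _ := by rw [h3]; group
        have h5 : (r : G)⁻¹ = r := h.UU_inv hrU
        rw [h4, hwa]
        calc (n1 * r)⁻¹ * (n1 * n) * n⁻¹ = r⁻¹ := by group
          _ = r := h5)
    have h2 := h1 n1 hn1
    apply h.r_ne
    have h3 : n1 * r = n1 * 1 := by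
      rw [← hwa, h2]; group
    exact mul_left_cancel h3
  -- `S`-invariance
  have hSCC : ∀ x ∈ S, ∀ a ∈ CC, x * a * x⁻¹ ∈ CC := by
    rintro x hx a ⟨ha, ha', w, hw, hwN, hwa⟩
    have hxM := hS.S_le hx
    have hxr := hS.S_r x hx
    have hax : x * a * x⁻¹ ∈ UU M r := UU_conj hxM ha
    have hax' : x * a * x⁻¹ ∈ ZC Q r := (h.ZC_fix hxr).2 ha'
    have hwx : x * w * x⁻¹ ∈ UU M r := UU_conj hxM hw
    have hxn : x * n1 * x⁻¹ ∈ N r := (h.N_fix hxr).2 hn1
    have hwN' : ∀ n ∈ N0, (x * w * x⁻¹) * n = n * (x * w * x⁻¹) := by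
      intro n hn
      have h1 : x⁻¹ * n * x ∈ N0 := by
        have := hSN x⁻¹ (inv_mem hx) n hn
        simpa using this
      have h2 := hwN _ h1
      calc (x * w * x⁻¹) * n = x * (w * (x⁻¹ * n * x)) * x⁻¹ := by group
        _ = x * ((x⁻¹ * n * x) * w) * x⁻¹ := by rw [h2]
        _ = _ := by group
    refine ⟨hax, hax', x * w * x⁻¹, hwx, hwN', ?_⟩
    have key : (x * w * x⁻¹) * (x * n1 * x⁻¹) * (x * w * x⁻¹)⁻¹ = (x * n1 * x⁻¹) * (x * a * x⁻¹) := by
      calc (x * w * x⁻¹) * (x * n1 * x⁻¹) * (x * w * x⁻¹)⁻¹ = x * (w * n1 * w⁻¹) * x⁻¹ := by group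
        _ = _ := by rw [hwa]; group
    rcases hcov _ hxn with h1 | h1
    · -- then `n1 ∈ N0`, `a = 1`
      have h2 : n1 ∈ N0 := by
        have := hSN x⁻¹ (inv_mem hx) _ h1
        simpa [mul_assoc] using this
      have h3 : a = 1 := by
        have h4 : n1 * a = n1 * 1 := by
          rw [← hwa, hwN n1 h2]; group
        exact mul_left_cancel h4
      have h5 := hwN' n1 h2
      rw [h5, h3]; group
    · have h2 := hwN' _ h1
      -- w' n1 w'⁻¹ = n1 * ...
      have h3 : (x * w * x⁻¹) * n1 * (x * w * x⁻¹)⁻¹ =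
          (n1 * (x * n1 * x⁻¹)) * ((x * w * x⁻¹) * (x * n1 * x⁻¹) * (x * w * x⁻¹)⁻¹)⁻¹ := by
        calc (x * w * x⁻¹) * n1 * (x * w * x⁻¹)⁻¹ =
            ((x * w * x⁻¹) * (n1 * (x * n1 * x⁻¹)) * (x * w * x⁻¹)⁻¹) *
              ((x * w * x⁻¹) * (x * n1 * x⁻¹) * (x * w * x⁻¹)⁻¹)⁻¹ := by group
          _ = _ := by rw [h2]; group
      rw [h3, key]
      have h4 : (x * n1 * x⁻¹) * (x * a * x⁻¹) = (x * a * x⁻¹) * (x * n1 * x⁻¹) :=
        (h.ZC_comm hax' (hNQ hxn)).symm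
      rw [h4]
      have h5 : (x * a * x⁻¹)⁻¹ = x * a * x⁻¹ := h.UU_inv hax
      calc (n1 * (x * n1 * x⁻¹)) * ((x * a * x⁻¹) * (x * n1 * x⁻¹))⁻¹ = n1 * (x * a * x⁻¹)⁻¹ := by group
        _ = _ := by rw [h5]
  intro w hw hwN
  by_contra hno
  push Not at hno
  set a0 := n1⁻¹ * (w * n1 * w⁻¹) with ha0
  have ha0CC : a0 ∈ CC := memCC w hw hwN
  have ha0' : w * n1 * w⁻¹ = n1 * a0 := by rw [ha0]; group
  have ha01 : a0 ≠ 1 := by
    intro e; apply hno.1; rw [ha0', e, mul_one]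
  have ha02 : a0 ≠ r * c := by
    intro e; apply hno.2; rw [ha0', e]
  let A : Subgroup G := Subgroup.zpowers (r * c)
  have hA : ∀ x, x ∈ A ↔ x = 1 ∨ x = r * c := by
    intro x
    constructor
    · rintro ⟨k, rfl⟩
      have h2 : (r * c) ^ (2 : ℤ) = 1 := by
        rw [zpow_two]; exact h.UU_sq hrcU
      rcases Int.even_or_odd k with ⟨l, hl⟩ | ⟨l, hl⟩
      · left
        show (r * c) ^ k = 1
        rw [hl, ← two_mul, zpow_mul, h2, one_zpow]
      · right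
        show (r * c) ^ k = r * c
        rw [hl, zpow_add, zpow_mul, h2, one_zpow, one_mul, zpow_one]
    · rintro (rfl | rfl)
      · exact one_mem _
      · exact Subgroup.mem_zpowers _
  have hSrc : ∀ x ∈ S, x * (r * c) = (r * c) * x := by
    intro x hx
    have h1 := hS.S_r x hx
    have h2 := hcS x hx
    calc x * (r * c) = (x * r) * c := by group
      _ = r * (x * c) := by rw [h1]; group
      _ = _ := by rw [h2]; group
  have hCC2 : IsPGroup 2 CC := by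
    intro g
    refine ⟨1, ?_⟩
    apply Subtype.ext
    have : (g : G) * g = 1 := h.UU_sq g.2.1
    simpa [pow_two] using this
  obtain ⟨a, haCC, haA, haS⟩ := exists_fixed_mod (A := A) hS.S_p hCC2 hSCC
    (by
      intro x hx b hb
      rw [hA] at hb ⊢
      rcases hb with rfl | rfl
      · left; group
      · right; rw [hSrc x hx]; group)
    (by
      intro x hx b hb
      rw [hA] at hb ⊢
      rcases hb with rfl | rfl
      · left; group
      · right; rw [h.UU_comm hx.1 hrcU]; group)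
    (by
      intro hle
      have := hle ha0CC
      rw [hA] at this
      rcases this with h1 | h1
      · exact ha01 h1
      · exact ha02 h1)
  have haU := haCC.1
  have haZ := haCC.2.1
  have ha1 : a ≠ 1 := by rintro rfl; exact haA (one_mem _)
  have ha2 : a ≠ r * c := by rintro rfl; exact haA (Subgroup.mem_zpowers _)
  have haS' : ∀ x ∈ S, x * a * x⁻¹ = a ∨ x * a * x⁻¹ = a * (r * c) := by
    intro x hx
    have h1 := haS x hx
    rw [hA] at h1
    rcases h1 with h1 | h1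
    · left
      calc x * a * x⁻¹ = (x * a * x⁻¹ * a⁻¹) * a := by group
        _ = a := by rw [h1, one_mul]
    · right
      calc x * a * x⁻¹ = (x * a * x⁻¹ * a⁻¹) * a := by group
        _ = a * (r * c) := by rw [h1, h.UU_comm hrcU haU]
  -- `N t` centralises `a`
  have haN : ∀ n ∈ N t, a * n = n * a := by
    intro n hn
    have h1 := h.comm_KN Adj_base haU haZ hn
    rcases haS' n (hS.N_S hn) with h2 | h2
    · calc a * n = (n * a * n⁻¹) * n := by rw [h2]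
        _ = _ := by group
    · exfalso
      -- a n a⁻¹ n⁻¹ = a (n a⁻¹ n⁻¹)
      have h3 : a * n * a⁻¹ * n⁻¹ = r * c := by
        have ha' : a⁻¹ = a := h.UU_inv haU
        calc a * n * a⁻¹ * n⁻¹ = a * (n * a * n⁻¹) := by rw [ha']; group
          _ = (a * a) * (r * c) := by rw [h2]; group
          _ = r * c := by rw [h.UU_sq haU, one_mul]
      rw [h3] at h1
      exact hrct h1.1
  have haQt : a ∈ Q t := h.UN_at h.t_Om haU haN
  -- `S` centralises `a`
  have haC : ∀ x ∈ S, x * a = a * x := by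
    intro x hx
    rcases haS' x hx with h1 | h1
    · calc x * a = (x * a * x⁻¹) * x := by group
        _ = a * x := by rw [h1]
    · exfalso
      have hxr := hS.S_r x hx
      have hxM := hS.S_le hx
      -- C_V is `x`-invariant
      have inv : ∀ b, b ∈ ZC Q r → b ∈ ZC Q t → x * b * x⁻¹ ∈ ZC Q t := by
        intro b hb hb'
        have h2 : x * b * x⁻¹ ∈ ZC Q r := (h.ZC_fix hxr).2 hb
        have h3 : x * b * x⁻¹ ∈ ZC Q (x * t * x⁻¹) := h.ZC_conj.2 hb'
        rcases hS.S_t x hx with h4 | h4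
        · rwa [h4] at h3
        · rw [h4] at h3
          have h5 := h.Adj_CV h.Adj_mul_base h2 h3
          rwa [h.mul_cancel Om_base] at h5
      rcases h.Adj_ZQ Adj_base haZ haQt with h2 | h2
      · have h3 := inv a haZ h2
        rw [h1] at h3
        apply hrct
        have : r * c = a⁻¹ * (a * (r * c)) := by group
        rw [this]; exact mul_mem (inv_mem h2) h3
      · have h3 := inv (r * a) (mul_mem (h.mem_ZC Om_base) haZ) h2
        have h4 : x * (r * a) * x⁻¹ = r * a * (r * c) := by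
          calc x * (r * a) * x⁻¹ = (x * r) * a * x⁻¹ := by group
            _ = r * (x * a * x⁻¹) := by rw [hxr]; group
            _ = _ := by rw [h1]; group
        rw [h4] at h3
        apply hrct
        have : r * c = (r * a)⁻¹ * (r * a * (r * c)) := by group
        rw [this]; exact mul_mem (inv_mem h2) h3
  obtain ⟨-, -, u1, hu1, hu1N, hu1a⟩ := haCC
  -- memberships in `N0`
  have inN0 : ∀ b u, b ∈ UU M r → u ∈ UU M r → u * n1 * u⁻¹ = n1 * b → b ∈ N0 := by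
    intro b u hb hu hub
    have hur : u * r = r * u := h.UU_comm hu hrU
    have h1 : b ∈ N r := by
      have : b = n1⁻¹ * (u * n1 * u⁻¹) := by rw [hub]; group
      rw [this]
      exact mul_mem (inv_mem hn1) ((h.N_fix hur).2 hn1)
    rcases hcov b h1 with h2 | h2
    · exact h2
    · exfalso
      have h3 := hu0N _ h2
      have h4 : u0 * (n1 * b) * u0⁻¹ = n1 * (r * c) * b := by
        calc u0 * (n1 * b) * u0⁻¹ = (u0 * n1 * u0⁻¹) * (u0 * b * u0⁻¹) := by group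
          _ = n1 * (r * c) * b := by rw [hu0n, h.UU_comm hu0 hb]; group
      rw [h3] at h4
      apply hrc1
      have h5 : n1 * (r * c) * b = n1 * 1 * b := by rw [← h4]; group
      exact mul_left_cancel (mul_right_cancel h5)
  refine hS.hside N0 n1 u0 u1 (r * c) a hN0 hn1 hcov ?_ ?_ hu0N hu1N hu0n hu1a
    (inN0 _ u0 hrcU hu0 hu0n) (inN0 _ u1 haU hu1 hu1a) hSrc haC hrc1 ha1 ha2
  · rw [mem_centralizer_singleton_iff]
    exact h.UU_comm hu0 hrU
  · rw [mem_centralizer_singleton_iff]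
    exact h.UU_comm hu1 hrU

/-- (13) -/
theorem j13 [Finite G] (h : TvH M r t Q N) (hS : TvS M S r t N) {c : G} (hc : JConst M r t Q N c)
    {N0 : Subgroup G} {n1 u0 : G} (hN0 : N0 ≤ N r) (hn1 : n1 ∈ N r)
    (hcov : ∀ n ∈ N r, n ∈ N0 ∨ n1 * n ∈ N0) (hSN : ∀ x ∈ S, ∀ n ∈ N0, x * n * x⁻¹ ∈ N0)
    (hu0 : u0 ∈ UU M r) (hu0N : ∀ n ∈ N0, u0 * n = n * u0) (hu0n : u0 * n1 * u0⁻¹ = n1 * (r * c)) :
    ∀ w ∈ UU M r, (∀ n ∈ N0, w * n = n * w) → w * n1 * w⁻¹ = n1 ∨ w * n1 * w⁻¹ = n1 * (r * c) :=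
  j13' h hS hc.2.1 (hc.2.2.1 r Om_base) (hc.2.2.1 t h.t_Om) (fun x hx => hc.2.2.2.1 x (hS.S_le hx))
    hN0 hn1 hcov hSN hu0 hu0N hu0n

end Cfsg.Agent.Omega.HOne.TvThirteen

end

end

-- merged: Cfsg.Agent.Mrg.Omega.HOne.TvTail
section

section


/-!
# II.0h1, `q = 2`, case (β): (11) of #15959, the tail (helper865)

`s ~ t`, `s ∉ Q r` (so `⟨t,s⟩` is opposite to `V`), all pairs of lines are opposite.

* `comm_mem`     : (d) `[s, y] ∈ ⟨t⟩ Z(Q r)` for `y ∈ Q r` commuting with `t`;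
* `not_zero`     : `[s, y] ∉ Z(Q r)` for some such `y`;
* `eleven_base`  : if `[s, N x] ≤ Q r` for all `x ~ r`, then there are exactly three lines on `r`;
* `jEleven_of_base` : transport to all points.
-/

set_option autoImplicit false
set_option linter.unusedSectionVars false

namespace Cfsg.Agent.Omega.HOne.TvDef

open Subgroup

variable {G : Type*} [Group G] {M : Subgroup G} {r t : G} {Q N : G → Subgroup G}

namespace TvH

variable (h : TvH M r t Q N)
include h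

theorem mul_of_mul {K : Subgroup G} {x y z : G} (_ : x ∈ UU M r) (hy : y ∈ UU M r) (hz : z ∈ UU M r)
    (h1 : x * z ∈ K) (h2 : y * z ∈ K) : x * y ∈ K := by
  have e : x * y = (x * z) * (y * z) := by
    have e1 := h.UU_comm hz hy
    calc x * y = x * (z * z) * y := by rw [h.UU_sq hz, mul_one]
      _ = x * z * (z * y) := by group
      _ = _ := by rw [e1]
  rw [e]
  exact mul_mem h1 h2

/-- `r` commutes with `U` -/
theorem r_comm {u : G} (hu : u ∈ UU M r) : u * r = r * u := h.UU_comm hu (Om_le_UU Om_base)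

/-- `[s, y] = s (y s y⁻¹) ∈ Q r` for `y ∈ Q r` -/
theorem br_mem {u : G} (hu : u ∈ UU M r) {x : G} (hx : x ∈ Om M r) {y : G} (hy : y ∈ Q x) :
    u * (y * u * y⁻¹) ∈ Q x ∧ u * (y * u * y⁻¹) ∈ UU M r := by
  have hux : u * x = x * u := h.UU_comm hu (Om_le_UU hx)
  refine ⟨?_, mul_mem hu (UU_conj (h.Q_le_M hx hy) hu)⟩
  have e : u * (y * u * y⁻¹) = (u * y * u⁻¹) * y⁻¹ := by
    rw [h.UU_inv hu]
    group
  rw [e]
  exact mul_mem ((h.Q_fix hux).2 hy) (inv_mem hy)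

/-- `[x y] = [x] [y]` up to `r` -/
theorem br_mul {u : G} (hu : u ∈ UU M r) {x y : G} (hx : x ∈ Q r) (hy : y ∈ Q r) :
    u * (x * y * u * (x * y)⁻¹) = (u * (x * u * x⁻¹)) * (u * (y * u * y⁻¹)) ∨
      u * (x * y * u * (x * y)⁻¹) = (u * (x * u * x⁻¹)) * (u * (y * u * y⁻¹)) * r := by
  have hrO : r ∈ Om M r := Om_base
  obtain ⟨h1, h1'⟩ := h.br_mem hu hrO hx
  obtain ⟨h2, h2'⟩ := h.br_mem hu hrO hy
  set b := u * (y * u * y⁻¹) with hb
  have e1 : y * u * y⁻¹ = u * b := by rw [hb, ← mul_assoc, h.UU_sq hu, one_mul]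
  have hxM := h.Q_le_M hrO hx
  have e2 : u * (x * y * u * (x * y)⁻¹) = (u * (x * u * x⁻¹)) * (x * b * x⁻¹) := by
    calc u * (x * y * u * (x * y)⁻¹) = u * (x * (y * u * y⁻¹) * x⁻¹) := by group
      _ = u * (x * (u * b) * x⁻¹) := by rw [e1]
      _ = _ := by group
  rcases h.Q_comm x hx b h2 with h3 | h3
  · left
    have e3 : x * b * x⁻¹ = b := by rwa [mul_inv_eq_one] at h3
    rw [e2, e3]
  · right
    have e3 : x * b * x⁻¹ = r * b := by rwa [mul_inv_eq_iff_eq_mul] at h3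
    rw [e2, e3, ← h.r_comm h2']
    exact (mul_assoc _ _ _).symm

/-- (d) -/
theorem comm_mem [Finite G] (hO : JOpp M r t Q N) (hA : AllOpp M r t N) {s : G} (hs : Adj M r t t s) {y : G}
    (hy : y ∈ Q r) (hyt : y * t = t * y) :
    s * (y * s * y⁻¹) ∈ ZC Q r ∨ t * (s * (y * s * y⁻¹)) ∈ ZC Q r := by
  have hrO : r ∈ Om M r := Om_base
  have hsU := h.Adj_UU hs
  have htU : t ∈ UU M r := Om_le_UU h.t_Om
  have hrU : r ∈ UU M r := Om_le_UU hrO
  have hyM := h.Q_le_M hrO hy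
  have eyt : y * t * y⁻¹ = t := by rw [hyt, mul_inv_cancel_right]
  obtain ⟨hiQ, hiU⟩ := h.br_mem hsU hrO hy
  have hs' : Adj M r t t (y * s * y⁻¹) := by
    have := hs.conj hyM
    rwa [eyt] at this
  have hs'U := h.Adj_UU hs'
  set s' := y * s * y⁻¹ with hs'def
  by_cases h1 : s' = s
  · left
    rw [h1, h.UU_sq hsU]
    exact one_mem _
  by_cases h2 : s' = t * s
  · right
    have e : t * (s * s') = 1 := by
      rw [h2, ← mul_assoc s, ← h.UU_comm htU hsU, mul_assoc t, h.UU_sq hsU, mul_one, h.UU_sq htU]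
    rw [e]
    exact one_mem _
  obtain ⟨-, -, -, -, -, c, -, hcU, hct, -, -, hcL, hL, -, -⟩ := hO t s s' (hA t s s' hs hs' h1 h2)
  have hic : s * s' * c ∈ UU M r := mul_mem hiU hcU
  have hNfix : ∀ n ∈ N r, n * (s * s' * c) * n⁻¹ = s * s' * c := by
    intro n hn
    refine h.fix_of h.Adj_swap hL hn ?_
    have e1 : n * (s * s') * n⁻¹ = s * s' := by
      have := (h.mem_Q_iff hrO hiU).1 hiQ n hn
      rw [← this, mul_inv_cancel_right]
    have e2 : n * (s * s' * c) * n⁻¹ * (s * s' * c)⁻¹ = (n * c * n⁻¹) * c⁻¹ := by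
      have hnc : n * c * n⁻¹ ∈ UU M r := UU_conj (h.N_le_M hrO hn) hcU
      calc n * (s * s' * c) * n⁻¹ * (s * s' * c)⁻¹
          = (n * (s * s') * n⁻¹) * ((n * c * n⁻¹) * c⁻¹) * (s * s')⁻¹ := by group
        _ = (s * s') * ((n * c * n⁻¹) * c⁻¹) * (s * s')⁻¹ := by rw [e1]
        _ = _ := by rw [h.UU_comm hiU (mul_mem hnc (inv_mem hcU)), mul_inv_cancel_right]
    rw [e2]
    exact mul_mem (h.K_conj (h.N_comm h.Adj_swap hn) hct) (inv_mem hct)
  have hor : s * s' * c = r ∨ s * s' * c = t * r := by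
    by_contra h3
    push Not at h3
    obtain ⟨-, -, n, hn, hne⟩ := hA t r _ h.Adj_swap hL h3.1 h3.2
    exact hne (hNfix n hn)
  have ei : s * s' = s * s' * c * c := by rw [mul_assoc (s * s'), h.UU_sq hcU, mul_one]
  rcases hor with h3 | h3
  · left
    rw [h3] at hcL
    rw [ei, h3]
    exact mul_mem (h.mem_ZC hrO) hcL
  · right
    rw [h3] at hcL
    have h4 := h.Adj_CV (h.Adj_mul h.Adj_swap) hct hcL
    rw [h.mul_cancel h.t_Om] at h4
    rw [ei, h3, mul_assoc t, h.mul_cancel h.t_Om]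
    exact mul_mem (h.mem_ZC hrO) h4

/-- `Dim 0` is impossible. -/
theorem not_zero [Finite G] (hA : AllOpp M r t N) {s : G} (hs : Adj M r t t s) (hsQ : s ∉ Q r) :
    ∃ y ∈ Q r, y * t = t * y ∧ s * (y * s * y⁻¹) ∉ ZC Q r := by
  by_contra hall
  push Not at hall
  have hrO : r ∈ Om M r := Om_base
  have htO : t ∈ Om M r := h.t_Om
  have hsU := h.Adj_UU hs
  have htU : t ∈ UU M r := Om_le_UU htO
  have hrU : r ∈ UU M r := Om_le_UU hrO
  have hrt : r * t = t * r := h.Adj_comm Adj_base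
  obtain ⟨q, hq, hqt⟩ := h.q12
  have hqM := h.Q_le_M hrO hq
  have hqr : q * r * q⁻¹ = r := by
    have := h.ZC_comm (h.mem_ZC hrO) hq
    rw [← this]; group
  obtain ⟨hiQ, hiU⟩ := h.br_mem hsU hrO hq
  set i := s * (q * s * q⁻¹) with hi
  have hqs : q * s * q⁻¹ = s * i := by rw [hi, ← mul_assoc, h.UU_sq hsU, one_mul]
  -- `i` commutes with `q`
  have hiq : i * q = q * i := by
    have hqi : q * i * q⁻¹ ∈ UU M r := UU_conj hqM hiU
    have e1 : q * q * s * (q * q)⁻¹ = s * (i * (q * i * q⁻¹)) := by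
      calc q * q * s * (q * q)⁻¹ = q * (q * s * q⁻¹) * q⁻¹ := by group
        _ = q * (s * i) * q⁻¹ := by rw [hqs]
        _ = (q * s * q⁻¹) * (q * i * q⁻¹) := by group
        _ = _ := by rw [hqs, mul_assoc]
    have e2 : q * q * s * (q * q)⁻¹ = s := by
      rcases h.Q_sq q hq with h1 | h1
      · rw [h1]; group
      · rw [h1, ← h.r_comm hsU, mul_inv_cancel_right]
    rw [e2] at e1
    have e3 : i * (q * i * q⁻¹) = 1 := (mul_eq_left.mp e1.symm)
    have e4 : q * i * q⁻¹ = i := by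
      have := h.UU_cancel' hiU (q * i * q⁻¹)
      rw [e3, mul_one] at this
      exact this.symm
    calc i * q = (q * i * q⁻¹) * q := by rw [e4]
      _ = q * i := by group
  -- `i` commutes with the `y`
  have hiy : ∀ y ∈ Q r, y * t = t * y → i * y = y * i := by
    intro y hy hyt
    have hk := hall y hy hyt
    set k := s * (y * s * y⁻¹) with hk'
    have hkU : k ∈ UU M r := (h.br_mem hsU hrO hy).2
    have e1 : s * q * s⁻¹ = i * q := by rw [hi, h.UU_inv hsU]; group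
    have e2 : s * y * s⁻¹ = k * y := by rw [hk', h.UU_inv hsU]; group
    have e3 : s * (q * y * q⁻¹ * y⁻¹) * s⁻¹ = q * y * q⁻¹ * y⁻¹ := by
      rcases h.Q_comm q hq y hy with h1 | h1
      · rw [h1]; group
      · rw [h1, h.r_comm hsU, mul_inv_cancel_right]
    have e4 : s * (q * y * q⁻¹ * y⁻¹) * s⁻¹ = (i * q) * (k * y) * (i * q)⁻¹ * (k * y)⁻¹ := by
      rw [← e1, ← e2]; group
    have hkz : ∀ x ∈ Q r, k * x = x * k := fun x hx => h.ZC_comm hk hx
    have e5 : (i * q) * (k * y) * (i * q)⁻¹ * (k * y)⁻¹ = i * (q * y * q⁻¹) * i⁻¹ * y⁻¹ := by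
      have h1 := hkz (i * q) (mul_mem hiQ hq)
      have h2 := hkz (i * (q * y * q⁻¹) * i⁻¹ * y⁻¹) (mul_mem (mul_mem (mul_mem hiQ
        (mul_mem (mul_mem hq hy) (inv_mem hq))) (inv_mem hiQ)) (inv_mem hy))
      calc (i * q) * (k * y) * (i * q)⁻¹ * (k * y)⁻¹ = ((i * q) * k) * y * (i * q)⁻¹ * y⁻¹ * k⁻¹ := by group
        _ = (k * (i * q)) * y * (i * q)⁻¹ * y⁻¹ * k⁻¹ := by rw [h1]
        _ = (k * (i * (q * y * q⁻¹) * i⁻¹ * y⁻¹)) * k⁻¹ := by group
        _ = _ := by rw [h2, mul_inv_cancel_right]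
    rw [e4, e5] at e3
    -- `i (q y q⁻¹) i⁻¹ y⁻¹ = q y q⁻¹ y⁻¹`
    have e6 : i * (q * y * q⁻¹) * i⁻¹ = q * y * q⁻¹ := mul_right_cancel e3
    rcases h.Q_comm q hq y hy with h1 | h1
    · have e7 : q * y * q⁻¹ = y := mul_inv_eq_one.1 h1
      rw [e7] at e6
      exact mul_inv_eq_iff_eq_mul.1 e6
    · have e7 : q * y * q⁻¹ = r * y := mul_inv_eq_iff_eq_mul.1 h1
      rw [e7] at e6
      have e8 : i * (r * y) * i⁻¹ = r * (i * y * i⁻¹) := by
        calc i * (r * y) * i⁻¹ = (i * r) * y * i⁻¹ := by group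
          _ = (r * i) * y * i⁻¹ := by rw [h.r_comm hiU]
          _ = _ := by group
      rw [e8] at e6
      exact mul_inv_eq_iff_eq_mul.1 (mul_left_cancel e6)
  have hiZ : i ∈ ZC Q r := by
    rw [mem_centralizer_iff]
    intro x hx
    rcases h.Q_comm x hx t h.t_mem with h1 | h1
    · have h2 : x * t = t * x := by
        have := mul_inv_eq_one.1 h1
        exact mul_inv_eq_iff_eq_mul.1 this
      exact (hiy x hx h2).symm
    · have h2 : x * t * x⁻¹ = r * t := mul_inv_eq_iff_eq_mul.1 h1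
      have h3 : (q⁻¹ * x) * t = t * (q⁻¹ * x) := by
        have h4 : q⁻¹ * (r * t) * q = t := by rw [← hqt]; group
        calc (q⁻¹ * x) * t = q⁻¹ * (x * t * x⁻¹) * x := by group
          _ = q⁻¹ * (r * t) * q * (q⁻¹ * x) := by rw [h2]; group
          _ = _ := by rw [h4]
      have h5 := hiy _ (mul_mem (inv_mem hq) hx) h3
      calc x * i = q * ((q⁻¹ * x) * i) := by group
        _ = q * (i * (q⁻¹ * x)) := by rw [h5]
        _ = (q * i) * q⁻¹ * x := by group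
        _ = (i * q) * q⁻¹ * x := by rw [hiq]
        _ = i * x := by group
  -- `g ∈ Q (r t)` swapping `r` and `t`
  have hart : Adj M r t (r * t) r := h.Adj_symm h.Adj_mul_base
  obtain ⟨g, hg, hgr⟩ := h.Adj_q hart
  have hrtO : r * t ∈ Om M r := hart.left
  have hgM := h.Q_le_M hrtO hg
  have hgr' : g * r * g⁻¹ = t := by
    rw [hgr, hrt, mul_assoc, h.r_sq, mul_one]
  have hgrt : g * (r * t) * g⁻¹ = r * t := by
    have := h.ZC_comm (h.mem_ZC hrtO) hg
    rw [← this]; group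
  have hgt : g * t * g⁻¹ = r := by
    have e1 : g * t * g⁻¹ = (g * r * g⁻¹)⁻¹ * (g * (r * t) * g⁻¹) := by group
    rw [e1, hgr', hgrt, h.UU_inv htU, hrt, h.mul_cancel htO]
  have harx : Adj M r t r (g * s * g⁻¹) := by
    have := hs.conj hgM
    rwa [hgt] at this
  set x := g * s * g⁻¹ with hx
  have hxU := h.Adj_UU harx
  have h1 : s * x ∈ Q (r * t) := (h.br_mem hsU hrtO hg).1
  have h2 : q * s * q⁻¹ ∈ Q (r * t) := by
    have := hs.conj hqM
    rw [hqt] at this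
    exact h.Adj_mem this
  have h3 : i * x ∈ Q (r * t) := by
    have e : i * x = (q * s * q⁻¹) * (s * x) := by
      rw [hi, h.UU_comm hsU (UU_conj hqM hsU), mul_assoc]
    rw [e]
    exact mul_mem h2 h1
  have hNx : ∀ n ∈ N (r * t), n * x * n⁻¹ = x := by
    intro n hn
    refine h.fix_of h.Adj_mul_base harx hn ?_
    have h4 := (h.mem_Q_iff hrtO (mul_mem hiU hxU)).1 h3 n hn
    have h5 : n * (i * x) * n⁻¹ = i * x := by rw [← h4, mul_inv_cancel_right]
    have h6 : n * x * n⁻¹ * x⁻¹ = (n * i * n⁻¹)⁻¹ * i := by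
      calc n * x * n⁻¹ * x⁻¹ = (n * i * n⁻¹)⁻¹ * (n * (i * x) * n⁻¹) * x⁻¹ := by group
        _ = (n * i * n⁻¹)⁻¹ * (i * x) * x⁻¹ := by rw [h5]
        _ = _ := by group
    rw [h6]
    exact mul_mem (inv_mem (h.K_conj (h.N_comm h.Adj_mul_base hn) hiZ)) hiZ
  have hor : x = r * t ∨ x = r * (r * t) := by
    by_contra h4
    push Not at h4
    obtain ⟨-, -, n, hn, hne⟩ := hA r (r * t) x h.Adj_mul_base harx h4.1 h4.2
    exact hne (hNx n hn)
  have hs1 : ∀ z, x = g * z * g⁻¹ → s = z := by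
    intro z hz
    have h4 : g * s * g⁻¹ = g * z * g⁻¹ := hz
    exact (MulAut.conj g).injective h4
  rcases hor with h4 | h4
  · apply hsQ
    rw [hs1 (r * t) (by rw [h4, hgrt])]
    exact mul_mem h.r_mem h.t_mem
  · apply hsQ
    rw [h.mul_cancel hrO] at h4
    rw [hs1 r (by rw [h4, hgr'])]
    exact h.r_mem

/-- **(11) at the base point**, from `[s, N x] ≤ Q r` (`x ~ r`). -/
theorem eleven_base [Finite G] (hO : JOpp M r t Q N) (hA : AllOpp M r t N) {s : G} (hs : Adj M r t t s)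
    (hsQ : s ∉ Q r) (path : ∀ x, Adj M r t r x → ∀ m ∈ N x, s * (m * s * m⁻¹) ∈ Q r) {b c : G}
    (hb : Opp M r t N r t b) (hc : Adj M r t r c) :
    c = t ∨ c = r * t ∨ c = b ∨ c = r * b ∨ t * b * c ∈ ZC Q r := by
  have hrO : r ∈ Om M r := Om_base
  have htO : t ∈ Om M r := h.t_Om
  have hsU := h.Adj_UU hs
  have htU : t ∈ UU M r := Om_le_UU htO
  have hrU : r ∈ UU M r := Om_le_UU hrO
  have hrZ := h.mem_ZC hrO
  obtain ⟨q, hq, hqt⟩ := h.q12
  obtain ⟨hiQ, hiU⟩ := h.br_mem hsU hrO hq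
  set i := s * (q * s * q⁻¹) with hi
  obtain ⟨y, hy, hyt, hyn⟩ := h.not_zero hA hs hsQ
  have hyt' := (h.comm_mem hO hA hs hy hyt).resolve_left hyn
  obtain ⟨hkQ, hkU⟩ := h.br_mem hsU hrO hy
  set k := s * (y * s * y⁻¹) with hk
  -- the four cosets
  have four : ∀ x ∈ Q r, s * (x * s * x⁻¹) ∈ ZC Q r ∨ t * (s * (x * s * x⁻¹)) ∈ ZC Q r ∨
      i * (s * (x * s * x⁻¹)) ∈ ZC Q r ∨ t * i * (s * (x * s * x⁻¹)) ∈ ZC Q r := by
    intro x hx
    rcases h.Q_comm x hx t h.t_mem with h1 | h1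
    · have h2 : x * t = t * x := mul_inv_eq_iff_eq_mul.1 (mul_inv_eq_one.1 h1)
      rcases h.comm_mem hO hA hs hx h2 with h3 | h3
      · exact Or.inl h3
      · exact Or.inr (Or.inl h3)
    · have h2 : x * t * x⁻¹ = r * t := mul_inv_eq_iff_eq_mul.1 h1
      have h3 : (q⁻¹ * x) * t = t * (q⁻¹ * x) := by
        have h4 : q⁻¹ * (r * t) * q = t := by rw [← hqt]; group
        calc (q⁻¹ * x) * t = q⁻¹ * (x * t * x⁻¹) * x := by group
          _ = q⁻¹ * (r * t) * q * (q⁻¹ * x) := by rw [h2]; group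
          _ = _ := by rw [h4]
      have hyQ : q⁻¹ * x ∈ Q r := mul_mem (inv_mem hq) hx
      have hl := h.comm_mem hO hA hs hyQ h3
      have hlU := (h.br_mem hsU hrO hyQ).2
      set l := s * (q⁻¹ * x * s * (q⁻¹ * x)⁻¹) with hl'
      have hm := h.br_mul hsU hq hyQ
      have e0 : q * (q⁻¹ * x) = x := by group
      rw [e0, ← hi, ← hl'] at hm
      -- `[x] = i l` up to `r`
      have h5 : i * (s * (x * s * x⁻¹)) * l ∈ ZC Q r := by
        rcases hm with hm | hm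
        · have e : i * (s * (x * s * x⁻¹)) * l = 1 := by
            rw [hm, h.UU_cancel' hiU, h.UU_sq hlU]
          rw [e]
          exact one_mem _
        · have e : i * (s * (x * s * x⁻¹)) * l = r := by
            rw [hm]
            calc i * (i * l * r) * l = i * (i * (l * (r * l))) := by group
              _ = l * (r * l) := h.UU_cancel' hiU _
              _ = l * (l * r) := by rw [← h.r_comm hlU]
              _ = r := h.UU_cancel' hlU _
          rw [e]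
          exact hrZ
      have hxU := (h.br_mem hsU hrO hx).2
      rcases hl with h6 | h6
      · right; right; left
        exact (mul_mem_cancel_right h6).1 h5
      · right; right; right
        have e : t * i * (s * (x * s * x⁻¹)) = (i * (s * (x * s * x⁻¹)) * l) * (t * l) := by
          have e1 : (i * (s * (x * s * x⁻¹)) * l) * (t * l) = (i * (s * (x * s * x⁻¹))) * (l * (t * l)) := by group
          rw [e1, h.UU_comm htU hlU, h.UU_cancel' hlU, h.UU_comm (mul_mem hiU hxU) htU, mul_assoc t]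
        rw [e]
        exact mul_mem h5 h6
  -- the other lines
  have E : ∀ b, Adj M r t r b → b ≠ t → b ≠ r * t → b * i ∈ ZC Q r ∨ b * t * i ∈ ZC Q r := by
    intro b hb h1 h2
    have hbU := h.Adj_UU hb
    have hne : t ≠ r * b := by
      intro e
      apply h2
      rw [e, h.mul_cancel hrO]
    have ho : Opp M r t N r b t := hA r b t hb Adj_base (Ne.symm h1) hne
    obtain ⟨-, -, -, -, -, d, -, hdU, hdr, -, -, -, -, hmv, -⟩ := hO r b t ho
    obtain ⟨-, -, m, hm, hmt⟩ := ho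
    have hmt' : m * t * m⁻¹ = b * t * d := (hmv m hm).resolve_left hmt
    have hmr : m * r = r * m := h.N_comm hb hm
    have hmM := h.N_le_M (h.Adj_right hb) hm
    have hy' : m * y * m⁻¹ ∈ Q r := (h.Q_fix hmr).2 hy
    set y' := m * y * m⁻¹ with hy'def
    have haQ := path b hb m hm
    have haU : s * (m * s * m⁻¹) ∈ UU M r := mul_mem hsU (UU_conj hmM hsU)
    set a := s * (m * s * m⁻¹) with ha
    have ems : m * s * m⁻¹ = s * a := by rw [ha, ← mul_assoc, h.UU_sq hsU, one_mul]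
    obtain ⟨hkQ', hkU'⟩ := h.br_mem hsU hrO hy'
    set k' := s * (y' * s * y'⁻¹) with hk'
    -- conjugate `t k ∈ ZC`
    have h3 : m * (t * k) * m⁻¹ ∈ ZC Q r := h.K_conj hmr hyt'
    have h4 : m * (t * k) * m⁻¹ = (b * t * d) * (s * a * (y' * (s * a) * y'⁻¹)) := by
      have e1 : m * k * m⁻¹ = (m * s * m⁻¹) * (y' * (m * s * m⁻¹) * y'⁻¹) := by
        rw [hk, hy'def]; group
      calc m * (t * k) * m⁻¹ = (m * t * m⁻¹) * (m * k * m⁻¹) := by group
        _ = _ := by rw [hmt', e1, ems]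
    have h5 : s * a * (y' * (s * a) * y'⁻¹) = k' * (a * (y' * a * y'⁻¹)) := by
      have hcU : y' * s * y'⁻¹ ∈ UU M r := UU_conj (h.Q_le_M hrO hy') hsU
      calc s * a * (y' * (s * a) * y'⁻¹) = s * (a * (y' * s * y'⁻¹)) * (y' * a * y'⁻¹) := by group
        _ = s * ((y' * s * y'⁻¹) * a) * (y' * a * y'⁻¹) := by rw [h.UU_comm haU hcU]
        _ = _ := by rw [hk']; group
    have h6 : a * (y' * a * y'⁻¹) ∈ ZC Q r := by
      rcases h.Q_comm y' hy' a haQ with h7 | h7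
      · rw [mul_inv_eq_one.1 h7, h.UU_sq haU]
        exact one_mem _
      · rw [mul_inv_eq_iff_eq_mul.1 h7, ← mul_assoc, h.r_comm haU, mul_assoc, h.UU_sq haU, mul_one]
        exact hrZ
    have h7 : b * t * k' ∈ ZC Q r := by
      rw [h4, h5] at h3
      have e1 : (b * t * d) * (k' * (a * (y' * a * y'⁻¹))) = (b * t * k') * d * (a * (y' * a * y'⁻¹)) := by
        calc (b * t * d) * (k' * (a * (y' * a * y'⁻¹))) = b * t * (d * k') * (a * (y' * a * y'⁻¹)) := by group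
          _ = b * t * (k' * d) * (a * (y' * a * y'⁻¹)) := by rw [h.UU_comm hdU hkU']
          _ = _ := by group
      rw [e1] at h3
      exact (mul_mem_cancel_right hdr).1 ((mul_mem_cancel_right h6).1 h3)
    have hbtU : b * t ∈ UU M r := mul_mem hbU htU
    rcases four y' hy' with h8 | h8 | h8 | h8
    · exfalso
      have h9 : b * t ∈ ZC Q r := (mul_mem_cancel_right h8).1 h7
      rw [h.UU_comm hbU htU] at h9
      rcases h.noPar_at Adj_base hb h9 with h10 | h10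
      · exact h1 h10
      · exact h2 h10
    · exfalso
      have h9 : b * t * t ∈ ZC Q r := h.mul_of_mul hbtU htU hkU' h7 h8
      rw [mul_assoc, h.UU_sq htU, mul_one] at h9
      exact h.Adj_not_mem hb h9
    · exact Or.inr (h.mul_of_mul hbtU hiU hkU' h7 h8)
    · left
      have h9 := h.mul_of_mul hbtU (mul_mem htU hiU) hkU' h7 h8
      have e : b * t * (t * i) = b * i := by rw [mul_assoc, h.UU_cancel' htU]
      rwa [e] at h9
  obtain ⟨-, -, -, hbt, hbrt, -⟩ := hO r t b hb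
  have hbA := hb.2.1
  have hbU := h.Adj_UU hbA
  have hcU := h.Adj_UU hc
  by_cases h1 : c = t
  · exact Or.inl h1
  by_cases h2 : c = r * t
  · exact Or.inr (Or.inl h2)
  right; right
  have htbU : ∀ x ∈ UU M r, ∀ y ∈ UU M r, x * i ∈ ZC Q r → y * i ∈ ZC Q r → x * y ∈ ZC Q r :=
    fun x hx y hy => h.mul_of_mul hx hy hiU
  have fin1 : b * c ∈ ZC Q r → c = b ∨ c = r * b ∨ t * b * c ∈ ZC Q r := by
    intro h3
    rcases h.noPar_at hbA hc h3 with h4 | h4
    · exact Or.inl h4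
    · exact Or.inr (Or.inl h4)
  have fin2 : b * t * c ∈ ZC Q r → c = b ∨ c = r * b ∨ t * b * c ∈ ZC Q r := by
    intro h3
    rw [h.UU_comm hbU htU] at h3
    exact Or.inr (Or.inr h3)
  rcases E b hbA hbt hbrt with h3 | h3 <;> rcases E c hc h1 h2 with h4 | h4
  · exact fin1 (htbU b hbU c hcU h3 h4)
  · apply fin2
    have h5 := htbU b hbU (c * t) (mul_mem hcU htU) h3 h4
    have e : b * (c * t) = b * t * c := by rw [h.UU_comm hcU htU, mul_assoc]
    rwa [e] at h5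
  · exact fin2 (htbU (b * t) (mul_mem hbU htU) c hcU h3 h4)
  · apply fin1
    have h5 := htbU (b * t) (mul_mem hbU htU) (c * t) (mul_mem hcU htU) h3 h4
    have e : b * t * (c * t) = b * c := by
      rw [h.UU_comm hcU htU, mul_assoc, h.UU_cancel' htU]
    rwa [e] at h5

/-- transport of (11) to all points -/
theorem jEleven_of_base (hbase : AllOpp M r t N → ∀ b c, Opp M r t N r t b → Adj M r t r c →
    c = t ∨ c = r * t ∨ c = b ∨ c = r * b ∨ t * b * c ∈ ZC Q r) : JEleven M r t Q N := by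
  intro hA s a b c hb hc
  obtain ⟨m, hm, rfl, rfl⟩ := hb.1
  have hb' := h.opp_conj (M.inv_mem hm) hb
  have hc' := hc.conj (M.inv_mem hm)
  have e : ∀ z : G, m⁻¹ * (m * z * m⁻¹) * m⁻¹⁻¹ = z := fun z => by group
  rw [e, e] at hb'
  rw [e] at hc'
  have ec : ∀ z : G, m⁻¹ * c * m⁻¹⁻¹ = z → c = m * z * m⁻¹ := by
    rintro z rfl
    group
  rcases hbase hA _ _ hb' hc' with h1 | h1 | h1 | h1 | h1
  · exact Or.inl (ec _ h1)
  · right; left
    rw [ec _ h1]
    group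
  · right; right; left
    rw [ec _ h1]
    group
  · right; right; right; left
    rw [ec _ h1]
    group
  · right; right; right; right
    have h2 := (h.ZC_conj (g := m)).2 h1
    have e2 : m * (t * (m⁻¹ * b * m⁻¹⁻¹) * (m⁻¹ * c * m⁻¹⁻¹)) * m⁻¹ = m * t * m⁻¹ * b * c := by group
    rwa [e2] at h2

end TvH

end Cfsg.Agent.Omega.HOne.TvDef

end

section


/-!
# II.0h1, `q = 2`, case (β): (11) of #15959 with a variable `c` (helper865)

All pairs of lines are opposite.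

* `factF`  : FACT F (helper916);
* `star`   : `g ∈ N r` moves `s` iff it moves `s ^ m`, `m ∈ N x`, `x ~ r`;
* `exists_sfix` : a point `s₀ ~ t` with `C_{N r}(s₀)` invariant under `S` and `c(t; r, s₀)` fixed by `S`;
* `jEleven`: JOINT (11) from `TvH`, `TvS` and `Q r ≤ S`.
-/

set_option autoImplicit false
set_option linter.unusedSectionVars false

namespace Cfsg.Agent.Omega.HOne.TvDef

open Subgroup

variable {G : Type*} [Group G] {M S : Subgroup G} {r t : G} {Q N : G → Subgroup G}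

namespace TvH

variable (h : TvH M r t Q N)
include h

theorem comm_of_conj {g x : G} (hx : g * x * g⁻¹ = x) : g * x = x * g := mul_inv_eq_iff_eq_mul.1 hx

/-- **FACT F.** -/
theorem factF (hO : JOpp M r t Q N) (hA : AllOpp M r t N) {x y b : G} (hx : Adj M r t r x) (hy : Adj M r t r y)
    (hb : b ∈ ZC Q r) (hby : b ∈ ZC Q y) : r * b ∉ ZC Q x := by
  intro hrb
  have hnb : b ∉ ZC Q x := fun h1 => h.not_both hx ((mul_mem_cancel_right h1).1 hrb)
  by_cases h1 : y = x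
  · exact hnb (h1 ▸ hby)
  by_cases h2 : y = r * x
  · apply hnb
    have h3 := h.Adj_CV hy hb hby
    rwa [h2, h.mul_cancel hx.left] at h3
  have ho := hA r x y hx hy h1 h2
  obtain ⟨hsymm, -, -, -, -, d, -, -, -, -, -, -, -, hmx, hmy⟩ := hO r x y ho
  obtain ⟨-, -, n, hn, hne⟩ := ho
  obtain ⟨-, -, m, hm, hme⟩ := hsymm
  have e1 := (hmx n hn).resolve_left hne
  have e2 := (hmy m hm).resolve_left hme
  have hxO := h.Adj_right hx
  have hyO := h.Adj_right hy
  -- `n` commutes with `b`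
  have h3 : n * (r * b) * n⁻¹ = r * b := h.N_ZC hxO hn hrb
  have h4 : n * r * n⁻¹ = r := h.N_fix_s hx hn
  have h5 : n * b * n⁻¹ = b := by
    have e : n * b * n⁻¹ = (n * r * n⁻¹)⁻¹ * (n * (r * b) * n⁻¹) := by group
    rw [e, h3, h4, inv_mul_cancel_left]
  have h6 : b ∈ ZC Q (x * y * d) := by
    have := (h.ZC_conj (g := n)).2 hby
    rwa [h5, e1] at this
  have h7 : m * b * m⁻¹ = b := h.N_ZC hyO hm hby
  apply hnb
  rw [← e2] at h6
  rw [← h7] at h6
  exact h.ZC_conj.1 h6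

/-- **STAR.** -/
theorem star (hO : JOpp M r t Q N) (hA : AllOpp M r t N) {s c : G} (hs : Adj M r t t s)
    (hcr : c ∈ ZC Q r) (hct : c ∈ ZC Q t) (hcU : c ∈ UU M r)
    (hmv : ∀ n ∈ N r, n * s * n⁻¹ = s ∨ n * s * n⁻¹ = r * s * c) {x m g : G} (hx : Adj M r t r x) (hm : m ∈ N x)
    (hg : g ∈ N r) : g * s = s * g ↔ g * (m * s * m⁻¹) = (m * s * m⁻¹) * g := by
  have hrO : r ∈ Om M r := Om_base
  have hxO := h.Adj_right hx
  have hsU := h.Adj_UU hs
  have hrU : r ∈ UU M r := Om_le_UU hrO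
  have hxU := h.Adj_UU hx
  have hmM := h.N_le_M hxO hm
  have hmr : m * r = r * m := h.N_comm hx hm
  have hgx : g * x = x * g := h.N_comm (h.Adj_symm hx) hg
  set s' := m * s * m⁻¹ with hs'
  have hs'U : s' ∈ UU M r := UU_conj hmM hsU
  have hc'U : m * c * m⁻¹ ∈ UU M r := UU_conj hmM hcU
  have hc'r : m * c * m⁻¹ ∈ ZC Q r := h.K_conj hmr hcr
  have hc't : m * c * m⁻¹ ∈ ZC Q (m * t * m⁻¹) := h.ZC_conj.2 hct
  set c' := m * c * m⁻¹ with hc'
  have ht' : Adj M r t r (m * t * m⁻¹) := h.Adj_N hx Adj_base hm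
  have hmv' : g * s' * g⁻¹ = s' ∨ g * s' * g⁻¹ = r * s' * c' := by
    have h1 : m⁻¹ * g * m ∈ N r := by
      have := (h.N_fix (g := m⁻¹) (x := g) (h.inv_comm hmr)).2 hg
      rwa [inv_inv] at this
    have e : g * s' * g⁻¹ = m * ((m⁻¹ * g * m) * s * (m⁻¹ * g * m)⁻¹) * m⁻¹ := by rw [hs']; group
    rcases hmv _ h1 with h2 | h2
    · left
      rw [e, h2]
    · right
      rw [e, h2]
      calc m * (r * s * c) * m⁻¹ = (m * r) * s * c * m⁻¹ := by group
        _ = (r * m) * s * c * m⁻¹ := by rw [hmr]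
        _ = _ := by rw [hs', hc']; group
  -- `w = s s' ∈ ZC x`
  have hsx : s * x = x * s := h.UU_comm hsU hxU
  have hw : s * s' ∈ ZC Q x := by
    have e : s * s' = (s * m * s⁻¹) * m⁻¹ := by rw [hs', h.UU_inv hsU]; group
    rw [e]
    exact mul_mem ((h.ZC_fix hsx).2 (h.N_le_ZC hxO hm)) (inv_mem (h.N_le_ZC hxO hm))
  have hgw : g * (s * s') * g⁻¹ ∈ ZC Q x := h.K_conj hgx hw
  have key : (g * (s * s') * g⁻¹) * (s * s') ∈ ZC Q x := mul_mem hgw hw
  have e0 : g * (s * s') * g⁻¹ = (g * s * g⁻¹) * (g * s' * g⁻¹) := by group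
  constructor
  · intro h1
    rcases hmv' with h2 | h2
    · exact h.comm_of_conj h2
    · exfalso
      have h3 : g * s * g⁻¹ = s := by rw [h1, mul_inv_cancel_right]
      have e : (g * (s * s') * g⁻¹) * (s * s') = r * c' := by
        rw [e0, h2, h3]
        calc s * (r * s' * c') * (s * s') = (s * r) * (s' * (c' * s)) * s' := by group
          _ = (r * s) * (s' * (s * c')) * s' := by rw [h.r_comm hsU, h.UU_comm hc'U hsU]
          _ = r * (s * s' * s) * (c' * s') := by group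
          _ = r * s' * (s' * c') := by
              rw [h.UU_cancel hsU hs'U, h.UU_comm hc'U hs'U]
          _ = r * (s' * (s' * c')) := by group
          _ = r * c' := by rw [h.UU_cancel' hs'U]
      rw [e] at key
      exact h.factF hO hA hx ht' hc'r hc't key
  · intro h1
    rcases hmv g hg with h2 | h2
    · exact h.comm_of_conj h2
    · exfalso
      have h3 : g * s' * g⁻¹ = s' := by rw [h1, mul_inv_cancel_right]
      have e : (g * (s * s') * g⁻¹) * (s * s') = r * c := by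
        rw [e0, h2, h3]
        calc r * s * c * s' * (s * s') = r * (s * (c * (s' * s * s'))) := by group
          _ = r * (s * (c * s)) := by rw [h.UU_cancel hs'U hsU]
          _ = r * (s * c * s) := by group
          _ = r * c := by rw [h.UU_cancel hsU hcU]
      rw [e] at key
      exact h.factF hO hA hx Adj_base hcr hct key

/-- **The `S`-fixed functional.** -/
theorem exists_sfix [Finite G] (hS : TvS M S r t N) (hQS : Q r ≤ S) (hO : JOpp M r t Q N) (hN : JNon M r t N)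
    (hA : AllOpp M r t N) :
    ∃ s c : G, Adj M r t t s ∧ s ∉ Q r ∧ c ∈ UU M r ∧ c ∈ ZC Q r ∧ c ∈ ZC Q t ∧
      (∀ n ∈ N r, n * s * n⁻¹ = s ∨ n * s * n⁻¹ = r * s * c) ∧ (∀ u ∈ S, u * c = c * u) ∧
      ∀ u ∈ S, ∀ g ∈ N r, g * s = s * g → (u * g * u⁻¹) * s = s * (u * g * u⁻¹) := by
  have hrO : r ∈ Om M r := Om_base
  have htO : t ∈ Om M r := h.t_Om
  have hrU : r ∈ UU M r := Om_le_UU hrO
  have htU : t ∈ UU M r := Om_le_UU htO
  have hUfix : ∀ {u x : G}, u ∈ M → x ∈ UU M r → u * x * u⁻¹ ∈ UU M r := fun hu hx => UU_conj hu hx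
  -- `W₀`
  let A : Subgroup G :=
    { carrier := {u | u ∈ UU M r ∧ (u ∈ ZC Q t ∨ r * u ∈ ZC Q t)}
      one_mem' := ⟨one_mem _, Or.inl (one_mem _)⟩
      mul_mem' := by
        rintro x y ⟨hx, hx'⟩ ⟨hy, hy'⟩
        refine ⟨mul_mem hx hy, ?_⟩
        have e1 : r * (x * y) = x * (r * y) := by rw [← mul_assoc, ← h.r_comm hx, mul_assoc]
        rcases hx' with h1 | h1 <;> rcases hy' with h2 | h2
        · exact Or.inl (mul_mem h1 h2)
        · right
          rw [e1]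
          exact mul_mem h1 h2
        · right
          rw [← mul_assoc]
          exact mul_mem h1 h2
        · left
          have e2 : x * y = (r * x) * (r * y) := by
            rw [mul_assoc r, ← e1, h.mul_cancel hrO]
          rw [e2]
          exact mul_mem h1 h2
      inv_mem' := by
        rintro x ⟨hx, hx'⟩
        rw [h.UU_inv hx]
        exact ⟨hx, hx'⟩ }
  have hAmem : ∀ u, u ∈ A ↔ u ∈ UU M r ∧ (u ∈ ZC Q t ∨ r * u ∈ ZC Q t) := fun u => Iff.rfl
  let S₁ : Subgroup G := S ⊓ centralizer {t}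
  have hS₁ : ∀ u, u ∈ S₁ → u ∈ S ∧ u * t = t * u := fun u hu => ⟨hu.1, mem_centralizer_singleton_iff.1 hu.2⟩
  have hS₁r : ∀ u, u ∈ S₁ → u * r = r * u := fun u hu => hS.S_r u hu.1
  have hAS : ∀ x ∈ S₁, ∀ b ∈ A, x * b * x⁻¹ ∈ A := by
    intro x hx b hb
    obtain ⟨hxS, hxt⟩ := hS₁ x hx
    refine ⟨hUfix (hS.S_le hxS) hb.1, ?_⟩
    rcases hb.2 with h1 | h1
    · exact Or.inl (h.K_conj hxt h1)
    · right
      have e : r * (x * b * x⁻¹) = x * (r * b) * x⁻¹ := by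
        calc r * (x * b * x⁻¹) = (r * x) * b * x⁻¹ := by group
          _ = (x * r) * b * x⁻¹ := by rw [hS₁r x hx]
          _ = _ := by group
      rw [e]
      exact h.K_conj hxt h1
  have hWS : ∀ x ∈ S₁, ∀ b ∈ h.WW hO hN t htO, x * b * x⁻¹ ∈ h.WW hO hN t htO := by
    intro x hx b hb
    obtain ⟨hxS, hxt⟩ := hS₁ x hx
    have hxM := hS.S_le hxS
    refine ⟨hUfix hxM hb.1, ?_⟩
    rcases hb.2 with h1 | ⟨a, ha, h1⟩
    · exact Or.inl (h.K_conj hxt h1)
    · right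
      refine ⟨x * a * x⁻¹, ?_, ?_⟩
      · have := ha.conj hxM
        rwa [hxt, mul_inv_cancel_right] at this
      · have e : x * a * x⁻¹ * (x * b * x⁻¹) = x * (a * b) * x⁻¹ := by group
        rw [e]
        exact h.K_conj hxt h1
  have hW2 : IsPGroup 2 (h.WW hO hN t htO) := by
    intro g
    refine ⟨1, Subtype.ext ?_⟩
    have : (g : G) * g = 1 := h.UU_sq g.2.1
    simpa [pow_two] using this
  have hne : ¬ h.WW hO hN t htO ≤ A := by
    intro hle
    obtain ⟨b, hb⟩ := h.exists_opp hN h.Adj_swap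
    obtain ⟨-, -, -, h1, h2, -⟩ := hO t r b hb
    have hbA : b ∈ A := hle ⟨h.Adj_UU hb.2.1, Or.inr ⟨b, hb.2.1, by
      rw [h.UU_sq (h.Adj_UU hb.2.1)]
      exact one_mem _⟩⟩
    rcases hbA.2 with h3 | h3
    · exact h.Adj_not_mem hb.2.1 h3
    · rcases h.noPar_at h.Adj_swap hb.2.1 h3 with h4 | h4
      · exact h1 h4
      · exact h2 h4
  obtain ⟨m, hmW, hmA, hmS⟩ := TvThirteen.exists_fixed_mod (S := S₁) (B := h.WW hO hN t htO) (A := A)
    (hS.S_p.to_le inf_le_left) hW2 hWS hAS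
    (by
      intro x hx b hb
      rw [h.UU_comm hx.1 hb.1, mul_inv_cancel_right]
      exact hb)
    hne
  obtain ⟨s, hs, hsm⟩ : ∃ s, Adj M r t t s ∧ s * m ∈ ZC Q t := by
    rcases hmW.2 with h1 | h1
    · exact absurd ⟨hmW.1, Or.inl h1⟩ hmA
    · exact h1
  have hsU := h.Adj_UU hs
  have hmU := hmW.1
  have hsmA : s * m ∈ A := ⟨mul_mem hsU hmU, Or.inl hsm⟩
  have hsA : s ∉ A := fun h1 => hmA ((mul_mem_cancel_left h1).1 hsmA)
  have hsr : s ≠ r := fun e => hsA (e ▸ ⟨hrU, Or.inr (by rw [h.r_sq]; exact one_mem _)⟩)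
  have hstr : s ≠ t * r := fun e => hsA (e ▸ ⟨mul_mem htU hrU, Or.inr (by
    rw [h.UU_comm htU hrU, h.mul_cancel hrO]
    exact h.mem_ZC htO)⟩)
  have ho : Opp M r t N t r s := hA t r s h.Adj_swap hs hsr hstr
  have hsQ : s ∉ Q r := by
    intro h1
    obtain ⟨-, -, n, hn, hne⟩ := ho
    apply hne
    rw [← (h.mem_Q_iff hrO hsU).1 h1 n hn, mul_inv_cancel_right]
  obtain ⟨-, -, -, -, -, c, -, hcU, hct, hcr, -, -, hL, hmv, -⟩ := hO t r s ho
  -- the conjugates of `s` under `S₁`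
  have hz : ∀ u ∈ S₁, ∃ z ∈ UU M r, z ∈ Q r ∧ u * s * u⁻¹ = z * s := by
    intro u hu
    obtain ⟨huS, hut⟩ := hS₁ u hu
    have huM := hS.S_le huS
    have hs1 : Adj M r t t (u * s * u⁻¹) := by
      have := hs.conj huM
      rwa [hut, mul_inv_cancel_right] at this
    have hs1U := h.Adj_UU hs1
    have hk : u * s * u⁻¹ * s ∈ A := by
      have e : u * s * u⁻¹ * s = (u * (s * m) * u⁻¹) * (u * m * u⁻¹ * m⁻¹)⁻¹ * (s * m) := by
        have e1 : (u * (s * m) * u⁻¹) * (u * m * u⁻¹ * m⁻¹)⁻¹ = u * s * u⁻¹ * m * 1 := by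
          have e2 := h.UU_comm hmU (hUfix huM (inv_mem hmU))
          calc (u * (s * m) * u⁻¹) * (u * m * u⁻¹ * m⁻¹)⁻¹
              = (u * s * u⁻¹) * (u * m * u⁻¹) * (m * (u * m⁻¹ * u⁻¹)) := by group
            _ = (u * s * u⁻¹) * (u * m * u⁻¹) * ((u * m⁻¹ * u⁻¹) * m) := by rw [e2]
            _ = _ := by group
        rw [e1, mul_one, mul_assoc (u * s * u⁻¹), h.UU_comm hsU hmU, h.UU_cancel' hmU]
      rw [e]
      exact mul_mem (mul_mem (hAS u hu _ hsmA) (inv_mem (hmS u hu))) hsmA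
    rcases hk.2 with h1 | h1
    · rcases h.noPar_at hs1 hs h1 with h2 | h2
      · exact ⟨1, one_mem _, one_mem _, by rw [one_mul, ← h2]⟩
      · refine ⟨t, htU, h.t_mem, ?_⟩
        conv_rhs => rw [h2]
        rw [h.mul_cancel htO]
    · have h3 : (u * s * u⁻¹) * (r * s * c) ∈ ZC Q t := by
        have e : (u * s * u⁻¹) * (r * s * c) = (r * (u * s * u⁻¹ * s)) * c := by
          calc (u * s * u⁻¹) * (r * s * c) = ((u * s * u⁻¹) * r) * (s * c) := by group
            _ = (r * (u * s * u⁻¹)) * (s * c) := by rw [h.r_comm hs1U]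
            _ = _ := by group
        rw [e]
        exact mul_mem h1 hct
      have hrcU : r * c ∈ UU M r := mul_mem hrU hcU
      have hrcQ : r * c ∈ Q r := mul_mem h.r_mem (h.ZC_le_Q hrO hcr)
      have e4 : r * s * c = r * c * s := by rw [mul_assoc, h.UU_comm hsU hcU, mul_assoc]
      rcases h.noPar_at hs1 hL h3 with h4 | h4
      · exact ⟨r * c, hrcU, hrcQ, by rw [← h4, e4]⟩
      · refine ⟨t * (r * c), mul_mem htU hrcU, mul_mem h.t_mem hrcQ, ?_⟩
        have h5 : t * (r * s * c) = u * s * u⁻¹ := by rw [h4, h.mul_cancel htO]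
        rw [← h5, e4, mul_assoc t]
  -- `N r` commutes with the `z`
  have hNz : ∀ z ∈ UU M r, z ∈ Q r → ∀ g ∈ N r, g * z = z * g := fun z hz hzQ g hg =>
    ((h.mem_Q_iff hrO hz).1 hzQ g hg).symm
  have hinv₁ : ∀ u ∈ S₁, ∀ g ∈ N r, g * s = s * g → (u * g * u⁻¹) * s = s * (u * g * u⁻¹) := by
    intro u hu g hg hgs
    obtain ⟨z, hzU, hzQ, e⟩ := hz u⁻¹ (inv_mem hu)
    have h1 : g * (u⁻¹ * s * u⁻¹⁻¹) = (u⁻¹ * s * u⁻¹⁻¹) * g := by
      rw [e, ← mul_assoc, hNz z hzU hzQ g hg, mul_assoc, hgs, mul_assoc]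
    calc (u * g * u⁻¹) * s = u * (g * (u⁻¹ * s * u⁻¹⁻¹)) * u⁻¹ := by group
      _ = u * ((u⁻¹ * s * u⁻¹⁻¹) * g) * u⁻¹ := by rw [h1]
      _ = _ := by group
  have hcS₁ : ∀ u ∈ S₁, u * c = c * u := by
    intro u hu
    obtain ⟨z, hzU, hzQ, e⟩ := hz u hu
    obtain ⟨-, -, n, hn, hne⟩ := ho
    have hn' := (hmv n hn).resolve_left hne
    have huM := hS.S_le hu.1
    have hur := hS₁r u hu
    have hnu : u * n * u⁻¹ ∈ N r := (h.N_fix hur).2 hn
    have h1 : (u * n * u⁻¹) * (u * s * u⁻¹) * (u * n * u⁻¹)⁻¹ = r * (u * s * u⁻¹) * (u * c * u⁻¹) := by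
      calc (u * n * u⁻¹) * (u * s * u⁻¹) * (u * n * u⁻¹)⁻¹ = u * (n * s * n⁻¹) * u⁻¹ := by group
        _ = (u * r) * s * c * u⁻¹ := by rw [hn']; group
        _ = (r * u) * s * c * u⁻¹ := by rw [hur]
        _ = _ := by group
    have h2 : (u * n * u⁻¹) * (u * s * u⁻¹) * (u * n * u⁻¹)⁻¹ = z * ((u * n * u⁻¹) * s * (u * n * u⁻¹)⁻¹) := by
      rw [e, ← mul_assoc, hNz z hzU hzQ _ hnu]
      group
    have h3 : (u * n * u⁻¹) * s * (u * n * u⁻¹)⁻¹ = r * s * c := by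
      refine (hmv _ hnu).resolve_left fun h4 => ?_
      rw [h4, ← e] at h2
      have h5 : n * s * n⁻¹ = s := by
        have e5 : n * s * n⁻¹ = u⁻¹ * ((u * n * u⁻¹) * (u * s * u⁻¹) * (u * n * u⁻¹)⁻¹) * u := by group
        rw [e5, h2]
        group
      exact hne h5
    rw [h1, h3, e] at h2
    -- `r (z s) (u c u⁻¹) = z (r s c)`
    have h4 : r * (z * s) * (u * c * u⁻¹) = r * (z * s) * c := by
      rw [h2]
      calc z * (r * s * c) = (z * r) * s * c := by group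
        _ = (r * z) * s * c := by rw [h.r_comm hzU]
        _ = _ := by group
    exact h.comm_of_conj (mul_left_cancel h4)
  -- from `S₁` to `S`
  have hdec : ∀ u ∈ S, ∃ q ∈ Q r, ∃ v ∈ S₁, u = q * v := by
    intro u hu
    rcases hS.S_t u hu with h1 | h1
    · exact ⟨1, one_mem _, u, ⟨hu, mem_centralizer_singleton_iff.2 (h.comm_of_conj h1)⟩, (one_mul u).symm⟩
    · obtain ⟨q, hq, hqt⟩ := h.q12
      refine ⟨q, hq, q⁻¹ * u, Subgroup.mem_inf.2 ⟨S.mul_mem (S.inv_mem (hQS hq)) hu,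
        mem_centralizer_singleton_iff.2 ?_⟩, by group⟩
      have h2 : q⁻¹ * (r * t) * q = t := by rw [← hqt]; group
      calc q⁻¹ * u * t = q⁻¹ * (u * t * u⁻¹) * u := by group
        _ = q⁻¹ * (r * t) * q * (q⁻¹ * u) := by rw [h1]; group
        _ = _ := by rw [h2]
  refine ⟨s, c, hs, hsQ, hcU, hcr, hct, hmv, ?_, ?_⟩
  · intro u hu
    obtain ⟨q, hq, v, hv, rfl⟩ := hdec u hu
    have h1 : c * q = q * c := h.ZC_comm hcr hq
    calc q * v * c = q * (v * c) := by group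
      _ = q * c * v := by rw [hcS₁ v hv]; group
      _ = _ := by rw [← h1]; group
  · intro u hu g hg hgs
    obtain ⟨q, hq, v, hv, rfl⟩ := hdec u hu
    have hvg : v * g * v⁻¹ ∈ N r := (h.N_fix (hS₁r v hv)).2 hg
    have h1 : (v * g * v⁻¹) * q = q * (v * g * v⁻¹) := h.ZC_comm (h.N_le_ZC hrO hvg) hq
    have e : q * v * g * (q * v)⁻¹ = v * g * v⁻¹ := by
      calc q * v * g * (q * v)⁻¹ = (q * (v * g * v⁻¹)) * q⁻¹ := by group
        _ = _ := by rw [← h1, mul_inv_cancel_right]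
    rw [e]
    exact hinv₁ v hv g hg hgs

/-- **JOINT (11).** -/
theorem jEleven [Finite G] (hS : TvS M S r t N) (hQS : Q r ≤ S) (hO : JOpp M r t Q N) (hN : JNon M r t N) :
    JEleven M r t Q N := by
  refine h.jEleven_of_base fun hA b c hb hc => ?_
  have hrO : r ∈ Om M r := Om_base
  have hrU : r ∈ UU M r := Om_le_UU hrO
  obtain ⟨s, d, hs, hsQ, hdU, hdr, hdt, hmv, hdS, hSN⟩ := h.exists_sfix hS hQS hO hN hA
  have hsU := h.Adj_UU hs
  -- `n₁`
  obtain ⟨n₁, hn₁, hne⟩ : ∃ n ∈ N r, n * s * n⁻¹ ≠ s := by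
    by_contra h1
    push Not at h1
    exact hsQ ((h.mem_Q_iff hrO hsU).2 fun n hn => (h.comm_of_conj (h1 n hn)).symm)
  have hn₁' := (hmv n₁ hn₁).resolve_left hne
  have hNr : ∀ n ∈ N r, n * r * n⁻¹ = r := fun n hn => h.N_fix_self hrO hn
  have hNd : ∀ n ∈ N r, n * d * n⁻¹ = d := fun n hn => h.N_ZC hrO hn hdr
  have hdd := h.UU_sq hdU
  have hss := h.UU_sq hsU
  have hrd : (r * d) * (r * d) = 1 := h.UU_sq (mul_mem hrU hdU)
  let N₀ : Subgroup G := N r ⊓ centralizer {s}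
  have hN₀ : ∀ n, n ∈ N₀ ↔ n ∈ N r ∧ n * s = s * n := fun n => by
    rw [mem_inf, mem_centralizer_singleton_iff]
  have hcov : ∀ n ∈ N r, n ∈ N₀ ∨ n₁ * n ∈ N₀ := by
    intro n hn
    rcases hmv n hn with h1 | h1
    · exact Or.inl ((hN₀ n).2 ⟨hn, h.comm_of_conj h1⟩)
    · right
      refine (hN₀ _).2 ⟨mul_mem hn₁ hn, h.comm_of_conj ?_⟩
      calc n₁ * n * s * (n₁ * n)⁻¹ = n₁ * (n * s * n⁻¹) * n₁⁻¹ := by group
        _ = (n₁ * r * n₁⁻¹) * (n₁ * s * n₁⁻¹) * (n₁ * d * n₁⁻¹) := by rw [h1]; group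
        _ = r * (r * s * d) * d := by rw [hNr _ hn₁, hn₁', hNd _ hn₁]
        _ = (r * r) * s * (d * d) := by group
        _ = s := by rw [h.r_sq, hdd, one_mul, mul_one]
  have hinv : n₁⁻¹ * s * n₁ = r * s * d := by
    have h1 := hmv n₁⁻¹ (inv_mem hn₁)
    rw [inv_inv] at h1
    refine h1.resolve_left fun h2 => hne ?_
    calc n₁ * s * n₁⁻¹ = n₁ * (n₁⁻¹ * s * n₁) * n₁⁻¹ := by rw [h2]
      _ = s := by group
  have hu0n : s * n₁ * s⁻¹ = n₁ * (r * d) := by
    calc s * n₁ * s⁻¹ = n₁ * (n₁⁻¹ * s * n₁) * s⁻¹ := by group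
      _ = n₁ * (r * (s * d)) * s⁻¹ := by rw [hinv]; group
      _ = n₁ * (r * (d * s)) * s⁻¹ := by rw [h.UU_comm hsU hdU]
      _ = _ := by group
  have hcc := TvThirteen.j13' h hS hdU hdr hdt hdS (N0 := N₀) (n1 := n₁) (u0 := s) inf_le_left hn₁ hcov
    (fun x hx n hn => (hN₀ _).2 ⟨(h.N_fix (hS.S_r x hx)).2 ((hN₀ n).1 hn).1,
      hSN x hx n ((hN₀ n).1 hn).1 ((hN₀ n).1 hn).2⟩)
    hsU (fun n hn => ((hN₀ n).1 hn).2.symm) hu0n
  refine h.eleven_base hO hA hs hsQ ?_ hb hc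
  intro x hx m hm
  have hmM := h.N_le_M (h.Adj_right hx) hm
  have hs'U : m * s * m⁻¹ ∈ UU M r := UU_conj hmM hsU
  have hst : ∀ g ∈ N r, (g * s = s * g ↔ g * (m * s * m⁻¹) = (m * s * m⁻¹) * g) := fun g hg =>
    h.star hO hA hs hdr hdt hdU hmv hx hm hg
  set s' := m * s * m⁻¹ with hs'
  have h1 : s' * n₁ * s'⁻¹ = n₁ * (r * d) := by
    refine (hcc s' hs'U fun n hn => ((hst n ((hN₀ n).1 hn).1).1 ((hN₀ n).1 hn).2).symm).resolve_left fun h2 => ?_
    have h3 : n₁ * s' = s' * n₁ := by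
      calc n₁ * s' = (s' * n₁ * s'⁻¹) * s' := by rw [h2]
        _ = _ := by group
    have h4 := (hst n₁ hn₁).2 h3
    exact hne (by rw [h4, mul_inv_cancel_right])
  refine (h.mem_Q_iff hrO (mul_mem hsU hs'U)).2 fun n hn => ?_
  have hw₀ : ∀ n ∈ N₀, (s * s') * n = n * (s * s') := by
    intro n hn
    have h2 := ((hN₀ n).1 hn).2
    have h3 := (hst n ((hN₀ n).1 hn).1).1 h2
    rw [mul_assoc, ← h3, ← mul_assoc, ← h2, mul_assoc]
  have hw₁ : (s * s') * n₁ = n₁ * (s * s') := by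
    have h2 : (s * s') * n₁ * (s * s')⁻¹ = n₁ := by
      have hrdU : r * d ∈ UU M r := mul_mem hrU hdU
      calc (s * s') * n₁ * (s * s')⁻¹ = s * (s' * n₁ * s'⁻¹) * s⁻¹ := by group
        _ = (s * n₁ * s⁻¹) * (s * (r * d) * s⁻¹) := by rw [h1]; group
        _ = n₁ * (r * d) * (r * d) := by
            rw [hu0n, h.UU_comm hsU hrdU, mul_inv_cancel_right]
        _ = n₁ := by rw [mul_assoc, hrd, mul_one]
    exact h.comm_of_conj h2
  rcases hcov n hn with h2 | h2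
  · exact hw₀ n h2
  · have h3 := hw₀ _ h2
    have h4 : (s * s') * n₁⁻¹ = n₁⁻¹ * (s * s') := by
      calc (s * s') * n₁⁻¹ = n₁⁻¹ * (n₁ * (s * s')) * n₁⁻¹ := by group
        _ = n₁⁻¹ * ((s * s') * n₁) * n₁⁻¹ := by rw [hw₁]
        _ = _ := by group
    calc (s * s') * n = (s * s') * n₁⁻¹ * (n₁ * n) := by group
      _ = n₁⁻¹ * ((s * s') * (n₁ * n)) := by rw [h4, mul_assoc]
      _ = n₁⁻¹ * (n₁ * n * (s * s')) := by rw [h3]
      _ = n * (s * s') := by group

end TvH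

end Cfsg.Agent.Omega.HOne.TvDef

end

section


/-!
# II.0h1, `q = 2`, case (beta): (3) of #15959, no parallels

`exists_avg` : an `A`-invariant line `⟨r, e⟩` in a parallel class of odd length;
`noPar` : the field `noPar` of `TvH` from `TvH0`, `S` Sylow in `M`, `C_U(S) ∩ C_V` central in `M`.
-/

set_option autoImplicit false
set_option linter.unusedSectionVars false

namespace Cfsg.Agent.Omega.HOne.TvPar

open Subgroup Cfsg.Agent.Omega.HOne.TvDef

variable {G : Type*} [Group G]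

theorem exists_avg [Finite G] {A B U Z : Subgroup G} {r t : G}
    (hU : ∀ u ∈ U, ∀ v ∈ U, u * v = v * u) (hr : r ∈ U) (ht : t ∈ U) (hrr : r * r = 1) (htt : t * t = 1)
    (hAU : ∀ x ∈ A, ∀ u ∈ U, x * u * x⁻¹ ∈ U) (hAZ : ∀ x ∈ A, t * (x * t * x⁻¹) ∈ Z)
    (hB : ∀ x ∈ B, x * t * x⁻¹ = t ∨ x * t * x⁻¹ = r * t) (hAr : ∀ x ∈ A, x * r = r * x)
    (hBA : B ≤ A) (hodd : ¬ 2 ∣ B.relIndex A) :
    ∃ e ∈ U, t * e ∈ Z ∧ ∀ y ∈ A, y * e * y⁻¹ = e ∨ y * e * y⁻¹ = r * e := by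
  classical
  let _ : CommGroup U := { (inferInstance : Group U) with
    mul_comm := fun a b => Subtype.ext (hU a a.2 b b.2) }
  let X := A ⧸ B.subgroupOf A
  have : Fintype X := Fintype.ofFinite X
  let f : A → U := fun x => ⟨x * t * (x : G)⁻¹, hAU x x.2 t ht⟩
  let e : U := ∏ q : X, f q.out
  have hfz : ∀ x : A, t * (f x : G) ∈ Z := fun x => hAZ x x.2
  have h1 : ∀ s : Finset X, t ^ s.card * ((∏ q ∈ s, f q.out : U) : G) ∈ Z := by
    intro s
    induction s using Finset.induction_on with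
    | empty => simp
    | insert a s ha ih =>
      rw [Finset.prod_insert ha, Finset.card_insert_of_notMem ha, Subgroup.coe_mul, pow_succ]
      have hc : t ^ s.card * (t * (f a.out : G)) = (t * (f a.out : G)) * t ^ s.card := by
        have h2 : t * (f a.out : G) ∈ U := mul_mem ht (f a.out).2
        exact hU _ (pow_mem ht _) _ h2
      have : t ^ s.card * t * ((f a.out : G) * ((∏ q ∈ s, f q.out : U) : G)) =
          (t * (f a.out : G)) * (t ^ s.card * ((∏ q ∈ s, f q.out : U) : G)) := by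
        calc t ^ s.card * t * ((f a.out : G) * ((∏ q ∈ s, f q.out : U) : G)) =
            (t ^ s.card * (t * (f a.out : G))) * ((∏ q ∈ s, f q.out : U) : G) := by group
          _ = _ := by rw [hc]; group
      rw [this]
      exact mul_mem (hfz _) ih
  have hcard : ¬ 2 ∣ Fintype.card X := by
    rw [← Nat.card_eq_fintype_card]
    exact hodd
  refine ⟨e, e.2, ?_, ?_⟩
  · have h2 := h1 Finset.univ
    rw [Finset.card_univ] at h2
    obtain ⟨k, hk⟩ := Nat.not_even_iff_odd.1 (fun he => hcard (even_iff_two_dvd.1 he))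
    rw [hk, pow_add, pow_mul, pow_two, htt, one_pow, one_mul, pow_one] at h2
    exact h2
  · intro y hy
    let φ : U →* U :=
      { toFun := fun u => ⟨y * u * y⁻¹, hAU y hy u u.2⟩
        map_one' := Subtype.ext (by simp)
        map_mul' := fun a b => Subtype.ext (by
          change y * (a * b : G) * y⁻¹ = (y * a * y⁻¹) * (y * b * y⁻¹)
          group) }
    have hφ : ∀ u : U, ((φ u : U) : G) = y * u * y⁻¹ := fun _ => rfl
    let y' : A := ⟨y, hy⟩
    let r' : U := ⟨r, hr⟩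
    have hr' : r' * r' = 1 := Subtype.ext hrr
    have h3 : ∀ q : X, f (y' • q).out = φ (f q.out) ∨ f (y' • q).out = r' * φ (f q.out) := by
      intro q
      have h4 : ((y' • q).out : A)⁻¹ * (y' * q.out) ∈ B.subgroupOf A := by
        rw [← QuotientGroup.eq]
        have h5 : ((((y' • q).out : A)) : X) = y' • q := Quotient.out_eq _
        rw [h5]
        have h6 : ((q.out : A) : X) = q := Quotient.out_eq _
        conv_lhs => rw [← h6]
        rfl
      set b := ((y' • q).out : A)⁻¹ * (y' * q.out) with hb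
      have h7 : ((y' • q).out : A) = y' * q.out * b⁻¹ := by rw [hb]; group
      have hbB : (b : G) ∈ B := h4
      have hbt := hB _ (inv_mem hbB)
      have hxr : (y' * q.out : A) * r = r * ((y' * q.out : A) : G) := hAr _ (y' * q.out : A).2
      have e1 : ((f (y' • q).out : U) : G) =
          (y' * q.out : A) * ((b : G)⁻¹ * t * (b : G)⁻¹⁻¹) * ((y' * q.out : A) : G)⁻¹ := by
        change (((y' • q).out : A) : G) * t * (((y' • q).out : A) : G)⁻¹ = _
        rw [h7]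
        simp only [Subgroup.coe_mul, Subgroup.coe_inv]
        group
      have e2 : ((φ (f q.out) : U) : G) = (y' * q.out : A) * t * ((y' * q.out : A) : G)⁻¹ := by
        rw [hφ]
        change y * ((q.out : A) * t * ((q.out : A) : G)⁻¹) * y⁻¹ = _
        simp only [Subgroup.coe_mul, y']
        group
      rcases hbt with h8 | h8
      · left
        apply Subtype.ext
        rw [e1, e2, h8]
      · right
        apply Subtype.ext
        rw [Subgroup.coe_mul, e1, e2, h8]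
        change _ = r * _
        calc ((y' * q.out : A) : G) * (r * t) * ((y' * q.out : A) : G)⁻¹ =
            (((y' * q.out : A) : G) * r) * t * ((y' * q.out : A) : G)⁻¹ := by group
          _ = _ := by rw [hxr]; group
    have h4 : ∀ s : Finset X, ∏ q ∈ s, f (y' • q).out = ∏ q ∈ s, φ (f q.out) ∨
        ∏ q ∈ s, f (y' • q).out = r' * ∏ q ∈ s, φ (f q.out) := by
      intro s
      induction s using Finset.induction_on with
      | empty => left; simp
      | insert a s ha ih =>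
        rw [Finset.prod_insert ha, Finset.prod_insert ha]
        rcases h3 a with h5 | h5 <;> rcases ih with h6 | h6 <;> rw [h5, h6]
        · left; rfl
        · right; rw [mul_left_comm]
        · right; rw [mul_assoc]
        · left
          rw [mul_mul_mul_comm, hr', one_mul]
    have h5 := h4 Finset.univ
    have h6 : ∏ q : X, f (y' • q).out = e := by
      exact Fintype.prod_equiv (MulAction.toPerm y') _ _ (fun q => rfl)
    rw [h6, ← map_prod] at h5
    have h7 : ((φ e : U) : G) = y * e * y⁻¹ := rfl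
    rcases h5 with h8 | h8
    · left
      rw [← h7]
      exact congrArg _ h8.symm
    · right
      rw [← h7]
      have h9 : r' * e = φ e := by
        calc r' * e = r' * (r' * φ e) := congrArg _ h8
          _ = (r' * r') * φ e := by rw [mul_assoc]
          _ = φ e := by rw [hr', one_mul]
      exact (congrArg (fun u : U => (u : G)) h9).symm

variable {M S : Subgroup G} {r t : G} {Q N : G → Subgroup G}

/-- **(3)** no parallels -/
theorem noPar [Finite G] (h : TvH0 M r t Q N) (hSM : S ≤ M) (hSr : ∀ x ∈ S, x * r = r * x)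
    (hSt : ∀ x ∈ S, x * t * x⁻¹ = t ∨ x * t * x⁻¹ = r * t) (hNS : N t ≤ S)
    (hodd : ¬ 2 ∣ S.relIndex M)
    (hcen : ∀ c ∈ UU M r, c ∈ ZC Q r → c ∈ ZC Q t → (∀ x ∈ S, x * c = c * x) → ∀ m ∈ M, m * c = c * m) :
    ∀ a b, Adj M r t r a → Adj M r t r b → a * b ∈ ZC Q r → b = a ∨ b = r * a := by
  have hrU : r ∈ UU M r := Om_le_UU Om_base
  have htU : t ∈ UU M r := Om_le_UU h.t_Om
  have htt : t * t = 1 := h.Om_sq h.t_Om
  -- `A = N_{M_1}(V K_1)`
  let A : Subgroup G :=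
    { carrier := {x | x ∈ M ∧ x * r = r * x ∧ t * (x * t * x⁻¹) ∈ ZC Q r}
      one_mem' := ⟨one_mem _, by simp, by
        have : t * (1 * t * 1⁻¹) = 1 := by rw [one_mul, inv_one, mul_one, htt]
        rw [this]; exact one_mem _⟩
      mul_mem' := by
        rintro x y ⟨hx, hxr, hxt⟩ ⟨hy, hyr, hyt⟩
        refine ⟨mul_mem hx hy, ?_, ?_⟩
        · calc x * y * r = x * (y * r) := by group
            _ = (x * r) * y := by rw [hyr]; group
            _ = r * (x * y) := by rw [hxr]; group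
        · have e : t * (x * y * t * (x * y)⁻¹) =
              (t * (x * t * x⁻¹)) * (x * (t * (y * t * y⁻¹)) * x⁻¹) := by
            calc t * (x * y * t * (x * y)⁻¹) = t * (x * 1 * x⁻¹) * (x * y * t * (x * y)⁻¹) := by group
              _ = t * (x * (t * t) * x⁻¹) * (x * y * t * (x * y)⁻¹) := by rw [htt]
              _ = _ := by group
          rw [e]
          exact mul_mem hxt ((h.ZC_fix hxr).2 hyt)
      inv_mem' := by
        rintro x ⟨hx, hxr, hxt⟩
        have hxr' : x⁻¹ * r = r * x⁻¹ := by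
          calc x⁻¹ * r = x⁻¹ * (r * x) * x⁻¹ := by group
            _ = r * x⁻¹ := by rw [← hxr]; group
        refine ⟨inv_mem hx, hxr', ?_⟩
        have e : t * (x⁻¹ * t * x⁻¹⁻¹) = x⁻¹ * (t * (x * t * x⁻¹))⁻¹ * x⁻¹⁻¹ := by
          have ht' : t⁻¹ = t := h.UU_inv htU
          calc t * (x⁻¹ * t * x⁻¹⁻¹) = t * x⁻¹ * t * x := by group
            _ = t⁻¹ * x⁻¹ * t⁻¹ * x := by rw [ht']
            _ = x⁻¹ * (x * t⁻¹ * x⁻¹ * t⁻¹) * x := by
                have h1 : t⁻¹ * (x⁻¹ * t⁻¹ * x) = (x⁻¹ * t⁻¹ * x) * t⁻¹ := by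
                  have h2 : x⁻¹ * t⁻¹ * x ∈ UU M r := by
                    have := UU_conj (r := r) (inv_mem hx) (inv_mem htU)
                    simpa using this
                  exact h.UU_comm (inv_mem htU) h2
                calc t⁻¹ * x⁻¹ * t⁻¹ * x = t⁻¹ * (x⁻¹ * t⁻¹ * x) := by group
                  _ = (x⁻¹ * t⁻¹ * x) * t⁻¹ := h1
                  _ = x⁻¹ * (t⁻¹ * (x * t⁻¹ * x⁻¹)) * x := by group
                  _ = x⁻¹ * ((x * t⁻¹ * x⁻¹) * t⁻¹) * x := by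
                    rw [h.UU_comm (inv_mem htU) (UU_conj hx (inv_mem htU))]
                  _ = _ := by group
            _ = x⁻¹ * (t * (x * t * x⁻¹))⁻¹ * x⁻¹⁻¹ := by group
        rw [e]
        exact (h.ZC_fix hxr').2 (inv_mem hxt) }
  let B : Subgroup G :=
    { carrier := {x | x ∈ A ∧ (x * t * x⁻¹ = t ∨ x * t * x⁻¹ = r * t)}
      one_mem' := ⟨one_mem _, Or.inl (by group)⟩
      mul_mem' := by
        rintro x y ⟨hx, hxt⟩ ⟨hy, hyt⟩
        refine ⟨mul_mem hx hy, ?_⟩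
        have hxr : x * r = r * x := hx.2.1
        have e : x * y * t * (x * y)⁻¹ = x * (y * t * y⁻¹) * x⁻¹ := by group
        rw [e]
        rcases hyt with h1 | h1
        · rw [h1]; exact hxt
        · have e2 : x * (r * t) * x⁻¹ = r * (x * t * x⁻¹) := by
            calc x * (r * t) * x⁻¹ = (x * r) * t * x⁻¹ := by group
              _ = _ := by rw [hxr]; group
          rw [h1, e2]
          rcases hxt with h2 | h2
          · right; rw [h2]
          · left; rw [h2, h.mul_cancel Om_base]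
      inv_mem' := by
        rintro x ⟨hx, hxt⟩
        refine ⟨inv_mem hx, ?_⟩
        have hxr : x * r = r * x := hx.2.1
        have hxr' : x⁻¹ * r = r * x⁻¹ := by
          calc x⁻¹ * r = x⁻¹ * (r * x) * x⁻¹ := by group
            _ = r * x⁻¹ := by rw [← hxr]; group
        rcases hxt with h1 | h1
        · left
          calc x⁻¹ * t * x⁻¹⁻¹ = x⁻¹ * (x * t * x⁻¹) * x := by rw [h1]; group
            _ = t := by group
        · right
          have e : x⁻¹ * (r * t) * x = t := by rw [← h1]; group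
          calc x⁻¹ * t * x⁻¹⁻¹ = x⁻¹ * (r * (r * t)) * x := by rw [h.mul_cancel Om_base]; group
            _ = (x⁻¹ * r) * (r * t) * x := by group
            _ = r * (x⁻¹ * (r * t) * x) := by rw [hxr']; group
            _ = r * t := by rw [e] }
  have hSB : S ≤ B := by
    intro x hx
    refine ⟨⟨hSM hx, hSr x hx, ?_⟩, hSt x hx⟩
    rcases hSt x hx with h1 | h1
    · rw [h1, htt]; exact one_mem _
    · have : t * (r * t) = r := by
        calc t * (r * t) = (t * r) * t := by group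
          _ = r * (t * t) := by rw [h.UU_comm htU hrU]; group
          _ = r := by rw [htt, mul_one]
      rw [h1, this]; exact h.mem_ZC Om_base
  have hBA : B ≤ A := fun x hx => hx.1
  have hAM : A ≤ M := fun x hx => hx.1
  have hoddBA : ¬ 2 ∣ B.relIndex A := by
    intro hd
    apply hodd
    have h1 : S.relIndex A * A.relIndex M = S.relIndex M :=
      Subgroup.relIndex_mul_relIndex _ _ _ (hSB.trans hBA) hAM
    have h2 : S.relIndex B * B.relIndex A = S.relIndex A :=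
      Subgroup.relIndex_mul_relIndex _ _ _ hSB hBA
    rw [← h1, ← h2]
    exact Dvd.dvd.mul_right (Dvd.dvd.mul_left hd _) _
  obtain ⟨e, heU, heZ, heA⟩ := exists_avg (A := A) (B := B) (U := UU M r) (Z := ZC Q r)
    (fun u hu v hv => h.UU_comm hu hv) hrU htU h.r_sq htt
    (fun x hx u hu => UU_conj (hAM hx) hu) (fun x hx => hx.2.2) (fun x hx => hx.2)
    (fun x hx => hx.2.1) hBA hoddBA
  set c1 := t * e with hc1
  have hc1U : c1 ∈ UU M r := mul_mem htU heU
  -- `r ∉ ZC t`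
  have hrt : r ∉ ZC Q t := h.not_both Adj_base
  -- `[c1, S] ≤ R`
  have hc1S : ∀ x ∈ S, x * c1 * x⁻¹ = c1 ∨ x * c1 * x⁻¹ = r * c1 := by
    intro x hx
    have e1 : x * c1 * x⁻¹ = (x * t * x⁻¹) * (x * e * x⁻¹) := by rw [hc1]; group
    have hrc : t * (r * e) = r * (t * e) := by
      calc t * (r * e) = (t * r) * e := by group
        _ = r * (t * e) := by rw [h.UU_comm htU hrU]; group
    rcases hSt x hx with h1 | h1 <;> rcases heA x (hBA (hSB hx)) with h2 | h2 <;> rw [e1, h1, h2]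
    · left; rfl
    · right; rw [hrc]
    · right; rw [hc1]; group
    · left
      calc r * t * (r * e) = r * (t * (r * e)) := by group
        _ = r * (r * (t * e)) := by rw [hrc]
        _ = t * e := h.mul_cancel Om_base _
  -- `N t` centralises `c1`
  have hc1N : ∀ n ∈ N t, c1 * n = n * c1 := by
    intro n hn
    have h1 := h.comm_KN Adj_base hc1U heZ hn
    rcases hc1S n (hNS hn) with h2 | h2
    · calc c1 * n = (n * c1 * n⁻¹) * n := by rw [h2]
        _ = _ := by group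
    · exfalso
      have ha' : c1⁻¹ = c1 := h.UU_inv hc1U
      have h3 : c1 * n * c1⁻¹ * n⁻¹ = r := by
        calc c1 * n * c1⁻¹ * n⁻¹ = c1 * (n * c1 * n⁻¹) := by rw [ha']; group
          _ = c1 * (r * c1) := by rw [h2]
          _ = (c1 * r) * c1 := by group
          _ = r * (c1 * c1) := by rw [h.UU_comm hc1U hrU]; group
          _ = r := by rw [h.UU_sq hc1U, mul_one]
      rw [h3] at h1
      exact hrt h1.1
  have hc1Q : c1 ∈ Q t := h.UN_at h.t_Om hc1U hc1N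
  -- C_V is S-invariant
  have inv : ∀ x ∈ S, ∀ b, b ∈ ZC Q r → b ∈ ZC Q t → x * b * x⁻¹ ∈ ZC Q t := by
    intro x hx b hb hb'
    have hxr := hSr x hx
    have h2 : x * b * x⁻¹ ∈ ZC Q r := (h.ZC_fix hxr).2 hb
    have h3 : x * b * x⁻¹ ∈ ZC Q (x * t * x⁻¹) := h.ZC_conj.2 hb'
    rcases hSt x hx with h4 | h4
    · rwa [h4] at h3
    · rw [h4] at h3
      have h5 := h.Adj_CV h.Adj_mul_base h2 h3
      rwa [h.mul_cancel Om_base] at h5
  -- `c' = c1` or `r c1` in `C_V`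
  obtain ⟨c', hc'U, hc'r, hc't, hc'1⟩ : ∃ c', c' ∈ UU M r ∧ c' ∈ ZC Q r ∧ c' ∈ ZC Q t ∧
      (c1 = c' ∨ c1 = r * c') := by
    rcases h.Adj_ZQ Adj_base heZ hc1Q with h1 | h1
    · exact ⟨c1, hc1U, heZ, h1, Or.inl rfl⟩
    · exact ⟨r * c1, mul_mem hrU hc1U, mul_mem (h.mem_ZC Om_base) heZ, h1,
        Or.inr (h.mul_cancel Om_base _).symm⟩
  have hc'S : ∀ x ∈ S, x * c' = c' * x := by
    intro x hx
    have hxr := hSr x hx
    have h1 : x * c' * x⁻¹ = c' ∨ x * c' * x⁻¹ = r * c' := by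
      rcases hc'1 with h2 | h2
      · rw [← h2]; exact hc1S x hx
      · have h3 : c' = r * c1 := by rw [h2, h.mul_cancel Om_base]
        have h4 : x * c' * x⁻¹ = r * (x * c1 * x⁻¹) := by
          calc x * c' * x⁻¹ = (x * r) * c1 * x⁻¹ := by rw [h3]; group
            _ = _ := by rw [hxr]; group
        rcases hc1S x hx with h5 | h5
        · left; rw [h4, h5, ← h3]
        · right; rw [h4, h5, ← h3]
    rcases h1 with h2 | h2
    · calc x * c' = (x * c' * x⁻¹) * x := by group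
        _ = c' * x := by rw [h2]
    · exfalso
      have h3 := inv x hx c' hc'r hc't
      rw [h2] at h3
      apply hrt
      have : r = (r * c') * c'⁻¹ := by group
      rw [this]
      exact mul_mem h3 (inv_mem hc't)
  have hc'M := hcen c' hc'U hc'r hc't hc'S
  -- `A` normalises `V`
  have hAB : ∀ y ∈ A, y * t * y⁻¹ = t ∨ y * t * y⁻¹ = r * t := by
    intro y hy
    have hyr : y * r = r * y := hy.2.1
    have hyM := hAM hy
    have hyc1 : y * c1 * y⁻¹ = c1 := by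
      have h1 : y * c' * y⁻¹ = c' := by rw [hc'M y hyM]; group
      rcases hc'1 with h2 | h2
      · rw [h2]; exact h1
      · calc y * c1 * y⁻¹ = (y * r) * c' * y⁻¹ := by rw [h2]; group
          _ = r * (y * c' * y⁻¹) := by rw [hyr]; group
          _ = c1 := by rw [h1, h2]
    have ht : t = c1 * e := by
      have hee : e * e = 1 := h.UU_sq heU
      calc t = t * (e * e) := by rw [hee, mul_one]
        _ = c1 * e := by rw [hc1]; group
    have h3 : y * t * y⁻¹ = c1 * (y * e * y⁻¹) := by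
      calc y * t * y⁻¹ = y * (c1 * e) * y⁻¹ := by rw [← ht]
        _ = (y * c1 * y⁻¹) * (y * e * y⁻¹) := by group
        _ = _ := by rw [hyc1]
    rcases heA y hy with h4 | h4
    · left; rw [h3, h4, ← ht]
    · right
      rw [h3, h4]
      calc c1 * (r * e) = (c1 * r) * e := by group
        _ = r * (c1 * e) := by rw [h.UU_comm hc1U hrU]; group
        _ = r * t := by rw [← ht]
  -- conclusion
  intro a b ha hb hab
  obtain ⟨m, hm, hmr, hma⟩ := ha
  obtain ⟨l, hl, hlr, hlb⟩ := hb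
  have hmr' : m * r = r * m := by
    calc m * r = (m * r * m⁻¹) * m := by group
      _ = r * m := by rw [hmr]
  have hlr' : l * r = r * l := by
    calc l * r = (l * r * l⁻¹) * l := by group
      _ = r * l := by rw [hlr]
  have hmr'' : m⁻¹ * r = r * m⁻¹ := by
    calc m⁻¹ * r = m⁻¹ * (r * m) * m⁻¹ := by group
      _ = r * m⁻¹ := by rw [← hmr']; group
  have hx : m⁻¹ * l ∈ A := by
    refine ⟨mul_mem (inv_mem hm) hl, ?_, ?_⟩
    · calc m⁻¹ * l * r = m⁻¹ * (l * r) := by group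
        _ = (m⁻¹ * r) * l := by rw [hlr']; group
        _ = r * (m⁻¹ * l) := by rw [hmr'']; group
    · have e1 : t * (m⁻¹ * l * t * (m⁻¹ * l)⁻¹) = m⁻¹ * (a * b) * m⁻¹⁻¹ := by
        rw [← hma, ← hlb]; group
      rw [e1]
      exact (h.ZC_fix hmr'').2 hab
  rcases hAB _ hx with h1 | h1
  · left
    have : b = m * (m⁻¹ * l * t * (m⁻¹ * l)⁻¹) * m⁻¹ := by rw [← hlb]; group
    rw [this, h1, hma]
  · right
    have : b = m * (m⁻¹ * l * t * (m⁻¹ * l)⁻¹) * m⁻¹ := by rw [← hlb]; group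
    rw [this, h1]
    calc m * (r * t) * m⁻¹ = (m * r * m⁻¹) * (m * t * m⁻¹) := by group
      _ = r * a := by rw [hmr, hma]

end Cfsg.Agent.Omega.HOne.TvPar

end

section


/-!
# II.0h1, nonsplit case: the module `V` with `V / D` natural, `D` centralised

`Rig P V D π` : `V` elementary abelian, `V / D` a natural `SL₂(F)`-module for `P` (coordinates `π`), every element of
`SL₂(F)` is induced by an element of `P` centralising `D`, and elements of `P` centralising `D` and `V / D` centralise `V`.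

`Rig.form` : there are additive `e, f : F → V`, `g : F → D` with `π (e z) = (0, z)`, `π (f z) = (z, 0)` such that every
`x ∈ P` centralising `D` and inducing `lo (t²)` on `V / D` acts as `v ↦ e (t² β) g (t β) v`, `β = π v 0`; `g(F)` is
`P`-invariant; if `g = 1` then `V` splits.
-/

set_option autoImplicit false
set_option linter.unusedSectionVars false

namespace Cfsg.Agent.Omega.HOne.NSMod

open Subgroup Cfsg.Agent.Omega.NatPair Cfsg.Agent.Lib.SL2Mat

variable {G : Type*} [Group G] {F : Type*} [Field F]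

/-- `V / D` is natural for `P`, `D` centralised. -/
structure Rig (P V D : Subgroup G) (π : G → Fin 2 → F) : Prop where
  DV : D ≤ V
  Vn : ∀ p ∈ P, ∀ v ∈ V, p * v * p⁻¹ ∈ V
  Dn : ∀ p ∈ P, ∀ v ∈ D, p * v * p⁻¹ ∈ D
  Vc : ∀ v ∈ V, ∀ w ∈ V, v * w = w * v
  Vs : ∀ v ∈ V, v * v = 1
  mul : ∀ v ∈ V, ∀ w ∈ V, π (v * w) = π v + π w
  surj : ∀ x : Fin 2 → F, ∃ v ∈ V, π v = x
  ker : ∀ v ∈ V, π v = 0 ↔ v ∈ D
  lift : ∀ A : Matrix.SpecialLinearGroup (Fin 2) F, ∃ g ∈ P, (∀ v ∈ V, π (g * v * g⁻¹) = ap A (π v)) ∧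
    ∀ d ∈ D, g * d = d * g
  norm : ∀ g ∈ P, ∀ h ∈ P, ∀ A : Matrix.SpecialLinearGroup (Fin 2) F,
    (∀ v ∈ V, π (h * v * h⁻¹) = ap A (π v)) → ∃ B : Matrix.SpecialLinearGroup (Fin 2) F,
      ∀ v ∈ V, π (g * h * g⁻¹ * v * (g * h * g⁻¹)⁻¹) = ap B (π v)
  rig : ∀ g ∈ P, (∀ d ∈ D, g * d = d * g) → (∀ v ∈ V, π (g * v * g⁻¹) = π v) → ∀ v ∈ V, g * v = v * g

/-- `x` centralises `D` and induces `A` on `V / D`. -/
structure Is (P V D : Subgroup G) (π : G → Fin 2 → F) (x : G) (A : Matrix.SpecialLinearGroup (Fin 2) F) : Prop where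
  mem : x ∈ P
  act : ∀ v ∈ V, π (x * v * x⁻¹) = ap A (π v)
  cen : ∀ d ∈ D, x * d = d * x

variable {P V D : Subgroup G} {π : G → Fin 2 → F}

theorem ap_lo (a : F) (x : Fin 2 → F) : ap (lo a) x = ![x 0, a * x 0 + x 1] := by
  apply ext2
  · rw [ap_zero']; simp
  · rw [ap_one']; simp

theorem ap_dg (a : F) (ha : a ≠ 0) (x : Fin 2 → F) : ap (dg a ha) x = ![a * x 0, a⁻¹ * x 1] := by
  apply ext2
  · rw [ap_zero']; simp
  · rw [ap_one']; simp

theorem ap_wm (a : F) (ha : a ≠ 0) (x : Fin 2 → F) : ap (wm a ha) x = ![a * x 1, -a⁻¹ * x 0] := by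
  apply ext2
  · rw [ap_zero']; simp
  · rw [ap_one']; simp

namespace Rig

variable (r : Rig P V D π)

include r

theorem map_one : π 1 = 0 := (r.ker 1 (one_mem V)).2 (one_mem D)

theorem inv {v : G} (hv : v ∈ V) : v⁻¹ = v := inv_eq_of_mul_eq_one_left (r.Vs v hv)

theorem map_inv {v : G} (hv : v ∈ V) : π v⁻¹ = - π v := by
  have := r.mul v hv v⁻¹ (inv_mem hv)
  rw [mul_inv_cancel, r.map_one] at this
  exact (neg_eq_of_add_eq_zero_right this.symm).symm

theorem two : (2 : F) = 0 := by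
  obtain ⟨v, hv, hx⟩ := r.surj ![1, 0]
  have h1 := r.mul v hv v hv
  rw [r.Vs v hv, r.map_one, hx] at h1
  have h2 := congrFun h1 0
  simp only [Pi.zero_apply, Pi.add_apply, Matrix.cons_val_zero] at h2
  rw [← one_add_one_eq_two, ← h2]

theorem is_lift (A : Matrix.SpecialLinearGroup (Fin 2) F) : ∃ x, Is P V D π x A := by
  obtain ⟨g, hg, h1, h2⟩ := r.lift A
  exact ⟨g, hg, h1, h2⟩

theorem is_mul {x y : G} {A B : Matrix.SpecialLinearGroup (Fin 2) F} (hx : Is P V D π x A) (hy : Is P V D π y B) :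
    Is P V D π (x * y) (A * B) where
  mem := mul_mem hx.mem hy.mem
  act v hv := by
    have e : x * y * v * (x * y)⁻¹ = x * (y * v * y⁻¹) * x⁻¹ := by group
    rw [e, hx.act _ (r.Vn y hy.mem v hv), hy.act v hv, ap_mul]
  cen d hd := by
    rw [mul_assoc, hy.cen d hd, ← mul_assoc, hx.cen d hd, mul_assoc]

theorem is_inv {x : G} {A : Matrix.SpecialLinearGroup (Fin 2) F} (hx : Is P V D π x A) : Is P V D π x⁻¹ A⁻¹ where
  mem := inv_mem hx.mem
  act v hv := by
    have h1 := hx.act _ (r.Vn x⁻¹ (inv_mem hx.mem) v hv)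
    have e : x * (x⁻¹ * v * x⁻¹⁻¹) * x⁻¹ = v := by group
    rw [e] at h1
    rw [h1, ap_inv_ap]
  cen d hd := by
    have h1 := hx.cen d hd
    calc x⁻¹ * d = x⁻¹ * (d * x) * x⁻¹ := by group
      _ = x⁻¹ * (x * d) * x⁻¹ := by rw [h1]
      _ = _ := by group

theorem is_one : Is P V D π 1 1 where
  mem := one_mem _
  act v _ := by rw [one_mul, inv_one, mul_one, ap_one]
  cen d _ := by rw [one_mul, mul_one]

/-- the action of `x` on `V` is determined by the matrix -/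
theorem is_eq {x y : G} {A : Matrix.SpecialLinearGroup (Fin 2) F} (hx : Is P V D π x A) (hy : Is P V D π y A) :
    ∀ v ∈ V, x * v * x⁻¹ = y * v * y⁻¹ := by
  have h1 := r.is_mul (r.is_inv hy) hx
  rw [inv_mul_cancel] at h1
  intro v hv
  have h2 := r.rig _ h1.mem h1.cen (fun v hv => by rw [h1.act v hv, ap_one]) v hv
  have h3 : x * v = y * v * (y⁻¹ * x) := by
    calc x * v = y * (y⁻¹ * x * v) := by group
      _ = y * (v * (y⁻¹ * x)) := by rw [h2]
      _ = _ := by group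
  rw [h3]; group

theorem is_conj {p x : G} {A : Matrix.SpecialLinearGroup (Fin 2) F} (hp : p ∈ P) (hx : Is P V D π x A) :
    ∃ B, Is P V D π (p * x * p⁻¹) B := by
  obtain ⟨B, hB⟩ := r.norm p hp x hx.mem A hx.act
  refine ⟨B, mul_mem (mul_mem hp hx.mem) (inv_mem hp), hB, fun d hd => ?_⟩
  have h1 := hx.cen _ (r.Dn p⁻¹ (inv_mem hp) d hd)
  rw [inv_inv] at h1
  calc p * x * p⁻¹ * d = p * (x * (p⁻¹ * d * p)) * p⁻¹ := by group
    _ = p * (p⁻¹ * d * p * x) * p⁻¹ := by rw [h1]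
    _ = _ := by group

omit r in
/-- `[x, v]` -/
def cm (x v : G) : G := x * v * x⁻¹ * v⁻¹

theorem cm_mem {x : G} (hx : x ∈ P) {v : G} (hv : v ∈ V) : cm x v ∈ V := mul_mem (r.Vn x hx v hv) (inv_mem hv)

theorem cm_add {x : G} (hx : x ∈ P) {v w : G} (hv : v ∈ V) (hw : w ∈ V) : cm x (v * w) = cm x v * cm x w := by
  have h1 := r.Vc _ (inv_mem hv) _ (r.cm_mem hx hw)
  calc cm x (v * w) = x * v * x⁻¹ * (cm x w * v⁻¹) := by unfold cm; group
    _ = x * v * x⁻¹ * (v⁻¹ * cm x w) := by rw [h1]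
    _ = _ := by unfold cm; group

theorem cm_D {x : G} {A : Matrix.SpecialLinearGroup (Fin 2) F} (hx : Is P V D π x A) {d : G} (hd : d ∈ D) :
    cm x d = 1 := by
  unfold cm
  rw [hx.cen d hd]; group

theorem π_cm {x : G} {A : Matrix.SpecialLinearGroup (Fin 2) F} (hx : Is P V D π x A) {v : G} (hv : v ∈ V) :
    π (cm x v) = ap A (π v) - π v := by
  unfold cm
  rw [r.mul _ (r.Vn x hx.mem v hv) _ (inv_mem hv), hx.act v hv, r.map_inv hv, sub_eq_add_neg]

/-- two elements of `V` with the same image have the same `[x, v]` -/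
theorem cm_eq {x : G} {A : Matrix.SpecialLinearGroup (Fin 2) F} (hx : Is P V D π x A) {v w : G} (hv : v ∈ V)
    (hw : w ∈ V) (h : π v = π w) : cm x v = cm x w := by
  have h1 : v * w⁻¹ ∈ D := (r.ker _ (mul_mem hv (inv_mem hw))).1 (by
    rw [r.mul v hv _ (inv_mem hw), r.map_inv hw, h, add_neg_cancel])
  have h2 := r.cm_add hx.mem (r.DV h1) hw
  rw [inv_mul_cancel_right, r.cm_D hx h1, one_mul] at h2
  exact h2

/-- the complement `[V, t]` of `D`, `t` inducing `dg ω`, `ω ≠ 1`: the section `s` -/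
theorem exists_sec {ω : F} (h0 : ω ≠ 0) (h1 : ω ≠ 1) :
    ∃ s : (Fin 2 → F) → G, (∀ x, s x ∈ V) ∧ (∀ x, π (s x) = x) ∧ (∀ x y, s (x + y) = s x * s y) ∧
      (∀ t, Is P V D π t (dg ω h0) → ∀ v ∈ V, cm t v = s (π (cm t v))) ∧
      (∀ x, ∀ t, Is P V D π t (dg ω h0) → ∃ v ∈ V, cm t v = s x) := by
  obtain ⟨t, ht⟩ := r.is_lift (dg ω h0)
  have hω : ω - 1 ≠ 0 := sub_ne_zero.2 h1
  have hω' : ω⁻¹ - 1 ≠ 0 := sub_ne_zero.2 fun h => h1 (inv_eq_one.1 h)
  let y : (Fin 2 → F) → (Fin 2 → F) := fun x => ![(ω - 1)⁻¹ * x 0, (ω⁻¹ - 1)⁻¹ * x 1]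
  have hy : ∀ x, ap (dg ω h0) (y x) - y x = x := by
    intro x
    rw [ap_dg]
    apply ext2
    · change ω * ((ω - 1)⁻¹ * x 0) - (ω - 1)⁻¹ * x 0 = x 0
      have : ω * ((ω - 1)⁻¹ * x 0) - (ω - 1)⁻¹ * x 0 = (ω - 1) * (ω - 1)⁻¹ * x 0 := by ring
      rw [this, mul_inv_cancel₀ hω, one_mul]
    · change ω⁻¹ * ((ω⁻¹ - 1)⁻¹ * x 1) - (ω⁻¹ - 1)⁻¹ * x 1 = x 1
      have : ω⁻¹ * ((ω⁻¹ - 1)⁻¹ * x 1) - (ω⁻¹ - 1)⁻¹ * x 1 = (ω⁻¹ - 1) * (ω⁻¹ - 1)⁻¹ * x 1 := by ring
      rw [this, mul_inv_cancel₀ hω', one_mul]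
  have hyi : ∀ x x', ap (dg ω h0) x - x = ap (dg ω h0) x' - x' → x = x' := by
    intro x x' h
    rw [ap_dg, ap_dg] at h
    have e0 := congrFun h 0
    have e1 := congrFun h 1
    simp only [Pi.sub_apply, Matrix.cons_val_zero, Matrix.cons_val_one] at e0 e1
    apply ext2
    · apply mul_left_cancel₀ hω
      linear_combination e0
    · apply mul_left_cancel₀ hω'
      linear_combination e1
  choose u hu huπ using r.surj
  let s : (Fin 2 → F) → G := fun x => cm t (u (y x))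
  have hsπ : ∀ x, π (s x) = x := fun x => by
    rw [r.π_cm ht (hu _), huπ, hy]
  have hsV : ∀ x, s x ∈ V := fun x => r.cm_mem ht.mem (hu _)
  have hkey : ∀ v ∈ V, cm t v = s (π (cm t v)) := by
    intro v hv
    apply r.cm_eq ht hv (hu _)
    rw [huπ]
    apply hyi
    rw [hy, r.π_cm ht hv]
  refine ⟨s, hsV, hsπ, fun x x' => ?_, fun t' ht' v hv => ?_, fun x t' ht' => ⟨u (y x), hu _, ?_⟩⟩
  · change cm t _ = cm t _ * cm t _
    rw [← r.cm_add ht.mem (hu _) (hu _)]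
    apply r.cm_eq ht (hu _) (mul_mem (hu _) (hu _))
    rw [r.mul _ (hu _) _ (hu _), huπ, huπ, huπ]
    apply ext2 <;> simp [y] <;> ring
  · have e : cm t' v = cm t v := by
      unfold cm; rw [r.is_eq ht' ht v hv]
    rw [e]
    exact hkey v hv
  · unfold cm
    rw [r.is_eq ht' ht _ (hu _)]
    rfl

end Rig

/-- The coordinates of `V`. -/
structure Form (P V D : Subgroup G) (π : G → Fin 2 → F) (e f g : F → G) (N : Subgroup G) : Prop where
  eV : ∀ z, e z ∈ V
  fV : ∀ z, f z ∈ V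
  gD : ∀ z, g z ∈ D
  eπ : ∀ z, π (e z) = ![0, z]
  fπ : ∀ z, π (f z) = ![z, 0]
  e_add : ∀ x y, e (x + y) = e x * e y
  f_add : ∀ x y, f (x + y) = f x * f y
  g_add : ∀ x y, g (x + y) = g x * g y
  act : ∀ t x, Is P V D π x (lo (t ^ 2)) → ∀ v ∈ V, x * v * x⁻¹ = e (t ^ 2 * π v 0) * g (t * π v 0) * v
  gP : ∀ p ∈ P, ∀ y, ∃ y', p * g y * p⁻¹ = g y'
  mN : ∀ z, z ∈ N ↔ ∃ a b y, z = e a * f b * g y
  cN : ∀ x A, Is P V D π x A → ∀ v ∈ V, x * v * x⁻¹ * v⁻¹ ∈ N
  ND : ∀ z ∈ N, z ∈ D → ∃ y, z = g y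
  NP : ∀ p ∈ P, ∀ z ∈ N, p * z * p⁻¹ ∈ N

namespace Rig

variable (r : Rig P V D π)

include r

/-- **The module formula.** -/
theorem form [Finite G] (hsq : ∀ b : F, ∃ t, b = t ^ 2) (hω : ∃ ω : F, ω ≠ 0 ∧ ω ≠ 1)
    (hcen : ∀ b x, Is P V D π x (lo b) → ∀ v ∈ V, π v 0 = 0 → x * v = v * x) :
    ∃ (e f g : F → G) (N : Subgroup G), Form P V D π e f g N := by
  obtain ⟨ω, h0, h1⟩ := hω
  obtain ⟨s, sV, sπ, sadd, st, st'⟩ := r.exists_sec h0 h1
  obtain ⟨t, ht⟩ := r.is_lift (dg ω h0)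
  have h2 := r.two
  have hneg : ∀ x : F, -x = x := fun x => by linear_combination (-x) * h2
  have hVc := r.Vc
  have s0 : s 0 = 1 := by
    have := sadd 0 0
    rw [add_zero] at this
    exact left_eq_mul.1 this
  -- `I`
  have hI : ∀ x A, Is P V D π x A → (A * dg ω h0 * A⁻¹ = dg ω h0 ∨ A * dg ω h0 * A⁻¹ = (dg ω h0)⁻¹) → ∀ u,
      x * s u * x⁻¹ = s (ap A u) := by
    intro x A hx hA u
    obtain ⟨v, hv, e1⟩ := st' u t ht
    have hxv : x * v * x⁻¹ ∈ V := r.Vn x hx.mem v hv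
    have e2 : x * s u * x⁻¹ = cm (x * t * x⁻¹) (x * v * x⁻¹) := by rw [← e1]; unfold cm; group
    have hxt := r.is_mul (r.is_mul hx ht) (r.is_inv hx)
    have e3 : π (x * s u * x⁻¹) = ap A u := by rw [hx.act _ (sV u), sπ]
    rcases hA with hA | hA
    · rw [hA] at hxt
      have e4 := st _ hxt _ hxv
      rw [← e2, e3] at e4
      exact e4
    · rw [hA] at hxt
      have ht' := r.is_inv hxt
      rw [inv_inv] at ht'
      obtain ⟨t', ht'd⟩ : ∃ t', t' = (x * t * x⁻¹)⁻¹ := ⟨_, rfl⟩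
      rw [← ht'd] at ht'
      have hw : t'⁻¹ * (x * v * x⁻¹) * t' ∈ V := by
        have := r.Vn t'⁻¹ (inv_mem ht'.mem) _ hxv
        rwa [inv_inv] at this
      have e4 : cm t' (t'⁻¹ * (x * v * x⁻¹) * t') = (x * s u * x⁻¹)⁻¹ := by
        rw [e2, ht'd]; unfold cm; group
      rw [r.inv (r.Vn x hx.mem _ (sV u))] at e4
      have e5 := st _ ht' _ hw
      rw [e4, e3] at e5
      exact e5
  have hdg : ∀ (a : F) (ha : a ≠ 0), dg a ha * dg ω h0 * (dg a ha)⁻¹ = dg ω h0 := by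
    intro a ha
    rw [mul_inv_eq_iff_eq_mul]
    apply ext_ent <;> simp [ent_mul] <;> ring
  have hwm : wm (1 : F) one_ne_zero * dg ω h0 * (wm (1 : F) one_ne_zero)⁻¹ = (dg ω h0)⁻¹ := by
    rw [mul_inv_eq_iff_eq_mul, ← mul_right_inj (dg ω h0), mul_inv_cancel_left]
    apply ext_ent <;> simp [ent_mul, h0]
  let e : F → G := fun z => s ![0, z]
  let f : F → G := fun z => s ![z, 0]
  have e_add : ∀ x y, e (x + y) = e x * e y := fun x y => by
    change s _ = s _ * s _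
    rw [← sadd]
    congr 1
    apply ext2 <;> simp
  have f_add : ∀ x y, f (x + y) = f x * f y := fun x y => by
    change s _ = s _ * s _
    rw [← sadd]
    congr 1
    apply ext2 <;> simp
  have e0 : e 0 = 1 := by
    have := e_add 0 0
    rw [add_zero] at this
    exact left_eq_mul.1 this
  have f0 : f 0 = 1 := by
    have := f_add 0 0
    rw [add_zero] at this
    exact left_eq_mul.1 this
  have sef : ∀ u, s u = e (u 1) * f (u 0) := fun u => by
    change s u = s _ * s _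
    rw [← sadd]
    congr 1
    apply ext2 <;> simp
  -- torus
  have dge : ∀ (a : F) (ha : a ≠ 0) (x : G), Is P V D π x (dg a ha) → ∀ z, x * e z * x⁻¹ = e (a⁻¹ * z) ∧
      x * f z * x⁻¹ = f (a * z) := by
    intro a ha x hx z
    constructor
    · rw [hI x _ hx (Or.inl (hdg a ha)), ap_dg]
      congr 1
      apply ext2 <;> simp
    · rw [hI x _ hx (Or.inl (hdg a ha)), ap_dg]
      congr 1
      apply ext2 <;> simp
  -- `cm x (f z)` for `x` of type `lo b`
  have hγ : ∀ b x, Is P V D π x (lo b) → ∀ z, (e (b * z))⁻¹ * cm x (f z) ∈ D := by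
    intro b x hx z
    rw [← r.ker _ (mul_mem (inv_mem (sV _)) (r.cm_mem hx.mem (sV _))),
      r.mul _ (inv_mem (sV _)) _ (r.cm_mem hx.mem (sV _)), r.map_inv (sV _), r.π_cm hx (sV _), sπ, sπ, ap_lo]
    apply ext2 <;> simp
  choose l hl using fun b : F => r.is_lift (lo b)
  let γ : F → F → G := fun b z => (e (b * z))⁻¹ * cm (l b) (f z)
  have hγD : ∀ b z, γ b z ∈ D := fun b z => hγ b _ (hl b) z
  have hcm : ∀ b x, Is P V D π x (lo b) → ∀ z, cm x (f z) = e (b * z) * γ b z := by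
    intro b x hx z
    have : cm x (f z) = cm (l b) (f z) := by unfold cm; rw [r.is_eq hx (hl b) _ (sV _)]
    rw [this]
    change _ = e (b * z) * ((e (b * z))⁻¹ * _)
    rw [mul_inv_cancel_left]
  have hγz : ∀ b z z', γ b (z + z') = γ b z * γ b z' := by
    intro b z z'
    change (e (b * (z + z')))⁻¹ * cm (l b) (f (z + z')) = _
    rw [f_add, r.cm_add (hl b).mem (sV _) (sV _), mul_add, e_add, hcm b _ (hl b), hcm b _ (hl b)]
    have m1 := sV ![0, b * z]
    have m2 := sV ![0, b * z']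
    have m3 := r.DV (hγD b z)
    have c1 := hVc _ m3 _ m2
    have c2 := hVc _ m1 _ m2
    change γ b z * e (b * z') = e (b * z') * γ b z at c1
    change e (b * z) * e (b * z') = e (b * z') * e (b * z) at c2
    calc (e (b * z) * e (b * z'))⁻¹ * (e (b * z) * γ b z * (e (b * z') * γ b z'))
        = (e (b * z) * e (b * z'))⁻¹ * (e (b * z) * (γ b z * e (b * z')) * γ b z') := by group
      _ = (e (b * z) * e (b * z'))⁻¹ * (e (b * z) * (e (b * z') * γ b z) * γ b z') := by rw [c1]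
      _ = _ := by group
  have hγt : ∀ a (_ : a ≠ 0) b z, γ (b * a⁻¹ ^ 2) (a * z) = γ b z := by
    intro a ha b z
    obtain ⟨y, hy⟩ := r.is_lift (dg a ha)
    have hyl := r.is_mul (r.is_mul hy (hl b)) (r.is_inv hy)
    have e1 : dg a ha * lo b * (dg a ha)⁻¹ = lo (b * a⁻¹ ^ 2) := by
      rw [mul_inv_eq_iff_eq_mul]
      apply ext_ent <;> simp [ent_mul]
      field_simp
    rw [e1] at hyl
    have e2 : y * cm (l b) (f z) * y⁻¹ = cm (y * l b * y⁻¹) (y * f z * y⁻¹) := by unfold cm; group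
    rw [(dge a ha y hy z).2, hcm _ _ hyl, hcm b _ (hl b)] at e2
    have e3 : y * (e (b * z) * γ b z) * y⁻¹ = (y * e (b * z) * y⁻¹) * γ b z := by
      have := hy.cen _ (hγD b z)
      calc y * (e (b * z) * γ b z) * y⁻¹ = (y * e (b * z) * y⁻¹) * (y * γ b z * y⁻¹) := by group
        _ = _ := by rw [this]; group
    rw [e3, (dge a ha y hy _).1] at e2
    have e4 : a⁻¹ * (b * z) = b * a⁻¹ ^ 2 * (a * z) := by field_simp
    rw [e4] at e2
    exact (mul_left_cancel e2).symm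
  let g : F → G := fun y => γ 1 y
  have gD : ∀ y, g y ∈ D := fun y => hγD 1 y
  have g_add : ∀ x y, g (x + y) = g x * g y := fun x y => hγz 1 x y
  have g0 : g 0 = 1 := by
    have := g_add 0 0
    rw [add_zero] at this
    exact left_eq_mul.1 this
  have hγ0 : ∀ z, γ 0 z = 1 := by
    intro z
    change (e (0 * z))⁻¹ * cm (l 0) (f z) = 1
    have h3 : cm (l 0) (f z) = cm 1 (f z) := by
      unfold cm
      have := hl 0
      rw [lo_zero] at this
      rw [r.is_eq this r.is_one _ (sV _)]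
    rw [h3, zero_mul, e0]
    unfold cm; group
  have hγsq : ∀ a z, γ (a ^ 2) z = g (a * z) := by
    intro a z
    by_cases ha : a = 0
    · subst ha
      rw [zero_pow two_ne_zero, hγ0, zero_mul, g0]
    · rw [← hγt a ha]
      change _ = γ 1 (a * z)
      congr 1
      field_simp
  have hact : ∀ t x, Is P V D π x (lo (t ^ 2)) → ∀ v ∈ V, cm x v = e (t ^ 2 * π v 0) * g (t * π v 0) := by
    intro t x hx v hv
    have e1 : cm x v = cm x (f (π v 0) * e (π v 1)) := by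
      apply r.cm_eq hx hv (mul_mem (sV _) (sV _))
      rw [r.mul _ (sV _) _ (sV _), sπ, sπ]
      apply ext2 <;> simp
    have e2 : cm x (e (π v 1)) = 1 := by
      have h3 : x * e (π v 1) = e (π v 1) * x := hcen _ x hx _ (sV _) (by rw [sπ]; simp)
      unfold cm
      rw [h3]
      group
    rw [e1, r.cm_add hx.mem (sV _) (sV _), e2, mul_one, hcm _ x hx, hγsq]
  have hDc : ∀ d ∈ D, ∀ v ∈ V, d * v = v * d := fun d hd v hv => hVc d (r.DV hd) v hv
  -- `N`
  have smul : ∀ a b y a' b' y', (e a * f b * g y) * (e a' * f b' * g y') = e (a + a') * f (b + b') * g (y + y') := by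
    intro a b y a' b' y'
    rw [e_add, f_add, g_add]
    have c1 := hDc _ (gD y) _ (mul_mem (sV ![0, a']) (sV ![b', 0]))
    change g y * (e a' * f b') = (e a' * f b') * g y at c1
    have c2 := hVc _ (sV ![b, 0]) _ (sV ![0, a'])
    change f b * e a' = e a' * f b at c2
    calc (e a * f b * g y) * (e a' * f b' * g y') = e a * f b * (g y * (e a' * f b')) * g y' := by group
      _ = e a * f b * ((e a' * f b') * g y) * g y' := by rw [c1]
      _ = e a * (f b * e a') * f b' * g y * g y' := by group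
      _ = e a * (e a' * f b) * f b' * g y * g y' := by rw [c2]
      _ = _ := by group
  let N : Subgroup G :=
    { carrier := {z | ∃ a b y, z = e a * f b * g y}
      one_mem' := ⟨0, 0, 0, by rw [e0, f0, g0]; simp⟩
      mul_mem' := by
        rintro _ _ ⟨a, b, y, rfl⟩ ⟨a', b', y', rfl⟩
        exact ⟨_, _, _, smul _ _ _ _ _ _⟩
      inv_mem' := by
        rintro _ ⟨a, b, y, rfl⟩
        have h3 : e a * f b * g y ∈ V := mul_mem (mul_mem (sV _) (sV _)) (r.DV (gD y))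
        exact ⟨a, b, y, r.inv h3⟩ }
  have hNs : ∀ u, s u ∈ N := fun u => ⟨u 1, u 0, 0, by rw [g0, mul_one, ← sef]⟩
  have hNg : ∀ y, g y ∈ N := fun y => ⟨0, 0, y, by rw [e0, f0]; simp⟩
  -- `SL₂` acts on `N`
  have hN1 : ∀ x A, Is P V D π x A → (∀ u, x * s u * x⁻¹ ∈ N) → ∀ z ∈ N, x * z * x⁻¹ ∈ N := by
    rintro x A hx hs z ⟨a, b, y, rfl⟩
    have h3 := hx.cen _ (gD y)
    have h4 : x * (e a * f b * g y) * x⁻¹ = (x * e a * x⁻¹) * (x * f b * x⁻¹) * (x * g y * x⁻¹) := by group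
    rw [h4, h3, mul_inv_cancel_right]
    exact mul_mem (mul_mem (hs _) (hs _)) (hNg y)
  let K : Subgroup (Matrix.SpecialLinearGroup (Fin 2) F) :=
    { carrier := {A | ∀ x, Is P V D π x A → ∀ z ∈ N, x * z * x⁻¹ ∈ N}
      one_mem' := fun x hx z hz => by
        have hzV : z ∈ V := by
          obtain ⟨a, b, y, rfl⟩ := hz
          exact mul_mem (mul_mem (sV _) (sV _)) (r.DV (gD y))
        rw [r.is_eq hx r.is_one z hzV, one_mul, inv_one, mul_one]
        exact hz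
      mul_mem' := by
        intro A B hA hB x hx z hz
        obtain ⟨y, hy⟩ := r.is_lift B
        have h3 := r.is_mul hx (r.is_inv hy)
        rw [mul_inv_cancel_right] at h3
        have h4 := hA _ h3 _ (hB y hy z hz)
        have h5 : x * y⁻¹ * (y * z * y⁻¹) * (x * y⁻¹)⁻¹ = x * z * x⁻¹ := by group
        rwa [h5] at h4
      inv_mem' := by
        intro A hA x hx z hz
        have h3 := r.is_inv hx
        rw [inv_inv] at h3
        have h4 := hA _ h3
        have h5 : Function.Surjective (fun w : N => (⟨x⁻¹ * w * x⁻¹⁻¹, h4 w w.2⟩ : N)) := by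
          apply Finite.surjective_of_injective
          intro a b hab
          have h6 : x⁻¹ * (a : G) * x⁻¹⁻¹ = x⁻¹ * b * x⁻¹⁻¹ := congrArg Subtype.val hab
          exact Subtype.ext (mul_left_cancel (mul_right_cancel h6))
        obtain ⟨w, hw⟩ := h5 ⟨z, hz⟩
        have h6 : x⁻¹ * (w : G) * x⁻¹⁻¹ = z := congrArg Subtype.val hw
        have h7 : x * z * x⁻¹ = w := by rw [← h6]; group
        rw [h7]
        exact w.2 }
  have hlo : ∀ b, lo b ∈ K := by
    intro b x hx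
    obtain ⟨a, rfl⟩ := hsq b
    refine hN1 x _ hx fun u => ?_
    have h3 := hact a x hx _ (sV u)
    have h4 : x * s u * x⁻¹ = cm x (s u) * s u := by unfold cm; group
    rw [h4, h3]
    exact mul_mem (mul_mem (hNs _) (hNg _)) (hNs _)
  have hwmK : wm (1 : F) one_ne_zero ∈ K := by
    intro x hx
    refine hN1 x _ hx fun u => ?_
    rw [hI x _ hx (Or.inr hwm)]
    exact hNs _
  have hup : ∀ b, up b ∈ K := by
    intro b
    have h3 := wm_lo (1 : F) (-b) one_ne_zero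
    rw [one_pow, mul_one, neg_neg] at h3
    have h4 : up b = wm (1 : F) one_ne_zero * lo (-b) * (wm (1 : F) one_ne_zero)⁻¹ := by
      rw [h3, mul_inv_cancel_right]
    rw [h4]
    exact mul_mem (mul_mem hwmK (hlo _)) (inv_mem hwmK)
  have hK : ∀ A, A ∈ K := by
    intro A
    obtain ⟨a, b, c, d, rfl⟩ := exists_up_lo A
    exact mul_mem (mul_mem (mul_mem (hup _) (hlo _)) (hup _)) (hlo _)
  have hcN : ∀ x A, Is P V D π x A → ∀ v ∈ V, cm x v ∈ N := by
    intro x A hx v hv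
    have h3 : cm x v = cm x (s (π v)) := r.cm_eq hx hv (sV _) (sπ _).symm
    rw [h3]
    exact mul_mem (hK A x hx _ (hNs _)) (inv_mem (hNs _))
  have hND : ∀ z ∈ N, z ∈ D → ∃ y, z = g y := by
    rintro _ ⟨a, b, y, rfl⟩ hD
    have h3 : π (e a * f b * g y) = 0 :=
      (r.ker _ (mul_mem (mul_mem (sV _) (sV _)) (r.DV (gD y)))).2 hD
    rw [r.mul _ (mul_mem (sV _) (sV _)) _ (r.DV (gD y)), r.mul _ (sV _) _ (sV _), sπ, sπ,
      (r.ker _ (r.DV (gD y))).2 (gD y)] at h3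
    have h4 := congrFun h3 0
    have h5 := congrFun h3 1
    simp at h4 h5
    subst h4 h5
    exact ⟨y, by rw [e0, f0]; simp⟩
  have hgP : ∀ p ∈ P, ∀ y, ∃ y', p * g y * p⁻¹ = g y' := by
    intro p hp y
    obtain ⟨x, hx⟩ := r.is_lift (lo (1 ^ 2 : F))
    have h3 := hact 1 x hx (f y) (sV _)
    have hfy : π (f y) 0 = y := by
      change π (s _) 0 = y
      rw [sπ]; simp
    rw [hfy, one_pow, one_mul] at h3
    obtain ⟨v, hv, h4⟩ := st' ![0, y] t ht
    have h5 : g y = (cm t v)⁻¹ * cm x (f y) := by rw [h3, h4]; change g y = (e y)⁻¹ * _; group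
    have h6 : p * g y * p⁻¹ = (cm (p * t * p⁻¹) (p * v * p⁻¹))⁻¹ * cm (p * x * p⁻¹) (p * f y * p⁻¹) := by
      rw [h5]; unfold cm; group
    obtain ⟨B, hB⟩ := r.is_conj hp ht
    obtain ⟨B', hB'⟩ := r.is_conj hp hx
    apply hND
    · rw [h6]
      exact mul_mem (inv_mem (hcN _ _ hB _ (r.Vn p hp v hv))) (hcN _ _ hB' _ (r.Vn p hp _ (sV _)))
    · exact r.Dn p hp _ (gD y)
  refine ⟨e, f, g, N, fun z => sV _, fun z => sV _, gD, fun z => sπ _, fun z => sπ _, e_add, f_add, g_add,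
    fun a x hx v hv => ?_, hgP, fun z => Iff.rfl, fun x A hx v hv => hcN x A hx v hv, hND, fun p hp z hz => ?_⟩
  · have h3 := hact a x hx v hv
    have h4 : x * v * x⁻¹ = cm x v * v := by unfold cm; group
    rw [h4, h3]
  · obtain ⟨a, b, y, rfl⟩ := hz
    obtain ⟨v, hv, h4⟩ := st' ![b, a] t ht
    have h5 : e a * f b = cm t v := by
      rw [h4, sef]; simp
    obtain ⟨y', hy'⟩ := hgP p hp y
    obtain ⟨B, hB⟩ := r.is_conj hp ht
    have h6 : p * (e a * f b * g y) * p⁻¹ = cm (p * t * p⁻¹) (p * v * p⁻¹) * (p * g y * p⁻¹) := by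
      rw [h5]; unfold cm; group
    rw [h6, hy']
    exact mul_mem (hcN _ _ hB _ (r.Vn p hp v hv)) (hNg _)

end Rig

end Cfsg.Agent.Omega.HOne.NSMod

end

end
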