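import Cfsg.Agent.Mrg.Omega.HOne.SameOf
import Cfsg.Agent.Mrg.Omega.HOneQ.ECen
import Cfsg.Agent.Mrg.Omega.Lie.CubSQ
import Cfsg.Agent.Mrg.Omega.BTwo.CoordNat
import Cfsg.Agent.Mrg.Omega.Lie.LemmaTComp
import Cfsg.Agent.Mrg.Omega.IId.M4.Entry
import Cfsg.Agent.FixBN.OfBN
import Cfsg.Agent.S0319
import Cfsg.Agent.S0311
import Cfsg.Agent.S0314
import Cfsg.Agent.Schreier.BNUse
import Cfsg.Agent.Mrg.ParSys.Core
import Cfsg.Agent.Omega.HOneEnd.EndIn
import Cfsg.Agent.Mrg.Omega.Lie.End.Top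
import Cfsg.Agent.ZN.Facts
import Cfsg.Agent.MinSimple.VModule
import Cfsg.Agent.Mrg.Omega.Lie.End.Real
import Cfsg.Agent.Mrg.Omega.HOne.Cut
import Cfsg.Agent.Mrg.Omega.Lie.End.KSys
import Cfsg.Agent.Mrg.Omega.Mix.Control
import Cfsg.Agent.Mrg.Omega.IId.Cv.MixPlug
import Cfsg.Agent.Mrg.Omega.IId.Cv.Half
import Cfsg.Agent.Mrg.Omega.BTwo.Basic
import Cfsg.Agent.Mrg.Omega.IId.Cv.Syl
import Cfsg.Agent.Mrg.Omega.IId.Cv.MixEnd
import Cfsg.Agent.Mrg.Omega.IId.M4.Graph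
import Cfsg.Agent.Mrg.Omega.IId.Cv.Cut
import Cfsg.Agent.Mrg.Omega.IId.Cv.TwoBTwo
import Cfsg.Agent.Mrg.Omega.IId.ThmCD.Cor

-- merged: Cfsg.Agent.Mrg.Omega.HOne.SitT
section

/-!
# The split chain, `q ≥ 4`, over a 2-group `T` (Sylow in `N(R i)`, not in `G`)

* `exists_at`, `exists_coord` : coordinates at two points from `BT V (pt M)` alone;
* `SitT T M` : the situation; `SitT.of_sit4` (II.0h1, `Same4`: `T = S`), `SitT.of_ent` (II.d, `WrMain4`: `T = stab M i`);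
* derived: `exists_coord`, `exists_torD`, `exists_T` (every point is normalised by a conjugate of `T`, `TSyl`), `odd`,
  `exists_ZZ`, `exists_ZZ'`, `known`, `lay`.
-/

set_option autoImplicit false
set_option linter.unusedSectionVars false

namespace Cfsg.Agent.Omega.HOne.TLift

open Subgroup Cfsg Cfsg.Agent.Lib.SL2Mat Cfsg.Agent.Omega.MinPar Cfsg.Agent.ZN
open Cfsg.Agent.Omega.NatPair (NatMod Mutual exists_conj dt exists_ap)
open Cfsg.Agent.Omega.BTwo Cfsg.Agent.Omega.Lie Cfsg.Agent.Omega.Lie.Quot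
open Cfsg.Agent.Omega.Frame (Ctx Cls)
open Cfsg.Agent.Omega.HOne.SameOf (Sit4)
open Cfsg.Agent.Omega.HOneQ.SylIOf (TSyl)
open Cfsg.Agent.Omega.HOneQ.ECen (SylI)
open Cfsg.Agent.Omega.Lie.LayerMain (KRows)
open Cfsg.Agent.Omega.IIa4 (Lay)

universe u v

/-! ### Coordinates from `BT V (pt M)` -/

section coord

variable {G : Type u} [Group G] {F : Type v} [Field F] {V : Subgroup G} (M : NatMod F V)

/-- `O₂(N(R i)) ≤ N(V)` -/
theorem Q_le_NV {ι : Type*} {V : Subgroup G} {R : ι → Subgroup G} (b : BT V R) (i : ι) :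
    QQ (R i) ≤ normalizer (V : Set G) := by
  have key : ∀ g ∈ QQ (R i), ∀ v ∈ V, g * v * g⁻¹ ∈ V := by
    intro g hg v hv
    have h1 := mul_mem (b.R_le i (b.QV i g hg v hv)) hv
    rwa [inv_mul_cancel_right] at h1
  intro g hg
  rw [mem_normalizer_iff]
  intro x
  refine ⟨key g hg x, fun hx => ?_⟩
  have h1 := key g⁻¹ (inv_mem hg) _ hx
  have e : g⁻¹ * (g * x * g⁻¹) * g⁻¹⁻¹ = x := by group
  rwa [e] at h1

theorem exists_at [Finite G] (b : BT V (pt M)) (i : Pt M) : ∃ h, At V (pt M i) h := by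
  obtain ⟨h, hh, hm⟩ := b.mt i
  have hle : ∀ x ∈ normalizer (pt M i : Set G), BTwo.cj x V ≤ normalizer (V : Set G) := by
    intro x hx
    refine le_trans ?_ (Q_le_NV b i)
    have h1 := cj_mono (g := x) (b.V_Q i)
    rwa [cj_O2, ← normalizer_cj, cj_eq_self_iff.2 hx] at h1
  have hcomm : ∀ x ∈ BTwo.cj h V, ∀ y ∈ BTwo.cj h V, x * y = y * x := by
    intro x hx y hy
    rw [mem_cj] at hx hy
    have h1 := b.V_comm _ hx _ hy
    calc x * y = h * ((h⁻¹ * x * h) * (h⁻¹ * y * h)) * h⁻¹ := by group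
      _ = h * ((h⁻¹ * y * h) * (h⁻¹ * x * h)) * h⁻¹ := by rw [h1]
      _ = y * x := by group
  obtain ⟨k₁, hk₁, -⟩ := b.third i i
  refine ⟨h, hh, ⟨hle h hh, ?_, ?_⟩, ?_, b.V_Q i⟩
  · -- `V ≤ N(V^h)`
    have h1 := cj_mono (g := h) (hle h⁻¹ (inv_mem hh))
    rwa [← normalizer_cj, cj_cj_inv] at h1
  · -- `[V, V^h] ≠ 1`
    obtain ⟨k₂, hk₂, hk₂'⟩ := b.third i k₁
    obtain ⟨⟨v, hv, hvk⟩, -⟩ := hm k₁ k₂ hk₁ hk₂
    by_contra hcon
    push Not at hcon
    apply hk₂'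
    have h1 : BTwo.cj (h * v * h⁻¹) (pt M k₁) = pt M k₁ := by
      ext x
      rw [mem_cj]
      have h2 : ∀ y ∈ V, (h * v * h⁻¹)⁻¹ * y * (h * v * h⁻¹) = y := by
        intro y hy
        have := hcon y hy _ (conj_mem_cj (g := h) hv)
        calc (h * v * h⁻¹)⁻¹ * y * (h * v * h⁻¹) = (h * v * h⁻¹)⁻¹ * (y * (h * v * h⁻¹)) := by group
          _ = y := by rw [this]; group
      constructor
      · intro hx
        have h3 := h2 _ (b.R_le k₁ hx)
        have h4 : x = (h * v * h⁻¹)⁻¹ * x * (h * v * h⁻¹) := by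
          have h5 : (h * v * h⁻¹) * ((h * v * h⁻¹)⁻¹ * x * (h * v * h⁻¹)) * (h * v * h⁻¹)⁻¹ =
              (h * v * h⁻¹)⁻¹ * x * (h * v * h⁻¹) := by
            have h6 := h2 _ (b.R_le k₁ hx)
            calc (h * v * h⁻¹) * ((h * v * h⁻¹)⁻¹ * x * (h * v * h⁻¹)) * (h * v * h⁻¹)⁻¹ =
                (h * v * h⁻¹) * ((h * v * h⁻¹)⁻¹ * ((h * v * h⁻¹)⁻¹ * x * (h * v * h⁻¹)) * (h * v * h⁻¹)) *
                  (h * v * h⁻¹)⁻¹ := by rw [h6]
              _ = (h * v * h⁻¹)⁻¹ * x * (h * v * h⁻¹) := by group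
          rw [← h5]; group
        rw [h4]
        exact hx
      · intro hx
        rw [h2 x (b.R_le k₁ hx)]
        exact hx
    exact (b.R_index (h1.symm.trans hvk)).symm
  · -- `V ∩ V^h = R i`
    apply le_antisymm
    · intro x hx
      by_contra hxi
      obtain ⟨l, hl⟩ := b.R_cov x hx.1
      have hli : l ≠ i := fun e => hxi (e ▸ hl)
      obtain ⟨k, hk, hkl⟩ := b.third i l
      obtain ⟨⟨v, hv, hvk⟩, -⟩ := hm l k hli hk
      have h1 : x ∈ pt M k := by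
        rw [← hvk, mem_cj]
        have h2 := hcomm x hx.2 _ (conj_mem_cj (g := h) hv)
        have h3 : (h * v * h⁻¹)⁻¹ * x * (h * v * h⁻¹) = x := by
          calc (h * v * h⁻¹)⁻¹ * x * (h * v * h⁻¹) = (h * v * h⁻¹)⁻¹ * (x * (h * v * h⁻¹)) := by group
            _ = x := by rw [h2]; group
        rw [h3]
        exact hl
      have h2 : x ∈ pt M l ⊓ pt M k := ⟨hl, h1⟩
      rw [b.R_inf l k (Ne.symm hkl), mem_bot] at h2
      exact hxi (h2 ▸ one_mem _)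
    · refine le_inf (b.R_le i) ?_
      have h1 := cj_mono (g := h) (b.R_le i)
      rwa [cj_eq_self_iff.2 hh] at h1

variable [Finite G] [Finite F] [CharP F 2]

theorem half (b : BT V (pt M)) {w u : Fin 2 → F} (hdt : dt w u = 1) {h : G} (a : At V (M.line w) h)
    (hW : WW V (M.line w) ≤ QQ (M.line w)) (hQ : QQ (M.line w) ≤ normalizer (V : Set G)) :
    ∃ w1 : F → G, (∀ t, w1 t ∈ WW V (M.line w)) ∧
      (∀ t b c, w1 t * M.e (b • w + c • u) * (w1 t)⁻¹ = M.e ((b + t * c) • w + c • u)) ∧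
      ∀ x ∈ WW V (M.line w), ∃ t : F, ∀ b c, x * M.e (b • w + c • u) * x⁻¹ = M.e ((b + t * c) • w + c • u) := by
  have _ := b
  obtain ⟨w', hw', hl, hU, hf, -⟩ := IId.BtsOf.data M a hQ
  have hw : w ≠ 0 := by
    rintro rfl
    unfold dt at hdt
    simp at hdt
  obtain ⟨k, hk⟩ := (M.line_eq_iff hw).1 hl
  obtain ⟨k', hk'⟩ := (M.line_eq_iff hw').1 hl.symm
  have h1 : ∀ t : F, ∃ x ∈ WW V (M.line w), ∀ b c : F,
      x * M.e (b • w + c • u) * x⁻¹ = M.e ((b + t * c) • w + c • u) := by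
    intro t
    obtain ⟨B, hB, hBu⟩ := exists_tv hdt t
    obtain ⟨x, hx, hxB⟩ := hf B (by rw [hk', NatPair.ap_smul, hB])
    refine ⟨x, cj_le_WW a.norm hx, fun b c => ?_⟩
    rw [hxB, ap_comb B hB hBu]
  choose w1 hw1 hw1' using h1
  refine ⟨w1, hw1, hw1', fun x hx => ?_⟩
  obtain ⟨B, hB, hxB⟩ := hU (hW hx)
  have hBw : NatPair.ap B w = w := by rw [hk, NatPair.ap_smul, hB]
  obtain ⟨t, ht⟩ := exists_tv' hdt hBw
  refine ⟨t, fun b c => ?_⟩
  rw [hxB, ap_comb B hBw ht]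

/-- **coordinates** at two points, from `BT V (pt M)` -/
theorem exists_coord (b : BT V (pt M)) {i j : Pt M} (hij : i ≠ j) :
    ∃ w u : Fin 2 → F, dt w u = 1 ∧ pt M i = M.line w ∧ pt M j = M.line u ∧ ∃ w1 w2 : F → G,
      Coord V (pt M) i j (fun a b => M.e (a • w + b • u)) w1 w2 := by
  obtain ⟨Ri, w, hw, hi⟩ := i
  obtain ⟨Rj, u', hu', hj⟩ := j
  have h1 : dt w u' ≠ 0 := by
    intro h1
    apply hij
    apply Subtype.ext
    show Ri = Rj
    rw [hi, hj]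
    exact ((BTwo.line_eq_iff_dt M hw hu').2 h1).symm
  have h2 : dt w ((dt w u')⁻¹ • u') = 1 := by rw [NatPair.dt_smul, inv_mul_cancel₀ h1]
  have hj' : Rj = M.line ((dt w u')⁻¹ • u') := by rw [hj, M.line_smul (inv_ne_zero h1)]
  set u := (dt w u')⁻¹ • u' with hu
  refine ⟨w, u, h2, hi, hj', ?_⟩
  have hdt : dt w u = 1 := h2
  have hdt' : dt u w = 1 := by
    have h1 : dt u w = - dt w u := by unfold dt; ring
    rw [h1, hdt, CharTwo.neg_eq]
  obtain ⟨h, ha⟩ := exists_at M b ⟨Ri, w, hw, hi⟩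
  obtain ⟨h', ha'⟩ := exists_at M b ⟨Rj, u', hu', hj⟩
  have hWi := b.W_le_Q ⟨Ri, w, hw, hi⟩
  have hWj := b.W_le_Q ⟨Rj, u', hu', hj⟩
  have hQi := Q_le_NV b ⟨Ri, w, hw, hi⟩
  have hQj := Q_le_NV b ⟨Rj, u', hu', hj⟩
  have ei : pt M ⟨Ri, w, hw, hi⟩ = M.line w := hi
  have ej : pt M ⟨Rj, u', hu', hj⟩ = M.line u := hj'
  rw [ei] at ha hWi hQi
  rw [ej] at ha' hWj hQj
  obtain ⟨w1, hw1, hw1', hw1''⟩ := half M b hdt ha hWi hQi
  obtain ⟨w2, hw2, hw2', hw2''⟩ := half M b hdt' ha' hWj hQj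
  have hc : ∀ a b : F, a • w + b • u = b • u + a • w := fun a b => add_comm _ _
  refine ⟨w1, w2, ?_⟩
  exact
    { ne := hij
      v_add := fun b c b' c' => by
        rw [← M.e_add]
        congr 1
        rw [add_smul, add_smul]; abel
      v_one := fun b c h1 => by
        rw [M.e_eq_one] at h1
        constructor
        · have h2 := congrArg (dt u) h1
          rw [NatPair.dt_add, NatPair.dt_smul, NatPair.dt_smul, BTwo.dt_self, hdt', mul_zero, mul_one,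
            add_zero] at h2
          rw [h2]; unfold dt; simp
        · have h2 := congrArg (dt w) h1
          rw [NatPair.dt_add, NatPair.dt_smul, NatPair.dt_smul, BTwo.dt_self, hdt, mul_zero, mul_one,
            zero_add] at h2
          rw [h2]; unfold dt; simp
      mem_V := fun x => by
        rw [M.mem_iff]
        constructor
        · rintro ⟨y, rfl⟩
          obtain ⟨α, β, rfl⟩ := NatPair.exists_comb (by rw [hdt]; exact one_ne_zero : dt w u ≠ 0) y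
          exact ⟨α, β, rfl⟩
        · rintro ⟨α, β, rfl⟩
          exact ⟨_, rfl⟩
      mem_R1 := fun x => by
        rw [ei, M.mem_line]
        simp only [zero_smul, add_zero]
      mem_R2 := fun x => by
        rw [ej, M.mem_line]
        simp only [zero_smul, zero_add]
      w1_mem := fun a => by rw [ei]; exact hw1 a
      w2_mem := fun a => by rw [ej]; exact hw2 a
      w1_act := hw1'
      w2_act := fun a b c => by
        have := hw2' a c b
        rw [hc, this, hc]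
      W1_act := fun x hx => by
        rw [ei] at hx
        exact hw1'' x hx
      W2_act := fun x hx => by
        rw [ej] at hx
        obtain ⟨a, ha⟩ := hw2'' x hx
        refine ⟨a, fun b c => ?_⟩
        rw [hc, ha, hc] }

end coord

/-! ### The situation -/

/-- **The situation of the split chain, `q ≥ 4`**: `T ≤ N(V)` (`V = N`) is a 2-group, Sylow in `N(R i)` for a point `R i`
which it normalises; `BTS V (pt M)`; `C(X) ≠ 1`. -/
structure SitT {G : Type u} [Group G] [Finite G] (T : Subgroup G) {F : Type} [Field F] [Finite F] [CharP F 2]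
    {N : Subgroup G} (M : NatMod F N) : Prop where
  ctx : Ctx G
  two : IsPGroup 2 T
  le_N : T ≤ normalizer (N : Set G)
  exists_pt : ∃ i : Pt M, T ≤ normalizer (pt M i : Set G) ∧ Odd (T.relIndex (normalizer (pt M i : Set G)))
  bts : BTS N (pt M)
  four : 4 ≤ Nat.card F
  CenX_ne : CenX N (pt M) ≠ ⊥

theorem SitT.of_sit4 {G : Type u} [Group G] [Finite G] {S : Sylow 2 G} {P : Subgroup G} {g : G} {F : Type} [Field F]
    [Finite F] [CharP F 2] {N : Subgroup G} {M : NatMod F N} (h : Sit4 S P g M) : SitT (S : Subgroup G) M where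
  ctx := h.ctx
  two := S.isPGroup'
  le_N := h.le_N
  exists_pt := by
    obtain ⟨i, hi⟩ := HOneQ.exists_pt M S h.le_N
    exact ⟨i, hi, HOneQ.odd_relIndex S hi⟩
  bts := h.bts
  four := h.four
  CenX_ne := h.CenX_ne

open Cfsg.Agent.Omega.IId.FourSide in
theorem SitT.of_ent {K : Cls.{u}} {G : Type u} [Group G] [Finite G] {S : Sylow 2 G} {P : Subgroup G} {F : Type}
    [Field F] [Finite F] [CharP F 2] {M : FFThm.NatK F (S : Subgroup G) P (zl (S : Subgroup G) P) ⊥ 2} {i j : Fin 2}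
    {N : NatMod F (IId.fac M i)} (h : Ent K S P M i j N) : SitT (IId.stab M i) N where
  ctx := h.hyp.ctx
  two := h.four.T2
  le_N := IId.stab_normalizes M i
  exists_pt := by
    refine ⟨⟨N.line ![1, 0], _, vec_ne, rfl⟩, ?_⟩
    have h1 : pt N ⟨N.line ![1, 0], _, vec_ne, rfl⟩ = IId.line M i := h.line
    rw [h1]
    refine ⟨IId.stab_normalizes_line M h.four.le i, ?_⟩
    rw [← Nat.not_even_iff_odd, even_iff_two_dvd]
    exact h.four.syl
  bts := h.bts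
  four := h.four.q4
  CenX_ne := by
    intro h0
    have h1 : IId.fac M j ≤ ⊥ := h.cen.trans h0.le
    obtain ⟨v, hv, he⟩ := IId.exists_fac M j ![1, 0]
    rw [mem_bot.1 (h1 hv)] at he
    have h2 := congrFun he 0
    have h3 : M.e 1 j = 0 := by
      rw [IId.e_one M]
      rfl
    rw [h3] at h2
    simp at h2

namespace SitT

variable {G : Type u} [Group G] [Finite G] {T : Subgroup G} {F : Type} [Field F] [Finite F] [CharP F 2]
  {N : Subgroup G} {M : NatMod F N} (h : SitT T M)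
include h

theorem bt : BT N (pt M) := h.bts.toBT

theorem exists_ne : ∃ a : F, a ≠ 0 ∧ a ≠ 1 := HOneQ.exists_ne_one h.four

/-- coordinates at two points -/
theorem exists_coord {i j : Pt M} (hij : i ≠ j) :
    ∃ (v : F → F → G) (w1 w2 : F → G), Coord N (pt M) i j v w1 w2 := by
  obtain ⟨w, u, -, -, -, w1, w2, c⟩ := TLift.exists_coord M h.bt hij
  exact ⟨_, w1, w2, c⟩

/-- the torus at two points -/
theorem exists_torD {i j : Pt M} {v : F → F → G} {w1 w2 : F → G} (c : Coord N (pt M) i j v w1 w2) :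
    ∃ t : F → G, Lie.TorD N (pt M) i j v t :=
  Lie.coord_exists_torD h.bt c (h.bts.cen_W_isPGroup i)

theorem exists_pair : ∃ i j : Pt M, i ≠ j := h.bt.exists_pair

/-- `TSyl` at a point normalised by a conjugate of `T` -/
theorem exists_T (i : Pt M) : ∃ T₁ : Subgroup G, TSyl N (pt M) i T₁ := by
  obtain ⟨k, hk, hk'⟩ := h.exists_pt
  obtain ⟨x, hx, ex⟩ := h.bt.trans_X_one k i
  have hxN : x ∈ normalizer (N : Set G) := h.bt.X_le_NV hx
  have e1 : normalizer (N : Set G) = BTwo.cj x (normalizer (N : Set G)) := by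
    rw [← normalizer_cj, cj_eq_self_iff.2 hxN]
  have e2 : normalizer (pt M i : Set G) = BTwo.cj x (normalizer (pt M k : Set G)) := by
    rw [← normalizer_cj, ex]
  have hidx : ∀ A : Subgroup G, (BTwo.cj x T).relIndex (BTwo.cj x A) = T.relIndex A := by
    intro A
    exact relIndex_map_map_of_injective T A (MulAut.conj x).injective
  refine ⟨BTwo.cj x T, ?_, ?_, ?_, ?_⟩
  · exact isPGroup_cj h.two
  · rw [e1]; exact cj_mono h.le_N
  · rw [e2]; exact cj_mono hk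
  · rw [e2, hidx]; exact hk'

/-- `|N(R i) : N(R i) ∩ N(V)|` is odd -/
theorem odd (i : Pt M) : Odd ((normalizer (N : Set G)).relIndex (normalizer (pt M i : Set G))) := by
  obtain ⟨T₁, h1⟩ := h.exists_T i
  have h3 := h1.odd
  rw [← Nat.not_even_iff_odd, even_iff_two_dvd] at h3 ⊢
  exact fun hd => h3 (hd.trans (relIndex_dvd_of_le_left _ h1.leV))

theorem exists_ZZ {i k : Pt M} (hik : i ≠ k) : ∃ z ∈ ZZ N (pt M) i, z ∉ QQ (pt M k) := by
  obtain ⟨v, w1, w2, c⟩ := h.exists_coord hik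
  obtain ⟨T₁, h1⟩ := h.exists_T i
  exact HOneQ.exists_ZZ_of_coord h.bts c h.exists_ne h1.leR h1.leV h1.odd hik h.CenX_ne

/-- the hypothesis `hZ` of `HOne/SimpleOf.lean` -/
theorem exists_ZZ' {i k : Pt M} (hik : i ≠ k) : ∃ z ∈ ZZ N (pt M) k, z ∉ DD N (pt M) := by
  obtain ⟨z, hz, hzQ⟩ := h.exists_ZZ (i := k) (k := i) (Ne.symm hik)
  exact ⟨z, hz, fun hD => hzQ ((h.bt.W_le_Q i) (D_le_W N (pt M) i hD))⟩

/-- the components of `N(R i)/O₂(N(R i))` are known -/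
theorem known (i : Pt M) (K : Subgroup (HQ (pt M i))) (hK : IsComponent K) : IsKnownSimple' (K ⧸ center K) :=
  LayerKnown.known h.ctx.kproper (HOneQ.LayI.normalizer_ne_top h.bt h.ctx.simple h.ctx.nonComm i) hK.2

/-- `SylI` at `(i, j)` -/
theorem sylI {i j : Pt M} {v : F → F → G} {w1 w2 t : F → G} (c : Coord N (pt M) i j v w1 w2)
    (τ : TorD N (pt M) i j v t) {T₁ : Subgroup G} (h1 : TSyl N (pt M) i T₁) : SylI τ (SS (pt M) i T₁) :=
  h1.sylI h.bt τ (CrdOf.crd c) c.ne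

/-- **LAYER** at `(i, j)` -/
theorem lay (KR : KRows.{u}) {i j : Pt M} {v : F → F → G} {w1 w2 t : F → G} (c : Coord N (pt M) i j v w1 w2)
    (τ : TorD N (pt M) i j v t) {S : Subgroup (HQ (pt M i))} (I : SylI τ S) : Lay N (pt M) i j (TT τ) S :=
  HOneQ.LayI.lay KR h.bts c τ (h.odd i) h.four I fun K hK _ => h.known i K hK

end SitT

end Cfsg.Agent.Omega.HOne.TLift

end

-- merged: Cfsg.Agent.Mrg.Omega.HOneEnd.BNCore
section

/-!
# LeafH1, END: groups with a (B,N)-pair and a Borel 2-group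

`Bor Q U` : `U` is a normal 2-subgroup of odd index of the Borel subgroup `Q.B`, not stabilised in the panels.

* `mem_core` : an element of `B` which fixes the panels of `B` and all chambers `n B`, `n ∈ N`, lies in the core of `B`
  (rigidity);
* `Bor.normalizer_eq`, `Bor.odd` : `N(U) = B`, `U` is a Sylow 2-subgroup;
* `isCoatom` : the normaliser of `R` if it contains `B` and all but one of the fundamental reflections;
* `Bor.core_eq_bot`, `Bor.perfect`, `Bor.simple`.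
-/

set_option autoImplicit false
set_option linter.unusedSectionVars false

namespace Cfsg.Agent.Omega.HOneEnd.BNCore

open Subgroup Cfsg Cfsg.Agent.LieExceptional.BNPairCore Cfsg.Agent.Tits.Core Cfsg.Agent.Tits.Core.Bldg
  Cfsg.Agent.Tits.OfBN Cfsg.Agent.Tits.OppRes

variable {K : Type*} [Group K]

/-- **Rigidity.** -/
theorem mem_core [Finite K] (P : Cfsg.BNPair K) {u : K} (hB : u ∈ P.B)
    (hpan : ∀ s ∈ P.S, ∀ b ∈ P.B, (b * s)⁻¹ * u * (b * s) ∈ P.B) (hN : ∀ n ∈ P.N, n⁻¹ * u * n ∈ P.B) :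
    u ∈ P.B.normalCore := by
  obtain ⟨M, hNn, cs, hcs⟩ := Tits.Labels.exists_bnType P
  have hI : Finite P.S := inferInstance
  set e : P.S ≃ P.S := Equiv.refl P.S
  set Δ := bldg P e cs hcs with hΔ
  have hiso : ∀ (g : K) (a b : K ⧸ P.B), Δ.δ (g • a) (g • b) = Δ.δ a b := fun g a b => dist_smul P g a b
  -- the opposite chamber
  obtain ⟨n₀, hn₀⟩ : ∃ n : P.N, (QuotientGroup.mk n : WP P) = wJ cs Set.univ :=
    QuotientGroup.mk_surjective _
  have hopp : Δ.δ (QuotientGroup.mk 1) (QuotientGroup.mk (n₀ : K)) = wJ cs Set.univ := by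
    rw [bldg_δ_mk, inv_one, one_mul, ← hn₀]
    exact wt_of_mem P (self_mem_C _)
  have hagree : Tits.Rigid.Agree Δ (fun z => u • z) (fun z => z) Set.univ (QuotientGroup.mk 1 : K ⧸ P.B) := by
    intro i _ z hz
    induction z using QuotientGroup.induction_on with
    | _ a =>
    show u • (QuotientGroup.mk a : K ⧸ P.B) = QuotientGroup.mk a
    rw [FixBN.OfBN.smul_mk_eq]
    rcases hz with hz | hz
    · rw [FixBN.OfBN.mk_eq] at hz
      have ha : a ∈ P.B := by simpa using inv_mem hz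
      exact mul_mem (mul_mem (inv_mem ha) hB) ha
    · rw [bldg_δ_mk, hcs, inv_one, one_mul] at hz
      obtain ⟨b₁, hb₁, b₂, hb₂, h1⟩ := mem_C.1 (mem_C_of_wt P hz)
      have h2 := hpan _ i.2 b₁ hb₁
      have e1 : a⁻¹ * u * a = b₂⁻¹ * ((b₁ * (i : K))⁻¹ * u * (b₁ * i)) * b₂ := by
        have h1' : a = b₁ * (i : K) * b₂ := h1
        rw [h1']; group
      rw [e1]
      exact mul_mem (mul_mem (inv_mem hb₂) h2) hb₂
  have h1 : ∀ z ∈ Δ.Res Set.univ (QuotientGroup.mk 1), u • z = z :=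
    Tits.Rigid.rigid (thick P e cs hcs) (φ := fun z => u • z) (ψ := fun z => z) (fun a _ b _ => hiso u a b)
      (fun a _ b _ => rfl) hagree hopp (FixBN.OfBN.smul_mk_eq.2 (hN _ n₀.2))
  intro b
  have h2 := h1 (QuotientGroup.mk b⁻¹) (by rw [Bldg.Res_univ]; trivial)
  rw [FixBN.OfBN.smul_mk_eq, inv_inv] at h2
  exact h2

/-! ### The Borel 2-group -/

/-- `U` is a normal 2-subgroup of odd index of the Borel subgroup `Q.B`. -/
structure Bor (Q : Cfsg.BNPair K) (U : Subgroup K) : Prop where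
  le : U ≤ Q.B
  norm : ∀ b ∈ Q.B, ∀ u ∈ U, b * u * b⁻¹ ∈ U
  two : IsPGroup 2 U
  index : Odd (U.relIndex Q.B)
  ne : ∀ s ∈ Q.S, ∃ u ∈ U, s⁻¹ * u * s ∉ Q.B

namespace Bor

variable {Q : Cfsg.BNPair K} {U : Subgroup K} (h : Bor Q U)

include h

theorem normalizer_eq : normalizer (U : Set K) = Q.B :=
  Schreier.BNSch.normalizer_eq Q U h.le h.norm h.ne

/-- 2-elements of `B` lie in `U` -/
theorem mem_of_pow {x : K} (hx : x ∈ Q.B) {n : ℕ} (hn : x ^ 2 ^ n ∈ U) : x ∈ U := by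
  have hnor : Q.B ≤ normalizer (U : Set K) := by rw [h.normalizer_eq]
  have h1 := ParSys.Hall.pow_relIndex_mem hnor hx
  exact ParSys.Hall.mem_of_pow_mem_of_coprime hn h1
    ((Nat.coprime_two_left.2 h.index).pow_left n)

variable [Finite K]

/-- `U` is a Sylow 2-subgroup. -/
theorem odd : Odd U.index := by
  have : Fact (Nat.Prime 2) := ⟨Nat.prime_two⟩
  obtain ⟨S, hS⟩ := Schreier.BNUse.exists_sylow (p := 2) U h.two (by
    rw [h.normalizer_eq, ← even_iff_two_dvd, Nat.not_even_iff_odd]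
    exact h.index)
  rw [← Nat.not_even_iff_odd, even_iff_two_dvd, ← hS]
  exact S.not_dvd_index

theorem exists_sylow : ∃ S : Sylow 2 K, (S : Subgroup K) = U := by
  have : Fact (Nat.Prime 2) := ⟨Nat.prime_two⟩
  exact Schreier.BNUse.exists_sylow (p := 2) U h.two (by
    rw [h.normalizer_eq, ← even_iff_two_dvd, Nat.not_even_iff_odd]
    exact h.index)

/-- A group generated by its 2-elements is generated by the conjugates of `U`. -/
theorem le_of_conj (hgen : Subgroup.closure {x : K | ∃ a : ℕ, x ^ 2 ^ a = 1} = ⊤) {M : Subgroup K}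
    (hM : ∀ g : K, ∀ u ∈ U, g * u * g⁻¹ ∈ M) : M = ⊤ := by
  have : Fact (Nat.Prime 2) := ⟨Nat.prime_two⟩
  obtain ⟨S, hS⟩ := h.exists_sylow
  rw [eq_top_iff, ← hgen, Subgroup.closure_le]
  rintro x ⟨a, ha⟩
  have hz : IsPGroup 2 (zpowers x) := by
    rintro ⟨_, k, rfl⟩
    refine ⟨a, Subtype.ext ?_⟩
    show (x ^ k) ^ 2 ^ a = 1
    rw [← zpow_natCast, ← zpow_mul, mul_comm, zpow_mul, zpow_natCast, ha, one_zpow]
  obtain ⟨T, hT⟩ := hz.exists_le_sylow
  obtain ⟨g, hg⟩ := MulAction.exists_smul_eq K S T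
  have h1 : x ∈ (T : Subgroup K) := hT (mem_zpowers x)
  rw [← hg, Sylow.smul_def, Sylow.pointwise_smul_def, hS, Subgroup.mem_smul_pointwise_iff_exists] at h1
  obtain ⟨u, hu, h2⟩ := h1
  rw [← h2]
  exact hM g u hu

/-- the core of `B` is central if it has no 2-part -/
theorem core_eq_bot (hgen : Subgroup.closure {x : K | ∃ a : ℕ, x ^ 2 ^ a = 1} = ⊤)
    (hO : ∀ M ≤ U, M.Normal → M = ⊥) (hZ : center K = ⊥) : Q.B.normalCore = ⊥ := by
  set C := Q.B.normalCore with hC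
  have hCn : C.Normal := inferInstance
  have hCB : C ≤ Q.B := Subgroup.normalCore_le Q.B
  have hUn : ∀ b ∈ Q.B, ∀ u ∈ U, b * u * b⁻¹ ∈ U := h.norm
  -- the 2-part of the core
  have h1 : (C ⊓ U : Subgroup K) = ⊥ := by
    apply hO _ inf_le_right
    constructor
    rintro x ⟨hxC, hxU⟩ g
    have h2 : g * x * g⁻¹ ∈ C := hCn.conj_mem x hxC g
    obtain ⟨a, ha⟩ := h.two ⟨x, hxU⟩
    have ha' : x ^ 2 ^ a = 1 := by simpa using congrArg Subtype.val ha
    refine ⟨h2, h.mem_of_pow (hCB h2) (n := a) ?_⟩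
    rw [conj_pow, ha', mul_one, mul_inv_cancel]
    exact one_mem _
  rw [eq_bot_iff]
  intro x hx
  -- `x` centralises `U`
  have h3 : ∀ u ∈ U, x * u * x⁻¹ * u⁻¹ = 1 := by
    intro u hu
    have h4 : x * u * x⁻¹ * u⁻¹ ∈ C := by
      have h5 := hCn.conj_mem _ (inv_mem hx) u
      have h6 := mul_mem hx h5
      have e : x * (u * x⁻¹ * u⁻¹) = x * u * x⁻¹ * u⁻¹ := by group
      rwa [e] at h6
    have h5 : x * u * x⁻¹ * u⁻¹ ∈ U := mul_mem (hUn x (hCB hx) u hu) (inv_mem hu)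
    have h6 : x * u * x⁻¹ * u⁻¹ ∈ (C ⊓ U : Subgroup K) := ⟨h4, h5⟩
    rw [h1] at h6
    exact mem_bot.1 h6
  -- hence all of the core centralises all conjugates of `U`
  have hall : ∀ y ∈ C, ∀ u ∈ U, y * u * y⁻¹ * u⁻¹ = 1 := by
    intro y hy u hu
    have h4 : y * u * y⁻¹ * u⁻¹ ∈ C := by
      have h5 := hCn.conj_mem _ (inv_mem hy) u
      have h6 := mul_mem hy h5
      have e : y * (u * y⁻¹ * u⁻¹) = y * u * y⁻¹ * u⁻¹ := by group
      rwa [e] at h6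
    have h5 : y * u * y⁻¹ * u⁻¹ ∈ U := mul_mem (hUn y (hCB hy) u hu) (inv_mem hu)
    have h6 : y * u * y⁻¹ * u⁻¹ ∈ (C ⊓ U : Subgroup K) := ⟨h4, h5⟩
    rw [h1] at h6
    exact mem_bot.1 h6
  have h7 : centralizer (C : Set K) = ⊤ := by
    apply h.le_of_conj hgen
    intro g u hu
    rw [mem_centralizer_iff]
    intro y hy
    have h8 := hall (g⁻¹ * y * g) (by simpa using hCn.conj_mem y hy g⁻¹) u hu
    have h9 : (g⁻¹ * y * g) * u = u * (g⁻¹ * y * g) := by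
      have h10 := mul_inv_eq_one.1 h8
      exact mul_inv_eq_iff_eq_mul.1 h10
    calc y * (g * u * g⁻¹) = g * ((g⁻¹ * y * g) * u) * g⁻¹ := by group
      _ = g * (u * (g⁻¹ * y * g)) * g⁻¹ := by rw [h9]
      _ = g * u * g⁻¹ * y := by group
  have h8 : x ∈ center K := by
    rw [mem_center_iff]
    intro g
    have h9 : g ∈ centralizer (C : Set K) := by rw [h7]; trivial
    exact (mem_centralizer_iff.1 h9 x hx).symm
  rw [hZ] at h8
  exact h8

/-- **Tits' criterion** (Bourbaki's form: `U` is soluble, its conjugates generate, `K` is perfect). -/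
theorem simple (hgen : Subgroup.closure {x : K | ∃ a : ℕ, x ^ 2 ^ a = 1} = ⊤) (hirr : Q.Irreducible)
    (hS : Q.S.Nonempty) (hperf : commutator K = ⊤) (hcore : Q.B.normalCore = ⊥) : IsSimpleGroup K := by
  have hfact : Fact (Nat.Prime 2) := ⟨Nat.prime_two⟩
  obtain ⟨s₀, hs₀⟩ := hS
  have : Nontrivial K := by
    refine ⟨⟨s₀, 1, ?_⟩⟩
    rintro rfl
    exact Schreier.BNSch.not_mem_B Q hs₀ (one_mem _)
  refine ⟨fun H hH => ?_⟩
  obtain ⟨J, hJ, hHJ⟩ : ∃ J ⊆ Q.S, H ⊔ Q.B = Q.parabolic J :=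
    ⟨_, Set.inter_subset_left, eq_parabolic le_sup_right⟩
  have hcomm : ∀ s ∈ J, ∀ s' ∈ Q.S \ J, s * s' * s⁻¹ * s'⁻¹ ∈ Q.B := fun s hs s' hs' =>
    S0319.commute_of_normal Q H hJ hHJ hs hs'
  rcases J.eq_empty_or_nonempty with rfl | hJne
  · left
    have h1 : H ≤ Q.B := by
      have : Q.parabolic ∅ = Q.B := by
        show Q.B ⊔ Subgroup.closure ∅ = Q.B
        rw [Subgroup.closure_empty, sup_bot_eq]
      rw [← this, ← hHJ]
      exact le_sup_left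
    rw [← le_bot_iff, ← hcore]
    exact (Subgroup.normal_le_normalCore).2 h1
  · right
    rcases (Q.S \ J).eq_empty_or_nonempty with hemp | hne
    · -- `H B = K`
      have hJS : J = Q.S := Set.Subset.antisymm hJ (Set.sdiff_eq_empty.1 hemp)
      have htop : H ⊔ Q.B = ⊤ := by
        rw [hHJ, hJS, parabolic_S_eq_top]
      -- `H U = K`
      have hHU : H ⊔ U = ⊤ := by
        apply h.le_of_conj hgen
        intro g u hu
        have hg : g ∈ H ⊔ Q.B := by rw [htop]; trivial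
        obtain ⟨x, hx, b, hb, rfl⟩ := (Subgroup.mem_sup_of_normal_left).1 hg
        have h1 : b * u * b⁻¹ ∈ H ⊔ U := mem_sup_right (h.norm b hb u hu)
        have h2 : x ∈ H ⊔ U := mem_sup_left hx
        have e : x * b * u * (x * b)⁻¹ = x * (b * u * b⁻¹) * x⁻¹ := by group
        rw [e]
        exact mul_mem (mul_mem h2 h1) (inv_mem h2)
      have hsurj : Function.Surjective ((QuotientGroup.mk' H).comp U.subtype) := by
        intro q
        obtain ⟨g, rfl⟩ := QuotientGroup.mk'_surjective H q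
        have hg : g ∈ H ⊔ U := by rw [hHU]; trivial
        obtain ⟨x, hx, b, hb, hxb⟩ := (Subgroup.mem_sup_of_normal_left).1 hg
        refine ⟨⟨b, hb⟩, ?_⟩
        have h0 : (QuotientGroup.mk' H) g = (QuotientGroup.mk' H) x * (QuotientGroup.mk' H) b := by
          rw [← map_mul, hxb]
        rw [h0]
        have h1 : (QuotientGroup.mk' H) x = 1 := (QuotientGroup.eq_one_iff x).2 hx
        rw [h1, one_mul]
        rfl
      have hUs : Group.IsSolvable U := by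
        have := h.two.isNilpotent
        infer_instance
      have hsolvQ : Group.IsSolvable (K ⧸ H) := Group.isSolvable_of_surjective hsurj
      by_contra hne
      have hnt : Nontrivial (K ⧸ H) := by
        rw [← not_subsingleton_iff_nontrivial]
        intro hsub
        exact hne (QuotientGroup.subgroup_eq_top_of_subsingleton H hsub)
      have hlt := Group.IsSolvable.commutator_lt_top_of_nontrivial (G := K ⧸ H)
      have hmap : commutator (K ⧸ H) = ⊤ := by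
        have h1 : (commutator K).map (QuotientGroup.mk' H) = commutator (K ⧸ H) := by
          rw [commutator_def, Subgroup.map_commutator, commutator_def]
          rw [Subgroup.map_top_of_surjective _ (QuotientGroup.mk'_surjective H)]
        rw [← h1, hperf, Subgroup.map_top_of_surjective _ (QuotientGroup.mk'_surjective H)]
      exact hlt.ne hmap
    · exfalso
      obtain ⟨s, hs, s', hs', h⟩ := hirr J hJ hJne hne
      exact h (hcomm s hs s' hs')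

/-- **Perfectness**: a torus `H ≤ B`, normalised by `N`, with `U = [U,H] C_U(H)` and `C_U(H)` trivial on the panels. -/
theorem perfect (hgen : Subgroup.closure {x : K | ∃ a : ℕ, x ^ 2 ^ a = 1} = ⊤) (hcore : Q.B.normalCore = ⊥)
    {H : Subgroup K} (_hHB : H ≤ Q.B) (hHN : Q.N ≤ normalizer (H : Set K))
    (hcov : ∀ u ∈ U, ∃ c ∈ U, c ∈ centralizer (H : Set K) ∧ u * c⁻¹ ∈ commutator K)
    (hfix : ∀ s ∈ Q.S, ∀ c ∈ U, c ∈ centralizer (H : Set K) → ∀ b ∈ Q.B, (b * s)⁻¹ * c * (b * s) ∈ Q.B) :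
    commutator K = ⊤ := by
  -- `C = C_U(H)` is normalised by `N`
  have hstep : ∀ s ∈ Q.S, ∀ c, c ∈ U → c ∈ centralizer (H : Set K) →
      s⁻¹ * c * s ∈ U ∧ s⁻¹ * c * s ∈ centralizer (H : Set K) := by
    intro s hs c hcU hcC
    have h1 := hfix s hs c hcU hcC 1 (one_mem _)
    rw [one_mul] at h1
    obtain ⟨a, ha⟩ := h.two ⟨c, hcU⟩
    have ha' : c ^ 2 ^ a = 1 := by simpa using congrArg Subtype.val ha
    refine ⟨h.mem_of_pow h1 (n := a) ?_, ?_⟩
    · have e : (s⁻¹ * c * s) ^ 2 ^ a = s⁻¹ * c ^ 2 ^ a * s := by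
        have := conj_pow (a := s⁻¹) (b := c) (i := 2 ^ a)
        rwa [inv_inv] at this
      rw [e, ha', mul_one, inv_mul_cancel]
      exact one_mem _
    · rw [mem_centralizer_iff] at hcC ⊢
      intro x hx
      have h2 : s * x * s⁻¹ ∈ H := (mem_normalizer_iff.1 (hHN (Q.subset hs)) x).1 hx
      have h3 := hcC _ h2
      calc x * (s⁻¹ * c * s) = s⁻¹ * (s * x * s⁻¹ * c) * s := by group
        _ = s⁻¹ * (c * (s * x * s⁻¹)) * s := by rw [h3]
        _ = s⁻¹ * c * s * x := by group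
  -- finiteness: also for the inverse
  have hN : ∀ n ∈ Q.N, ∀ c, c ∈ U → c ∈ centralizer (H : Set K) →
      n⁻¹ * c * n ∈ U ∧ n⁻¹ * c * n ∈ centralizer (H : Set K) := by
    set C : Subgroup K := U ⊓ centralizer (H : Set K) with hC
    have hSN : ∀ s ∈ Q.S, s ∈ normalizer (C : Set K) := by
      intro s hs
      have h1 : C.map (MulAut.conj s⁻¹).toMonoidHom ≤ C := by
        rintro _ ⟨c, hc, rfl⟩
        show s⁻¹ * c * s⁻¹⁻¹ ∈ C
        rw [inv_inv]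
        exact hstep s hs c hc.1 hc.2
      have h2 : C.map (MulAut.conj s⁻¹).toMonoidHom = C :=
        Subgroup.eq_of_le_of_card_ge h1 (le_of_eq (Nat.card_congr
          (C.equivMapOfInjective (MulAut.conj s⁻¹).toMonoidHom (MulAut.conj s⁻¹).injective).toEquiv))
      rw [mem_normalizer_iff'']
      intro g
      constructor
      · intro hg
        exact hstep s hs g hg.1 hg.2
      · intro hg
        have hg' : s⁻¹ * g * s ∈ C := hg
        rw [← h2] at hg'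
        obtain ⟨c, hc, h3⟩ := hg'
        have h4 : s⁻¹ * c * s⁻¹⁻¹ = s⁻¹ * g * s := h3
        have h5 : c = g := by
          rw [inv_inv] at h4
          exact mul_left_cancel (mul_right_cancel h4)
        rw [← h5]
        exact hc
    have hTN : Q.B ⊓ Q.N ≤ normalizer (C : Set K) := by
      rintro t ⟨htB, htN⟩
      have htH := hHN htN
      rw [mem_normalizer_iff]
      intro c
      constructor
      · rintro ⟨hcU, hcC⟩
        refine ⟨h.norm t htB c hcU, ?_⟩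
        have hcC : c ∈ centralizer (H : Set K) := hcC
        show t * c * t⁻¹ ∈ centralizer (H : Set K)
        rw [mem_centralizer_iff] at hcC ⊢
        intro x hx
        have h2 : t⁻¹ * x * t ∈ H := (mem_normalizer_iff''.1 htH x).1 hx
        have h3 := hcC _ h2
        calc x * (t * c * t⁻¹) = t * ((t⁻¹ * x * t) * c) * t⁻¹ := by group
          _ = t * (c * (t⁻¹ * x * t)) * t⁻¹ := by rw [h3]
          _ = t * c * t⁻¹ * x := by group
      · rintro ⟨hcU, hcC⟩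
        have e : c = t⁻¹ * (t * c * t⁻¹) * t := by group
        have h4 := h.norm t⁻¹ (inv_mem htB) _ hcU
        rw [inv_inv, ← e] at h4
        refine ⟨h4, ?_⟩
        have hcC : t * c * t⁻¹ ∈ centralizer (H : Set K) := hcC
        show c ∈ centralizer (H : Set K)
        rw [mem_centralizer_iff] at hcC ⊢
        intro x hx
        have h2 : t * x * t⁻¹ ∈ H := (mem_normalizer_iff.1 htH x).1 hx
        have h3 := hcC _ h2
        calc x * c = t⁻¹ * ((t * x * t⁻¹) * (t * c * t⁻¹)) * t := by group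
          _ = t⁻¹ * ((t * c * t⁻¹) * (t * x * t⁻¹)) * t := by rw [h3]
          _ = c * x := by group
    have hNN : Q.N ≤ normalizer (C : Set K) := by
      rw [← Q.closure_sup, sup_le_iff, Subgroup.closure_le]
      exact ⟨hSN, hTN⟩
    intro n hn c hcU hcC
    have h5 := (mem_normalizer_iff''.1 (hNN hn) c).1 ⟨hcU, hcC⟩
    exact h5
  have hC1 : ∀ c ∈ U, c ∈ centralizer (H : Set K) → c = 1 := by
    intro c hcU hcC
    have h1 : c ∈ Q.B.normalCore :=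
      mem_core Q (h.le hcU) (fun s hs b hb => hfix s hs c hcU hcC b hb)
        (fun n hn => h.le (hN n hn c hcU hcC).1)
    rw [hcore] at h1
    exact mem_bot.1 h1
  apply h.le_of_conj hgen
  intro g u hu
  have h2 : u ∈ commutator K := by
    obtain ⟨c, hcU, hcC, h3⟩ := hcov u hu
    rw [hC1 c hcU hcC, inv_one, mul_one] at h3
    exact h3
  exact (inferInstance : (commutator K).Normal).conj_mem u h2 g

end Bor

/-- A proper overgroup of `B` which contains all but one of the fundamental reflections is maximal. -/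
theorem isCoatom (Q : Cfsg.BNPair K) {N : Subgroup K} (hBN : Q.B ≤ N) {s₀ : K} (hs₀ : s₀ ∈ Q.S) (h0 : s₀ ∉ N)
    (hS : ∀ s ∈ Q.S, s ≠ s₀ → s ∈ N) : IsCoatom N := by
  refine ⟨fun h => h0 (by rw [h]; trivial), fun M hM => ?_⟩
  have h1 := eq_parabolic (P := Q) (hBN.trans hM.le)
  have h2 := eq_parabolic (P := Q) hBN
  by_cases h3 : s₀ ∈ M
  · have h4 : Q.S ∩ M = Q.S := by
      apply Set.inter_eq_left.2
      intro s hs
      by_cases h5 : s = s₀
      · rw [h5]; exact h3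
      · exact hM.le (hS s hs h5)
    rw [h4, parabolic_S_eq_top] at h1
    exact h1
  · exfalso
    apply hM.ne
    rw [h1, h2]
    congr 1
    ext s
    constructor
    · rintro ⟨hs, hsN⟩
      exact ⟨hs, hM.le hsN⟩
    · rintro ⟨hs, hsM⟩
      refine ⟨hs, hS s hs ?_⟩
      rintro rfl
      exact h3 hsM

end Cfsg.Agent.Omega.HOneEnd.BNCore

end

-- merged: Cfsg.Agent.Mrg.Omega.HOneEnd.OfPre
section

/-!
# LeafH1, END: from the output of THEOREM PAR to `EndIn`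

* `exists_bn` : a system `Pre 2 B U P m` which generates `K` has a (B,N)-pair with Borel subgroup `B`, `Bor Q U`, and `K` is
  perfect if the core of `B` is trivial and `K` is generated by its 2-elements;
* `endIn_of_bn` : `EndIn` from a (B,N)-pair of `G₀` (for `q = 2` too: `Bor.of_two`);
* `endIn_of_pre` : `EndIn` from `Pre 2 B U P m`.
-/

set_option autoImplicit false
set_option linter.unusedSectionVars false

namespace Cfsg.Agent.Omega.HOneEnd

open Subgroup Cfsg.Agent.ParSys Cfsg.Agent.Omega.Lie.End BNCore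
open Cfsg.Agent.LieExceptional.BNPairCore
open scoped commutatorElement

/-! ### The (B,N)-pair of `Pre` -/

section top

variable {K : Type*} [Group K] {I : Type*} {B U : Subgroup K} {P : I → Subgroup K} {m : I → I → ℕ}

/-- `U = [U,H] C_U(H)` in the form needed. -/
theorem exists_fix_mul [Finite K] {H : Subgroup K} (D : Hall.HallData 2 B U H) {u : K} (hu : u ∈ U) :
    ∃ c ∈ U, c ∈ centralizer (H : Set K) ∧ u * c⁻¹ ∈ commutator K := by
  have : Fact (Nat.Prime 2) := ⟨Nat.prime_two⟩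
  set M : Subgroup K := commutator K ⊓ U with hM
  have hHU := D.H_norm_U
  have hHM : H ≤ normalizer (M : Set K) := by
    intro x hx
    rw [mem_normalizer_iff]
    intro y
    constructor
    · rintro ⟨h1, h2⟩
      exact ⟨(inferInstance : (commutator K).Normal).conj_mem y h1 x, (mem_normalizer_iff.1 (hHU hx) y).1 h2⟩
    · rintro ⟨h1, h2⟩
      refine ⟨?_, (mem_normalizer_iff.1 (hHU hx) y).2 h2⟩
      have h3 := (inferInstance : (commutator K).Normal).conj_mem _ h1 x⁻¹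
      have e : x⁻¹ * (x * y * x⁻¹) * x⁻¹⁻¹ = y := by group
      rw [e] at h3
      exact h3
  have hMU : M ≤ U := inf_le_right
  have hMcop : (Nat.card H).Coprime (Nat.card M) := D.card_cop.coprime_dvd_right (card_dvd_of_le hMU)
  have hMs : Group.IsSolvable M := by
    have := (D.U_pgroup.to_le hMU).isNilpotent
    infer_instance
  -- `u H u⁻¹ ≤ H M`
  have hle : H.map (MulAut.conj u).toMonoidHom ≤ H ⊔ M := by
    rintro _ ⟨x, hx, rfl⟩
    show u * x * u⁻¹ ∈ H ⊔ M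
    have h1 : x * u⁻¹ * x⁻¹ ∈ U := (mem_normalizer_iff.1 (hHU hx) u⁻¹).1 (inv_mem hu)
    have h2 : u * (x * u⁻¹ * x⁻¹) ∈ M := by
      refine ⟨?_, mul_mem hu h1⟩
      have h3 : ⁅u, x⁆ ∈ commutator K := commutator_mem_commutator (mem_top u) (mem_top x)
      rw [commutatorElement_def] at h3
      have e : u * (x * u⁻¹ * x⁻¹) = u * x * u⁻¹ * x⁻¹ := by group
      rw [e]
      exact h3
    have e : u * x * u⁻¹ = u * (x * u⁻¹ * x⁻¹) * x := by group
    rw [e]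
    exact mul_mem (mem_sup_right h2) (mem_sup_left hx)
  obtain ⟨k, hk, h1⟩ := Solvable.Glauberman.exists_conj_of_le_sup H M hHM hMcop (Or.inr hMs)
    (H.map (MulAut.conj u).toMonoidHom) hle
    (Nat.card_congr (H.equivMapOfInjective _ (MulAut.conj u).injective).symm.toEquiv)
  -- `c = k⁻¹ u` normalises `H`
  have hcU : k⁻¹ * u ∈ U := mul_mem (inv_mem (hMU hk)) hu
  have hcH : ∀ x ∈ H, (k⁻¹ * u) * x * (k⁻¹ * u)⁻¹ ∈ H := by
    intro x hx
    have h2 : u * x * u⁻¹ ∈ H.map (MulAut.conj u).toMonoidHom := ⟨x, hx, rfl⟩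
    rw [← h1, Subgroup.mem_smul_pointwise_iff_exists] at h2
    obtain ⟨y, hy, h3⟩ := h2
    rw [MulAut.smul_def, MulAut.conj_apply] at h3
    have e : (k⁻¹ * u) * x * (k⁻¹ * u)⁻¹ = y := by
      have e1 : (k⁻¹ * u) * x * (k⁻¹ * u)⁻¹ = k⁻¹ * (u * x * u⁻¹) * k := by group
      rw [e1, ← h3]; group
    rw [e]; exact hy
  refine ⟨k⁻¹ * u, hcU, ?_, ?_⟩
  · rw [mem_centralizer_iff]
    intro x hx
    have h2 := hcH x hx
    have h3 : (k⁻¹ * u) * (x * (k⁻¹ * u)⁻¹ * x⁻¹) ∈ U :=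
      mul_mem hcU ((mem_normalizer_iff.1 (hHU hx) _).1 (inv_mem hcU))
    have h4 : (k⁻¹ * u) * (x * (k⁻¹ * u)⁻¹ * x⁻¹) ∈ H := by
      have e : (k⁻¹ * u) * (x * (k⁻¹ * u)⁻¹ * x⁻¹) = (k⁻¹ * u) * x * (k⁻¹ * u)⁻¹ * x⁻¹ := by group
      rw [e]
      exact mul_mem h2 (inv_mem hx)
    have h5 : Disjoint H U := Subgroup.disjoint_of_coprime_natCard D.card_cop
    have h6 : (k⁻¹ * u) * (x * (k⁻¹ * u)⁻¹ * x⁻¹) ∈ (H ⊓ U : Subgroup K) := ⟨h4, h3⟩
    rw [disjoint_iff.1 h5, mem_bot] at h6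
    have e : (k⁻¹ * u) * (x * (k⁻¹ * u)⁻¹ * x⁻¹) = ((k⁻¹ * u) * x) * (x * (k⁻¹ * u))⁻¹ := by group
    rw [e, mul_inv_eq_one] at h6
    exact h6.symm
  · have e : u * (k⁻¹ * u)⁻¹ = k := by group
    rw [e]
    exact hk.1

/-- **The (B,N)-pair of a generating system `Pre`.** -/
theorem exists_bn [Finite K] [Finite I] (D : Pre 2 B U P m) (gen : ⨆ i, P i = ⊤)
    (conn : ∀ J : Set I, J.Nonempty → Jᶜ.Nonempty → ∃ i ∈ J, ∃ j ∈ Jᶜ, 3 ≤ m i j) :
    ∃ Q : Cfsg.BNPair K, Q.B = B ∧ Bor Q U ∧ Q.rank = Nat.card I ∧ Q.Irreducible ∧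
      (∃ e : I ≃ Q.S, ∀ i, (e i : K) ∈ P i) ∧
      (Subgroup.closure {x : K | ∃ a : ℕ, x ^ 2 ^ a = 1} = ⊤ → Q.B.normalCore = ⊥ → commutator K = ⊤) := by
  have : Fact (Nat.Prime 2) := ⟨Nat.prime_two⟩
  obtain ⟨H, S⟩ := D.exists_sys gen
  obtain ⟨n, hnH, E⟩ := S.data
  have hBor : Bor E.bnPair U := {
    le := D.U_le
    norm := fun b hb u hu => (mem_normalizer_iff.1 (D.norm hb) u).1 hu
    two := D.isP
    index := Nat.coprime_two_left.1 D.index
    ne := by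
      rintro _ ⟨i, rfl⟩
      obtain ⟨x, hx, hxB, hx2⟩ := E.three i
      obtain ⟨u, hu, h1⟩ := E.pan i x hx hxB
      refine ⟨u, hu, fun h2 => hx2 ?_⟩
      have h3 := mul_mem (show (n i)⁻¹ * u * n i ∈ B from h2) h1
      have e : (n i)⁻¹ * u * n i * ((u * n i)⁻¹ * x) = (n i)⁻¹ * x := by group
      rwa [e] at h3 }
  refine ⟨E.bnPair, rfl, hBor, E.rank_bnPair, E.irreducible conn,
    ⟨Equiv.ofInjective n E.n_injective, fun i => E.n_mem i⟩, fun hgen hcore => ?_⟩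
  refine hBor.perfect hgen hcore (H := H) S.hall.H_le ?_ (fun u hu => exists_fix_mul S.hall hu) ?_
  · show Subgroup.closure _ ≤ _
    rw [Subgroup.closure_le]
    rintro x (hx | ⟨i, rfl⟩)
    · exact hx.2
    · exact hnH i
  · rintro _ ⟨i, rfl⟩ c hc hcC b hb
    exact S.fix i c hc hcC _ (mul_mem (S.le i hb) (E.n_mem i))

end top

/-! ### `EndIn` from a (B,N)-pair -/

/-- `q = 2` : the Borel subgroup is a 2-group. -/
theorem Bor.of_two {K : Type*} [Group K] {Q : Cfsg.BNPair K} (h : IsPGroup 2 Q.B) : Bor Q Q.B where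
  le := le_rfl
  norm := fun b hb u hu => mul_mem (mul_mem hb hu) (inv_mem hb)
  two := h
  index := by rw [relIndex_self]; exact odd_one
  ne := by
    intro s hs
    by_contra hne
    push Not at hne
    have hs2 := Q.sq_mem s hs
    apply Q.conj_ne s hs
    ext x
    constructor
    · rintro ⟨b, hb, rfl⟩
      have h1 := hne b hb
      have e : s * b * s = (s * s) * (s⁻¹ * b * s) := by group
      show s * b * s ∈ Q.B
      rw [e]
      exact mul_mem hs2 h1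
    · intro hx
      -- `x = s b s` with `b = s⁻¹ x s⁻¹ = s⁻¹ (x (s s)⁻¹) s`
      refine ⟨s⁻¹ * (x * (s * s)⁻¹) * s, hne _ (mul_mem hx (inv_mem hs2)), ?_⟩
      show s * (s⁻¹ * (x * (s * s)⁻¹) * s) * s = x
      group

variable {G : Type*} [Group G] [Finite G] {S G₀ U R : Subgroup G} {v : G}

/-- 2-elements of `G₀` -/
theorem closure_two (hgen : G₀ ≤ Subgroup.closure {x : G | x ∈ G₀ ∧ ∃ a : ℕ, x ^ 2 ^ a = 1}) :
    Subgroup.closure {x : ↥G₀ | ∃ a : ℕ, x ^ 2 ^ a = 1} = ⊤ := by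
  rw [eq_top_iff]
  intro x _
  have h1 : ∀ y (hy : y ∈ Subgroup.closure {x : G | x ∈ G₀ ∧ ∃ a : ℕ, x ^ 2 ^ a = 1}),
      ∃ h : y ∈ G₀, (⟨y, h⟩ : ↥G₀) ∈ Subgroup.closure {x : ↥G₀ | ∃ a : ℕ, x ^ 2 ^ a = 1} := by
    intro y hy
    induction hy using Subgroup.closure_induction with
    | mem y hy => exact ⟨hy.1, subset_closure (by
        obtain ⟨-, a, ha⟩ := hy
        exact ⟨a, Subtype.ext ha⟩)⟩
    | one => exact ⟨one_mem _, one_mem _⟩
    | mul y z _ _ h1 h2 =>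
      obtain ⟨a1, a2⟩ := h1
      obtain ⟨b1, b2⟩ := h2
      exact ⟨mul_mem a1 b1, mul_mem a2 b2⟩
    | inv y _ h1 =>
      obtain ⟨a1, a2⟩ := h1
      exact ⟨inv_mem a1, inv_mem a2⟩
  obtain ⟨h, h2⟩ := h1 x (hgen x.2)
  exact h2

/-- What the local analysis delivers besides the (B,N)-pair. -/
structure EndSide (S G₀ U R : Subgroup G) (v : G) : Prop where
  cent : centralizer (G₀ : Set G) = ⊥
  S_two : IsPGroup 2 S
  S_G₀ : S ≤ normalizer (G₀ : Set G)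
  S_R : S ≤ normalizer (R : Set G)
  S_inf : S ⊓ G₀ = U
  N_R : normalizer (R : Set G) ≤ normalizer (G₀ : Set G)
  R_U : R ≤ U
  U_R : U ≤ centralizer (R : Set G)
  R_ne : R ≠ ⊥
  v_U : v ∈ U
  U_v : U ≤ centralizer {v}
  v_ne : v ≠ 1
  v_R : ¬ G₀ ⊓ centralizer {v} ≤ normalizer (R : Set G)
  nonab : ∃ W ≤ G₀, IsPGroup 2 W ∧ G₀ ⊓ normalizer (R : Set G) ≤ normalizer (W : Set G) ∧
    ¬ W ≤ centralizer (W : Set G)

theorem EndSide.U_le (h : EndSide S G₀ U R v) : U ≤ G₀ := by rw [← h.S_inf]; exact inf_le_right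

/-- the maximality of `N_{G₀}(R)` -/
theorem coatom_of_e {K : Type*} [Group K] {Q : Cfsg.BNPair K} {I : Type*} (e : I ≃ Q.S) {P : I → Subgroup K}
    (he : ∀ i, (e i : K) ∈ P i) {N : Subgroup K} (hBN : Q.B ≤ N) {o : I} (hi : ∀ i, i ≠ o → P i ≤ N)
    (ho : ¬ P o ≤ N) : IsCoatom N := by
  have h1 : ∀ s ∈ Q.S, s ≠ (e o : K) → s ∈ N := by
    intro s hs hne
    have h2 : (e (e.symm ⟨s, hs⟩) : K) = s := by rw [Equiv.apply_symm_apply]
    have h3 : e.symm ⟨s, hs⟩ ≠ o := by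
      intro h4
      rw [h4] at h2
      exact hne h2.symm
    have h4 := hi _ h3 (he (e.symm ⟨s, hs⟩))
    rwa [h2] at h4
  refine BNCore.isCoatom Q hBN (e o).2 (fun h0 => ho ?_) h1
  have h2 : N = ⊤ := by
    rw [eq_parabolic (P := Q) hBN]
    have h4 : Q.S ∩ N = Q.S := by
      apply Set.inter_eq_left.2
      intro s hs
      by_cases h5 : s = (e o : K)
      · rw [h5]; exact h0
      · exact h1 s hs h5
    rw [h4, parabolic_S_eq_top]
  rw [h2]
  exact le_top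

/-- **`EndIn` from a (B,N)-pair of `G₀`.** -/
theorem endIn_of_bn (h : EndSide S G₀ U R v) {Q : Cfsg.BNPair ↥G₀} (hb : Bor Q (U.subgroupOf G₀))
    (h3 : 3 ≤ Q.rank) (hirr : Q.Irreducible)
    (hgen : G₀ ≤ Subgroup.closure {x : G | x ∈ G₀ ∧ ∃ a : ℕ, x ^ 2 ^ a = 1}) (hcore : Q.B.normalCore = ⊥)
    (hperf : commutator ↥G₀ = ⊤)
    (hBR : ∀ b ∈ Q.B, (b : G) ∈ normalizer (R : Set G))
    (hmax : IsCoatom ((normalizer (R : Set G)).subgroupOf G₀)) : EndIn S G₀ U R v := by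
  have hU := h.U_le
  have hR : R ≤ G₀ := h.R_U.trans hU
  have hS : Q.S.Nonempty := by
    by_contra h0
    rw [Set.not_nonempty_iff_eq_empty] at h0
    have : Q.rank = 0 := by
      unfold Cfsg.BNPair.rank
      rw [h0]
      simp
    omega
  exact {
    simple := hb.simple (closure_two hgen) hirr hS hperf hcore
    bn := ⟨Q, hb.le, h3, hirr⟩
    cent := h.cent
    S_two := h.S_two
    S_G₀ := h.S_G₀
    S_R := h.S_R
    S_inf := h.S_inf
    odd := hb.odd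
    N_R := h.N_R
    R_U := h.R_U
    U_R := h.U_R
    R_ne := h.R_ne
    NU := by
      rintro x ⟨hx, hxU⟩
      have h1 : (⟨x, hx⟩ : ↥G₀) ∈ normalizer (U.subgroupOf G₀ : Set ↥G₀) :=
        (mem_normalizer_subgroupOf hU).2 hxU
      rw [hb.normalizer_eq] at h1
      exact hBR _ h1
    R_lt := by
      intro h1
      apply hmax.1
      rw [eq_top_iff]
      intro x _
      exact mem_subgroupOf.2 (h1 x.2)
    max := by
      intro M hM hlt
      have h1 : (normalizer (R : Set G)).subgroupOf G₀ < M.subgroupOf G₀ := by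
        refine lt_of_le_of_ne ?_ ?_
        · intro x hx
          exact mem_subgroupOf.2 (hlt.le ⟨x.2, mem_subgroupOf.1 hx⟩)
        · intro h2
          obtain ⟨x, hxM, hx⟩ := SetLike.exists_of_lt hlt
          apply hx
          have h3 : (⟨x, hM hxM⟩ : ↥G₀) ∈ M.subgroupOf G₀ := mem_subgroupOf.2 hxM
          rw [← h2] at h3
          exact ⟨hM hxM, mem_subgroupOf.1 h3⟩
      have h2 := hmax.2 _ h1
      rw [subgroupOf_eq_top] at h2
      exact le_antisymm hM h2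
    v_U := h.v_U
    U_v := h.U_v
    v_ne := h.v_ne
    v_R := h.v_R
    nonab := h.nonab }

/-- the core of `B` -/
theorem core_of (h : EndSide S G₀ U R v) {Q : Cfsg.BNPair ↥G₀} (hb : Bor Q (U.subgroupOf G₀))
    (hgen : G₀ ≤ Subgroup.closure {x : G | x ∈ G₀ ∧ ∃ a : ℕ, x ^ 2 ^ a = 1})
    (hO : ∀ M ≤ U, G₀ ≤ normalizer (M : Set G) → M = ⊥) : Q.B.normalCore = ⊥ := by
  apply hb.core_eq_bot (closure_two hgen)
  · intro M hM hn
    have h1 : M.map G₀.subtype = ⊥ := by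
      apply hO
      · rintro _ ⟨x, hx, rfl⟩
        exact mem_subgroupOf.1 (hM hx)
      · intro g hg
        rw [mem_normalizer_iff]
        intro x
        constructor
        · rintro ⟨y, hy, rfl⟩
          exact ⟨_, hn.conj_mem y hy ⟨g, hg⟩, rfl⟩
        · rintro ⟨y, hy, hyx⟩
          have hyx' : (y : G) = g * x * g⁻¹ := hyx
          refine ⟨_, hn.conj_mem y hy ⟨g, hg⟩⁻¹, ?_⟩
          show g⁻¹ * (y : G) * g⁻¹⁻¹ = x
          rw [hyx']; group
    rw [eq_bot_iff]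
    intro x hx
    have h2 : (x : G) ∈ M.map G₀.subtype := ⟨x, hx, rfl⟩
    rw [h1, mem_bot] at h2
    exact mem_bot.2 (Subtype.ext h2)
  · rw [eq_bot_iff]
    intro x hx
    have h2 : (x : G) ∈ centralizer (G₀ : Set G) := by
      rw [mem_centralizer_iff]
      intro g hg
      exact congrArg Subtype.val (mem_center_iff.1 hx ⟨g, hg⟩)
    rw [h.cent, mem_bot] at h2
    exact mem_bot.2 (Subtype.ext h2)

/-- **`q = 2`** : `EndIn` from a (B,N)-pair with Borel subgroup `U` (THEOREM FREE). -/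
theorem endIn_of_two {I : Type*} {P : I → Subgroup G} (h : EndSide S G₀ U R v) {Q : Cfsg.BNPair ↥G₀}
    (hQ : Q.B = U.subgroupOf G₀) (h3 : 3 ≤ Q.rank) (hirr : Q.Irreducible)
    (e : I ≃ Q.S) (he : ∀ i, ((e i : ↥G₀) : G) ∈ P i) (hPG : ∀ i, P i ≤ G₀)
    (hgen : G₀ ≤ Subgroup.closure {x : G | x ∈ G₀ ∧ ∃ a : ℕ, x ^ 2 ^ a = 1})
    (hO : ∀ M ≤ U, G₀ ≤ normalizer (M : Set G) → M = ⊥) (hperf : commutator ↥G₀ = ⊤) {o : I}
    (hi : ∀ i, i ≠ o → P i ≤ normalizer (R : Set G)) (ho : ¬ P o ≤ normalizer (R : Set G)) :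
    EndIn S G₀ U R v := by
  have hU := h.U_le
  have hU2 : IsPGroup 2 (U.subgroupOf G₀) := by
    have h1 : U ≤ S := by rw [← h.S_inf]; exact inf_le_left
    exact (h.S_two.to_le h1).comap_of_injective _ (Subgroup.subtype_injective _)
  have hb : Bor Q (U.subgroupOf G₀) := by
    rw [← hQ] at hU2 ⊢
    exact Bor.of_two hU2
  have hcR : U ≤ normalizer (R : Set G) := h.U_R.trans (by
    intro x hx
    rw [mem_normalizer_iff]
    rw [mem_centralizer_iff] at hx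
    intro y
    constructor
    · intro hy
      have e : x * y * x⁻¹ = y := by rw [← hx y hy]; group
      rw [e]; exact hy
    · intro hy
      have h2 := hx _ hy
      have e : y = x * y * x⁻¹ := by
        have e2 : x * y * x⁻¹ * x = x * (x * y * x⁻¹) := h2
        have e3 : x * y = x * (x * y * x⁻¹) := by rw [← e2]; group
        exact mul_left_cancel e3
      rw [e]; exact hy)
  have hBR : ∀ b ∈ Q.B, (b : G) ∈ normalizer (R : Set G) := by
    intro b hb'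
    rw [hQ] at hb'
    exact hcR (mem_subgroupOf.1 hb')
  refine endIn_of_bn h hb h3 hirr hgen (core_of h hb hgen hO) hperf hBR ?_
  refine coatom_of_e e (P := fun i => (P i).subgroupOf G₀) (fun i => mem_subgroupOf.2 (he i)) ?_ (o := o) ?_ ?_
  · intro b hb'
    exact mem_subgroupOf.2 (hBR b hb')
  · intro i hne x hx
    exact mem_subgroupOf.2 (hi i hne (mem_subgroupOf.1 hx))
  · intro h1
    apply ho
    intro x hx
    have h2 : (⟨x, hPG o hx⟩ : ↥G₀) ∈ (P o).subgroupOf G₀ := mem_subgroupOf.2 hx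
    exact mem_subgroupOf.1 (h1 h2)

/-- **`EndIn` from `Pre`.** -/
theorem endIn_of_pre {I : Type*} [Finite I] {B : Subgroup G} {P : I → Subgroup G} {m : I → I → ℕ}
    (D : Pre 2 B U P m) (h3 : 3 ≤ Nat.card I)
    (conn : ∀ J : Set I, J.Nonempty → Jᶜ.Nonempty → ∃ i ∈ J, ∃ j ∈ Jᶜ, 3 ≤ m i j)
    (hG₀ : ⨆ i, P i = G₀) (h : EndSide S G₀ U R v)
    (hgen : G₀ ≤ Subgroup.closure {x : G | x ∈ G₀ ∧ ∃ a : ℕ, x ^ 2 ^ a = 1})
    (hO : ∀ M ≤ U, G₀ ≤ normalizer (M : Set G) → M = ⊥) {o : I}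
    (hi : ∀ i, i ≠ o → P i ≤ normalizer (R : Set G)) (ho : ¬ P o ≤ normalizer (R : Set G)) :
    EndIn S G₀ U R v := by
  have : Fact (Nat.Prime 2) := ⟨Nat.prime_two⟩
  obtain ⟨i₀, hi₀⟩ : ∃ i : I, i ≠ o := by
    have : Nontrivial I := Finite.one_lt_card_iff_nontrivial.1 (by omega)
    exact exists_ne o
  have hP : ∀ i, P i ≤ G₀ := fun i => by rw [← hG₀]; exact le_iSup P i
  have hr : ∀ i, P i ≤ G₀.subtype.range := fun i => by rw [range_subtype]; exact hP i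
  have hB : B ≤ G₀ := (D.le o).trans (hP o)
  have D' := D.comap (φ := G₀.subtype) (by rw [ker_subtype]; exact IsPGroup.of_bot) ((D.le i₀).trans (hr i₀)) hr
  have hgen' : ⨆ i, (P i).comap G₀.subtype = ⊤ := by
    have e : (⨆ i, (P i).comap G₀.subtype).map G₀.subtype = (⊤ : Subgroup ↥G₀).map G₀.subtype := by
      rw [Subgroup.map_iSup, ← MonoidHom.range_eq_map, range_subtype]
      have e1 : ∀ i, ((P i).comap G₀.subtype).map G₀.subtype = P i := fun i => map_comap_eq_self (hr i)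
      simp only [e1]
      exact hG₀
    exact map_injective (subtype_injective _) e
  obtain ⟨Q, hQB, hb, hrank, hirr, ⟨e, he⟩, hperf⟩ := exists_bn D' hgen' conn
  have hb' : Bor Q (U.subgroupOf G₀) := hb
  have hcore := core_of h hb' hgen hO
  have hBR : ∀ b ∈ Q.B, (b : G) ∈ normalizer (R : Set G) := by
    intro b hb1
    rw [hQB] at hb1
    exact hi i₀ hi₀ (D.le i₀ hb1)
  refine endIn_of_bn h hb' (by rw [hrank]; exact h3) hirr hgen hcore (hperf (closure_two hgen) hcore) hBR ?_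
  refine coatom_of_e e (P := fun i => (P i).comap G₀.subtype) he ?_ (o := o) ?_ ?_
  · intro b hb'
    exact mem_subgroupOf.2 (hBR b hb')
  · intro i hne x hx
    exact mem_subgroupOf.2 (hi i hne hx)
  · intro h1
    apply ho
    intro x hx
    have h2 : (⟨x, hP o hx⟩ : ↥G₀) ∈ (P o).comap G₀.subtype := hx
    exact mem_subgroupOf.1 (h1 h2)

/-! ### The form of the consumer (811, `HOne/SameCut.lean`) -/

/-- `O₂(G₀) = 1` from the nonlocality of the pair `N(V)`, `N(R)`. -/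
theorem hO_of_nonloc {V : Subgroup G} (hUG : U ≤ G₀) (hU2 : IsPGroup 2 U) (hodd : Odd (U.relIndex G₀))
    (hV : normalizer (V : Set G) ≤ normalizer (G₀ : Set G)) (hR : normalizer (R : Set G) ≤ normalizer (G₀ : Set G))
    (nonloc : ∀ M ≤ U, normalizer (V : Set G) ≤ normalizer (M : Set G) →
      normalizer (R : Set G) ≤ normalizer (M : Set G) → M = ⊥) :
    ∀ M ≤ U, G₀ ≤ normalizer (M : Set G) → M = ⊥ := by
  have hfact : Fact (Nat.Prime 2) := ⟨Nat.prime_two⟩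
  intro M hM hn
  have h1 : ZN.o2 G₀ ≤ U := by
    intro x hx
    have hnd : ¬ 2 ∣ (U.subgroupOf G₀).index := by
      rw [← even_iff_two_dvd, Nat.not_even_iff_odd]
      exact hodd
    set T : Sylow 2 ↥G₀ := (hU2.comap_of_injective G₀.subtype G₀.subtype_injective).toSylow hnd with hT
    have h2 : IsPGroup 2 ((ZN.o2 G₀).subgroupOf G₀) :=
      (MinSimple.VModule.o2_isPGroup G₀).comap_of_injective _ G₀.subtype_injective
    have h3 : ((ZN.o2 G₀).subgroupOf G₀).Normal :=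
      normal_subgroupOf_of_le_normalizer (MinSimple.VModule.le_normalizer_o2 G₀)
    have h4 : (ZN.o2 G₀).subgroupOf G₀ ≤ (T : Subgroup ↥G₀) := h2.le_sylow_of_normal T
    have h5 : (⟨x, MinSimple.VModule.o2_le G₀ hx⟩ : ↥G₀) ∈ (ZN.o2 G₀).subgroupOf G₀ := mem_subgroupOf.2 hx
    exact h4 h5
  have h2 : ZN.o2 G₀ = ⊥ := by
    apply nonloc _ h1
    · exact hV.trans (ZN.normalizer_le_normalizer_o2 G₀)
    · exact hR.trans (ZN.normalizer_le_normalizer_o2 G₀)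
  have h3 : M ≤ ZN.o2 G₀ := MinSimple.VModule.le_o2 (hM.trans hUG) (hU2.to_le hM) hn
  rw [h2] at h3
  exact le_bot_iff.1 h3

/-- **`EndIn` for a Sylow 2-subgroup `S` of `G`**, from the data of the chain (same type, `q ≥ 4`). -/
theorem endIn_of_chain {I : Type*} [Finite I] {B U V R G₀ : Subgroup G} {P : I → Subgroup G} {m : I → I → ℕ}
    (D : Pre 2 B U P m) (h3 : 3 ≤ Nat.card I)
    (conn : ∀ J : Set I, J.Nonempty → Jᶜ.Nonempty → ∃ i ∈ J, ∃ j ∈ Jᶜ, 3 ≤ m i j)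
    (hG₀ : ⨆ i, P i = G₀) {o : I} (ho : ¬ P o ≤ normalizer (R : Set G))
    (hi : ∀ i, i ≠ o → P i ≤ normalizer (R : Set G)) (S : Sylow 2 G) (hUS : U ≤ S)
    (hSV : (S : Subgroup G) ≤ normalizer (V : Set G)) (hSR : (S : Subgroup G) ≤ normalizer (R : Set G))
    (hV : normalizer (V : Set G) ≤ normalizer (G₀ : Set G)) (hR : normalizer (R : Set G) ≤ normalizer (G₀ : Set G))
    (cent : centralizer (G₀ : Set G) = ⊥) (R_U : R ≤ U) (U_R : U ≤ centralizer (R : Set G)) (R_ne : R ≠ ⊥)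
    {v : G} (v_U : v ∈ U) (v_ne : v ≠ 1) (U_v : ∀ u ∈ U, u * v = v * u)
    (v_R : ∃ x ∈ G₀, x * v = v * x ∧ x ∉ normalizer (R : Set G))
    (w : ∃ W ≤ U, normalizer (R : Set G) ≤ normalizer (W : Set G) ∧ ∃ x ∈ W, ∃ y ∈ W, x * y ≠ y * x)
    (hgen : ∀ H : Subgroup G, (∀ x ∈ G₀, (∃ n : ℕ, x ^ 2 ^ n = 1) → x ∈ H) → G₀ ≤ H)
    (nonloc : ∀ M ≤ U, normalizer (V : Set G) ≤ normalizer (M : Set G) →
      normalizer (R : Set G) ≤ normalizer (M : Set G) → M = ⊥) :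
    EndIn (S : Subgroup G) G₀ U R v := by
  have hfact : Fact (Nat.Prime 2) := ⟨Nat.prime_two⟩
  have hPG : ∀ i, P i ≤ G₀ := fun i => by rw [← hG₀]; exact le_iSup P i
  have hUG : U ≤ G₀ := D.U_le.trans ((D.le o).trans (hPG o))
  -- `U` is a Sylow 2-subgroup of `G₀`
  have hodd : Odd (U.relIndex G₀) := by
    have hr : ∀ i, P i ≤ G₀.subtype.range := fun i => by rw [range_subtype]; exact hPG i
    have D' := D.comap (φ := G₀.subtype) (by rw [ker_subtype]; exact IsPGroup.of_bot) ((D.le o).trans (hr o)) hr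
    have hgen' : ⨆ i, (P i).comap G₀.subtype = ⊤ := by
      have e : (⨆ i, (P i).comap G₀.subtype).map G₀.subtype = (⊤ : Subgroup ↥G₀).map G₀.subtype := by
        rw [Subgroup.map_iSup, ← MonoidHom.range_eq_map, range_subtype]
        have e1 : ∀ i, ((P i).comap G₀.subtype).map G₀.subtype = P i := fun i => map_comap_eq_self (hr i)
        simp only [e1]
        exact hG₀
      exact map_injective (subtype_injective _) e
    obtain ⟨Q, -, hb, -⟩ := exists_bn D' hgen' conn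
    exact hb.odd
  have hnd : ¬ 2 ∣ (U.subgroupOf G₀).index := by
    rw [← even_iff_two_dvd, Nat.not_even_iff_odd]
    exact hodd
  have hS2 : IsPGroup 2 (S : Subgroup G) := S.2
  have S_inf : (S : Subgroup G) ⊓ G₀ = U := by
    apply le_antisymm _ (le_inf hUS hUG)
    set T : Sylow 2 ↥G₀ := (D.isP.comap_of_injective G₀.subtype G₀.subtype_injective).toSylow hnd with hT
    have h2 : IsPGroup 2 ((S : Subgroup G).subgroupOf G₀) := hS2.comap_of_injective _ G₀.subtype_injective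
    have h4 : (T : Subgroup ↥G₀) ≤ (S : Subgroup G).subgroupOf G₀ := fun x hx =>
      mem_subgroupOf.2 (hUS (mem_subgroupOf.1 hx))
    have h5 := T.3 h2 h4
    rintro x ⟨hxS, hxG⟩
    have h6 : (⟨x, hxG⟩ : ↥G₀) ∈ (S : Subgroup G).subgroupOf G₀ := mem_subgroupOf.2 hxS
    rw [h5] at h6
    exact mem_subgroupOf.1 h6
  have hside : EndSide (S : Subgroup G) G₀ U R v := {
    cent := cent
    S_two := hS2
    S_G₀ := hSV.trans hV
    S_R := hSR
    S_inf := S_inf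
    N_R := hR
    R_U := R_U
    U_R := U_R
    R_ne := R_ne
    v_U := v_U
    U_v := fun u hu => mem_centralizer_singleton_iff.2 (U_v u hu)
    v_ne := v_ne
    v_R := by
      obtain ⟨x, hx, hxv, hxR⟩ := v_R
      exact fun h => hxR (h ⟨hx, mem_centralizer_singleton_iff.2 hxv⟩)
    nonab := by
      obtain ⟨W, hWU, hNW, x, hx, y, hy, hxy⟩ := w
      refine ⟨W, hWU.trans hUG, D.isP.to_le hWU, inf_le_right.trans hNW, fun h => hxy ?_⟩
      exact (mem_centralizer_iff.1 (h hy) x hx) }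
  refine endIn_of_pre D h3 conn hG₀ hside ?_ (hO_of_nonloc hUG D.isP hodd hV hR nonloc) hi ho
  apply hgen
  intro x hx hn
  exact subset_closure ⟨hx, hn⟩

end Cfsg.Agent.Omega.HOneEnd

end

-- merged: Cfsg.Agent.Mrg.Omega.HOne.SameCut
section

/-!
# II.0h1, SPLIT, same type, `q ≥ 4`: the cut of `Cut.StFour`

Sockets:
* `LayH K`, `FrH K`, `DH K` (`SameOf.lean`);
* `RsH K` : the enumeration `RS` of the moved components with their parabolic systems (helper835);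
* `NVH K` : `pr g ∈ N(A)` implies `g ∈ N(V)` (helper866);
* `ResH K` : the residues `(0, k)` of the moved nodes (helper976, 493, 843, 759; 551, 725; 43);
* `GamH K` : no node of type `(γ)` (helper493, 910, 678).

`PreIn.endIn` : `EndIn` from the parabolic system (after helper678's `HOneEnd/OfPre.lean`), `S` any 2-group.

`stFour_of` : `Cut.StFour K`.
-/

set_option autoImplicit false
set_option linter.unusedSectionVars false

namespace Cfsg.Agent.Omega.HOne.SameCut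

open Subgroup Cfsg Cfsg.Agent.ZN Cfsg.Agent.Omega.MinPar Cfsg.Agent.Omega.Frame
open Cfsg.Agent.Omega.FrameFF Cfsg.Agent.Omega.HOne.Main
open Cfsg.Agent.Omega.FrameLE (AllIn)
open Cfsg.Agent.Omega.NatPair (NatMod)
open Cfsg.Agent.Omega.BTwo Cfsg.Agent.Omega.Lie Cfsg.Agent.Omega.Lie.Quot Cfsg.Agent.Omega.Lie.End
open Cfsg.Agent.Omega.IIa4 (LayAll)
open Cfsg.Agent.Omega.IIa4.Moved (EE NR_le_NEE EE_le_cen Y_le_EE)
open Cfsg.Agent.Omega.HOneEnd (EndIn)
open Cfsg.Agent.Omega.HOne.SameOf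

universe u

/-! ### `X E` is generated by its 2-elements -/

theorem gen2 {G : Type u} [Group G] [Finite G] {ι : Type*} {V : Subgroup G} {R : ι → Subgroup G} {i j : ι}
    (b : BT V R) (H : Subgroup G)
    (hH : ∀ x ∈ XX V R ⊔ EE V R i j, (∃ n : ℕ, x ^ 2 ^ n = 1) → x ∈ H) : XX V R ⊔ EE V R i j ≤ H := by
  have key : ∀ L : Subgroup G, IsPGroup 2 L → L ≤ XX V R ⊔ EE V R i j → L ≤ H := by
    intro L hL hle x hx
    obtain ⟨n, hn⟩ := hL ⟨x, hx⟩
    exact hH x (hle hx) ⟨n, congrArg Subtype.val hn⟩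
  have hQ2 : ∀ k, IsPGroup 2 (QQ (R k)) := fun k => (Lib.Cores.pCore_isPGroup 2).map _
  refine sup_le (iSup_le fun k => ?_) ?_
  · exact key _ ((hQ2 k).to_le (b.W_le_Q k)) ((le_iSup (fun k => WW V (R k)) k).trans le_sup_left)
  · have hQE : QQ (R i) ≤ EE V R i j := IIa4.Moved.QQ_le_up
    have hQH : QQ (R i) ≤ H := key _ (hQ2 i) (hQE.trans le_sup_right)
    have hQHE : QQ (R i) ≤ H ⊓ EE V R i j := le_inf hQH hQE
    have hnc : normalClosure (AA V R i j : Set (HQ (R i))) ≤ im (R i) (H ⊓ EE V R i j) := by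
      unfold normalClosure
      rw [closure_le]
      intro x hx
      obtain ⟨a, ha, hax⟩ := Group.mem_conjugatesOfSet_iff.1 hx
      obtain ⟨y, rfl⟩ := isConj_iff.1 hax
      obtain ⟨u, hu, rfl⟩ := (mem_AA b).1 ha
      obtain ⟨g, hg, rfl⟩ := exists_pr y
      have huE : u ∈ EE V R i j := IIa4.Moved.U_le_EE b hu
      have h1 : g * u * g⁻¹ ∈ EE V R i j := BTwo.conj_mem_of_normalizer (NR_le_NEE hg) huE
      have h2 : g * u * g⁻¹ ∈ H := by
        refine hH _ (mem_sup_right h1) ?_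
        obtain ⟨n, hn⟩ := ((hQ2 j).to_le ((UU_le_WW j).trans (b.W_le_Q j))) ⟨u, hu⟩
        refine ⟨n, ?_⟩
        have hn' : u ^ 2 ^ n = 1 := congrArg Subtype.val hn
        rw [conj_pow, hn', mul_one, mul_inv_cancel]
      exact pr_mem_im (mul_mem (mul_mem hg (U_le_N b i j hu)) (inv_mem hg)) (mem_inf.2 ⟨h2, h1⟩)
    intro g hg
    obtain ⟨h1, h2⟩ := IIa4.Moved.mem_up.1 hg
    exact (mem_inf.1 ((pr_mem_im_iff hQHE h1).1 (hnc h2))).1

/-! ### The interface to the END -/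

/-- what is known of `G₀ = X E` and of its parabolic system `P` over `B`, `U`; `o` the node `0` -/
structure PreIn {G : Type u} [Group G] (S V G₀ B U R : Subgroup G) (v : G) {I : Type} (P : I → Subgroup G)
    (m : I → I → ℕ) (o : I) : Prop where
  pre : Pre 2 B U P m
  sup : ⨆ i, P i = G₀
  three : 3 ≤ Nat.card I
  conn : ∀ J : Set I, J.Nonempty → Jᶜ.Nonempty → ∃ i ∈ J, ∃ j ∈ Jᶜ, 3 ≤ m i j
  gen : ∀ H : Subgroup G, (∀ x ∈ G₀, (∃ n : ℕ, x ^ 2 ^ n = 1) → x ∈ H) → G₀ ≤ H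
  B_R : B ≤ normalizer (R : Set G)
  P_R : ∀ i, i ≠ o → P i ≤ normalizer (R : Set G)
  o_R : ¬ P o ≤ normalizer (R : Set G)
  S_two : IsPGroup 2 S
  U_S : U ≤ S
  S_G₀ : S ≤ normalizer (G₀ : Set G)
  S_R : S ≤ normalizer (R : Set G)
  N_V : normalizer (V : Set G) ≤ normalizer (G₀ : Set G)
  N_R : normalizer (R : Set G) ≤ normalizer (G₀ : Set G)
  cent : centralizer (G₀ : Set G) = ⊥
  R_U : R ≤ U
  U_R : U ≤ centralizer (R : Set G)
  R_ne : R ≠ ⊥
  v_U : v ∈ U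
  U_v : U ≤ centralizer {v}
  v_ne : v ≠ 1
  v_R : ∃ x ∈ G₀, x ∈ centralizer {v} ∧ x ∉ normalizer (R : Set G)
  nonab : ∃ W ≤ U, normalizer (R : Set G) ≤ normalizer (W : Set G) ∧ ¬ W ≤ centralizer (W : Set G)
  nonloc : ∀ M ≤ U, normalizer (V : Set G) ≤ normalizer (M : Set G) →
    normalizer (R : Set G) ≤ normalizer (M : Set G) → M = ⊥

/-- **`EndIn` from `PreIn`**, for any 2-group `S` (helper678's `endIn_of_chain`) -/
theorem PreIn.endIn {G : Type u} [Group G] [Finite G] {S V G₀ B U R : Subgroup G} {v : G} {I : Type} [Finite I]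
    {P : I → Subgroup G} {m : I → I → ℕ} {o : I} (h : PreIn S V G₀ B U R v P m o) : EndIn S G₀ U R v := by
  have hfact : Fact (Nat.Prime 2) := ⟨Nat.prime_two⟩
  have hPG : ∀ i, P i ≤ G₀ := fun i => by rw [← h.sup]; exact le_iSup P i
  have hUG : U ≤ G₀ := h.pre.U_le.trans ((h.pre.le o).trans (hPG o))
  have hodd : Odd (U.relIndex G₀) := by
    have hr : ∀ i, P i ≤ G₀.subtype.range := fun i => by rw [range_subtype]; exact hPG i
    have D' := h.pre.comap (φ := G₀.subtype) (by rw [ker_subtype]; exact IsPGroup.of_bot)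
      ((h.pre.le o).trans (hr o)) hr
    have hgen' : ⨆ i, (P i).comap G₀.subtype = ⊤ := by
      have e : (⨆ i, (P i).comap G₀.subtype).map G₀.subtype = (⊤ : Subgroup ↥G₀).map G₀.subtype := by
        rw [Subgroup.map_iSup, ← MonoidHom.range_eq_map, range_subtype]
        have e1 : ∀ i, ((P i).comap G₀.subtype).map G₀.subtype = P i := fun i => map_comap_eq_self (hr i)
        simp only [e1]
        exact h.sup
      exact map_injective (subtype_injective _) e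
    obtain ⟨Q, -, hb, -⟩ := HOneEnd.exists_bn D' hgen' h.conn
    exact hb.odd
  have hnd : ¬ 2 ∣ (U.subgroupOf G₀).index := by
    rw [← even_iff_two_dvd, Nat.not_even_iff_odd]
    exact hodd
  have S_inf : S ⊓ G₀ = U := by
    apply le_antisymm _ (le_inf h.U_S hUG)
    set T : Sylow 2 ↥G₀ := (h.pre.isP.comap_of_injective G₀.subtype G₀.subtype_injective).toSylow hnd with hT
    have h2 : IsPGroup 2 (S.subgroupOf G₀) := h.S_two.comap_of_injective _ G₀.subtype_injective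
    have h4 : (T : Subgroup ↥G₀) ≤ S.subgroupOf G₀ := fun x hx =>
      mem_subgroupOf.2 (h.U_S (mem_subgroupOf.1 hx))
    have h5 := T.3 h2 h4
    rintro x ⟨hxS, hxG⟩
    have h6 : (⟨x, hxG⟩ : ↥G₀) ∈ S.subgroupOf G₀ := mem_subgroupOf.2 hxS
    rw [h5] at h6
    exact mem_subgroupOf.1 h6
  have hside : HOneEnd.EndSide S G₀ U R v := {
    cent := h.cent
    S_two := h.S_two
    S_G₀ := h.S_G₀
    S_R := h.S_R
    S_inf := S_inf
    N_R := h.N_R
    R_U := h.R_U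
    U_R := h.U_R
    R_ne := h.R_ne
    v_U := h.v_U
    U_v := h.U_v
    v_ne := h.v_ne
    v_R := by
      obtain ⟨x, hx, hxv, hxR⟩ := h.v_R
      exact fun h => hxR (h ⟨hx, hxv⟩)
    nonab := by
      obtain ⟨W, hWU, hNW, hW⟩ := h.nonab
      exact ⟨W, hWU.trans hUG, h.pre.isP.to_le hWU, inf_le_right.trans hNW, hW⟩ }
  refine HOneEnd.endIn_of_pre h.pre h.three h.conn h.sup hside ?_
    (HOneEnd.hO_of_nonloc hUG h.pre.isP hodd h.N_V h.N_R h.nonloc) h.P_R h.o_R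
  apply h.gen
  intro x hx hn
  exact subset_closure ⟨hx, hn⟩

section out

variable {G : Type u} [Group G] {ι : Type*} {V : Subgroup G} {R : ι → Subgroup G} {i j : ι} {F : Type*} [Field F]
  {v : F → F → G} {w1 w2 : F → G} {B U : Subgroup G} {J : Type} {P : J → Subgroup G} {m : J → J → ℕ}

/-- **The output of SAME4** -/
theorem exists_preIn [Finite G] [Finite F] [CharP F 2] [Finite J] (b : BTS V R) (c : Coord V R i j v w1 w2)
    (hF : ∃ a : F, a ≠ 0 ∧ a ≠ 1) (hij : i ≠ j)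
    (hfr : ∀ x ∈ normalizer (R i : Set G), ∃ e ∈ EE V R i j, e * x ∈ normalizer (V : Set G))
    (D : RealSys V R i (EE V R i j) B U P m) (hg : ∀ k, ¬ GamT V (P k))
    (hPR : ∀ k, P k ≤ normalizer (R i : Set G))
    (hr : ∀ k, ¬ P k ≤ normalizer (V : Set G) → ∃ m0, 3 ≤ m0 ∧ Res0 V R B U P k m0)
    (hD : DD V R ⊓ CenX V R ≠ ⊥) {S : Subgroup G} (hS2 : IsPGroup 2 S) (hSV : S ≤ normalizer (V : Set G))
    (hSR : S ≤ normalizer (R i : Set G)) (hUS : U ≤ S) :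
    ∃ (x : G) (m' : Option J → Option J → ℕ),
      PreIn S V (XX V R ⊔ EE V R i j) B U (R i) x (PPo V R B P) m' none := by
  classical
  have hfact : Fact (Nat.Prime 2) := ⟨Nat.prime_two⟩
  -- `|J| ≥ 2`
  obtain ⟨-, -, -, -, -, -, -, -, hJ⟩ := EndBN.exists_bn_real b.toBT c hF hij hfr D hg hr
  have O := gOut b c hF hij hfr D hg hPR hr hD
  have hne : Nonempty J := by
    by_contra h1
    rw [not_nonempty_iff] at h1
    rw [Nat.card_of_isEmpty] at hJ
    omega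
  choose! m0 hm0 using hr
  have hpre := D.pre0 b.toBT c hF (m0 := m0) hm0
  have hconn := D.conn0 (m0 := m0) fun k hk => (hm0 k hk).1
  have hcard : 3 ≤ Nat.card (Option J) := by
    have := Fintype.ofFinite J
    rw [Nat.card_eq_fintype_card, Fintype.card_option, ← Nat.card_eq_fintype_card]
    omega
  obtain ⟨y, hy, hy1, hyU, x, hx, hxy, hxR⟩ := O.v
  have hUN : U ≤ normalizer (V : Set G) := D.pre.U_le.trans D.dat.BV
  refine ⟨y, MMo V P m m0, {
    pre := hpre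
    sup := D.iSup_eq hne
    three := hcard
    conn := hconn
    gen := gen2 b.toBT
    B_R := D.dat.BR
    P_R := fun k hk => ?_
    o_R := fun h => ?_
    S_two := hS2
    U_S := hUS
    S_G₀ := hSV.trans O.NV
    S_R := hSR
    N_V := O.NV
    N_R := O.NR
    cent := O.cen
    R_U := O.R_le
    U_R := fun u hu => mem_centralizer_iff.2 fun r hr => (O.R_cen u hu r hr).symm
    R_ne := O.R_ne
    v_U := hy
    U_v := fun u hu => mem_centralizer_singleton_iff.2 (hyU u hu)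
    v_ne := hy1
    v_R := ⟨x, hx, mem_centralizer_singleton_iff.2 hxy, hxR⟩
    nonab := ?_
    nonloc := fun M hM h1 h2 => b.nonloc i _ (D.pre.isP.to_le hM) (hM.trans hUN)
      (hM.trans (D.pre.U_le.trans D.dat.BR)) h1 h2 }⟩
  · rcases k with _ | k
    · exact absurd rfl hk
    · exact hPR k
  · exact not_norm (i := i) b.toBT (E := ⊥) (by
      rw [sup_bot_eq]
      exact (le_sup_left : XX V R ≤ Zero.P0 V R B).trans h)
  · obtain ⟨W, hW, hN, a, ha, a', ha', hne'⟩ := O.w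
    exact ⟨W, hW, hN, fun h => hne' (mem_centralizer_iff.1 (h ha') a ha)⟩

end out

/-! ### The sockets -/

section sockets

variable (K : Cls.{u})

/-- **The moved components with their systems** (helper835) -/
def RsH : Prop :=
  ∀ (G : Type u) [Group G] [Finite G], K G → ∀ (S : Sylow 2 G) (P : Subgroup G) (g : G) (F : Type) [Field F]
    [Finite F] [CharP F 2] (N : Subgroup G) (M : NatMod F N), Sit4 S P g M → LayAll N (pt M) F →
      (∀ i j : Pt M, i ≠ j → ∀ x ∈ normalizer (pt M i : Set G), ∃ e ∈ EE N (pt M) i j,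
        e * x ∈ normalizer (N : Set G)) →
      ∀ (i j : Pt M) (v : F → F → G) (w1 w2 t : F → G), Coord N (pt M) i j v w1 w2 →
        ∀ τ : Lie.TorD N (pt M) i j v t, (S : Subgroup G) ≤ normalizer (pt M i : Set G) →
          ∃ (n : ℕ) (C : Fin n → Subgroup (HQ (pt M i))) (J : Fin n → Type) (Q : ∀ a, J a → Subgroup (C a))
            (m : ∀ a, J a → J a → ℕ), (∀ a, Finite (J a)) ∧ Nonempty (Fin n) ∧
              RS N (pt M) i j (TT τ) (SS (pt M) i S) C J Q m ∧ ∀ a, OneL (C a) (J a)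

/-- **`N_H(A) ≤ N(V)`** (helper866) -/
def NVH : Prop :=
  ∀ (G : Type u) [Group G] [Finite G], K G → ∀ (S : Sylow 2 G) (P : Subgroup G) (g : G) (F : Type) [Field F]
    [Finite F] [CharP F 2] (N : Subgroup G) (M : NatMod F N), Sit4 S P g M → LayAll N (pt M) F →
      (∀ i j : Pt M, i ≠ j → ∀ x ∈ normalizer (pt M i : Set G), ∃ e ∈ EE N (pt M) i j,
        e * x ∈ normalizer (N : Set G)) →
      ∀ i j : Pt M, i ≠ j → ∀ (x : G) (hx : x ∈ normalizer (pt M i : Set G)),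
        pr (pt M i) ⟨x, hx⟩ ∈ normalizer (AA N (pt M) i j : Set (HQ (pt M i))) → x ∈ normalizer (N : Set G)

/-- **The residues `(0, k)` of the moved nodes** -/
def ResH : Prop :=
  ∀ (G : Type u) [Group G] [Finite G], K G → ∀ (S : Sylow 2 G) (P : Subgroup G) (g : G) (F : Type) [Field F]
    [Finite F] [CharP F 2] (N : Subgroup G) (M : NatMod F N), Sit4 S P g M → LayAll N (pt M) F →
      (∀ i j : Pt M, i ≠ j → ∀ x ∈ normalizer (pt M i : Set G), ∃ e ∈ EE N (pt M) i j,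
        e * x ∈ normalizer (N : Set G)) →
      (∀ i j : Pt M, i ≠ j → ∀ (x : G) (hx : x ∈ normalizer (pt M i : Set G)),
        pr (pt M i) ⟨x, hx⟩ ∈ normalizer (AA N (pt M) i j : Set (HQ (pt M i))) → x ∈ normalizer (N : Set G)) →
      ∀ (i j : Pt M) (v : F → F → G) (w1 w2 t : F → G), Coord N (pt M) i j v w1 w2 →
        ∀ τ : Lie.TorD N (pt M) i j v t, (S : Subgroup G) ≤ normalizer (pt M i : Set G) →
          ∀ (n : ℕ) (C : Fin n → Subgroup (HQ (pt M i))) (J : Fin n → Type) (Q : ∀ a, J a → Subgroup (C a))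
            (m : ∀ a, J a → J a → ℕ), (∀ a, Finite (J a)) → Nonempty (Fin n) →
              RS N (pt M) i j (TT τ) (SS (pt M) i S) C J Q m → (∀ a, OneL (C a) (J a)) →
                ∀ x : Σ a, J a,
                  ¬ PG C (TT τ) (SS (pt M) i S) Q x ≤ normalizer (N : Set G) →
                  ¬ GamT N (PG C (TT τ) (SS (pt M) i S) Q x) →
                    ∃ m0, 3 ≤ m0 ∧ Res0 N (pt M) (BG C (TT τ) (SS (pt M) i S)) (UG C (SS (pt M) i S))
                      (PG C (TT τ) (SS (pt M) i S) Q) x m0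

/-- **No node of type `(γ)`** -/
def GamH : Prop :=
  ∀ (G : Type u) [Group G] [Finite G], K G → ∀ (S : Sylow 2 G) (P : Subgroup G) (g : G) (F : Type) [Field F]
    [Finite F] [CharP F 2] (N : Subgroup G) (M : NatMod F N), Sit4 S P g M → LayAll N (pt M) F →
      (∀ i j : Pt M, i ≠ j → ∀ x ∈ normalizer (pt M i : Set G), ∃ e ∈ EE N (pt M) i j,
        e * x ∈ normalizer (N : Set G)) →
      (∀ i j : Pt M, i ≠ j → ∀ (x : G) (hx : x ∈ normalizer (pt M i : Set G)),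
        pr (pt M i) ⟨x, hx⟩ ∈ normalizer (AA N (pt M) i j : Set (HQ (pt M i))) → x ∈ normalizer (N : Set G)) →
      ∀ (i j : Pt M) (v : F → F → G) (w1 w2 t : F → G), Coord N (pt M) i j v w1 w2 →
        ∀ τ : Lie.TorD N (pt M) i j v t, (S : Subgroup G) ≤ normalizer (pt M i : Set G) →
          ∀ (n : ℕ) (C : Fin n → Subgroup (HQ (pt M i))) (J : Fin n → Type) (Q : ∀ a, J a → Subgroup (C a))
            (m : ∀ a, J a → J a → ℕ), (∀ a, Finite (J a)) → Nonempty (Fin n) →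
              RS N (pt M) i j (TT τ) (SS (pt M) i S) C J Q m → (∀ a, OneL (C a) (J a)) →
                ∀ x : Σ a, J a, ¬ GamT N (PG C (TT τ) (SS (pt M) i S) Q x)

variable {K}

/-- **The socket `Cut.StFour` from its parts.** -/
theorem stFour_of (hL : LayH K) (hF : FrH K) (hD : DH K) (hRs : RsH K) (hNV : NVH K) (hRes : ResH K)
    (hGa : GamH K) : Cut.StFour K := by
  intro G _ _ hG hK S hFu hI hSi hs P g F _ _ _ N M hM h4
  have h : Sit4 S P g M := ⟨hG, hFu, hI, hSi, hs, hM, h4⟩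
  have hl := hL G hK S P g F N M h
  have hfr := hF G hK S P g F N M h hl
  have hnv := hNV G hK S P g F N M h hl hfr
  obtain ⟨i, hSi'⟩ := HOneQ.exists_pt M S h.le_N
  obtain ⟨j, hji, -⟩ := h.bt.third i i
  have hij : i ≠ j := Ne.symm hji
  obtain ⟨v, w1, w2, c⟩ := h.exists_coord hij
  obtain ⟨t, τ⟩ := h.exists_torD c
  obtain ⟨n, C, J, Q, m, hfin, hne, D, hone⟩ := hRs G hK S P g F N M h hl hfr i j v w1 w2 t c τ hSi'
  have hfinJ : Finite (Σ a, J a) := inferInstance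
  have hreal := RealOf.realSysS D h.exists_ne h.bts c τ hij rfl (hnv i j hij)
  have hga := hGa G hK S P g F N M h hl hfr hnv i j v w1 w2 t c τ hSi' n C J Q m hfin hne D hone
  have hres := hRes G hK S P g F N M h hl hfr hnv i j v w1 w2 t c τ hSi' n C J Q m hfin hne D hone
  obtain ⟨y, m', hin⟩ := exists_preIn h.bts c h.exists_ne hij (hfr i j hij) hreal hga
    (fun k => RealOf.PG_le_NR D k) (fun k hk => hres k hk (hga k)) (hD G hK S P g F N M h hl) S.isPGroup' h.le_N hSi'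
    (RealOf.UG_le D hSi' rfl)
  have hfinO : Finite (Option (Σ a, J a)) := inferInstance
  have hend := hin.endIn
  refine ⟨i, hSi', _, _, y, hend, ?_, (norm_G0 h.bt (hfr i j hij)).1⟩
  have h1 : N ≤ WW N (pt M i) := V_le_WW N (pt M i)
  exact (h1.trans (W_le_X N (pt M) i)).trans le_sup_left

end sockets

end Cfsg.Agent.Omega.HOne.SameCut

end

-- merged: Cfsg.Agent.Mrg.Omega.IId.Cv.KillQ
section

section


/-!
# WrCv, mixed partners, CASE 2: (2a) is impossible for `q ≥ 4` (helper796 #18009 in K-form; helper330 #18683, #18786)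

`Kill M₁ M₂ R T T₁ w x` : the setting: `MixedQ M₁ M₂ R`, `T₁` a Sylow 2-subgroup of `G` in `N_G(R)`, `T` a subgroup of
index 2 of `T₁` in `N₁`, `w ∈ T₁`, `O₂(N_G(R)), O₂(C_G(V₁)) ≤ T`, `1 ≠ x ∈ Z(T₁)` centralised by all `W₂(R')`,
`V₁ ≤ Z(O₂(C_G(x)))`.

First part: `V' = V₁^w` is in `O₂(N_G(R'))` for all lines `R'` of `V₁`, `V₁V' = V₁ × F`, `F = C(X)`, and `C_T(V₁)`
centralises `V'`.
-/

set_option autoImplicit false
set_option linter.unusedSectionVars false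

namespace Cfsg.Agent.Omega.IId.MQ

open Subgroup Cfsg.Agent.Lib.SL2Mat Cfsg.Agent.Omega.BTwo Cfsg.Agent.Omega.Mix Cfsg.Agent.Omega.MixOne
open Cfsg.Agent.Omega.NatPair (dt dt_add dt_smul exists_smul_of_dt exists_comb ap ap_smul ap_add ap_zero' ap_one'
  ap_mul ap_inv_ap ap_ap_inv ap_one exists_ap exists_ap_e ap_up_e ext2)

variable {G : Type*} [Group G]

/-- the setting of the (2a)-kill -/
structure Kill {F₁ F₂ : Type*} [Field F₁] [Field F₂] {V₁ V₂ N₁ N₂ : Subgroup G} (M₁ : RMod F₁ V₁ N₁)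
    (M₂ : RMod F₂ V₂ N₂) (R T : Subgroup G) (T₁ : Sylow 2 G) (w x : G) : Prop extends MixedQ M₁ M₂ R where
  q4 : 4 ≤ Nat.card F₁
  T₁R : (T₁ : Subgroup G) ≤ normalizer (R : Set G)
  TT₁ : T ≤ T₁
  TN : T ≤ N₁
  QT : QQ R ≤ T
  OT : O2 (centralizer (V₁ : Set G)) ≤ T
  wT₁ : w ∈ (T₁ : Subgroup G)
  cov : ∀ t ∈ (T₁ : Subgroup G), t ∈ T ∨ w⁻¹ * t ∈ T
  ww : w * w ∈ T
  nT : (T₁ : Subgroup G) ≤ normalizer (T : Set G)
  x1 : x ≠ 1
  xT₁ : x ∈ (T₁ : Subgroup G)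
  xc : ∀ t ∈ (T₁ : Subgroup G), t * x = x * t
  xB : ∀ i, ∀ b ∈ LL V₂ R (pt M₁ i), b * x = x * b
  VU : V₁ ≤ O2 (centralizer ({x} : Set G))
  UV : O2 (centralizer ({x} : Set G)) ≤ centralizer (V₁ : Set G)

/-- `Z(O₂(C_G(x)))` -/
def UX (x : G) : Subgroup G :=
  O2 (centralizer ({x} : Set G)) ⊓ centralizer (O2 (centralizer ({x} : Set G)) : Set G)

theorem UX_comm {x y z : G} (hy : y ∈ UX x) (hz : z ∈ UX x) : y * z = z * y :=
  (mem_centralizer_iff.1 hz.2 y hy.1)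

theorem UX_conj {x g y : G} (hg : g * x = x * g) (hy : y ∈ UX x) : g * y * g⁻¹ ∈ UX x := by
  have h1 : g ∈ normalizer (O2 (centralizer ({x} : Set G)) : Set G) :=
    le_normalizer_O2 _ (mem_centralizer_singleton_iff.2 hg)
  exact ⟨conj_mem_of_normalizer h1 hy.1,
    conj_mem_of_normalizer (normalizer_le_normalizer_centralizer _ h1) hy.2⟩

theorem UX_conj' {x g y : G} (hg : g * x = x * g) (hy : y ∈ UX x) : g⁻¹ * y * g ∈ UX x := by
  have h1 : g⁻¹ * x = x * g⁻¹ := by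
    rw [inv_mul_eq_iff_eq_mul, ← mul_assoc, hg, mul_inv_cancel_right]
  have h2 := UX_conj h1 hy
  rwa [inv_inv] at h2

namespace Kill

variable {F₁ F₂ : Type*} [Field F₁] [Field F₂] {V₁ V₂ N₁ N₂ : Subgroup G} {M₁ : RMod F₁ V₁ N₁}
  {M₂ : RMod F₂ V₂ N₂} {R T : Subgroup G} {T₁ : Sylow 2 G} {w x : G}
  [Finite G] [Finite F₁] [Finite F₂] [CharP F₁ 2] [CharP F₂ 2] (k : Kill M₁ M₂ R T T₁ w x)

include k

theorem exists_i : ∃ i : Pt M₁, pt M₁ i = R := by
  obtain ⟨u, hu, hR⟩ := k.line₁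
  exact ⟨⟨R, u, hu, hR⟩, rfl⟩

theorem exists_g (p : Pt M₁) : ∃ g : G, g * x = x * g ∧ cj g R = pt M₁ p ∧ cj g V₁ = V₁ := by
  obtain ⟨i, hi⟩ := k.exists_i
  obtain ⟨m, -, -, b, hb, h⟩ := k.sideW.trans_B i p
  exact ⟨b, k.xB m b hb, by rw [← hi]; exact h, cj_eq_self_iff.2 (k.sideW.B_NV m hb)⟩

theorem cV_le (p : Pt M₁) : centralizer (V₁ : Set G) ≤ normalizer (pt M₁ p : Set G) := fun _ hg =>
  k.sideW.cV_le_NR (fun v hv => (mem_centralizer_iff.1 hg v hv).symm) p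

theorem B_le_QQ (p : Pt M₁) : LL V₂ R (pt M₁ p) ≤ QQ (pt M₁ p) := by
  obtain ⟨g, -, h1, -⟩ := k.exists_g p
  have h3 := cj_mono (g := g) k.symm.C_le_QQ
  rwa [cj_LL h1, cj_QQ, h1] at h3

theorem V_le_QQ' (p : Pt M₁) : V₁ ≤ QQ (pt M₁ p) := by
  obtain ⟨g, -, h1, h2⟩ := k.exists_g p
  have h3 := cj_mono (g := g) k.toMixedQ.V_le_QQ
  rwa [cj_QQ, h1, h2] at h3

theorem QB (p : Pt M₁) {q b : G} (hq : q ∈ QQ (pt M₁ p)) (hb : b ∈ LL V₂ R (pt M₁ p)) :
    q * b * q⁻¹ * b⁻¹ ∈ pt M₁ p := by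
  obtain ⟨g, -, h1, -⟩ := k.exists_g p
  have h2 : g⁻¹ * q * g ∈ QQ R := by
    rw [← mem_cj, cj_QQ, h1]; exact hq
  have h3 : g⁻¹ * b * g ∈ LL V₂ R R := by
    rw [← mem_cj, cj_LL h1]; exact hb
  have h4 := k.symm.QC h2 h3
  rw [← h1, mem_cj]
  have e : g⁻¹ * (q * b * q⁻¹ * b⁻¹) * g =
      g⁻¹ * q * g * (g⁻¹ * b * g) * (g⁻¹ * q * g)⁻¹ * (g⁻¹ * b * g)⁻¹ := by group
  rwa [e]

theorem QR {q r : G} (hq : q ∈ QQ R) (hr : r ∈ R) : q * r = r * q := by
  obtain ⟨w', hw, hR⟩ := k.line₁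
  obtain ⟨B, hB, hB'⟩ := k.QQ_le_UW hw hR hq
  rw [hR] at hr
  obtain ⟨c, rfl⟩ := hr
  have h1 := hB' (c • w')
  rw [ap_smul, hB] at h1
  exact mul_inv_eq_iff_eq_mul.1 h1

theorem QR' (p : Pt M₁) {q r : G} (hq : q ∈ QQ (pt M₁ p)) (hr : r ∈ pt M₁ p) : q * r = r * q := by
  obtain ⟨g, -, h1, -⟩ := k.exists_g p
  have h2 : g⁻¹ * q * g ∈ QQ R := by
    rw [← mem_cj, cj_QQ, h1]; exact hq
  have h3 : g⁻¹ * r * g ∈ R := by
    rw [← mem_cj, h1]; exact hr
  have h4 := k.QR h2 h3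
  calc q * r = g * (g⁻¹ * q * g * (g⁻¹ * r * g)) * g⁻¹ := by group
    _ = g * (g⁻¹ * r * g * (g⁻¹ * q * g)) * g⁻¹ := by rw [h4]
    _ = r * q := by group

theorem ch : Char2 (normalizer (R : Set G)) := k.char R k.toMixedQ.R_pGroup k.toMixedQ.R_ne

/-! ### (1) -/

theorem xQ : x ∈ QQ R :=
  k.ch x (k.T₁R k.xT₁) fun q hq => (k.xc q (k.TT₁ (k.QT hq))).symm

theorem N_le : LL (zpowers x) R R ≤ QQ R ⊓ centralizer (QQ R : Set G) := by
  have h1 : zpowers x ≤ QQ R ⊓ centralizer (QQ R : Set G) := by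
    rw [zpowers_le]
    exact ⟨k.xQ, mem_centralizer_iff.2 fun q hq => k.xc q (k.TT₁ (k.QT hq))⟩
  refine Mix.LL_le fun g hg => ?_
  have h2 : cj g (QQ R) = QQ R := by rw [cj_QQ, hg]
  have h3 := cj_mono (g := g) h1
  rwa [cj_inf, ← centralizer_cj, h2] at h3

theorem U_N_R {y : G} (hy : y ∈ UX x) (hN : ∀ n ∈ LL (zpowers x) R R, y * n = n * y) : y ∈ QQ R := by
  set N := LL (zpowers x) R R with hNdef
  set C := normalizer (R : Set G) ⊓ centralizer (N : Set G) with hC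
  have hxN : x ∈ N := cj_le_LL (cj_one R) (by rw [cj_one]; exact mem_zpowers x)
  have hyR : y ∈ normalizer (R : Set G) := by
    apply centralizer_le_normalizer
    rw [mem_centralizer_iff]
    intro r hr
    exact mem_centralizer_iff.1 hy.2 r (k.VU (k.toMixedQ.RV hr))
  have hyC : y ∈ C := ⟨hyR, mem_centralizer_iff.2 fun n hn => (hN n hn).symm⟩
  have h1 : UX x ⊓ C ≤ O2 C := by
    refine le_O2_of_normal inf_le_right ((O2_isPGroup _).to_le (inf_le_left.trans inf_le_left)) ?_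
    rintro g hg a ⟨ha, haC⟩
    refine ⟨UX_conj ?_ ha, C.mul_mem (C.mul_mem hg haC) (C.inv_mem hg)⟩
    exact (mem_centralizer_iff.1 hg.2 x hxN).symm
  have hCn : normalizer (R : Set G) ≤ normalizer (C : Set G) := by
    intro g hg
    rw [← cj_eq_self_iff, hC, cj_inf, ← centralizer_cj, cj_eq_self_iff.2 (normalizer_le_LL (zpowers x) R R hg),
      cj_of_mem hg]
  have h2 : O2 C ≤ QQ R := by
    refine le_O2_of_normal ((O2_le _).trans inf_le_left) (O2_isPGroup _) ?_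
    intro g hg a ha
    have h3 : cj g (O2 C) = O2 C := by rw [cj_O2, cj_eq_self_iff.2 (hCn hg)]
    rw [← h3]
    exact conj_mem_cj ha
  exact h2 (h1 ⟨hy, hyC⟩)

theorem U_N (p : Pt M₁) {y : G} (hy : y ∈ UX x) (hN : ∀ n ∈ LL (zpowers x) R (pt M₁ p), y * n = n * y) :
    y ∈ QQ (pt M₁ p) := by
  obtain ⟨g, h0, h1, -⟩ := k.exists_g p
  rw [← h1, ← cj_QQ, mem_cj]
  refine k.U_N_R (UX_conj' h0 hy) fun n hn => ?_
  have h2 : g * n * g⁻¹ ∈ LL (zpowers x) R (pt M₁ p) := by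
    rw [← cj_LL h1]; exact conj_mem_cj hn
  have h3 := hN _ h2
  calc g⁻¹ * y * g * n = g⁻¹ * (y * (g * n * g⁻¹)) * g := by group
    _ = g⁻¹ * (g * n * g⁻¹ * y) * g := by rw [h3]
    _ = n * (g⁻¹ * y * g) := by group

theorem N_le' (p : Pt M₁) : LL (zpowers x) R (pt M₁ p) ≤ QQ (pt M₁ p) ⊓ centralizer (QQ (pt M₁ p) : Set G) := by
  obtain ⟨g, h0, h1, -⟩ := k.exists_g p
  have h2 := cj_mono (g := g) k.N_le
  rwa [cj_LL h1, cj_inf, ← centralizer_cj, cj_QQ, h1] at h2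

/-! ### (2) -/

theorem V_le_U : V₁ ≤ UX x := fun v hv => mem_inf.2 ⟨k.VU hv, mem_centralizer_iff.2 fun _ hy =>
  (mem_centralizer_iff.1 (k.UV hy) v hv).symm⟩

theorem V'_le_U : cj w V₁ ≤ UX x := by
  rw [cj_le_iff]
  exact fun v hv => UX_conj (k.xc w k.wT₁) (k.V_le_U hv)

theorem VV' {v a : G} (hv : v ∈ V₁) (ha : a ∈ cj w V₁) : v * a = a * v := UX_comm (k.V_le_U hv) (k.V'_le_U ha)

theorem cjR : cj w R = R := cj_eq_self_iff.2 (k.T₁R k.wT₁)

theorem cjT : cj w T = T := cj_eq_self_iff.2 (k.nT k.wT₁)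

theorem cjQ : cj w (QQ R) = QQ R := by rw [cj_QQ, k.cjR]

theorem two_pow {t : G} (ht : t ∈ T) : ∃ n : ℕ, t ^ 2 ^ n = 1 := by
  obtain ⟨n, hn⟩ := (T₁.isPGroup'.to_le k.TT₁) ⟨t, ht⟩
  exact ⟨n, congrArg Subtype.val hn⟩

/-- an element of `T` which centralises `R` acts on `V₁` as an element of `W₂(R)` -/
theorem T_UW {t : G} (ht : t ∈ T) (hR : ∀ r ∈ R, t * r = r * t) {u : Fin 2 → F₁} (hu : u ≠ 0) (hRu : R = M₁.line u) :
    t ∈ M₁.UW u := by
  obtain ⟨n, hn⟩ := k.two_pow ht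
  exact mem_UW_of_two M₁ hu (k.TN ht) hn fun r hr => hR r (by rw [hRu]; exact hr)

theorem T_comm_V {t v : G} (ht : t ∈ T) (hR : ∀ r ∈ R, t * r = r * t) (hv : v ∈ V₁) : t * v * t⁻¹ * v⁻¹ ∈ R := by
  obtain ⟨u, hu, hRu⟩ := k.line₁
  have h1 := M₁.comm_UW hu (k.T_UW ht hR hu hRu) hv
  rwa [← hRu] at h1

theorem T_comm {t a : G} (ht : t ∈ T) (hV : ∀ v ∈ V₁, t * v = v * t) (ha : a ∈ cj w V₁) :
    t * a * t⁻¹ * a⁻¹ ∈ R := by
  have h1 : w⁻¹ * t * w ∈ T := by rw [← mem_cj, k.cjT]; exact ht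
  have h2 : ∀ r ∈ R, w⁻¹ * t * w * r = r * (w⁻¹ * t * w) := by
    intro r hr
    have h3 : w * r * w⁻¹ ∈ R := by rw [← k.cjR]; exact conj_mem_cj hr
    have h4 := hV _ (k.toMixedQ.RV h3)
    calc w⁻¹ * t * w * r = w⁻¹ * (t * (w * r * w⁻¹)) * w := by group
      _ = w⁻¹ * (w * r * w⁻¹ * t) * w := by rw [h4]
      _ = r * (w⁻¹ * t * w) := by group
  have h3 := k.T_comm_V h1 h2 (mem_cj.1 ha)
  have h4 : w * (w⁻¹ * t * w * (w⁻¹ * a * w) * (w⁻¹ * t * w)⁻¹ * (w⁻¹ * a * w)⁻¹) * w⁻¹ ∈ R := by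
    rw [← k.cjR]; exact conj_mem_cj h3
  have e : w * (w⁻¹ * t * w * (w⁻¹ * a * w) * (w⁻¹ * t * w)⁻¹ * (w⁻¹ * a * w)⁻¹) * w⁻¹ = t * a * t⁻¹ * a⁻¹ := by
    group
  rwa [e] at h4

theorem le_T {K : Subgroup G} (h1 : K ≤ centralizer (V₁ : Set G)) (h2 : IsPGroup 2 K)
    (h3 : centralizer (V₁ : Set G) ≤ normalizer (K : Set G)) : K ≤ T :=
  (le_O2_of_normal h1 h2 fun _ hg _ ha => conj_mem_of_normalizer (h3 hg) ha).trans k.OT

/-- **(2)** -/
theorem V'_le_Q (p : Pt M₁) : cj w V₁ ≤ QQ (pt M₁ p) := by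
  by_cases hp : pt M₁ p = R
  · rw [hp]
    have := cj_mono (g := w) k.toMixedQ.V_le_QQ
    rwa [k.cjQ] at this
  obtain ⟨i, hi⟩ := k.exists_i
  have hip : i ≠ p := by
    rintro rfl
    exact hp hi
  set N := LL (zpowers x) R (pt M₁ p) with hN
  have hNZ := k.N_le' p
  have hNV : N ≤ centralizer (V₁ : Set G) := by
    intro n hn
    rw [mem_centralizer_iff]
    intro v hv
    exact mem_centralizer_iff.1 (hNZ hn).2 v (k.V_le_QQ' p hv)
  have hcN : centralizer (V₁ : Set G) ≤ normalizer (N : Set G) :=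
    (k.cV_le p).trans (normalizer_le_LL (zpowers x) R (pt M₁ p))
  have hNT : N ≤ T := k.le_T hNV ((O2_isPGroup _).to_le (hNZ.trans inf_le_left)) hcN
  intro a ha
  refine k.U_N p (k.V'_le_U ha) fun n hn => ?_
  have hnV : ∀ v ∈ V₁, n * v = v * n := fun v hv => (mem_centralizer_iff.1 (hNV hn) v hv).symm
  have h1 := k.T_comm (hNT hn) hnV ha
  have haV : a ∈ centralizer (V₁ : Set G) := mem_centralizer_iff.2 fun v hv => k.VV' hv ha
  have h2 : n * a * n⁻¹ * a⁻¹ ∈ N := by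
    have h3 := conj_mem_of_normalizer (hcN haV) (inv_mem hn)
    have e : n * a * n⁻¹ * a⁻¹ = n * (a * n⁻¹ * a⁻¹) := by group
    rw [e]
    exact mul_mem hn h3
  have h3 : n * a * n⁻¹ * a⁻¹ ∈ pt M₁ p := by
    refine k.sideW.VB p _ (k.toMixedQ.RV h1) fun b hb => ?_
    exact mem_centralizer_iff.1 (hNZ h2).2 b (k.B_le_QQ p hb)
  have h4 : n * a * n⁻¹ * a⁻¹ ∈ pt M₁ i ⊓ pt M₁ p := ⟨by rw [hi]; exact h1, h3⟩
  rw [k.sideW.R_inf i p hip, mem_bot] at h4
  exact (comm_of_eq_one h4).symm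

/-! ### (3) -/

theorem V'_B (p : Pt M₁) {a b : G} (ha : a ∈ cj w V₁) (hb : b ∈ LL V₂ R (pt M₁ p)) :
    a * b * a⁻¹ * b⁻¹ ∈ pt M₁ p := k.QB p (k.V'_le_Q p ha) hb

theorem TT_le_T (p : Pt M₁) : TT V₁ (LL V₂ R (pt M₁ p)) ≤ T := by
  refine k.le_T inf_le_right (((O2_isPGroup _).to_le (k.B_le_QQ p)).to_le inf_le_left) ?_
  intro g hg
  rw [← cj_eq_self_iff, TT, cj_inf, cj_eq_self_iff.2 (normalizer_le_LL V₂ R (pt M₁ p) (k.cV_le p hg)), cj_of_mem hg]

theorem V'_TT (p : Pt M₁) {a t : G} (ha : a ∈ cj w V₁) (ht : t ∈ TT V₁ (LL V₂ R (pt M₁ p))) : t * a = a * t := by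
  have key : ∀ p : Pt M₁, pt M₁ p ≠ R → ∀ a ∈ cj w V₁, ∀ t ∈ TT V₁ (LL V₂ R (pt M₁ p)), t * a = a * t := by
    intro p hp a ha t ht
    obtain ⟨i, hi⟩ := k.exists_i
    have hip : i ≠ p := by
      rintro rfl
      exact hp hi
    have h1 := k.T_comm (k.TT_le_T p ht) (mem_TT.1 ht).2 ha
    have h2 : t * a * t⁻¹ * a⁻¹ ∈ pt M₁ p := by
      have h3 := inv_mem (k.V'_B p ha ht.1)
      have e : (a * t * a⁻¹ * t⁻¹)⁻¹ = t * a * t⁻¹ * a⁻¹ := by group
      rwa [e] at h3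
    have h4 : t * a * t⁻¹ * a⁻¹ ∈ pt M₁ i ⊓ pt M₁ p := ⟨by rw [hi]; exact h1, h2⟩
    rw [k.sideW.R_inf i p hip, mem_bot] at h4
    exact comm_of_eq_one h4
  by_cases hp : pt M₁ p = R
  · obtain ⟨m, hmp, -⟩ := k.sideW.third p p
    obtain ⟨l, hlp, hlm⟩ := k.sideW.third p m
    obtain ⟨b, hb, hbl⟩ := k.sideW.trans m p l (Ne.symm hmp) hlm
    have hbV : cj b V₁ = V₁ := cj_eq_self_iff.2 (k.sideW.B_NV m hb)
    have h1 : b * t * b⁻¹ ∈ TT V₁ (LL V₂ R (pt M₁ l)) := by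
      rw [← k.sideW.cj_T (cj_eq_self_iff.1 hbV) hbl]
      exact conj_mem_cj ht
    have hl : pt M₁ l ≠ R := by
      rw [← hp]
      intro h
      exact hlp (k.sideW.R_index h)
    have h2 := k.V'_B m ha hb
    have h3 : (a * b * a⁻¹ * b⁻¹)⁻¹ ∈ V₁ := inv_mem (k.sideW.R_V m h2)
    have h4 := (mem_TT.1 h1).2 _ h3
    have h5 := key l hl a ha _ h1
    have e : b * a * b⁻¹ = (a * b * a⁻¹ * b⁻¹)⁻¹ * a := by group
    have h6 : b * t * b⁻¹ * (b * a * b⁻¹) = b * a * b⁻¹ * (b * t * b⁻¹) := by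
      rw [e, ← mul_assoc, h4, mul_assoc, h5, ← mul_assoc]
    calc t * a = b⁻¹ * (b * t * b⁻¹ * (b * a * b⁻¹)) * b := by group
      _ = b⁻¹ * (b * a * b⁻¹ * (b * t * b⁻¹)) * b := by rw [h6]
      _ = a * t := by group
  · exact key p hp a ha t ht

/-! ### (4), (5) -/

theorem dec_p (p : Pt M₁) {q : G} (hq : q ∈ QQ (pt M₁ p))
    (hqT : ∀ t ∈ TT V₁ (LL V₂ R (pt M₁ p)), q * t = t * q) :
    ∃ v ∈ V₁, ∀ b ∈ LL V₂ R (pt M₁ p), b * (v * q) = v * q * b := by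
  obtain ⟨g, -, h1, h2⟩ := k.exists_g p
  have h3 : g⁻¹ * q * g ∈ QQ R := by
    rw [← mem_cj, cj_QQ, h1]; exact hq
  have h4 : ∀ t ∈ TT V₁ (LL V₂ R R), g⁻¹ * q * g * t = t * (g⁻¹ * q * g) := by
    intro t ht
    have h5 : g * t * g⁻¹ ∈ TT V₁ (LL V₂ R (pt M₁ p)) := by
      rw [← cj_TT h2 (cj_LL h1)]
      exact conj_mem_cj ht
    have h6 := hqT _ h5
    calc g⁻¹ * q * g * t = g⁻¹ * (q * (g * t * g⁻¹)) * g := by group
      _ = g⁻¹ * (g * t * g⁻¹ * q) * g := by rw [h6]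
      _ = t * (g⁻¹ * q * g) := by group
  obtain ⟨v, hv, h5⟩ := k.dec h3 h4
  refine ⟨g * v * g⁻¹, by rw [← h2]; exact conj_mem_cj hv, fun b hb => ?_⟩
  have h6 : g⁻¹ * b * g ∈ LL V₂ R R := by
    rw [← mem_cj, cj_LL h1]; exact hb
  have h7 := h5 _ h6
  calc b * (g * v * g⁻¹ * q) = g * (g⁻¹ * b * g * (v * (g⁻¹ * q * g))) * g⁻¹ := by group
    _ = g * (v * (g⁻¹ * q * g) * (g⁻¹ * b * g)) * g⁻¹ := by rw [h7]
    _ = g * v * g⁻¹ * q * b := by group

omit k in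
theorem R_sup {i j : Pt M₁} (hij : i ≠ j) {v : G} (hv : v ∈ V₁) : ∃ r ∈ pt M₁ i, ∃ r' ∈ pt M₁ j, v = r * r' := by
  obtain ⟨_, a, ha, rfl⟩ := i
  obtain ⟨_, b, hb, rfl⟩ := j
  have h1 : dt a b ≠ 0 := by
    intro h
    apply hij
    apply Subtype.ext
    exact ((line_eq_iff_dt M₁ ha hb).2 h).symm
  obtain ⟨y, rfl⟩ := (M₁.mem_iff v).1 hv
  obtain ⟨c, d, rfl⟩ := exists_comb h1 y
  exact ⟨_, ⟨c, rfl⟩, _, ⟨d, rfl⟩, M₁.e_add _ _⟩

/-- **(5)** `V' ≤ V₁ C(X)` -/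
theorem exists_f {a : G} (ha : a ∈ cj w V₁) :
    ∃ v ∈ V₁, ∀ p, ∀ b ∈ LL V₂ R (pt M₁ p), b * (v * a) = v * a * b := by
  obtain ⟨i, hi⟩ := k.exists_i
  obtain ⟨j, hji, -⟩ := k.sideW.third i i
  obtain ⟨v₁, hv₁, h1⟩ := k.dec_p i (k.V'_le_Q i ha) fun t ht => (k.V'_TT i ha ht).symm
  obtain ⟨v₂, hv₂, h2⟩ := k.dec_p j (q := v₁ * a) (mul_mem (k.V_le_QQ' j hv₁) (k.V'_le_Q j ha)) fun t ht => by
    rw [mul_assoc, ← k.V'_TT j ha ht, ← mul_assoc, ← (mem_TT.1 ht).2 v₁ hv₁, mul_assoc]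
  obtain ⟨r, hr, r', hr', rfl⟩ := R_sup (Ne.symm hji) hv₂
  have hrV := k.sideW.R_V i hr
  have hr'V := k.sideW.R_V j hr'
  have hrr' : r * r' = r' * r := M₁.comm hrV hr'V
  refine ⟨r * v₁, mul_mem hrV hv₁, ?_⟩
  have h3 : ∀ b ∈ LL V₂ R (pt M₁ i), b * (r * v₁ * a) = r * v₁ * a * b := by
    intro b hb
    have h4 : b * r = r * b := k.QR' i (k.B_le_QQ i hb) hr
    have h5 := h1 b hb
    calc b * (r * v₁ * a) = b * r * (v₁ * a) := by group
      _ = r * (b * (v₁ * a)) := by rw [h4]; group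
      _ = r * v₁ * a * b := by rw [h5]; group
  have h4 : ∀ b ∈ LL V₂ R (pt M₁ j), b * (r * v₁ * a) = r * v₁ * a * b := by
    intro b hb
    have h4 : b * r'⁻¹ = r'⁻¹ * b := k.QR' j (k.B_le_QQ j hb) (inv_mem hr')
    have h5 := h2 b hb
    have e : r * v₁ * a = r'⁻¹ * (r * r' * (v₁ * a)) := by rw [hrr']; group
    rw [e]
    calc b * (r'⁻¹ * (r * r' * (v₁ * a))) = b * r'⁻¹ * (r * r' * (v₁ * a)) := by group
      _ = r'⁻¹ * (b * (r * r' * (v₁ * a))) := by rw [h4]; group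
      _ = r'⁻¹ * (r * r' * (v₁ * a)) * b := by rw [h5]; group
  exact fun p b hb => k.sideW.comm_all (Ne.symm hji) h3 h4 p b hb

/-- **(6)** `C_T(V₁)` centralises `V'` -/
theorem T_V' {t a : G} (ht : t ∈ T) (hV : ∀ v ∈ V₁, t * v = v * t) (ha : a ∈ cj w V₁) : t * a = a * t := by
  obtain ⟨i, hi⟩ := k.exists_i
  obtain ⟨j, hji, -⟩ := k.sideW.third i i
  obtain ⟨v, hv, h1⟩ := k.exists_f ha
  have h2 := k.T_comm ht hV ha
  have htc : t ∈ centralizer (V₁ : Set G) := mem_centralizer_iff.2 fun v hv => (hV v hv).symm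
  -- `[t, v a] = [t, a]`
  have e1 : t * (v * a) * t⁻¹ * (v * a)⁻¹ = t * a * t⁻¹ * a⁻¹ := by
    have h3 := M₁.comm hv (k.toMixedQ.RV h2)
    calc t * (v * a) * t⁻¹ * (v * a)⁻¹ = (t * v) * a * t⁻¹ * a⁻¹ * v⁻¹ := by group
      _ = v * (t * a * t⁻¹ * a⁻¹) * v⁻¹ := by rw [hV v hv]; group
      _ = t * a * t⁻¹ * a⁻¹ := by rw [h3, mul_inv_cancel_right]
  have h3 : ∀ p, ∀ b ∈ LL V₂ R (pt M₁ p), b * (t * a * t⁻¹ * a⁻¹) = t * a * t⁻¹ * a⁻¹ * b := by
    intro p b hb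
    have h4 : t⁻¹ * b * t ∈ LL V₂ R (pt M₁ p) :=
      conj_inv_mem_of_normalizer (normalizer_le_LL V₂ R (pt M₁ p) (k.cV_le p htc)) hb
    have h5 := h1 p _ h4
    have h6 := h1 p b hb
    have h7 : b * (t * (v * a) * t⁻¹) = t * (v * a) * t⁻¹ * b := by
      calc b * (t * (v * a) * t⁻¹) = t * (t⁻¹ * b * t * (v * a)) * t⁻¹ := by group
        _ = t * (v * a * (t⁻¹ * b * t)) * t⁻¹ := by rw [h5]
        _ = t * (v * a) * t⁻¹ * b := by group
    have h8 : b * (v * a)⁻¹ = (v * a)⁻¹ * b := by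
      rw [mul_inv_eq_iff_eq_mul, mul_assoc, h6, inv_mul_cancel_left]
    rw [← e1]
    calc b * (t * (v * a) * t⁻¹ * (v * a)⁻¹) = b * (t * (v * a) * t⁻¹) * (v * a)⁻¹ := by group
      _ = t * (v * a) * t⁻¹ * (b * (v * a)⁻¹) := by rw [h7]; group
      _ = t * (v * a) * t⁻¹ * (v * a)⁻¹ * b := by rw [h8]; group
  have h4 : t * a * t⁻¹ * a⁻¹ ∈ pt M₁ i ⊓ pt M₁ j :=
    ⟨by rw [hi]; exact h2, k.sideW.VB j _ (k.toMixedQ.RV h2) (h3 j)⟩
  rw [k.sideW.R_inf i j (Ne.symm hji), mem_bot] at h4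
  exact comm_of_eq_one h4

end Kill

end Cfsg.Agent.Omega.IId.MQ

end

section


/-!
# WrCv, mixed partners, CASE 2: (2a) is impossible for `q ≥ 4`, END (helper330)

`Kill.norm : Kill M₁ M₂ R T T₁ w x → w ∈ N_G(V₁)`.
-/

set_option autoImplicit false
set_option linter.unusedSectionVars false

namespace Cfsg.Agent.Omega.IId.MQ

open Subgroup Cfsg.Agent.Lib.SL2Mat Cfsg.Agent.Omega.BTwo Cfsg.Agent.Omega.Mix Cfsg.Agent.Omega.MixOne
open Cfsg.Agent.Omega.NatPair (dt dt_add dt_smul exists_smul_of_dt exists_comb ap ap_smul ap_add ap_zero' ap_one'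
  ap_mul ap_inv_ap ap_ap_inv ap_one exists_ap exists_ap_e ap_up_e ext2)

variable {G : Type*} [Group G]

/-! ### General lemmas -/

/-- the elements of `N(A) ∩ N(B)` with `[A, g] ≤ B` -/
def St (A B : Subgroup G) : Subgroup G where
  carrier := {g | g ∈ normalizer (A : Set G) ∧ g ∈ normalizer (B : Set G) ∧ ∀ y ∈ A, g * y * g⁻¹ * y⁻¹ ∈ B}
  one_mem' := ⟨one_mem _, one_mem _, fun y _ => by
    have e : (1 : G) * y * 1⁻¹ * y⁻¹ = 1 := by group
    rw [e]; exact one_mem _⟩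
  mul_mem' := by
    rintro g h ⟨g1, g2, g3⟩ ⟨h1, h2, h3⟩
    refine ⟨mul_mem g1 h1, mul_mem g2 h2, fun y hy => ?_⟩
    have e : g * h * y * (g * h)⁻¹ * y⁻¹ = g * (h * y * h⁻¹ * y⁻¹) * g⁻¹ * (g * y * g⁻¹ * y⁻¹) := by group
    rw [e]
    exact mul_mem (conj_mem_of_normalizer g2 (h3 y hy)) (g3 y hy)
  inv_mem' := by
    rintro g ⟨g1, g2, g3⟩
    refine ⟨inv_mem g1, inv_mem g2, fun y hy => ?_⟩
    have e : g⁻¹ * y * g⁻¹⁻¹ * y⁻¹ = g⁻¹ * (g * y * g⁻¹ * y⁻¹)⁻¹ * g := by group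
    rw [e]
    exact conj_inv_mem_of_normalizer g2 (inv_mem (g3 y hy))

theorem mem_St {A B : Subgroup G} {g : G} : g ∈ St A B ↔ g ∈ normalizer (A : Set G) ∧ g ∈ normalizer (B : Set G) ∧
    ∀ y ∈ A, g * y * g⁻¹ * y⁻¹ ∈ B := Iff.rfl

theorem St_conj {A B : Subgroup G} {g h : G} (g1 : g ∈ normalizer (A : Set G)) (g2 : g ∈ normalizer (B : Set G))
    (hh : h ∈ St A B) : g * h * g⁻¹ ∈ St A B := by
  obtain ⟨h1, h2, h3⟩ := hh
  refine ⟨mul_mem (mul_mem g1 h1) (inv_mem g1), mul_mem (mul_mem g2 h2) (inv_mem g2), fun y hy => ?_⟩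
  have h4 := conj_mem_of_normalizer g2 (h3 _ (conj_inv_mem_of_normalizer g1 hy))
  have e : g * (h * (g⁻¹ * y * g) * h⁻¹ * (g⁻¹ * y * g)⁻¹) * g⁻¹ = g * h * g⁻¹ * y * (g * h * g⁻¹)⁻¹ * y⁻¹ := by
    group
  rwa [e] at h4

/-- a fixed-point-free `b` on the abelian group `A` : every element is a commutator -/
theorem exists_comm_eq [Finite G] {A : Subgroup G} {b : G}
    (hb : b ∈ normalizer (A : Set G)) (hf : ∀ a ∈ A, b * a = a * b → a = 1) {a : G} (ha : a ∈ A) :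
    ∃ c ∈ A, b * c * b⁻¹ * c⁻¹ = a := by
  let f : A → A := fun c => ⟨b * c * b⁻¹ * (c : G)⁻¹, mul_mem (conj_mem_of_normalizer hb c.2) (inv_mem c.2)⟩
  have hinj : Function.Injective f := by
    rintro ⟨c, hc⟩ ⟨d, hd⟩ h
    have h1 : b * c * b⁻¹ * c⁻¹ = b * d * b⁻¹ * d⁻¹ := congrArg Subtype.val h
    have hbc := conj_mem_of_normalizer hb hc
    have hbd := conj_mem_of_normalizer hb hd
    have h2 : b * (d⁻¹ * c) = d⁻¹ * c * b := by
      have h3 : b * d⁻¹ * b⁻¹ ∈ A := conj_mem_of_normalizer hb (inv_mem hd)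
      have h4 : b * (d⁻¹ * c) * b⁻¹ = d⁻¹ * c := by
        calc b * (d⁻¹ * c) * b⁻¹ = (b * d⁻¹ * b⁻¹) * (b * c * b⁻¹ * c⁻¹) * c := by group
          _ = (b * d⁻¹ * b⁻¹) * (b * d * b⁻¹ * d⁻¹) * c := by rw [h1]
          _ = d⁻¹ * c := by group
      exact mul_inv_eq_iff_eq_mul.1 h4
    have h3 := hf _ (mul_mem (inv_mem hd) hc) h2
    exact Subtype.ext (inv_mul_eq_one.1 h3).symm
  obtain ⟨c, hc⟩ := (Finite.injective_iff_surjective.1 hinj) ⟨a, ha⟩
  exact ⟨c, c.2, congrArg Subtype.val hc⟩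

/-- `X = (T₁ ∩ X) N` if `X / N` is a 2-group -/
theorem exists_mul_of_sylow [Finite G] {X N : Subgroup G} (T₁ : Sylow 2 G)
    (hT : (T₁ : Subgroup G) ≤ normalizer (X : Set G)) (hN : N ≤ X) (hXN : X ≤ normalizer (N : Set G))
    (h2 : ∀ g ∈ X, ∃ n : ℕ, g ^ 2 ^ n ∈ N) {g : G} (hg : g ∈ X) :
    ∃ s ∈ (T₁ : Subgroup G), s ∈ X ∧ ∃ c ∈ N, g = s * c := by
  have : Fact (Nat.Prime 2) := ⟨Nat.prime_two⟩
  have hodd : Odd (((T₁ : Subgroup G) ⊓ X).relIndex X) := by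
    refine M4.odd_rel (H := ⊤) le_top ?_ le_top hT
    rw [relIndex_top_right]
    exact T₁.not_dvd_index
  have hNn : (N.subgroupOf X).Normal := normal_subgroupOf_of_le_normalizer hXN
  have hp : IsPGroup 2 (X ⧸ N.subgroupOf X) := by
    intro q
    obtain ⟨⟨g, hg⟩, rfl⟩ := QuotientGroup.mk_surjective q
    obtain ⟨n, hn⟩ := h2 g hg
    refine ⟨n, ?_⟩
    rw [← QuotientGroup.mk_pow, QuotientGroup.eq_one_iff]
    exact hn
  obtain ⟨m, hm⟩ := IsPGroup.iff_card.1 hp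
  set Y : Subgroup G := ((T₁ : Subgroup G) ⊓ X) ⊔ N with hY
  have hYX : Y ≤ X := sup_le inf_le_right hN
  have h3 : Y.relIndex X ∣ 2 ^ m := by
    rw [← hm]
    exact relIndex_dvd_of_le_left X (le_sup_right : N ≤ Y)
  have h4 : Y.relIndex X ∣ ((T₁ : Subgroup G) ⊓ X).relIndex X :=
    relIndex_dvd_of_le_left X (le_sup_left : (T₁ : Subgroup G) ⊓ X ≤ Y)
  have h5 : Y.relIndex X = 1 := by
    have h6 : Nat.Coprime (2 ^ m) (((T₁ : Subgroup G) ⊓ X).relIndex X) :=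
      Nat.Coprime.pow_left m (Nat.coprime_two_left.2 hodd)
    exact Nat.dvd_one.1 (h6 ▸ Nat.dvd_gcd h3 h4)
  have h7 : g ∈ Y := (relIndex_eq_one.1 h5) hg
  have h8 : ((T₁ : Subgroup G) ⊓ X) ≤ normalizer (N : Set G) := inf_le_right.trans hXN
  rw [hY, ← SetLike.mem_coe, coe_mul_of_left_le_normalizer_right _ _ h8] at h7
  obtain ⟨s, hs, c, hc, rfl⟩ := h7
  exact ⟨s, hs.1, hs.2, c, hc, rfl⟩

/-! ### The kill -/

namespace Kill

variable {F₁ F₂ : Type*} [Field F₁] [Field F₂] {V₁ V₂ N₁ N₂ : Subgroup G} {M₁ : RMod F₁ V₁ N₁}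
  {M₂ : RMod F₂ V₂ N₂} {R T : Subgroup G} {T₁ : Sylow 2 G} {w x : G}
  [Finite G] [Finite F₁] [Finite F₂] [CharP F₁ 2] [CharP F₂ 2] (k : Kill M₁ M₂ R T T₁ w x)

/-- `V₁V'` -/
def PI : Subgroup G := NN V₁ (cj w V₁) fun _ hv _ ha => k.VV' hv ha

/-- `C_{V₁V'}(W₂(R))` -/
def CP : Subgroup G := k.PI ⊓ centralizer (LL V₂ R R : Set G)

include k

theorem V_le_PI : V₁ ≤ k.PI := fun v hv => ⟨v, hv, 1, one_mem _, (mul_one v).symm⟩

theorem V'_le_PI : cj w V₁ ≤ k.PI := fun a ha => ⟨1, one_mem _, a, ha, (one_mul a).symm⟩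

theorem PI_le_U : k.PI ≤ UX x := by
  rintro _ ⟨v, hv, a, ha, rfl⟩
  exact mul_mem (k.V_le_U hv) (k.V'_le_U ha)

theorem PI_comm {y z : G} (hy : y ∈ k.PI) (hz : z ∈ k.PI) : y * z = z * y :=
  UX_comm (k.PI_le_U hy) (k.PI_le_U hz)

theorem PI_sq {y : G} (hy : y ∈ k.PI) : y * y = 1 := by
  obtain ⟨v, hv, a, ha, rfl⟩ := hy
  have h1 : a * a = 1 := by
    have h2 := M₁.sq (mem_cj.1 ha)
    calc a * a = w * (w⁻¹ * a * w * (w⁻¹ * a * w)) * w⁻¹ := by group
      _ = 1 := by rw [h2]; group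
  have h3 := k.VV' hv ha
  calc v * a * (v * a) = v * (a * v) * a := by group
    _ = v * (v * a) * a := by rw [h3]
    _ = v * v * (a * a) := by group
    _ = 1 := by rw [M₁.sq hv, h1, one_mul]

/-- `V₁V' = V₁ × C(X)` -/
theorem dec_PI {y : G} (hy : y ∈ k.PI) : ∃ v ∈ V₁, ∃ f ∈ k.PI,
    (∀ p, ∀ b ∈ LL V₂ R (pt M₁ p), b * f = f * b) ∧ y = v * f := by
  obtain ⟨v, hv, a, ha, rfl⟩ := hy
  obtain ⟨u, hu, h⟩ := k.exists_f ha
  refine ⟨v * u⁻¹, mul_mem hv (inv_mem hu), u * a, mul_mem (k.V_le_PI hu) (k.V'_le_PI ha), h, by group⟩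

theorem NB : normalizer (R : Set G) ≤ normalizer (LL V₂ R R : Set G) := normalizer_le_LL V₂ R R

theorem T_V {t : G} (ht : t ∈ T) : t ∈ normalizer (V₁ : Set G) := M₁.le (k.TN ht)

theorem T_V'n {t : G} (ht : t ∈ T) : t ∈ normalizer (cj w V₁ : Set G) := by
  have h1 : w⁻¹ * t * w ∈ T := by rw [← mem_cj, k.cjT]; exact ht
  rw [← cj_eq_self_iff, ← cj_mul]
  have e : t * w = w * (w⁻¹ * t * w) := by group
  rw [e, cj_mul, cj_eq_self_iff.2 (k.T_V h1)]

theorem w_V' : cj w (cj w V₁) = V₁ := by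
  rw [← cj_mul, cj_eq_self_iff.2 (k.T_V k.ww)]

theorem T_PI {t : G} (ht : t ∈ T) : t ∈ normalizer (k.PI : Set G) := by
  refine mem_normalizer_of_conj ?_
  rintro _ ⟨v, hv, a, ha, rfl⟩
  exact ⟨_, conj_mem_of_normalizer (k.T_V ht) hv, _, conj_mem_of_normalizer (k.T_V'n ht) ha, by group⟩

theorem w_PI : w ∈ normalizer (k.PI : Set G) := by
  refine mem_normalizer_of_conj ?_
  rintro _ ⟨v, hv, a, ha, rfl⟩
  have h1 : w * a * w⁻¹ ∈ V₁ := by rw [← k.w_V']; exact conj_mem_cj ha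
  have h2 : w * v * w⁻¹ ∈ cj w V₁ := conj_mem_cj hv
  refine ⟨_, h1, _, h2, ?_⟩
  rw [k.VV' h1 h2]
  group

theorem T₁_PI : (T₁ : Subgroup G) ≤ normalizer (k.PI : Set G) := by
  intro t ht
  rcases k.cov t ht with h | h
  · exact k.T_PI h
  · have h1 := mul_mem k.w_PI (k.T_PI h)
    rwa [mul_inv_cancel_left] at h1

theorem B_PI (p : Pt M₁) : LL V₂ R (pt M₁ p) ≤ normalizer (k.PI : Set G) := by
  intro b hb
  refine mem_normalizer_of_conj ?_
  rintro _ ⟨v, hv, a, ha, rfl⟩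
  have h1 := conj_mem_of_normalizer (k.sideW.B_NV p hb) hv
  have h2 := k.sideW.R_V p (k.V'_B p ha hb)
  refine ⟨b * v * b⁻¹ * (a * b * a⁻¹ * b⁻¹)⁻¹, mul_mem h1 (inv_mem h2), a, ha, by group⟩

theorem X_PI : (⨆ p, LL V₂ R (pt M₁ p)) ≤ normalizer (k.PI : Set G) := iSup_le k.B_PI

theorem X_V : (⨆ p, LL V₂ R (pt M₁ p)) ≤ normalizer (V₁ : Set G) := iSup_le k.sideW.B_NV

omit k in
theorem X_f {f : G} (hf : ∀ p, ∀ b ∈ LL V₂ R (pt M₁ p), b * f = f * b) {g : G}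
    (hg : g ∈ ⨆ p, LL V₂ R (pt M₁ p)) : g * f = f * g := by
  have h1 : (⨆ p, LL V₂ R (pt M₁ p)) ≤ centralizer ({f} : Set G) :=
    iSup_le fun p b hb => mem_centralizer_singleton_iff.2 (hf p b hb)
  exact mem_centralizer_singleton_iff.1 (h1 hg)

theorem BR (b : G) (hb : b ∈ LL V₂ R R) : ∃ p : Pt M₁, b ∈ LL V₂ R (pt M₁ p) := by
  obtain ⟨i, hi⟩ := k.exists_i
  exact ⟨i, by rw [hi]; exact hb⟩

theorem f_CP {f : G} (hf : f ∈ k.PI) (h : ∀ p, ∀ b ∈ LL V₂ R (pt M₁ p), b * f = f * b) : f ∈ k.CP := by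
  refine ⟨hf, mem_centralizer_iff.2 fun b hb => ?_⟩
  obtain ⟨p, hp⟩ := k.BR b hb
  exact h p b hp

theorem R_CP : R ≤ k.CP := fun _ hr => ⟨k.V_le_PI (k.toMixedQ.RV hr), mem_centralizer_iff.2 fun _ hb =>
  k.QR (k.symm.C_le_QQ hb) hr⟩

/-- an element of `V₁V'` which commutes with one root element is in `C` -/
theorem mem_CP {e y : G} (he : e ∈ LL V₂ R R) (hne : ∃ v ∈ V₁, e * v ≠ v * e) (hy : y ∈ k.PI) (hc : e * y = y * e) :
    y ∈ k.CP := by
  obtain ⟨u, hu, hRu⟩ := k.line₁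
  have a := k.toMixedQ.atR hu hRu
  obtain ⟨v, hv, f, hf, hfB, rfl⟩ := k.dec_PI hy
  obtain ⟨p, hp⟩ := k.BR e he
  have h1 := hfB p e hp
  have h2 : e * v = v * e := by
    have h3 : e * v * f = v * e * f := by
      calc e * v * f = e * (v * f) := by group
        _ = v * f * e := hc
        _ = v * e * f := by rw [mul_assoc, ← h1, ← mul_assoc]
    exact mul_right_cancel h3
  exact mul_mem (k.R_CP (line_of_comm a he hne hv h2)) (k.f_CP hf hfB)

/-- the elements of `C` are `r f` -/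
theorem dec_CP {y : G} (hy : y ∈ k.CP) : ∃ r ∈ R, ∃ f ∈ k.PI,
    (∀ p, ∀ b ∈ LL V₂ R (pt M₁ p), b * f = f * b) ∧ y = r * f := by
  obtain ⟨v, hv, f, hf, hfB, rfl⟩ := k.dec_PI hy.1
  obtain ⟨i, hi⟩ := k.exists_i
  refine ⟨v, ?_, f, hf, hfB, rfl⟩
  rw [← hi]
  refine k.sideW.VB i v hv fun b hb => ?_
  have hb' : b ∈ LL V₂ R R := by rwa [hi] at hb
  have h1 : b * (v * f) = v * f * b := mem_centralizer_iff.1 hy.2 b hb'
  have h2 := hfB i b hb
  have h3 : b * v * f = v * b * f := by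
    calc b * v * f = b * (v * f) := by group
      _ = v * f * b := h1
      _ = v * b * f := by rw [mul_assoc, ← h2, ← mul_assoc]
  exact mul_right_cancel h3

/-- what normalises `V₁V'` and `R` normalises `C` -/
theorem N_CP {g : G} (h1 : g ∈ normalizer (k.PI : Set G)) (h2 : g ∈ normalizer (R : Set G)) :
    g ∈ normalizer (k.CP : Set G) := by
  rw [← cj_eq_self_iff, CP, cj_inf, ← centralizer_cj, cj_eq_self_iff.2 h1, cj_eq_self_iff.2 (k.NB h2)]

/-- the torus element on `V₁V'` -/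
theorem exists_fq_PI {e e' : G} (he : e ∈ LL V₂ R R) (he' : e' ∈ LL V₂ R R) (hne : ∃ v ∈ V₁, e * v ≠ v * e)
    (hne' : ∃ v ∈ V₁, e' * v ≠ v * e') :
    ∃ b ∈ ⨆ i, LL V₂ R (pt M₁ i), b ∈ normalizer (R : Set G) ∧
      (∀ y ∈ k.PI, e' * (b * y * b⁻¹) * e'⁻¹ * (b * y * b⁻¹)⁻¹ = e * y * e⁻¹ * y⁻¹ ∧
        b * (e * y * e⁻¹ * y⁻¹) * b⁻¹ = e' * y * e'⁻¹ * y⁻¹) ∧
      ((∃ v ∈ V₁, e⁻¹ * e' * v ≠ v * (e⁻¹ * e')) → ∀ v ∈ V₁, b * v = v * b → v = 1) := by
  obtain ⟨u, hu, hRu⟩ := k.line₁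
  obtain ⟨b, hb, hbR, h1, h2⟩ := exists_fq (k.toMixedQ.atR hu hRu) he he' hne hne'
  refine ⟨b, hb, hbR, fun y hy => ?_, h2⟩
  obtain ⟨v, hv, f, hf, hfB, rfl⟩ := k.dec_PI hy
  obtain ⟨p, hp⟩ := k.BR e he
  obtain ⟨p', hp'⟩ := k.BR e' he'
  have c1 := hfB p e hp
  have c2 := hfB p' e' hp'
  have c3 : b * f = f * b := X_f hfB hb
  have e1 : e * (v * f) * e⁻¹ * (v * f)⁻¹ = e * v * e⁻¹ * v⁻¹ := by
    have : f * e⁻¹ * f⁻¹ = e⁻¹ := by
      rw [mul_inv_eq_iff_eq_mul, eq_inv_mul_iff_mul_eq, ← mul_assoc, c1, mul_inv_cancel_right]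
    calc e * (v * f) * e⁻¹ * (v * f)⁻¹ = e * v * (f * e⁻¹ * f⁻¹) * v⁻¹ := by group
      _ = e * v * e⁻¹ * v⁻¹ := by rw [this]
  have e2 : e' * (v * f) * e'⁻¹ * (v * f)⁻¹ = e' * v * e'⁻¹ * v⁻¹ := by
    have : f * e'⁻¹ * f⁻¹ = e'⁻¹ := by
      rw [mul_inv_eq_iff_eq_mul, eq_inv_mul_iff_mul_eq, ← mul_assoc, c2, mul_inv_cancel_right]
    calc e' * (v * f) * e'⁻¹ * (v * f)⁻¹ = e' * v * (f * e'⁻¹ * f⁻¹) * v⁻¹ := by group
      _ = e' * v * e'⁻¹ * v⁻¹ := by rw [this]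
  have e3 : b * (v * f) * b⁻¹ = b * v * b⁻¹ * f := by
    have : f * b⁻¹ = b⁻¹ * f := by
      rw [eq_inv_mul_iff_mul_eq, ← mul_assoc, c3, mul_inv_cancel_right]
    calc b * (v * f) * b⁻¹ = b * v * (f * b⁻¹) := by group
      _ = b * v * b⁻¹ * f := by rw [this]; group
  have e4 : e' * (b * v * b⁻¹ * f) * e'⁻¹ * (b * v * b⁻¹ * f)⁻¹ =
      e' * (b * v * b⁻¹) * e'⁻¹ * (b * v * b⁻¹)⁻¹ := by
    have : f * e'⁻¹ * f⁻¹ = e'⁻¹ := by
      rw [mul_inv_eq_iff_eq_mul, eq_inv_mul_iff_mul_eq, ← mul_assoc, c2, mul_inv_cancel_right]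
    calc e' * (b * v * b⁻¹ * f) * e'⁻¹ * (b * v * b⁻¹ * f)⁻¹ =
        e' * (b * v * b⁻¹) * (f * e'⁻¹ * f⁻¹) * (b * v * b⁻¹)⁻¹ := by group
      _ = _ := by rw [this]
  rw [e3, e4, e1, e2]
  exact h1 v hv

/-- `w⁻¹ e w` moves `V₁` if `e` does -/
theorem move_conj {e : G} (he : e ∈ LL V₂ R R) (hne : ∃ v ∈ V₁, e * v ≠ v * e) :
    ∃ v ∈ V₁, w⁻¹ * e * w * v ≠ v * (w⁻¹ * e * w) := by
  by_contra hcon
  push Not at hcon
  obtain ⟨i, hi⟩ := k.exists_i
  have hwB : cj w (LL V₂ R R) = LL V₂ R R := cj_eq_self_iff.2 (k.NB (k.T₁R k.wT₁))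
  have h1 : w⁻¹ * e * w ∈ TT V₁ (LL V₂ R (pt M₁ i)) := by
    rw [mem_TT, hi]
    refine ⟨?_, hcon⟩
    rw [← mem_cj, hwB]
    exact he
  -- it commutes with `V' = V₁^w`, so `e` commutes with `V₁^{w²} = V₁`
  obtain ⟨v, hv, hev⟩ := hne
  apply hev
  have h2 : w⁻¹ * v * w ∈ cj w V₁ := by
    have h3 : v ∈ cj w (cj w V₁) := by rw [k.w_V']; exact hv
    exact mem_cj.1 h3
  have h3 := k.V'_TT i h2 h1
  calc e * v = w * (w⁻¹ * e * w * (w⁻¹ * v * w)) * w⁻¹ := by group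
    _ = w * (w⁻¹ * v * w * (w⁻¹ * e * w)) * w⁻¹ := by rw [h3]
    _ = v * e := by group

/-- **the kill** -/
theorem norm : cj w V₁ = V₁ := by
  by_contra hne0
  obtain ⟨u, hu, hRu⟩ := k.line₁
  have a := k.toMixedQ.atR hu hRu
  obtain ⟨c, hc0, hc1⟩ := exists_ne_zero_one k.q4
  obtain ⟨e, he, e', he', m1, m2, m3⟩ := exists_ee a hc0 hc1
  have hwR := k.T₁R k.wT₁
  have hwB : cj w (LL V₂ R R) = LL V₂ R R := cj_eq_self_iff.2 (k.NB hwR)
  have hwe : w⁻¹ * e * w ∈ LL V₂ R R := by rw [← mem_cj, hwB]; exact he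
  have hwe' : w⁻¹ * e' * w ∈ LL V₂ R R := by rw [← mem_cj, hwB]; exact he'
  obtain ⟨b, hb, hbR, p1, p2⟩ := k.exists_fq_PI he he' m1 m2
  obtain ⟨b₂, hb₂, hb₂R, q1, q2⟩ := k.exists_fq_PI hwe hwe' (k.move_conj he m1) (k.move_conj he' m2)
  have hbf := p2 m3
  have hb₂f := q2 (by
    obtain ⟨v, hv, h⟩ := k.move_conj (mul_mem (inv_mem he) he') m3
    refine ⟨v, hv, ?_⟩
    have e1 : (w⁻¹ * e * w)⁻¹ * (w⁻¹ * e' * w) = w⁻¹ * (e⁻¹ * e') * w := by group
    rwa [e1])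
  have hbPI : b ∈ normalizer (k.PI : Set G) := k.X_PI hb
  have hb₂PI : b₂ ∈ normalizer (k.PI : Set G) := k.X_PI hb₂
  have hbV : b ∈ normalizer (V₁ : Set G) := k.X_V hb
  have hb₂V : b₂ ∈ normalizer (V₁ : Set G) := k.X_V hb₂
  set b' := w * b₂ * w⁻¹ with hb'
  have hwPI := k.w_PI
  have hb'PI : b' ∈ normalizer (k.PI : Set G) := mul_mem (mul_mem hwPI hb₂PI) (inv_mem hwPI)
  have hb'R : b' ∈ normalizer (R : Set G) := mul_mem (mul_mem hwR hb₂R) (inv_mem hwR)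
  have r1 : ∀ y ∈ k.PI, e' * (b' * y * b'⁻¹) * e'⁻¹ * (b' * y * b'⁻¹)⁻¹ = e * y * e⁻¹ * y⁻¹ ∧
      b' * (e * y * e⁻¹ * y⁻¹) * b'⁻¹ = e' * y * e'⁻¹ * y⁻¹ := by
    intro y hy
    obtain ⟨h1, h2⟩ := q1 _ (conj_inv_mem_of_normalizer hwPI hy)
    constructor
    · calc e' * (b' * y * b'⁻¹) * e'⁻¹ * (b' * y * b'⁻¹)⁻¹ =
          w * (w⁻¹ * e' * w * (b₂ * (w⁻¹ * y * w) * b₂⁻¹) * (w⁻¹ * e' * w)⁻¹ * (b₂ * (w⁻¹ * y * w) * b₂⁻¹)⁻¹) *
            w⁻¹ := by rw [hb']; group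
        _ = e * y * e⁻¹ * y⁻¹ := by rw [h1]; group
    · calc b' * (e * y * e⁻¹ * y⁻¹) * b'⁻¹ =
          w * (b₂ * (w⁻¹ * e * w * (w⁻¹ * y * w) * (w⁻¹ * e * w)⁻¹ * (w⁻¹ * y * w)⁻¹) * b₂⁻¹) * w⁻¹ := by
            rw [hb']; group
        _ = e' * y * e'⁻¹ * y⁻¹ := by rw [h2]; group
  have hbC := k.N_CP hbPI hbR
  have hb'C := k.N_CP hb'PI hb'R
  have hwC := k.N_CP hwPI hwR
  -- `[C, b] ≤ R`
  have cst : ∀ g ∈ ⨆ i, LL V₂ R (pt M₁ i), g ∈ normalizer (k.PI : Set G) → g ∈ normalizer (R : Set G) →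
      g ∈ St k.CP R := by
    intro g hg h1 h2
    refine ⟨k.N_CP h1 h2, h2, fun y hy => ?_⟩
    obtain ⟨r, hr, f, hf, hfB, rfl⟩ := k.dec_CP hy
    have h3 : g * f = f * g := X_f hfB hg
    have h4 : f * g⁻¹ * f⁻¹ = g⁻¹ := by
      rw [mul_inv_eq_iff_eq_mul, eq_inv_mul_iff_mul_eq, ← mul_assoc, h3, mul_inv_cancel_right]
    have e1 : g * (r * f) * g⁻¹ * (r * f)⁻¹ = g * r * g⁻¹ * r⁻¹ := by
      calc g * (r * f) * g⁻¹ * (r * f)⁻¹ = g * r * (f * g⁻¹ * f⁻¹) * r⁻¹ := by group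
        _ = g * r * g⁻¹ * r⁻¹ := by rw [h4]
    rw [e1]
    exact mul_mem (conj_mem_of_normalizer h2 hr) (inv_mem hr)
  have s1 := cst b hb hbPI hbR
  have s2 : b' ∈ St k.CP R := St_conj hwC hwR (cst b₂ hb₂ hb₂PI hb₂R)
  -- `δ`
  set Sg : Subgroup G := St k.PI k.CP ⊓ St k.CP R ⊓ centralizer (R : Set G) with hSg
  set δ := b⁻¹ * b' with hδ
  have hδS : δ ∈ Sg := by
    refine ⟨⟨⟨mul_mem (inv_mem hbPI) hb'PI, mul_mem (inv_mem hbC) hb'C, fun y hy => ?_⟩,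
      (St k.CP R).mul_mem ((St k.CP R).inv_mem s1) s2⟩, mem_centralizer_iff.2 fun r hr => ?_⟩
    · -- `[V₁V', δ] ≤ C`
      have h1 : (b * y * b⁻¹)⁻¹ * (b' * y * b'⁻¹) ∈ k.CP := by
        have h2 := conj_mem_of_normalizer hbPI hy
        have h3 := conj_mem_of_normalizer hb'PI hy
        refine k.mem_CP he' m2 (mul_mem (inv_mem h2) h3) ?_
        have h4 := (p1 y hy).1.trans (r1 y hy).1.symm
        set y₁ := b * y * b⁻¹
        set y₂ := b' * y * b'⁻¹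
        -- `e' y₁ e'⁻¹ y₁⁻¹ = e' y₂ e'⁻¹ y₂⁻¹`
        have h5 : e' * (y₁⁻¹ * y₂) * e'⁻¹ = y₁⁻¹ * y₂ := by
          have h6 : e' * y₂ * e'⁻¹ = e' * y₁ * e'⁻¹ * y₁⁻¹ * y₂ := by rw [h4]; group
          have h7 : e' * y₁⁻¹ * e'⁻¹ = (e' * y₁ * e'⁻¹)⁻¹ := by group
          calc e' * (y₁⁻¹ * y₂) * e'⁻¹ = (e' * y₁⁻¹ * e'⁻¹) * (e' * y₂ * e'⁻¹) := by group
            _ = y₁⁻¹ * y₂ := by rw [h6, h7]; group
        exact mul_inv_eq_iff_eq_mul.1 h5
      have h2 : (b' * y * b'⁻¹) * (b * y * b⁻¹)⁻¹ ∈ k.CP := by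
        rwa [k.PI_comm (conj_mem_of_normalizer hb'PI hy) (inv_mem (conj_mem_of_normalizer hbPI hy))]
      have h3 := conj_inv_mem_of_normalizer hbC h2
      have e1 : b⁻¹ * (b' * y * b'⁻¹ * (b * y * b⁻¹)⁻¹) * b = δ * y * δ⁻¹ * y⁻¹ := by
        rw [hδ]; group
      rwa [e1] at h3
    · obtain ⟨v, hv, rfl⟩ := exists_comm_R a he m1 hr
      have h1 := (p1 v (k.V_le_PI hv)).2
      have h2 := (r1 v (k.V_le_PI hv)).2
      set r := e * v * e⁻¹ * v⁻¹
      have h3 : b' * r * b'⁻¹ = b * r * b⁻¹ := by rw [h1, h2]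
      calc r * δ = b⁻¹ * (b * r * b⁻¹) * b' := by rw [hδ]; group
        _ = b⁻¹ * (b' * r * b'⁻¹) * b' := by rw [h3]
        _ = δ * r := by rw [hδ]; group
  -- `J = W₂(R) C(V₁V')`
  set CPI : Subgroup G := centralizer (k.PI : Set G) with hCPI
  set J : Subgroup G := LL V₂ R R ⊔ CPI with hJ
  have hBR : LL V₂ R R ≤ normalizer (R : Set G) := k.symm.C_le_QQ.trans (O2_le _)
  have hBPI : LL V₂ R R ≤ normalizer (k.PI : Set G) := fun b hb => by
    obtain ⟨p, hp⟩ := k.BR b hb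
    exact k.B_PI p hp
  have hBX : LL V₂ R R ≤ ⨆ i, LL V₂ R (pt M₁ i) := fun b hb => by
    obtain ⟨p, hp⟩ := k.BR b hb
    exact le_iSup (fun i => LL V₂ R (pt M₁ i)) p hp
  have hRPI : R ≤ k.PI := (k.toMixedQ.RV).trans k.V_le_PI
  have hCPIV : CPI ≤ St k.PI V₁ := by
    intro g hg
    refine ⟨centralizer_le_normalizer _ hg, centralizer_le_normalizer _ (centralizer_le k.V_le_PI hg),
      fun y hy => ?_⟩
    have h1 := mem_centralizer_iff.1 hg y hy
    rw [← h1, mul_inv_cancel_right, mul_inv_cancel]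
    exact one_mem _
  have stV : ∀ g ∈ ⨆ i, LL V₂ R (pt M₁ i), g ∈ St k.PI V₁ := by
    intro g hg
    refine ⟨k.X_PI hg, k.X_V hg, fun y hy => ?_⟩
    obtain ⟨v, hv, f, hf, hfB, rfl⟩ := k.dec_PI hy
    have h3 : g * f = f * g := X_f hfB hg
    have h4 : f * g⁻¹ * f⁻¹ = g⁻¹ := by
      rw [mul_inv_eq_iff_eq_mul, eq_inv_mul_iff_mul_eq, ← mul_assoc, h3, mul_inv_cancel_right]
    have e1 : g * (v * f) * g⁻¹ * (v * f)⁻¹ = g * v * g⁻¹ * v⁻¹ := by
      calc g * (v * f) * g⁻¹ * (v * f)⁻¹ = g * v * (f * g⁻¹ * f⁻¹) * v⁻¹ := by group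
        _ = g * v * g⁻¹ * v⁻¹ := by rw [h4]
    rw [e1]
    exact mul_mem (conj_mem_of_normalizer (k.X_V hg) hv) (inv_mem hv)
  have hJV : J ≤ St k.PI V₁ := sup_le (fun g hg => stV g (hBX hg)) hCPIV
  have hJb : b ∈ normalizer (J : Set G) := by
    rw [← cj_eq_self_iff, hJ, cj_sup, cj_eq_self_iff.2 (k.NB hbR), hCPI, ← centralizer_cj, cj_eq_self_iff.2 hbPI]
  -- `T ∩ Sg ≤ J`
  have hTJ : ∀ t ∈ T, t ∈ Sg → t ∈ J := by
    intro t ht htS
    have htR : ∀ r ∈ R, t * r = r * t := fun r hr => (mem_centralizer_iff.1 htS.2 r hr).symm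
    obtain ⟨A, hA, hA'⟩ := k.T_UW ht htR hu hRu
    obtain ⟨y, hy, hyA⟩ := a.full A hA
    have hyT : y ∈ T := k.QT (k.symm.C_le_QQ hy)
    have h1 : ∀ v ∈ V₁, y⁻¹ * t * v = v * (y⁻¹ * t) := by
      intro v hv
      obtain ⟨z, rfl⟩ := (M₁.mem_iff v).1 hv
      have h2 : y * M₁.e z * y⁻¹ = t * M₁.e z * t⁻¹ := by rw [hyA, hA']
      calc y⁻¹ * t * M₁.e z = y⁻¹ * (t * M₁.e z * t⁻¹) * t := by group
        _ = y⁻¹ * (y * M₁.e z * y⁻¹) * t := by rw [h2]
        _ = M₁.e z * (y⁻¹ * t) := by group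
    have h2 : y⁻¹ * t ∈ CPI := by
      rw [hCPI, mem_centralizer_iff]
      rintro _ ⟨v, hv, c, hc, rfl⟩
      have h3 := k.T_V' (mul_mem (inv_mem hyT) ht) h1 hc
      calc v * c * (y⁻¹ * t) = v * (c * (y⁻¹ * t)) := by group
        _ = v * (y⁻¹ * t * c) := by rw [h3]
        _ = v * (y⁻¹ * t) * c := by group
        _ = y⁻¹ * t * v * c := by rw [h1 v hv]
        _ = y⁻¹ * t * (v * c) := by group
    have h3 := mul_mem ((le_sup_left : _ ≤ J) hy) ((le_sup_right : CPI ≤ J) h2)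
    rwa [mul_inv_cancel_left] at h3
  -- `Sg = (T₁ ∩ Sg) C(V₁V')`
  have hT₁C : (T₁ : Subgroup G) ≤ normalizer (k.CP : Set G) := fun t ht => k.N_CP (k.T₁_PI ht) (k.T₁R ht)
  have nSg : ∀ g, g ∈ normalizer (k.PI : Set G) → g ∈ normalizer (R : Set G) → ∀ h ∈ Sg, g * h * g⁻¹ ∈ Sg := by
    rintro g g1 g2 h ⟨⟨h1, h2⟩, h3⟩
    have g3 := k.N_CP g1 g2
    exact ⟨⟨St_conj g1 g3 h1, St_conj g3 g2 h2⟩,
      conj_mem_of_normalizer (normalizer_le_normalizer_centralizer R g2) h3⟩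
  have hCS : CPI ≤ Sg := by
    intro g hg
    have hgc := mem_centralizer_iff.1 hg
    have g1 : g ∈ normalizer (k.PI : Set G) := centralizer_le_normalizer _ hg
    have g2 : g ∈ centralizer (R : Set G) := centralizer_le hRPI hg
    have g3 := k.N_CP g1 (centralizer_le_normalizer _ g2)
    have key : ∀ {A : Subgroup G}, ∀ y ∈ k.PI, g * y * g⁻¹ * y⁻¹ ∈ A := by
      intro A y hy
      rw [← hgc y hy, mul_inv_cancel_right, mul_inv_cancel]
      exact one_mem _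
    exact ⟨⟨⟨g1, g3, fun y hy => key y hy⟩, ⟨g3, centralizer_le_normalizer _ g2, fun y hy => key y hy.1⟩⟩, g2⟩
  have hpow : ∀ g ∈ Sg, ∃ n : ℕ, g ^ 2 ^ n ∈ CPI := by
    rintro g ⟨⟨g1, g2⟩, g3⟩
    refine ⟨2, ?_⟩
    rw [hCPI, mem_centralizer_iff]
    -- `g² y g⁻² y⁻¹ ∈ R` for `y ∈ V₁V'`
    have h1 : ∀ y ∈ k.PI, g * g * y * (g * g)⁻¹ * y⁻¹ ∈ R := by
      intro y hy
      set c := g * y * g⁻¹ * y⁻¹ with hc
      have hcC : c ∈ k.CP := g1.2.2 y hy
      have h2 : g * c * g⁻¹ * c⁻¹ ∈ R := g2.2.2 c hcC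
      have h3 : g * g * y * (g * g)⁻¹ * y⁻¹ = g * c * g⁻¹ * c⁻¹ * (c * c) := by
        rw [hc]; group
      rw [h3, k.PI_sq hcC.1, mul_one]
      exact h2
    intro y hy
    set r := g * g * y * (g * g)⁻¹ * y⁻¹ with hr
    have hrR : r ∈ R := h1 y hy
    have h2 : g * g * r = r * (g * g) := by
      have h3 := mem_centralizer_iff.1 g3 r hrR
      rw [mul_assoc, ← h3, ← mul_assoc, ← h3, mul_assoc]
    have h4 : r * r = 1 := k.PI_sq (hRPI hrR)
    have h5 : g * g * y * (g * g)⁻¹ = r * y := by rw [hr]; group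
    have e : g ^ 2 ^ 2 = (g * g) * (g * g) := by
      rw [show (2 : ℕ) ^ 2 = 2 + 2 from rfl, pow_add, pow_two]
    have h6 : g * g * (g * g) * y * (g * g * (g * g))⁻¹ = y := by
      calc g * g * (g * g) * y * (g * g * (g * g))⁻¹ = g * g * (g * g * y * (g * g)⁻¹) * (g * g)⁻¹ := by group
        _ = (g * g * r) * y * (g * g)⁻¹ := by rw [h5]; group
        _ = r * (g * g * y * (g * g)⁻¹) := by rw [h2]; group
        _ = r * r * y := by rw [h5]; group
        _ = y := by rw [h4, one_mul]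
    rw [e]
    exact (mul_inv_eq_iff_eq_mul.1 h6).symm
  have hSn : (T₁ : Subgroup G) ≤ normalizer (Sg : Set G) := fun t ht =>
    mem_normalizer_of_conj fun h hh => nSg t (k.T₁_PI ht) (k.T₁R ht) h hh
  have hSC : Sg ≤ normalizer (CPI : Set G) := fun g hg =>
    normalizer_le_normalizer_centralizer _ hg.1.1.1
  have fac : ∀ g ∈ Sg, ∃ s ∈ (T₁ : Subgroup G), s ∈ Sg ∧ ∃ c ∈ CPI, g = s * c := fun g hg =>
    exists_mul_of_sylow T₁ hSn hCS hSC hpow hg
  -- `[δ, b] ∈ J`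
  have hδb : b⁻¹ * δ * b ∈ Sg := by
    have := nSg b⁻¹ (inv_mem hbPI) (inv_mem hbR) δ hδS
    rwa [inv_inv] at this
  have hCJ : CPI ≤ J := le_sup_right
  have hcomm : δ⁻¹ * (b⁻¹ * δ * b) ∈ J := by
    obtain ⟨s, hs, hsS, d, hd, e1⟩ := fac δ hδS
    obtain ⟨s', hs', hs'S, d', hd', e2⟩ := fac _ hδb
    have hJδ : δ ∈ J → δ⁻¹ * (b⁻¹ * δ * b) ∈ J := fun h =>
      mul_mem (inv_mem h) (conj_inv_mem_of_normalizer hJb h)
    by_cases h1 : s ∈ T
    · apply hJδ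
      rw [e1]
      exact mul_mem (hTJ s h1 hsS) (hCJ hd)
    by_cases h2 : s' ∈ T
    · apply hJδ
      have h3 : b⁻¹ * δ * b ∈ J := by
        rw [e2]
        exact mul_mem (hTJ s' h2 hs'S) (hCJ hd')
      have h4 := conj_mem_of_normalizer hJb h3
      have e : b * (b⁻¹ * δ * b) * b⁻¹ = δ := by group
      rwa [e] at h4
    · have h3 : s⁻¹ * s' ∈ T := by
        have h4 := (k.cov s hs).resolve_left h1
        have h5 := (k.cov s' hs').resolve_left h2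
        have h6 := mul_mem (inv_mem h4) h5
        have e : (w⁻¹ * s)⁻¹ * (w⁻¹ * s') = s⁻¹ * s' := by group
        rwa [e] at h6
      have h4 := hTJ _ h3 (Sg.mul_mem (Sg.inv_mem hsS) hs'S)
      rw [e2, e1]
      have e : (s * d)⁻¹ * (s' * d') = d⁻¹ * (s⁻¹ * s') * d' := by group
      rw [e]
      exact mul_mem (mul_mem (inv_mem (hCJ hd)) h4) (hCJ hd')
  -- `δ` normalises `V₁`
  have hβ : δ⁻¹ * b * δ ∈ St k.PI V₁ := by
    have e : δ⁻¹ * b * δ = b * (δ⁻¹ * (b⁻¹ * δ * b))⁻¹ := by group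
    rw [e]
    exact (St k.PI V₁).mul_mem (stV b hb) ((St k.PI V₁).inv_mem (hJV hcomm))
  have hδPI : δ ∈ normalizer (k.PI : Set G) := hδS.1.1.1
  have hδV' : δ⁻¹ ∈ normalizer (V₁ : Set G) := by
    refine mem_normalizer_of_conj fun v hv => ?_
    obtain ⟨v₁, hv₁, e1⟩ := exists_comm_eq hbV hbf hv
    have h1 := conj_inv_mem_of_normalizer hδPI (k.V_le_PI hv₁)
    have h2 := hβ.2.2 _ h1
    have e2 : δ⁻¹ * b * δ * (δ⁻¹ * v₁ * δ) * (δ⁻¹ * b * δ)⁻¹ * (δ⁻¹ * v₁ * δ)⁻¹ = δ⁻¹ * v * δ⁻¹⁻¹ := by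
      rw [← e1]; group
    rwa [e2] at h2
  have hδV : δ ∈ normalizer (V₁ : Set G) := inv_mem_iff.1 hδV'
  have hδst : δ ∈ St k.PI V₁ := by
    refine ⟨hδPI, hδV, fun y hy => ?_⟩
    obtain ⟨v, hv, f, hf, hfB, rfl⟩ := k.dec_PI hy
    have h1 := hδS.1.2.2.2 f (k.f_CP hf hfB)
    have e1 : δ * (v * f) * δ⁻¹ * (v * f)⁻¹ = (δ * v * δ⁻¹) * (δ * f * δ⁻¹ * f⁻¹) * v⁻¹ := by group
    rw [e1]
    exact mul_mem (mul_mem (conj_mem_of_normalizer hδV hv) (k.toMixedQ.RV h1)) (inv_mem hv)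
  have hb'st : b' ∈ St k.PI V₁ := by
    have e : b' = b * δ := by rw [hδ]; group
    rw [e]
    exact (St k.PI V₁).mul_mem (stV b hb) hδst
  -- `V' = [V', b'] ≤ V₁`
  apply hne0
  refine eq_of_le_of_card_ge ?_ (card_cj w V₁).ge
  intro y hy
  have hb'V' : b' ∈ normalizer (cj w V₁ : Set G) := by
    rw [← cj_eq_self_iff, hb', ← cj_mul]
    have e : w * b₂ * w⁻¹ * w = w * b₂ := by group
    rw [e, cj_mul, cj_eq_self_iff.2 hb₂V]
  have hb'f : ∀ c ∈ cj w V₁, b' * c = c * b' → c = 1 := by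
    intro c hc h
    have h1 := hb₂f _ (mem_cj.1 hc) (by
      calc b₂ * (w⁻¹ * c * w) = w⁻¹ * (b' * c) * w := by rw [hb']; group
        _ = w⁻¹ * (c * b') * w := by rw [h]
        _ = w⁻¹ * c * w * b₂ := by rw [hb']; group)
    have e : c = w * (w⁻¹ * c * w) * w⁻¹ := by group
    rw [e, h1]; group
  obtain ⟨c, hc, e1⟩ := exists_comm_eq hb'V' hb'f hy
  rw [← e1]
  exact hb'st.2.2 c (k.V'_le_PI hc)

end Kill

end Cfsg.Agent.Omega.IId.MQ

end

section


/-!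
# WrCv, mixed partners, CASE 2, `q ≥ 4`: the two sides (helper330, bb OMEGA #18683, #18786)

* `mixedQ_of` : `MixedQ` from `LineD`;
* `zc_dec` : `Ω₁(Z(stab M i)) ≤ line M i × C(grp M {i})`;
* `exists_transfer` : **LEMMA X**: an element of `Ω₁(Z(T₁)) ∩ C(grp M {i})` is conjugate in `N_G(R)` to one of
  `Ω₁(Z(T₁')) ∩ C(grp M' {i'})`;
* `exists_norm4` : `fac M i` and `line M i` are normalised by a Sylow 2-subgroup of `G`.
-/

set_option autoImplicit false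
set_option linter.unusedSectionVars false

namespace Cfsg.Agent.Omega.IId.NV

open Subgroup Cfsg Cfsg.Agent.Lib.SL2Mat Cfsg.Agent.MinSimple
open Cfsg.Agent.ZN (o2 zc zl)
open Cfsg.Agent.Omega.BTwo (cj mem_cj cj_mono cj_eq_self_iff conj_mem_cj QQ card_cj)
open Cfsg.Agent.Omega.Mix (RMod LL LL_conj V_le_LL char2_normalizer pt Pt)
open Cfsg.Agent.Omega.IId.M4 (toRMod toRMod_line nmG exists_cj_eq LL_comm mem_nmG)
open Cfsg.Agent.Omega.IId.FourSide (vec_ne)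
open Cfsg.Agent.Omega.IId.Cv (LineD UnM)
open Cfsg.Agent.Omega.IId.MQ (MixedQ Kill)

universe u

variable {G : Type u} [Group G] [Finite G] {F F' : Type} [Field F] [Finite F] [CharP F 2] [Field F'] [Finite F']
  [CharP F' 2] {S S' : Sylow 2 G} {P V D P' V' D' : Subgroup G} {k k' : ℕ}

/-- `MixedQ` from `LineD` -/
theorem mixedQ_of {M : NatD F S P V D k} {M' : NatD F' S' P' V' D' k'} (hk : k = 1 ∨ k = 2) (hk' : k' = 1 ∨ k' = 2)
    {i : Fin k} {i' : Fin k'} (hl : line M.toNatV i = line M'.toNatV i')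
    (hne : ∃ v ∈ fac M.toNatV i, ∃ w ∈ fac M'.toNatV i', v * w ≠ w * v) (hu : ¬ UnM M i) (hu' : ¬ UnM M' i') :
    MixedQ (toRMod (pre M.toNatV i)) (toRMod (pre M'.toNatV i')) (line M.toNatV i) where
  line₁ := ⟨![1, 0], vec_ne, by rw [toRMod_line, pre_line]⟩
  line₂ := ⟨![1, 0], vec_ne, by rw [toRMod_line, pre_line]; exact hl⟩
  QN₁ := (o2_line_le' M hk i).trans (stab_le_nmG (SP M) M.toNatV i)
  QN₂ := by
    rw [hl]
    exact (o2_line_le' M' hk' i').trans (stab_le_nmG (SP M') M'.toNatV i')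
  char := fun K hK hK1 => char2_normalizer M.hG hK hK1
  comm₁ := LL_comm (comm_of_not_unM hu)
  comm₂ := by
    rw [hl]
    exact LL_comm (comm_of_not_unM hu')
  ne := by
    obtain ⟨v, hv, w, hw, hvw⟩ := hne
    exact ⟨v, V_le_LL _ _ hv, w, V_le_LL _ _ hw, hvw⟩

section side

variable (M : NatD F S P V D k)

/-- an element of the line centralised by the stabilizer of the line in `grp M {i}` is `1` for `|F| ≥ 3` -/
theorem line_eq_one (q4 : 4 ≤ Nat.card F) {i : Fin k} {r : G} (hr : r ∈ line M.toNatV i)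
    (h : ∀ g ∈ grp M.toNatV {i}, g ∈ normalizer (line M.toNatV i : Set G) → g * r = r * g) : r = 1 := by
  by_contra hr1
  obtain ⟨w, hw, hw1, hwr⟩ : ∃ w ∈ line M.toNatV i, w ≠ 1 ∧ w ≠ r := by
    by_contra hcon
    push Not at hcon
    have h1 : Nat.card (line M.toNatV i) ≤ 2 := by
      have h2 : (line M.toNatV i : Set G) ⊆ {1, r} := by
        intro y hy
        by_cases hy1 : y = 1
        · left; exact hy1
        · right; exact hcon y hy hy1
      have h3 : Set.ncard (line M.toNatV i : Set G) ≤ Set.ncard ({1, r} : Set G) :=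
        Set.ncard_le_ncard h2 (Set.toFinite _)
      have h4 : Set.ncard ({1, r} : Set G) ≤ 2 := (Set.ncard_insert_le _ _).trans (by rw [Set.ncard_singleton])
      exact h3.trans h4
    rw [card_line] at h1
    omega
  obtain ⟨g, hg, hgn, hgr⟩ := exists_tor M.toNatV hr hw hr1 hw1
  apply hwr
  rw [← hgr, h g hg hgn, mul_inv_cancel_right]

/-- `Ω₁(Z(stab M i)) ≤ line M i × C(grp M {i})`, `k = 1, 2` -/
theorem zc_dec (hk : k = 1 ∨ k = 2) {i : Fin k} {f : G} (hf : f ∈ zc (stab M.toNatV i)) :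
    ∃ u ∈ line M.toNatV i, ∃ z, f = u * z ∧ (∀ g ∈ grp M.toNatV {i}, g * z = z * g) := by
  rcases hk with rfl | rfl
  · rw [stab_one M i] at hf
    obtain ⟨n, hn, d, hd, rfl⟩ := M.dec f (VModule.zc_le_zl _ _ hf)
    have hn' : n ∈ fac M.toNatV i := by rw [fac_one M i]; exact hn
    have hdS : ∀ t ∈ (S : Subgroup G), t * d = d * t := fun t ht => (mem_centralizer_iff.1 (M.cD (SP M ht)) d hd).symm
    refine ⟨n, fix_le_line M.toNatV (SP M) hn' fun t ht => ?_, d, rfl, fun g hg =>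
      (mem_centralizer_iff.1 (M.cD (grp_le _ _ hg)) d hd).symm⟩
    have h1 := (VModule.mem_zc.1 hf).2.1 t (stab_le _ _ ht)
    have h2 := hdS t (stab_le _ _ ht)
    have h3 : t * n * d = n * t * d := by
      calc t * n * d = t * (n * d) := by group
        _ = n * (d * t) := by rw [h1]; group
        _ = n * t * d := by rw [← h2]; group
    exact mul_right_cancel h3
  · obtain ⟨a, ha, c, hc, haz, hcc, rfl⟩ := XZ.zc_stb' (M := M) (blk_two M i) hf
    exact ⟨a, fix_le_line M.toNatV (SP M) ha fun t ht => (VModule.mem_zc.1 haz).2.1 t ht, c, rfl, fun g hg =>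
      hcc g (mem_sup_left hg)⟩

end side

theorem mem_zc_conj {T T' : Subgroup G} {h x : G} (hT : cj h T = T') (hx : x ∈ zc T) : h * x * h⁻¹ ∈ zc T' := by
  subst hT
  obtain ⟨h1, h2, h3⟩ := VModule.mem_zc.1 hx
  refine VModule.mem_zc.2 ⟨conj_mem_cj h1, fun y hy => ?_, ?_⟩
  · have h4 := h2 _ (mem_cj.1 hy)
    calc y * (h * x * h⁻¹) = h * (h⁻¹ * y * h * x) * h⁻¹ := by group
      _ = h * (x * (h⁻¹ * y * h)) * h⁻¹ := by rw [h4]
      _ = _ := by group
  · calc (h * x * h⁻¹) ^ 2 = h * x ^ 2 * h⁻¹ := by rw [pow_two, pow_two]; group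
      _ = 1 := by rw [h3]; group

/-- an element of `Ω₁(Z(T₁))`, `T₁` a Sylow 2-subgroup of `G` in `N_G(R)`, is in `Ω₁(Z(T))` if
`O₂(N_G(R)) ≤ T ≤ T₁`. -/
theorem mem_zc_stab {M : NatD F S P V D k} {T₁ : Sylow 2 G} (hk : k = 1 ∨ k = 2) {i : Fin k}
    (hT₁ : (T₁ : Subgroup G) ≤ normalizer (line M.toNatV i : Set G)) (hle : stab M.toNatV i ≤ T₁) {x : G}
    (hx : x ∈ zc (T₁ : Subgroup G)) : x ∈ zc (stab M.toNatV i) := by
  obtain ⟨h1, h2, h3⟩ := VModule.mem_zc.1 hx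
  refine VModule.mem_zc.2 ⟨o2_line_le' M hk i (char2_line' M i ⟨hT₁ h1, ?_⟩), fun t ht => h2 t (hle ht), h3⟩
  exact mem_centralizer_iff.2 fun y hy => h2 y (hle (o2_line_le' M hk i hy))

/-- **LEMMA X** -/
theorem exists_transfer {M : NatD F S P V D k} {M' : NatD F' S' P' V' D' k'} (hk' : k' = 1 ∨ k' = 2)
    {i : Fin k} {i' : Fin k'} (hl : line M.toNatV i = line M'.toNatV i') (q4 : 4 ≤ Nat.card F)
    (q4' : 4 ≤ Nat.card F') {T₁ : Sylow 2 G} (hT₁ : (T₁ : Subgroup G) ≤ normalizer (line M.toNatV i : Set G))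
    {x : G} (hx : x ∈ zc (T₁ : Subgroup G)) (hx1 : x ≠ 1) (hxg : ∀ g ∈ grp M.toNatV {i}, g * x = x * g)
    {T₂ : Sylow 2 G} (hT₂ : (T₂ : Subgroup G) ≤ normalizer (line M'.toNatV i' : Set G))
    (hle : stab M'.toNatV i' ≤ T₂) :
    ∃ y ∈ zc (T₂ : Subgroup G), y ≠ 1 ∧ ∀ g ∈ grp M'.toNatV {i'}, g * y = y * g := by
  have hfact : Fact (Nat.Prime 2) := ⟨Nat.prime_two⟩
  have hT₂' : (T₂ : Subgroup G) ≤ normalizer (line M.toNatV i : Set G) := by rw [hl]; exact hT₂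
  obtain ⟨h, hh, hhT⟩ := exists_cj_eq hT₂' hT₁ T₂.isPGroup' T₁.isPGroup'
    (MinSimple.Basic.not_dvd_relIndex T₂ hT₂') (MinSimple.Basic.not_dvd_relIndex T₁ hT₁)
  set R := line M.toNatV i with hR
  set y := h * x * h⁻¹ with hy
  have hyz : y ∈ zc (T₂ : Subgroup G) := mem_zc_conj hhT hx
  have hyz' : y ∈ zc (stab M'.toNatV i') := mem_zc_stab hk' hT₂ hle hyz
  have hRT : R ≤ T₂ := by
    rw [hl]
    exact (((line_le _ _).trans (fac_le_o2 M' hk' i')).trans (o2_line_le' M' hk' i')).trans hle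
  have hRc : ∀ a ∈ R, ∀ b ∈ R, a * b = b * a := fun a ha b hb =>
    NV.comm M.toNatV (fac_le _ _ (line_le _ _ ha)) (fac_le _ _ (line_le _ _ hb))
  have hRsq : ∀ a ∈ R, a * a = 1 := fun a ha => NV.sq M.toNatV (fac_le _ _ (line_le _ _ ha))
  have hyR : ∀ a ∈ R, a * y = y * a := fun a ha => (VModule.mem_zc.1 hyz).2.1 a (hRT ha)
  obtain ⟨u, hu, z, e, hz⟩ := zc_dec M' hk' hyz'
  rw [← hl] at hu
  have hzR : ∀ a ∈ R, a * z = z * a := by
    intro a ha
    have h1 := hyR a ha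
    rw [e] at h1
    have h2 : u * (a * z) = u * (z * a) := by
      calc u * (a * z) = u * a * z := by group
        _ = a * (u * z) := by rw [hRc u hu a ha]; group
        _ = u * (z * a) := by rw [h1]; group
    exact mul_left_cancel h2
  let N : Subgroup G :=
    { carrier := {g | g ∈ normalizer (R : Set G) ∧ y⁻¹ * g * y * g⁻¹ ∈ R}
      one_mem' := ⟨one_mem _, by
        have e1 : y⁻¹ * 1 * y * 1⁻¹ = 1 := by group
        rw [e1]; exact one_mem _⟩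
      mul_mem' := by
        rintro a b ⟨ha, ha1⟩ ⟨hb, hb1⟩
        refine ⟨mul_mem ha hb, ?_⟩
        have e1 : y⁻¹ * (a * b) * y * (a * b)⁻¹ = (y⁻¹ * a * y * a⁻¹) * (a * (y⁻¹ * b * y * b⁻¹) * a⁻¹) := by group
        rw [e1]
        exact mul_mem ha1 ((mem_normalizer_iff.1 ha _).1 hb1)
      inv_mem' := by
        rintro a ⟨ha, ha1⟩
        refine ⟨inv_mem ha, ?_⟩
        have e1 : y⁻¹ * a⁻¹ * y * a⁻¹⁻¹ = a⁻¹ * (y⁻¹ * a * y * a⁻¹)⁻¹ * a⁻¹⁻¹ := by group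
        rw [e1]
        exact (mem_normalizer_iff.1 (inv_mem ha) _).1 (inv_mem ha1) }
  have hNmem : ∀ g, g ∈ N ↔ g ∈ normalizer (R : Set G) ∧ y⁻¹ * g * y * g⁻¹ ∈ R := fun g => Iff.rfl
  have hcomm : ∀ g, g * y = y * g → y⁻¹ * g * y * g⁻¹ = 1 := by
    intro g hg
    rw [mul_assoc y⁻¹, hg]; group
  have hTN : (T₂ : Subgroup G) ≤ N := by
    intro t ht
    refine (hNmem t).2 ⟨by rw [hl]; exact hT₂ ht, ?_⟩
    rw [hcomm t ((VModule.mem_zc.1 hyz).2.1 t ht)]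
    exact one_mem _
  have hodd : Odd ((T₂ : Subgroup G).relIndex N) := by
    rw [← Nat.not_even_iff_odd, even_iff_two_dvd]
    exact MinSimple.Basic.not_dvd_relIndex T₂ hTN
  obtain ⟨c, hc, hcN⟩ := BTwo.Avg.avg (X := N) (P := (T₂ : Subgroup G)) (Y := R) (D := ⊥) (c := y) hTN hodd bot_le
    (fun g hg a ha => (mem_normalizer_iff.1 hg.1 a).1 ha)
    (fun g _ a ha => by rw [mem_bot] at ha ⊢; rw [ha]; group)
    (fun g _ a ha => by rw [mem_bot] at ha ⊢; rw [ha]; group)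
    (fun a ha => by rw [mem_bot]; exact hRsq a ha)
    (fun g hg => hg.2)
    (fun t ht => by rw [mem_bot]; exact hcomm t ((VModule.mem_zc.1 hyz).2.1 t ht))
  have hcN' : ∀ g ∈ N, g * (y * c) = y * c * g := by
    intro g hg
    have h1 := hcN g hg
    rw [mem_bot, mul_inv_eq_one] at h1
    calc g * (y * c) = y * c * ((y * c)⁻¹ * g * (y * c)) := by group
      _ = y * c * g := by rw [h1]
  -- `c = 1`
  have hc1 : c = 1 := by
    have h1 : h⁻¹ * c * h = 1 := by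
      refine line_eq_one M q4 (i := i) ?_ fun g hg hgn => ?_
      · have := (mem_normalizer_iff.1 (inv_mem hh) c).1 hc
        rwa [inv_inv] at this
      · have h2 : h * g * h⁻¹ * y = y * (h * g * h⁻¹) := by
          calc h * g * h⁻¹ * (h * x * h⁻¹) = h * (g * x) * h⁻¹ := by group
            _ = h * (x * g) * h⁻¹ := by rw [hxg g hg]
            _ = h * x * h⁻¹ * (h * g * h⁻¹) := by group
        have h3 : h * g * h⁻¹ ∈ N := by
          refine (hNmem _).2 ⟨mul_mem (mul_mem hh hgn) (inv_mem hh), ?_⟩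
          rw [hcomm _ h2]
          exact one_mem _
        have h4 := hcN' _ h3
        have h5 : h * g * h⁻¹ * c = c * (h * g * h⁻¹) := by
          have h6 : y * (h * g * h⁻¹ * c) = y * (c * (h * g * h⁻¹)) := by
            calc y * (h * g * h⁻¹ * c) = y * (h * g * h⁻¹) * c := by group
              _ = h * g * h⁻¹ * (y * c) := by rw [← h2]; group
              _ = y * (c * (h * g * h⁻¹)) := by rw [h4]; group
          exact mul_left_cancel h6
        calc g * (h⁻¹ * c * h) = h⁻¹ * (h * g * h⁻¹ * c) * h := by group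
          _ = h⁻¹ * (c * (h * g * h⁻¹)) * h := by rw [h5]
          _ = h⁻¹ * c * h * g := by group
    calc c = h * (h⁻¹ * c * h) * h⁻¹ := by group
      _ = 1 := by rw [h1]; group
  subst hc1
  -- `u = 1`
  have hu1 : u = 1 := by
    refine line_eq_one M' q4' (i := i') (by rw [← hl]; exact hu) fun g hg hgn => ?_
    have hgn' : g ∈ normalizer (R : Set G) := by rw [hl]; exact hgn
    have hgu : u⁻¹ * (g * u * g⁻¹) ∈ R := mul_mem (inv_mem hu) ((mem_normalizer_iff.1 hgn' u).1 hu)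
    have h1 : y⁻¹ * g * y * g⁻¹ = u⁻¹ * (g * u * g⁻¹) := by
      calc y⁻¹ * g * y * g⁻¹ = z⁻¹ * (u⁻¹ * (g * u * z) * g⁻¹) := by rw [e]; group
        _ = z⁻¹ * (u⁻¹ * (g * u * g⁻¹) * (g * z) * g⁻¹) := by group
        _ = z⁻¹ * (u⁻¹ * (g * u * g⁻¹) * z) := by rw [hz g hg]; group
        _ = z⁻¹ * (z * (u⁻¹ * (g * u * g⁻¹))) := by rw [hzR _ hgu]
        _ = _ := by group
    have h2 : g ∈ N := (hNmem g).2 ⟨hgn', by rw [h1]; exact hgu⟩
    have h3 := hcN' g h2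
    rw [mul_one, e] at h3
    have h4 : g * u * z = u * g * z := by
      calc g * u * z = g * (u * z) := by group
        _ = u * (z * g) := by rw [h3]; group
        _ = u * g * z := by rw [← hz g hg]; group
    exact mul_right_cancel h4
  refine ⟨y, hyz, fun h1 => hx1 ?_, fun g hg => ?_⟩
  · rw [hy, mul_inv_eq_one, mul_eq_left] at h1
    exact h1
  · rw [e, hu1, one_mul]
    exact hz g hg

/-- `grp M {i}` is transitive on the lines of `fac M i` -/
theorem exists_grp_pt (M : NatD F S P V D k) (i : Fin k) (p : Pt (toRMod (pre M.toNatV i))) :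
    ∃ g ∈ grp M.toNatV {i}, cj g (line M.toNatV i) = pt (toRMod (pre M.toNatV i)) p := by
  obtain ⟨w, hw, hp⟩ := p.2
  obtain ⟨A, hA⟩ := NatPair.exists_ap_e hw
  obtain ⟨g, hg, hgA⟩ := exists_lift M.toNatV i A
  refine ⟨g, hg, ?_⟩
  have hind : (toRMod (pre M.toNatV i)).Ind g A := by
    intro x
    change g * (pre M.toNatV i).e x * g⁻¹ = (pre M.toNatV i).e (NatPair.ap A x)
    exact ext_fac M.toNatV (grp_conj_fac hg ((pre M.toNatV i).e_mem x)) ((pre M.toNatV i).e_mem _)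
      ((hgA _ ((pre M.toNatV i).e_mem x).1).trans (by rw [pre_e, pre_e]))
  have h1 := (toRMod (pre M.toNatV i)).cj_line_of_ind hind ![1, 0]
  rw [toRMod_line, pre_line, hA] at h1
  exact h1.trans hp.symm

/-- **(2a) is impossible for `q ≥ 4`, mixed partners.** -/
theorem exists_norm4 {M : NatD F S P V D 2} {M' : NatD F' S' P' V' D' k'} {i : Fin 2} {i' : Fin k'}
    (m : MixedQ (toRMod (pre M.toNatV i)) (toRMod (pre M'.toNatV i')) (line M.toNatV i)) (q4 : 4 ≤ Nat.card F)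
    {T₁ : Sylow 2 G} {w : G} (h : Over M i T₁ w) (hT₁ : (T₁ : Subgroup G) ≤ normalizer (line M.toNatV i : Set G))
    {x : G} (hx : x ∈ zc (T₁ : Subgroup G)) (hx1 : x ≠ 1) (hxg : ∀ g ∈ grp M.toNatV {i}, g * x = x * g) :
    ∃ T₂ : Sylow 2 G,
      (T₂ : Subgroup G) ≤ normalizer (fac M.toNatV i : Set G) ⊓ normalizer (line M.toNatV i : Set G) := by
  by_contra hno
  have hsyl := syl_fac_of M (i := i) fun ⟨T₂, _, h⟩ => hno ⟨T₂, h⟩
  obtain ⟨j, hij⟩ : ∃ j : Fin 2, i ≠ j := ⟨i + 1, by omega⟩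
  have hT2 : IsPGroup 2 (stab M.toNatV i) := S.isPGroup'.to_le (stab_le _ _)
  have hxc : ∀ t ∈ (T₁ : Subgroup G), t * x = x * t := fun t ht => (VModule.mem_zc.1 hx).2.1 t ht
  have hOT : BTwo.O2 (centralizer (fac M.toNatV i : Set G)) ≤ stab M.toNatV i := by
    refine le_trans ?_ (VModule.o2_le_of_sylow hT2 hsyl)
    refine BTwo.le_O2_of_normal ((BTwo.O2_le _).trans (centralizer_le_normalizer _)) (BTwo.O2_isPGroup _) ?_
    intro g hg a ha
    have h1 : cj g (centralizer (fac M.toNatV i : Set G)) = centralizer (fac M.toNatV i : Set G) :=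
      cj_eq_self_iff.2 (BTwo.normalizer_le_normalizer_centralizer _ hg)
    have h2 : cj g (BTwo.O2 (centralizer (fac M.toNatV i : Set G))) =
        BTwo.O2 (centralizer (fac M.toNatV i : Set G)) := by rw [BTwo.cj_O2, h1]
    exact (mem_normalizer_iff.1 (cj_eq_self_iff.1 h2) a).1 ha
  obtain ⟨c1, c2⟩ := cent_half M hij (VModule.mem_zc.1 hx).2.2 hx1 (fun t ht => hxc t (h.le ht)) hxg
  have hQT : QQ (line M.toNatV i) ≤ stab M.toNatV i := o2_line_le' M (Or.inr rfl) i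
  have kl : Kill (toRMod (pre M.toNatV i)) (toRMod (pre M'.toNatV i')) (line M.toNatV i) (stab M.toNatV i) T₁ w x :=
    { m with
      q4 := q4
      T₁R := hT₁
      TT₁ := h.le
      TN := stab_le_nmG (SP M) M.toNatV i
      QT := hQT
      OT := hOT
      wT₁ := h.mem
      cov := fun t ht => h.cov ht
      ww := h.sq
      nT := h.norm
      x1 := hx1
      xT₁ := VModule.zc_le _ hx
      xc := hxc
      xB := by
        intro p b hb
        obtain ⟨g, hg, hgp⟩ := exists_grp_pt M i p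
        rw [← Mix.cj_LL hgp, mem_cj] at hb
        have h1 := hxc _ (h.le (hQT (m.symm.C_le_QQ hb)))
        have h2 := hxg g hg
        have h3 : g⁻¹ * x = x * g⁻¹ := by rw [inv_mul_eq_iff_eq_mul, ← mul_assoc, h2, mul_inv_cancel_right]
        calc b * x = g * (g⁻¹ * b * g * (g⁻¹ * x)) := by group
          _ = g * (g⁻¹ * b * g * x) * g⁻¹ := by rw [h3]; group
          _ = g * x * (g⁻¹ * b * g) * g⁻¹ := by rw [h1]; group
          _ = x * b := by rw [h2]; group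
      VU := c1
      UV := c2 }
  have h1 := kl.norm
  apply hno
  refine ⟨T₁, le_inf (fun t ht => ?_) hT₁⟩
  rcases h.cov ht with h2 | h2
  · exact stab_normalizes _ _ h2
  · have h3 := mul_mem (cj_eq_self_iff.1 h1) (stab_normalizes _ _ h2)
    rwa [mul_inv_cancel_left] at h3

end Cfsg.Agent.Omega.IId.NV

end

end

-- merged: Cfsg.Agent.Mrg.Omega.IId.Cv.CvMix4
section

section


/-!
# WrCv: `CvMix K` (helper330, helper468; helper994 #17943)

* `cvMix4 : CvMix4 K` : mixed pairs, CASE 2, `q ≥ 4`;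
* `cvMix : CvMix K`.
-/

set_option autoImplicit false
set_option linter.unusedSectionVars false

namespace Cfsg.Agent.Omega.IId.Cv

open Subgroup Cfsg Cfsg.Agent.ZN Cfsg.Agent.MinSimple
open Cfsg.Agent.Omega.IId.NV
open Cfsg.Agent.Omega.MinPar Cfsg.Agent.Omega.Frame Cfsg.Agent.Omega.FFThm Cfsg.Agent.Omega.FrameMulti

universe u

theorem cvMix4 (K : Cls.{u}) : CvMix4 K := by
  intro G _ _ S S' hH P P' hp F F' _ _ _ _ _ _ V V' D D' k' M M' hk hk' hD i i' L hu hu' h4 hd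
  have hk2 : k' = 1 ∨ k' = 2 := by omega
  have h4' : 4 ≤ Nat.card F' := by rw [L.card]; exact h4
  obtain ⟨T₁, w, ho, hT₁⟩ := exists_over M (NV.stab_normalizes_line M.toNatV (SP M) i) hd
  have m := mixedQ_of (M := M) (M' := M') (Or.inr rfl) hk2 L.eq' L.ne hu hu'
  have key : ∀ M' : NatD F' S' P' V' D' 2, ∀ i' : Fin 2, NV.line M.toNatV i = NV.line M'.toNatV i' →
      ∃ (T₂ : Sylow 2 G) (w' : G), Over M' i' T₂ w' ∧
        (T₂ : Subgroup G) ≤ normalizer (NV.line M'.toNatV i' : Set G) := by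
    intro M' i' hl
    refine exists_over M' (NV.stab_normalizes_line M'.toNatV (SP M') i') ?_
    rw [two_dvd_iff] at hd ⊢
    rwa [← hl]
  obtain ⟨x, hx, hx1, hxg⟩ : ∃ x ∈ zc (T₁ : Subgroup G), x ≠ 1 ∧ ∀ g ∈ NV.grp M.toNatV {i}, g * x = x * g := by
    rcases hD with hD | hD
    · exact exists_x_two M hD ho
    · rcases hk2 with rfl | rfl
      · obtain ⟨d, hd', hd1⟩ : ∃ d ∈ D', d ≠ 1 := by
          by_contra hcon
          push Not at hcon
          exact hD ((eq_bot_iff_forall D').2 hcon)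
        exact exists_transfer (M := M') (M' := M) (Or.inr rfl) L.eq'.symm h4' h4 (T₁ := S') (S_le_line M' i')
          (D_le_zc M' hd') hd1 (fun g hg => (mem_centralizer_iff.1 (M'.cD (NV.grp_le _ _ hg)) d hd').symm) hT₁ ho.le
      · obtain ⟨T₂, w', ho', hT₂⟩ := key M' i' L.eq'
        obtain ⟨y, hy, hy1, hyg⟩ := exists_x_two M' hD ho'
        exact exists_transfer (M := M') (M' := M) (Or.inr rfl) L.eq'.symm h4' h4 hT₂ hy hy1 hyg hT₁ ho.le
  have n1 := exists_norm4 m h4 ho hT₁ hx hx1 hxg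
  refine cvMixEnd K G S S' hH P P' hp F F' V V' D D' k' M M' hk hk' hD i i' L hu hu' h4 n1 ?_
  rcases hk2 with rfl | rfl
  · exact ⟨S', le_inf ((SP M').trans (P_le_fac M' i')) (S_le_line M' i')⟩
  · obtain ⟨T₂, w', ho', hT₂⟩ := key M' i' L.eq'
    obtain ⟨y, hy, hy1, hyg⟩ := exists_transfer (M := M) (M' := M') (Or.inr rfl) L.eq' h4 h4' hT₁ hx hx1 hxg hT₂ ho'.le
    have m' := m.symm
    rw [L.eq'] at m'
    exact exists_norm4 m' h4' ho' hT₂ hy hy1 hyg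

/-- **Mixed pairs.** -/
theorem cvMix (K : Cls.{u}) : CvMix K := cvMix_of (cvMix4 K)

end Cfsg.Agent.Omega.IId.Cv

end

section


/-!
# `k = 2`, `k' = 1`: `D ≠ 1` or `D' ≠ 1` implies `D' ≠ 1`, any `q` (helper958; typed by helper468)

`T = stab M i`, `R = line M i = line M' i'`: `S'` is a Sylow 2-subgroup of `N_G(R) ≥ T`, so `|C_R(S')| ≤ |C_R(T)|`.
If `D' = 1` then `Ω₁(Z(S')) ≤ C_R(S')`; but `|Ω₁(Z(S))| ≥ |C_R(T)| |D|`.

* `NV.card_zc_ge` : `|C_R(T)| |D| ≤ |Ω₁(Z(S))|`;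
* `Cv.dNe_lit` : the literal statement `Cv.DNe`.
-/

set_option autoImplicit false
set_option linter.unusedSectionVars false

namespace Cfsg.Agent.Omega.IId.NV

open Subgroup Cfsg Cfsg.Agent.Lib.SL2Mat Cfsg.Agent.MinSimple
open Cfsg.Agent.ZN (o2 zc zl)
open Cfsg.Agent.Omega.MinPar Cfsg.Agent.Omega.FFThm
open Cfsg.Agent.Omega.BTwo (cj mem_cj cj_mono cj_eq_self_iff conj_mem_cj card_cj)
open Cfsg.Agent.Omega.IId.M4 (exists_cj_eq)
open Cfsg.Agent.Omega.IId.Cv (LineD)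

universe u

/-- `|C_R(T)| |D| ≤ |Ω₁(Z(S))|`, `k = 2`, `T = stab M i`, `R = line M i` -/
theorem card_zc_ge {G : Type u} [Group G] [Finite G] {F : Type} [Field F] [Finite F] [CharP F 2] {S : Sylow 2 G}
    {P V D : Subgroup G} (M : NatD F S P V D 2) (i : Fin 2) :
    Nat.card (line M.toNatV i ⊓ centralizer (stab M.toNatV i : Set G) : Subgroup G) * Nat.card D ≤
      Nat.card (zc (S : Subgroup G)) := by
  obtain ⟨j, hji⟩ := exists_ne i
  have hij : i ≠ j := hji.symm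
  obtain ⟨s, hs, hs1⟩ := (blk_two M i).exists_swap
  have hf : ∀ f ∈ line M.toNatV i ⊓ centralizer (stab M.toNatV i : Set G), f ∈ zc (stb M.toNatV {i}) := by
    rintro f ⟨hf1, hf2⟩
    have h1 : f ∈ V := fac_le _ _ (line_le _ _ hf1)
    rw [VModule.mem_zc]
    refine ⟨part_le_stb (blk_two M i) h1, fun t ht => mem_centralizer_iff.1 hf2 t ht, ?_⟩
    rw [pow_two]
    exact sq M.toNatV h1
  have hsw : ∀ f ∈ line M.toNatV i, s * f * s⁻¹ ∈ fac M.toNatV j := by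
    intro f hf
    have h1 := (blk_two M i).swap hs hs1 (line_le _ _ hf)
    rwa [compl_eq hij] at h1
  rw [← Nat.card_prod]
  refine Nat.card_le_card_of_injective (fun p => (⟨(p.1 : G) * (s * p.1 * s⁻¹) * p.2,
    mul_mem (mul_cj_mem_zc (blk_two M i) hs hs1 (hf _ p.1.2)) (D_le_zc M p.2.2)⟩ : zc (S : Subgroup G))) ?_
  rintro ⟨⟨p, hp⟩, ⟨q, hq⟩⟩ ⟨⟨p', hp'⟩, ⟨q', hq'⟩⟩ heq
  have h4 : p * (s * p * s⁻¹) * q = p' * (s * p' * s⁻¹) * q' := congrArg Subtype.val heq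
  have f1 : ∀ f ∈ line M.toNatV i ⊓ centralizer (stab M.toNatV i : Set G), f * (s * f * s⁻¹) ∈ V := fun f hf =>
    mul_mem (fac_le _ _ (line_le _ _ hf.1)) (fac_le _ _ (hsw f hf.1))
  have h5 : (p' * (s * p' * s⁻¹))⁻¹ * (p * (s * p * s⁻¹)) = q' * q⁻¹ := by
    calc (p' * (s * p' * s⁻¹))⁻¹ * (p * (s * p * s⁻¹)) =
          (p' * (s * p' * s⁻¹))⁻¹ * (p * (s * p * s⁻¹) * q) * q⁻¹ := by group
      _ = (p' * (s * p' * s⁻¹))⁻¹ * (p' * (s * p' * s⁻¹) * q') * q⁻¹ := by rw [h4]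
      _ = q' * q⁻¹ := by group
  have h6 : (p' * (s * p' * s⁻¹))⁻¹ * (p * (s * p * s⁻¹)) = 1 := inf_D (M := M)
    (mul_mem (inv_mem (f1 p' hp')) (f1 p hp)) (by rw [h5]; exact mul_mem hq' (inv_mem hq))
  have h7 : q' = q := by
    rw [h6] at h5
    exact mul_inv_eq_one.1 h5.symm
  have h8 : p' * (s * p' * s⁻¹) = p * (s * p * s⁻¹) := inv_mul_eq_one.1 h6
  have h9 : p⁻¹ * p' = s * p * s⁻¹ * (s * p' * s⁻¹)⁻¹ := by
    calc p⁻¹ * p' = p⁻¹ * (p' * (s * p' * s⁻¹)) * (s * p' * s⁻¹)⁻¹ := by group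
      _ = p⁻¹ * (p * (s * p * s⁻¹)) * (s * p' * s⁻¹)⁻¹ := by rw [h8]
      _ = s * p * s⁻¹ * (s * p' * s⁻¹)⁻¹ := by group
  have h10 : p⁻¹ * p' ∈ fac M.toNatV i ⊓ fac M.toNatV j := by
    refine mem_inf.2 ⟨mul_mem (inv_mem (line_le _ _ hp.1)) (line_le _ _ hp'.1), ?_⟩
    rw [h9]
    exact mul_mem (hsw p hp.1) (inv_mem (hsw p' hp'.1))
  rw [fac_inf M.toNatV hij, mem_bot, inv_mul_eq_one] at h10
  subst h10 h7
  rfl

/-- **`D' ≠ 1`** for `k = 2`, `k' = 1` -/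
theorem D'_ne_bot {G : Type u} [Group G] [Finite G] {F F' : Type} [Field F] [Finite F] [CharP F 2] [Field F']
    [Finite F'] [CharP F' 2] {S S' : Sylow 2 G} {P V D P' V' D' : Subgroup G} (M : NatD F S P V D 2)
    (M' : NatD F' S' P' V' D' 1) {i : Fin 2} {i' : Fin 1} (hl : line M.toNatV i = line M'.toNatV i')
    (hD : D ≠ ⊥ ∨ D' ≠ ⊥) : D' ≠ ⊥ := by
  have : Fact (Nat.Prime 2) := ⟨Nat.prime_two⟩
  intro hD'
  have hD1 : D ≠ ⊥ := hD.resolve_right fun h => h hD'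
  have hS'R : (S' : Subgroup G) ≤ normalizer (line M.toNatV i : Set G) := by
    rw [hl]; exact S_le_line M' i'
  have hT2 : IsPGroup 2 (stab M.toNatV i) := S.isPGroup'.to_le (stab_le _ _)
  obtain ⟨Q, hTQ, hQN⟩ := exists_sylow_over (T₁ := S') hT2 (stab_normalizes_line M.toNatV (SP M) i) hS'R
  obtain ⟨g, hg, hgQ⟩ := exists_cj_eq hS'R hQN S'.isPGroup' Q.isPGroup' (MinSimple.Basic.not_dvd_relIndex S' hS'R)
    (MinSimple.Basic.not_dvd_relIndex Q hQN)
  have hgR : cj g (line M.toNatV i) = line M.toNatV i := cj_eq_self_iff.2 hg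
  -- `Ω₁(Z(S')) ≤ (C_R(T))^g`
  have h1 : zc (S' : Subgroup G) ≤ cj g (line M.toNatV i ⊓ centralizer (stab M.toNatV i : Set G)) := by
    intro z hz
    have hzV : z ∈ V' := by
      obtain ⟨n, hn, d, hd, rfl⟩ := M'.dec z (VModule.zc_le_zl _ _ hz)
      rw [hD', mem_bot] at hd
      subst hd
      rwa [mul_one]
    have hzR : z ∈ line M.toNatV i := by
      rw [hl]
      refine fix_le_line M'.toNatV (SP M') (by rwa [fac_one M' i']) fun t ht => ?_
      exact (VModule.mem_zc.1 hz).2.1 t (stab_le _ _ ht)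
    rw [mem_cj]
    refine mem_inf.2 ⟨?_, mem_centralizer_iff.2 fun t ht => ?_⟩
    · rw [← mem_cj, hgR]; exact hzR
    · have h2 : g * t * g⁻¹ ∈ (S' : Subgroup G) := by
        rw [← hgQ]; exact conj_mem_cj (hTQ ht)
      have h3 := (VModule.mem_zc.1 hz).2.1 _ h2
      calc t * (g⁻¹ * z * g) = g⁻¹ * (g * t * g⁻¹ * z) * g := by group
        _ = g⁻¹ * (z * (g * t * g⁻¹)) * g := by rw [h3]
        _ = g⁻¹ * z * g * t := by group
  have h2 := Subgroup.card_le_of_le h1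
  rw [card_cj] at h2
  have h3 := card_zc_ge M i
  have h4 : Nat.card (zc (S' : Subgroup G)) = Nat.card (zc (S : Subgroup G)) :=
    Half.card_zc_of_card_eq S S'.isPGroup' (by rw [S.card_eq_multiplicity, S'.card_eq_multiplicity])
  have h5 : 1 < Nat.card D := (Subgroup.one_lt_card_iff_ne_bot _).2 hD1
  have h6 : 0 < Nat.card (line M.toNatV i ⊓ centralizer (stab M.toNatV i : Set G) : Subgroup G) := Nat.card_pos
  nlinarith

end Cfsg.Agent.Omega.IId.NV

namespace Cfsg.Agent.Omega.IId.Cv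

open Subgroup Cfsg Cfsg.Agent.Omega.IId.NV

universe u

/-- `DNe`, literally. -/
theorem dNe_lit : ∀ (G : Type u) [Group G] [Finite G] (S S' : Sylow 2 G) (P P' : Subgroup G) (F F' : Type) [Field F]
    [Finite F] [CharP F 2] [Field F'] [Finite F'] [CharP F' 2] (V V' D D' : Subgroup G) (M : NatD F S P V D 2)
    (M' : NatD F' S' P' V' D' 1) (i : Fin 2) (i' : Fin 1), LineD M M' i i' → D ≠ ⊥ ∨ D' ≠ ⊥ → D' ≠ ⊥ := by
  intro G _ _ S S' P P' F F' _ _ _ _ _ _ V V' D D' M M' i i' L hD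
  exact D'_ne_bot M M' L.eq' hD

end Cfsg.Agent.Omega.IId.Cv

end

end

-- merged: Cfsg.Agent.Mrg.Omega.HOne.CutT
section

section


/-!
# The split chain, `q ≥ 4`, over a 2-group `T`: the cut (II.0h1 `Same4` and II.d `WrMain4`)

Sockets over `SitT T M` (no class `K`, no Sylow group of `G`):
* `FrT` : `N(R i) = E (N(R i) ∩ N(V))`;
* `DT` : `D ∩ C(X) ≠ 1`;
* `RsT` : the enumeration of the moved components with their parabolic systems;
* `NVT` : `pr g ∈ N(A)` implies `g ∈ N(V)`;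
* `ResT` : the residues `(0, k)` of the moved nodes;
* `GaT` : no node of type `(γ)`.

* `endT` : `EndIn T (X E) U (R i) v` at a point `R i` with `TSyl N (pt M) i T`, `O₂(N(R i)) ≤ G₀`, `X ≤ G₀`,
  `N(V), N(R i) ≤ N(G₀)`;
* `stFour` : `Cut.StFour K`; `Ent.endIn` : for `WrMain4` (with `IId.M4.Chain`).
-/

set_option autoImplicit false
set_option linter.unusedSectionVars false

namespace Cfsg.Agent.Omega.HOne.TLift

open Subgroup Cfsg Cfsg.Agent.ZN Cfsg.Agent.Omega.MinPar Cfsg.Agent.Omega.Frame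
open Cfsg.Agent.Omega.NatPair (NatMod)
open Cfsg.Agent.Omega.BTwo Cfsg.Agent.Omega.Lie Cfsg.Agent.Omega.Lie.Quot Cfsg.Agent.Omega.Lie.End
open Cfsg.Agent.Omega.IIa4 (Lay LayAll)
open Cfsg.Agent.Omega.IIa4.Moved (EE NR_le_NEE EE_le_cen Y_le_EE)
open Cfsg.Agent.Omega.HOneEnd (EndIn)
open Cfsg.Agent.Omega.HOne.SameOf (Sit4 norm_G0)
open Cfsg.Agent.Omega.HOneQ.SylIOf (TSyl)
open Cfsg.Agent.Omega.HOneQ.ECen (SylI)
open Cfsg.Agent.Omega.Lie.LayerMain (KRows)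

universe u

/-! ### The statements at the level of `V`, `R` -/

section defs

variable {G : Type u} [Group G] {ι : Type*} (V : Subgroup G) (R : ι → Subgroup G)

/-- LAYER for every `SylI` -/
def LayS (F : Type) [Field F] : Prop :=
  ∀ (i j : ι) (v : F → F → G) (w1 w2 t : F → G), Coord V R i j v w1 w2 → ∀ τ : TorD V R i j v t,
    ∀ S : Subgroup (HQ (R i)), SylI τ S → Lay V R i j (TT τ) S

/-- `N(R i) = E (N(R i) ∩ N(V))` -/
def Frt : Prop :=
  ∀ i j : ι, i ≠ j → ∀ x ∈ normalizer (R i : Set G), ∃ e ∈ EE V R i j, e * x ∈ normalizer (V : Set G)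

/-- `pr g ∈ N(A)` implies `g ∈ N(V)` -/
def NVp : Prop :=
  ∀ i j : ι, i ≠ j → ∀ (x : G) (hx : x ∈ normalizer (R i : Set G)),
    pr (R i) ⟨x, hx⟩ ∈ normalizer (AA V R i j : Set (HQ (R i))) → x ∈ normalizer (V : Set G)

end defs

theorem SitT.layS {G : Type u} [Group G] [Finite G] {T : Subgroup G} {F : Type} [Field F] [Finite F] [CharP F 2]
    {N : Subgroup G} {M : NatMod F N} (h : SitT T M) (KR : KRows.{u}) : LayS N (pt M) F :=
  fun _ _ _ _ _ _ c τ _ I => h.lay KR c τ I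

/-- LAYER of `IIa4` from `LayS` -/
theorem LayS.layAll {G : Type u} [Group G] [Finite G] {ι : Type*} {V : Subgroup G} {R : ι → Subgroup G} {F : Type}
    [Field F] (l : LayS V R F) (b : BT V R) : LayAll V R F :=
  fun i j hij v w1 w2 t c τ S₁ hV hR =>
    l i j v w1 w2 t c τ _ ((TSyl.of_sylow S₁ hV hR).sylI b τ (CrdOf.crd c) hij)

/-! ### The sockets -/

section sockets

/-- **`N(R i) = E (N(R i) ∩ N(V))`** -/
def FrT : Prop :=
  ∀ (G : Type u) [Group G] [Finite G] (T : Subgroup G) (F : Type) [Field F] [Finite F] [CharP F 2] (N : Subgroup G)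
    (M : NatMod F N), SitT T M → LayS N (pt M) F → Frt N (pt M)

/-- **`D ∩ C(X) ≠ 1`** -/
def DT : Prop :=
  ∀ (G : Type u) [Group G] [Finite G] (T : Subgroup G) (F : Type) [Field F] [Finite F] [CharP F 2] (N : Subgroup G)
    (M : NatMod F N), SitT T M → LayS N (pt M) F → DD N (pt M) ⊓ CenX N (pt M) ≠ ⊥

/-- **`N_H(A) ≤ N(V)`** -/
def NVT : Prop :=
  ∀ (G : Type u) [Group G] [Finite G] (T : Subgroup G) (F : Type) [Field F] [Finite F] [CharP F 2] (N : Subgroup G)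
    (M : NatMod F N), SitT T M → LayS N (pt M) F → Frt N (pt M) → NVp N (pt M)

/-- **The moved components with their systems** -/
def RsT : Prop :=
  ∀ (G : Type u) [Group G] [Finite G] (T : Subgroup G) (F : Type) [Field F] [Finite F] [CharP F 2] (N : Subgroup G)
    (M : NatMod F N), SitT T M → LayS N (pt M) F → Frt N (pt M) →
      ∀ (i j : Pt M) (v : F → F → G) (w1 w2 t : F → G), Coord N (pt M) i j v w1 w2 →
        ∀ τ : Lie.TorD N (pt M) i j v t, TSyl N (pt M) i T →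
          ∃ (n : ℕ) (C : Fin n → Subgroup (HQ (pt M i))) (J : Fin n → Type) (Q : ∀ a, J a → Subgroup (C a))
            (m : ∀ a, J a → J a → ℕ), (∀ a, Finite (J a)) ∧ Nonempty (Fin n) ∧
              RS N (pt M) i j (TT τ) (SS (pt M) i T) C J Q m ∧ ∀ a, OneL (C a) (J a)

/-- **The residues `(0, k)` of the moved nodes** -/
def ResT : Prop :=
  ∀ (G : Type u) [Group G] [Finite G] (T : Subgroup G) (F : Type) [Field F] [Finite F] [CharP F 2] (N : Subgroup G)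
    (M : NatMod F N), SitT T M → LayS N (pt M) F → Frt N (pt M) → NVp N (pt M) →
      ∀ (i j : Pt M) (v : F → F → G) (w1 w2 t : F → G), Coord N (pt M) i j v w1 w2 →
        ∀ τ : Lie.TorD N (pt M) i j v t, TSyl N (pt M) i T →
          ∀ (n : ℕ) (C : Fin n → Subgroup (HQ (pt M i))) (J : Fin n → Type) (Q : ∀ a, J a → Subgroup (C a))
            (m : ∀ a, J a → J a → ℕ), (∀ a, Finite (J a)) → Nonempty (Fin n) →
              RS N (pt M) i j (TT τ) (SS (pt M) i T) C J Q m → (∀ a, OneL (C a) (J a)) →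
                ∀ x : Σ a, J a,
                  ¬ PG C (TT τ) (SS (pt M) i T) Q x ≤ normalizer (N : Set G) →
                  ¬ GamT N (PG C (TT τ) (SS (pt M) i T) Q x) →
                    ∃ m0, 3 ≤ m0 ∧ Res0 N (pt M) (BG C (TT τ) (SS (pt M) i T)) (UG C (SS (pt M) i T))
                      (PG C (TT τ) (SS (pt M) i T) Q) x m0

/-- **No node of type `(γ)`** -/
def GaT : Prop :=
  ∀ (G : Type u) [Group G] [Finite G] (T : Subgroup G) (F : Type) [Field F] [Finite F] [CharP F 2] (N : Subgroup G)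
    (M : NatMod F N), SitT T M → LayS N (pt M) F → Frt N (pt M) → NVp N (pt M) →
      ∀ (i j : Pt M) (v : F → F → G) (w1 w2 t : F → G), Coord N (pt M) i j v w1 w2 →
        ∀ τ : Lie.TorD N (pt M) i j v t, TSyl N (pt M) i T →
          ∀ (n : ℕ) (C : Fin n → Subgroup (HQ (pt M i))) (J : Fin n → Type) (Q : ∀ a, J a → Subgroup (C a))
            (m : ∀ a, J a → J a → ℕ), (∀ a, Finite (J a)) → Nonempty (Fin n) →
              RS N (pt M) i j (TT τ) (SS (pt M) i T) C J Q m → (∀ a, OneL (C a) (J a)) →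
                ∀ x : Σ a, J a, ¬ GamT N (PG C (TT τ) (SS (pt M) i T) Q x)

end sockets

/-- the preimage of `im T` lies in `T` -/
theorem up_SS_le {G : Type u} [Group G] [Finite G] {ι : Type*} {V : Subgroup G} {R : ι → Subgroup G} {i : ι}
    {T : Subgroup G} (h : TSyl V R i T) : up (R i) (SS R i T) ≤ T := by
  intro g hg
  obtain ⟨a, ha, -, h1⟩ := mem_up_im.1 hg
  have e : g = a * (a⁻¹ * g) := by group
  rw [e]
  exact mul_mem (mem_inf.1 ha).1 (h.QQ_le h1)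

/-- The output of the chain over `T`. -/
structure OutT {G : Type u} [Group G] (T : Subgroup G) {F : Type} [Field F] {N : Subgroup G} (M : NatMod F N) (i : Pt M)
    (G₀ U : Subgroup G) (x : G) : Prop where
  endIn : EndIn T G₀ U (pt M i) x
  X_le : XX N (pt M) ≤ G₀
  Q_le : QQ (pt M i) ≤ G₀
  NV : normalizer (N : Set G) ≤ normalizer (G₀ : Set G)

/-- **The chain over `T`** -/
theorem SitT.out {G : Type u} [Group G] [Finite G] {T : Subgroup G} {F : Type} [Field F] [Finite F] [CharP F 2]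
    {N : Subgroup G} {M : NatMod F N} (h : SitT T M) (hL : LayS N (pt M) F) (hF : FrT.{u}) (hD : DT.{u})
    (hRs : RsT.{u}) (hNV : NVT.{u}) (hRes : ResT.{u}) (hGa : GaT.{u}) {i : Pt M} (hi : TSyl N (pt M) i T) :
    ∃ (G₀ U : Subgroup G) (x : G), OutT T M i G₀ U x := by
  have hfr := hF G T F N M h hL
  have hnv := hNV G T F N M h hL hfr
  obtain ⟨j, hji, -⟩ := h.bt.third i i
  have hij : i ≠ j := Ne.symm hji
  obtain ⟨v, w1, w2, c⟩ := h.exists_coord hij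
  obtain ⟨t, τ⟩ := h.exists_torD c
  obtain ⟨n, C, J, Q, m, hfin, hne, D, hone⟩ := hRs G T F N M h hL hfr i j v w1 w2 t c τ hi
  have hfinJ : Finite (Σ a, J a) := inferInstance
  have hreal := RealOf.realSysS D h.exists_ne h.bts c τ hij rfl (hnv i j hij)
  have hga := hGa G T F N M h hL hfr hnv i j v w1 w2 t c τ hi n C J Q m hfin hne D hone
  have hres := hRes G T F N M h hL hfr hnv i j v w1 w2 t c τ hi n C J Q m hfin hne D hone
  obtain ⟨y, m', hin⟩ := SameCut.exists_preIn h.bts c h.exists_ne hij (hfr i j hij) hreal hga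
    (fun k => RealOf.PG_le_NR D k) (fun k hk => hres k hk (hga k)) (hD G T F N M h hL) hi.p2 hi.leV hi.leR
    ((IIa4.Moved.up_mono D.UE_le_S).trans (up_SS_le hi))
  have hfinO : Finite (Option (Σ a, J a)) := inferInstance
  have hQE : QQ (pt M i) ≤ EE N (pt M) i j := IIa4.Moved.QQ_le_up
  exact ⟨_, _, y, hin.endIn, le_sup_left, hQE.trans le_sup_right, (norm_G0 h.bt (hfr i j hij)).1⟩

/-! ### The two instances -/

/-- **`Cut.StFour K`** (II.0h1, same type, `q ≥ 4`) -/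
theorem stFour {K : Cls.{u}} (KR : KRows.{u}) (hF : FrT.{u}) (hD : DT.{u}) (hRs : RsT.{u}) (hNV : NVT.{u})
    (hRes : ResT.{u}) (hGa : GaT.{u}) : Cut.StFour K := by
  intro G _ _ hG hK S hFu hI hSi hs P g F _ _ _ N M hM h4
  have h4' : Sit4 S P g M := ⟨hG, hFu, hI, hSi, hs, hM, h4⟩
  have h := SitT.of_sit4 h4'
  obtain ⟨i, hi⟩ := HOneQ.exists_pt M S h4'.le_N
  obtain ⟨G₀, U, x, o⟩ := h.out (h.layS KR) hF hD hRs hNV hRes hGa (TSyl.of_sylow S h4'.le_N hi)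
  refine ⟨i, hi, G₀, U, x, o.endIn, ?_, o.NV⟩
  have h1 : N ≤ WW N (pt M i) := V_le_WW N (pt M i)
  exact (h1.trans (W_le_X N (pt M) i)).trans o.X_le

open Cfsg.Agent.Omega.IId.FourSide Cfsg.Agent.Omega.IId.M4 in
/-- **`EndIn` and `Chain` for `WrMain4`** -/
theorem ent_out {K : Cls.{u}} {G : Type u} [Group G] [Finite G] {S : Sylow 2 G} {P : Subgroup G} {F : Type}
    [Field F] [Finite F] [CharP F 2] {M : FFThm.NatK F (S : Subgroup G) P (zl (S : Subgroup G) P) ⊥ 2} {i j : Fin 2}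
    {N : NatMod F (IId.fac M i)} (h : Ent K S P M i j N) (KR : KRows.{u}) (hF : FrT.{u}) (hD : DT.{u})
    (hRs : RsT.{u}) (hNV : NVT.{u}) (hRes : ResT.{u}) (hGa : GaT.{u}) :
    ∃ (G₀ U : Subgroup G) (x : G), EndIn (IId.stab M i) G₀ U (IId.line M i) x ∧ Chain M i N G₀ ∧
      normalizer (IId.fac M i : Set G) ≤ normalizer (G₀ : Set G) := by
  obtain ⟨k, hk⟩ := h.exists_pt
  have h' := SitT.of_ent h
  have hi : TSyl (IId.fac M i) (pt N) k (IId.stab M i) := by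
    refine ⟨h'.two, h'.le_N, ?_, ?_⟩
    · rw [hk]
      exact IId.stab_normalizes_line M h.four.le i
    · rw [hk, ← Nat.not_even_iff_odd, even_iff_two_dvd]
      exact h.four.syl
  obtain ⟨G₀, U, x, o⟩ := h'.out (h'.layS KR) hF hD hRs hNV hRes hGa hi
  have h1 := o.endIn
  have h2 := o.Q_le
  rw [hk] at h1 h2
  exact ⟨G₀, U, x, h1, ⟨h1.simple, o.X_le, h2, h1.N_R⟩, o.NV⟩

end Cfsg.Agent.Omega.HOne.TLift

end

section


/-!
# II.d, `V_P = V × D`, an unmixed factor, `q ≥ 4`: `CvOneA4`, `CvTwoB`, `CvOne` from the chain over `T`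

* `ChainT` : the chain SAME4 over a 2-group `T` (`TLift.SitT`, `TLift.OutT`: helper400, `HOne/CutT.lean`);
  `IdT` : the identification with the K-facts `M4.SpK`, `M4.FK`;
* `cvOneA4_of : ChainT → IdT → CvOneA4 K`;
* `known_four` : `BTS` over a Sylow 2-subgroup of `G`, `q ≥ 4`, from `ChainT`, `EndL`.
-/

set_option autoImplicit false
set_option linter.unusedSectionVars false

namespace Cfsg.Agent.Omega.IId.Cv

open Subgroup Pointwise Cfsg Cfsg.Agent.ZN Cfsg.Agent.ZN.ChoiceBase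
open Cfsg.Agent.Omega.MinPar Cfsg.Agent.Omega.Frame Cfsg.Agent.Omega.FFThm Cfsg.Agent.Omega.FrameMulti
open Cfsg.Agent.Omega.FrameLE (AllIn)
open Cfsg.Agent.Omega.NatPair (ap NatMod exists_ap)
open Cfsg.Agent.Omega.HOneEnd (EndIn)
open Cfsg.Agent.Omega.HOne.Cut (TS0 Three0 More0 EndL known_of_pos)
open Cfsg.Agent.Omega.HTwo.Entry (Pos)
open Cfsg.Agent.Omega.IId.M4 (FK SpK SylN mem_other swap_false swap_X)
open Cfsg.Agent.Omega.HOne.TLift (SitT OutT FrT RsT NVT ResT GaT)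
open Cfsg.Agent.Omega.HOneQ.SylIOf (TSyl)
open Cfsg.Agent.Omega.Lie.LayerMain (KRows)
open Cfsg.Agent.MinSimple

universe u

/-! ### The sockets -/

/-- **The chain SAME4 over `T`** (helper400, 441, 811, 835): `HOne/CutT.lean`. -/
def ChainT : Prop :=
  ∀ (G : Type u) [Group G] [Finite G] (T : Subgroup G) (F : Type) [Field F] [Finite F] [CharP F 2] (V : Subgroup G)
    (N : NatMod F V), SitT T N → ∀ o : BTwo.Pt N, TSyl V (BTwo.pt N) o T →
      ∃ (G₀ U : Subgroup G) (v : G), OutT T N o G₀ U v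

/-- the chain from the sockets of `HOne/CutT.lean` -/
theorem chainT_of (KR : KRows.{u}) (hF : FrT.{u}) (hD : HOne.TLift.DT.{u}) (hRs : RsT.{u}) (hNV : NVT.{u})
    (hRes : ResT.{u}) (hGa : GaT.{u}) : ChainT.{u} :=
  fun _ _ _ _ _ _ _ _ _ _ h _ hi => h.out (h.layS KR) hF hD hRs hNV hRes hGa hi

/-- **THEOREM ID with the K-facts over `T`** (helper124, 384, 38, 588, 866). -/
def IdT : Prop :=
  ∀ (G : Type u) [Group G] [Finite G], IsCharacteristicTwoType G → ∀ (T G₀ U R : Subgroup G) (v : G),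
    EndIn T G₀ U R v → 4 ≤ Nat.card R →
      (∃ Xb Ca Cb Qa Qb Ua : Subgroup G, SpK T G₀ R Xb Ca Cb Qa Qb Ua) ∨
        ∃ Xb Ca Cb Qa Qb Ua Ub : Subgroup G, FK T G₀ R Xb Ca Cb Qa Qb Ua Ub

theorem compl_two {i j : Fin 2} (h : i ≠ j) : ({i}ᶜ : Set (Fin 2)) = {j} := by
  ext x
  simp only [Set.mem_compl_iff, Set.mem_singleton_iff]
  omega

theorem vec_one_ne {F : Type} [Field F] : (![1, 0] : Fin 2 → F) ≠ 0 := by
  intro h
  have := congrFun h 0
  simp at this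

/-! ### Elements of `Z(T ∩ G₀)` -/

section bts

variable {G : Type u} [Group G] {F : Type} [Field F] {V : Subgroup G} {N : NatMod F V} {o : BTwo.Pt N}

/-- `X` moves every point. -/
theorem X_not (b : BTwo.BTS V (BTwo.pt N)) (o : BTwo.Pt N) :
    ¬ BTwo.XX V (BTwo.pt N) ≤ normalizer (BTwo.pt N o : Set G) := by
  intro h0
  obtain ⟨l, hl, -⟩ := b.third o o
  obtain ⟨x, hx, h1⟩ := b.toBT.trans_X_one o l
  have h2 : cj x (BTwo.pt N o) = BTwo.pt N o := cj_eq_of_mem_normalizer (h0 hx)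
  have h3 : BTwo.pt N l = BTwo.pt N o := by
    rw [← h1]
    exact h2
  have h4 := b.R_inf l o hl
  rw [h3, inf_idem] at h4
  exact b.R_ne o h4

/-- an element of `Z(T)` in `G₀` which centralises `X` and is not in `R` lies in `X_b` -/
theorem mem_b (b : BTwo.BTS V (BTwo.pt N)) {T G₀ Xb : Subgroup G}
    (zU : ∀ z ∈ T ⊓ G₀, T ⊓ G₀ ≤ centralizer ({z} : Set G) → ∃ x ∈ BTwo.pt N o, ∃ y ∈ Xb, z = x * y)
    (mix : ∀ x ∈ BTwo.pt N o, ∀ y ∈ Xb, x ≠ 1 → y ≠ 1 →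
      G₀ ⊓ centralizer ({x * y} : Set G) ≤ normalizer (BTwo.pt N o : Set G))
    (hX : BTwo.XX V (BTwo.pt N) ≤ G₀) {z : G} (hz : z ∈ zc T) (hG : z ∈ G₀)
    (hc : z ∈ BTwo.CenX V (BTwo.pt N)) (hn : z ∉ BTwo.pt N o) : z ∈ Xb := by
  obtain ⟨h1, h2, -⟩ := VModule.mem_zc.1 hz
  refine mem_other zU mix ⟨h1, hG⟩ ?_ hn ?_
  · rintro t ⟨ht, -⟩
    exact mem_centralizer_singleton_iff.2 (h2 t ht)
  · intro h3
    apply X_not b o
    refine le_trans (le_inf hX fun x hx => ?_) h3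
    rw [mem_centralizer_singleton_iff]
    exact mem_centralizer_iff.1 hc x hx

end bts

/-! ### `CvOneA4` -/

section four

variable {G : Type u} [Group G] [Finite G] {F : Type} [Field F] [CharP F 2] {S : Sylow 2 G} {P V D : Subgroup G}

/-- CASE 1: `stab M i` is Sylow in `N_G(line M i)`. -/
theorem sylN_of (M : NatD F S P V D 2) {i : Fin 2}
    (hd : ¬ 2 ∣ (NV.stab M.toNatV i).relIndex (normalizer (NV.line M.toNatV i : Set G))) :
    SylN (S : Subgroup G) (NV.stab M.toNatV i) (NV.line M.toNatV i) where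
  le := NV.stab_le _ _
  card := ((NV.blk_two M i).card).le
  max K hK hTK hKX := by
    have h1 := SideOf.card_dvd_of (NV.stab_normalizes_line M.toNatV (NV.SP M) i) hd hK hKX
    exact (Subgroup.eq_of_le_of_card_ge hTK (Nat.le_of_dvd Nat.card_pos h1)).ge

/-- `s r s⁻¹ ∈ V_j ∩ Ω₁(Z(T))`, not in `R`, for `s ∈ S`, `s ∉ T = stab M i`, `1 ≠ r ∈ C_R(T)` -/
theorem swap_r (M : NatD F S P V D 2) {i j : Fin 2} (hij : i ≠ j) {s r : G} (hs : s ∈ (S : Subgroup G))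
    (hs1 : s ∉ NV.stab M.toNatV i) (hsT : s ∈ normalizer (NV.stab M.toNatV i : Set G))
    (hr : r ∈ NV.line M.toNatV i) (hrz : r ∈ zc (NV.stab M.toNatV i)) (hr1 : r ≠ 1) :
    s * r * s⁻¹ ∈ NV.fac M.toNatV j ∧ s * r * s⁻¹ ∈ zc (NV.stab M.toNatV i) ∧
      s * r * s⁻¹ ∉ NV.line M.toNatV i := by
  obtain ⟨h1, h2, h3⟩ := VModule.mem_zc.1 hrz
  have hj : s * r * s⁻¹ ∈ NV.fac M.toNatV j := by
    have h4 := (NV.blk_two M i).swap hs hs1 (NV.line_le M.toNatV i hr)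
    rwa [compl_two hij] at h4
  refine ⟨hj, VModule.mem_zc.2 ⟨(mem_normalizer_iff.1 hsT r).1 h1, fun t ht => ?_, ?_⟩, fun h4 => ?_⟩
  · have h4 : s⁻¹ * t * s ∈ NV.stab M.toNatV i := by
      have := (mem_normalizer_iff.1 (inv_mem hsT) t).1 ht
      rwa [inv_inv] at this
    have h5 := h2 _ h4
    calc t * (s * r * s⁻¹) = s * ((s⁻¹ * t * s) * r) * s⁻¹ := by group
      _ = s * r * s⁻¹ * t := by rw [h5]; group
  · rw [pow_two] at h3 ⊢
    calc s * r * s⁻¹ * (s * r * s⁻¹) = s * (r * r) * s⁻¹ := by group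
      _ = 1 := by rw [h3]; group
  · have h5 : s * r * s⁻¹ ∈ NV.fac M.toNatV i ⊓ NV.fac M.toNatV j := ⟨NV.line_le _ _ h4, hj⟩
    rw [NV.fac_inf M.toNatV hij, mem_bot] at h5
    apply hr1
    have e1 : r = s⁻¹ * (s * r * s⁻¹) * s := by group
    rw [e1, h5]; group

end four

/-- **`CvOneA4`** from the chain over `T` and the identification. -/
theorem cvOneA4_of {K : Cls.{u}} (hC : ChainT.{u}) (hI : IdT.{u}) : CvOneA4 K := by
  intro G _ _ S hH P F _ _ _ V D M i hD hu hd h4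
  obtain ⟨j, hji⟩ := exists_ne i
  obtain ⟨N, e⟩ := NV.bts_four M hji.symm (NV.syl_fac_one M hd) hu
  have hG := hH.ctx.char2
  have hSP := NV.SP M
  have hB2 := NV.blk_two M i
  have hTR := NV.stab_normalizes_line M.toNatV hSP i
  have N1 := sylN_of M hd
  obtain ⟨o, ho⟩ : ∃ o, BTwo.pt N o = NV.line M.toNatV i := ⟨⟨N.line ![1, 0], _, vec_one_ne, rfl⟩, e.line⟩
  obtain ⟨d, hd1⟩ := (Subgroup.ne_bot_iff_exists_ne_one).1 hD
  have hd0 : (d : G) ≠ 1 := fun h => hd1 (Subtype.ext h)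
  rw [← ho] at hd hTR N1
  have hodd : Odd ((NV.stab M.toNatV i).relIndex (normalizer (BTwo.pt N o : Set G))) := by
    rw [← Nat.not_even_iff_odd, even_iff_two_dvd]
    exact hd
  have hX0 : BTwo.CenX (NV.fac M.toNatV i) (BTwo.pt N) ≠ ⊥ := fun h => hD (le_bot_iff.1 (e.cenD.trans h.le))
  obtain ⟨G₀, U, v, O⟩ := hC G (NV.stab M.toNatV i) F (NV.fac M.toNatV i) N
    { ctx := hH.ctx
      two := N1.isPGroup
      le_N := NV.stab_normalizes _ _
      exists_pt := ⟨o, hTR, hodd⟩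
      bts := e.bts
      four := h4
      CenX_ne := hX0 } o ⟨N1.isPGroup, NV.stab_normalizes _ _, hTR, hodd⟩
  have hE := O.endIn
  have hX := O.X_le
  have hQ := O.Q_le
  have hQ' : ZN.o2 (normalizer (NV.line M.toNatV i : Set G)) ≤ G₀ := by
    rw [← ho]; exact hQ
  have hR4 : 4 ≤ Nat.card (BTwo.pt N o) := by
    rw [ho, ← e.line, N.card_line vec_one_ne]
    exact h4
  -- `s`, `r`
  obtain ⟨s, hs, hs1⟩ := hB2.exists_swap
  have hsT : s ∈ normalizer (NV.stab M.toNatV i : Set G) :=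
    M4.swap_norm_T (NV.stab_le _ _) (Two.two_cosets (NV.stab_le _ _) hB2.card) hs
  -- `d`
  have hdz : (d : G) ∈ zc (NV.stab M.toNatV i) := ((NV.mem_DT M (i := i)).1 (NV.D_le_DT M d.2)).1
  have hdn : (d : G) ∉ BTwo.pt N o := by
    intro h
    rw [ho] at h
    have h1 : (d : G) ∈ V ⊓ D := ⟨NV.fac_le _ _ (NV.line_le _ _ h), d.2⟩
    rw [M.inf, mem_bot] at h1
    exact hd0 h1
  rcases hI G hG _ G₀ U _ v hE hR4 with ⟨Xb, Ca, Cb, Qa, Qb, Ua, k⟩ | ⟨Xb, Ca, Cb, Qa, Qb, Ua, Ub, k⟩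
  · obtain ⟨r, hrz, hr, hr1⟩ := N1.exists_z k.side_a
    obtain ⟨h1, h2, h3⟩ := swap_r M hji.symm hs hs1 hsT (ho ▸ hr) hrz hr1
    have h5 := mem_b e.bts k.zU k.mix hX h2 (hQ' (NV.zc_stab_le_o2_line M hji.symm h2).1) (e.cen h1)
      (by rw [ho]; exact h3)
    exact swap_false N1 k.side_a k.C_Qa hG hsT hr hr1 h5 k.C_X k.T_C k.Q_max k.fld k.abel
  · obtain ⟨r, hrz, hr, hr1⟩ := N1.exists_z k.side_a
    obtain ⟨h1, h2, h3⟩ := swap_r M hji.symm hs hs1 hsT (ho ▸ hr) hrz hr1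
    have h5 := mem_b e.bts k.zU k.mix hX h2 (hQ' (NV.zc_stab_le_o2_line M hji.symm h2).1) (e.cen h1)
      (by rw [ho]; exact h3)
    have h6 := swap_X N1 k.side_a k.C_Qa hG hsT hr hr1 h5 k.side_b
    have h7 : (d : G) ∈ Xb := mem_b e.bts k.zU k.mix hX hdz
      (hQ' (NV.zc_stab_le_o2_line M hji.symm hdz).1) (e.cenD d.2) hdn
    rw [← h6, mem_cj_iff] at h7
    apply hdn
    have h8 : s * (d : G) = d * s := (mem_centralizer_iff.1 (M.cD (hSP hs)) d d.2).symm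
    have e1 : s⁻¹ * (d : G) * s = d := by
      calc s⁻¹ * (d : G) * s = s⁻¹ * (d * s) := by group
        _ = d := by rw [← h8]; group
    rwa [e1] at h7

/-! ### `BTS` over a Sylow 2-subgroup of `G` -/

/-- `q ≥ 4` -/
theorem known_four {K : Cls.{u}} (hC : ChainT.{u}) (hE : EndL.{u}) {G : Type u} [Group G] [Finite G] {T : Sylow 2 G}
    (hH : Hyp K T) {F : Type} [Field F] [Finite F] [CharP F 2] (h4 : 4 ≤ Nat.card F) {V : Subgroup G}
    (N : NatMod F V) (b : BTwo.BTS V (BTwo.pt N)) {o : BTwo.Pt N} (hTV : (T : Subgroup G) ≤ normalizer (V : Set G))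
    (hTR : (T : Subgroup G) ≤ normalizer (BTwo.pt N o : Set G)) (hX : BTwo.CenX V (BTwo.pt N) ≠ ⊥) :
    IsKnownSimple' G := by
  have h := TSyl.of_sylow T hTV hTR
  obtain ⟨G₀, U, v, O⟩ := hC G (T : Subgroup G) F V N
    { ctx := hH.ctx
      two := T.isPGroup'
      le_N := hTV
      exists_pt := ⟨o, hTR, h.odd⟩
      bts := b
      four := h4
      CenX_ne := hX } o h
  exact hE G hH.ctx T hH.full hH.allIn G₀ U _ v O.endIn

end Cfsg.Agent.Omega.IId.Cv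


end

section


/-!
# II.d, `V_P = V × D`: `CvTwoB`, `CvOne` for `q ≥ 4`

* `DNe` : `D' ≠ 1` for `k = 2`, `k' = 1`;
* `cvTwoB4`, `cvOne4` : from `ChainT`, `EndL` (and `DNe`).
-/

set_option autoImplicit false
set_option linter.unusedSectionVars false

namespace Cfsg.Agent.Omega.IId.Cv

open Subgroup Pointwise Cfsg Cfsg.Agent.ZN Cfsg.Agent.ZN.ChoiceBase
open Cfsg.Agent.Omega.MinPar Cfsg.Agent.Omega.Frame Cfsg.Agent.Omega.FFThm Cfsg.Agent.Omega.FrameMulti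
open Cfsg.Agent.Omega.NatPair (NatMod)
open Cfsg.Agent.Omega.HOne.Cut (EndL)

universe u

/-- `D' ≠ 1` for `k = 2`, `k' = 1`. -/
def DNe : Prop :=
  ∀ (G : Type u) [Group G] [Finite G] (S S' : Sylow 2 G) (P P' : Subgroup G) (F F' : Type) [Field F] [Finite F]
    [CharP F 2] [Field F'] [Finite F'] [CharP F' 2] (V V' D D' : Subgroup G) (M : NatD F S P V D 2)
    (M' : NatD F' S' P' V' D' 1) (i : Fin 2) (i' : Fin 1), LineD M M' i i' → D ≠ ⊥ ∨ D' ≠ ⊥ → D' ≠ ⊥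

/-- **CASE 2b, `q ≥ 4`** -/
theorem cvTwoB4 {K : Cls.{u}} (hC : ChainT.{u}) (hE : EndL.{u}) : CvTwoB4 K := by
  intro G _ _ S hH P F _ _ _ V D M i hD hu T₁ _ hT h4
  obtain ⟨j, hji⟩ := exists_ne i
  obtain ⟨N, e⟩ := NV.bts_of M hji.symm (NV.nm_of_unM M (Or.inr rfl) i hu) hu
  obtain ⟨o, ho⟩ : ∃ o, BTwo.pt N o = NV.line M.toNatV i := ⟨⟨N.line ![1, 0], _, vec_one_ne, rfl⟩, e.line⟩
  refine known_four hC hE (hH.conj T₁).toHyp h4 N e.bts (o := o) (hT.trans inf_le_left) ?_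
    fun h => hD (le_bot_iff.1 (e.cenD.trans h.le))
  rw [ho]
  exact hT.trans inf_le_right

/-- **`k' = 1`, `q ≥ 4`** -/
theorem cvOne4 {K : Cls.{u}} (hC : ChainT.{u}) (hE : EndL.{u}) (hDn : DNe.{u}) : CvOne4 K := by
  intro G _ _ S S' hH P P' _ F F' _ _ _ _ _ _ V V' D D' M M' hDD i i' L hu h4
  have hD := hDn G S S' P P' F F' V V' D D' M M' i i' L hDD
  obtain ⟨N, e⟩ := NV.bts_of_one M' (NV.nm_of_unM M' (Or.inl rfl) i' hu) hu
  obtain ⟨o, ho⟩ : ∃ o, BTwo.pt N o = NV.line M'.toNatV i' := ⟨⟨N.line ![1, 0], _, vec_one_ne, rfl⟩, e.line⟩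
  refine known_four hC hE (hH.conj S').toHyp (L.card ▸ h4) N e.bts (o := o)
    ((NV.SP M').trans (NV.P_le_fac M' i')) ?_ fun h => hD (le_bot_iff.1 (e.cenD.trans h.le))
  rw [ho]
  exact NV.S_le_line M' i'

end Cfsg.Agent.Omega.IId.Cv

end

section


/-!
# CvBig, `k' = 1`, `V'` unmixed: `BigOne2`, `BigOne4`

* `exists_vec_cent` : an element of `C_{V_i}(stab M i)` is the component of an element of `C_V(S)`, any `k`;
* `card_zc_ge` : `|C_R(T)| |D| ≤ |Ω₁(Z(S))|`, any `k`;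
* `D'_ne_bot` : `D' ≠ 1` for `k' = 1`;
* `bigOne2`, `bigOne4`.
-/

set_option autoImplicit false
set_option linter.unusedSectionVars false

namespace Cfsg.Agent.Omega.IId.CvBig

open Subgroup Cfsg
open Cfsg.Agent.ZN (o2 zc zl)
open Cfsg.Agent.Lib.SL2Mat Cfsg.Agent.MinSimple
open Cfsg.Agent.Omega.MinPar Cfsg.Agent.Omega.FFThm
open Cfsg.Agent.Omega.Frame (Cls)
open Cfsg.Agent.Omega.IId.M4 (exists_cj_eq)
open Cfsg.Agent.Omega.IId.Cv

universe u

section vec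

open Cfsg.Agent.ZN.ChoiceBase

variable {G : Type u} [Group G] {F : Type} [Field F] {S P V : Subgroup G} {k : ℕ} (N : NatV F S P V k)

/-- The norm of `f ∈ C_{V_i}(stab N i)`. -/
theorem exists_vec_cent (hSP : S ≤ P) {i : Fin k} {f : G} (hf : f ∈ NV.fac N i) (hc : ∀ t ∈ NV.stab N i, t * f = f * t) :
    ∃ z ∈ V, N.e z i = N.e f i ∧ ∀ s ∈ S, s * z = z * s := by
  choose s hs hsl using fun l => NV.exists_trans N hSP i l
  have key : ∀ x ∈ S, ∀ l, ∀ y ∈ S, cj y (NV.fac N i) = NV.fac N l → cj x (NV.fac N i) = NV.fac N l →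
      x * f * x⁻¹ = y * f * y⁻¹ := by
    intro x hx l y hy h1 h2
    have h3 : y⁻¹ * x ∈ NV.stab N i := by
      refine mem_inf.2 ⟨mul_mem (inv_mem hy) hx, ?_⟩
      rw [mem_normalizer_iff_cj, ← cj_cj, h2, ← h1, cj_cj, inv_mul_cancel, cj_one]
    have h4 := hc _ h3
    calc x * f * x⁻¹ = y * (y⁻¹ * x * f) * x⁻¹ := by group
      _ = y * (f * (y⁻¹ * x)) * x⁻¹ := by rw [h4]
      _ = y * f * y⁻¹ := by group
  have ha : ∀ l, s l * f * (s l)⁻¹ ∈ NV.fac N l := by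
    intro l
    rw [← hsl l, mem_cj]
    have e : (s l)⁻¹ * (s l * f * (s l)⁻¹) * s l = f := by group
    rwa [e]
  obtain ⟨z, hz, hez⟩ := N.surj fun l => N.e (s l * f * (s l)⁻¹) l
  refine ⟨z, hz, ?_, fun t ht => ?_⟩
  · rw [hez]
    have h1 : s i * f * (s i)⁻¹ = 1 * f * 1⁻¹ := key _ (hs i) i 1 (one_mem _) (cj_one _) (hsl i)
    simp only [one_mul, inv_one, mul_one] at h1
    simp only [h1]
  · have hzt : t * z * t⁻¹ = z := by
      refine NV.e_inj N (NV.cj_mem N (hSP ht) hz) hz (funext fun j => ?_)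
      obtain ⟨l, rfl⟩ := (NV.sg N (hSP ht)).surjective j
      have h0 : N.e ((s l * f * (s l)⁻¹)⁻¹ * z) l = 0 := by
        rw [N.mul _ (inv_mem (ha l).1) _ hz, NV.e_inv N (ha l).1, hez, Pi.add_apply, Pi.neg_apply, neg_add_cancel]
      have h1 := (NV.sg_spec N (hSP ht) (mul_mem (inv_mem (ha l).1) hz) l).2 h0
      have e1 : t * ((s l * f * (s l)⁻¹)⁻¹ * z) * t⁻¹ = (t * s l * f * (t * s l)⁻¹)⁻¹ * (t * z * t⁻¹) := by group
      have h2 : t * s l * f * (t * s l)⁻¹ = s (NV.sg N (hSP ht) l) * f * (s (NV.sg N (hSP ht) l))⁻¹ := by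
        refine key _ (mul_mem ht (hs l)) _ _ (hs _) (hsl _) ?_
        rw [← cj_cj, hsl l, ← NV.sg_eq_iff N (hSP ht)]
      rw [e1, h2, N.mul _ (inv_mem (ha _).1) _ (NV.cj_mem N (hSP ht) hz), NV.e_inv N (ha _).1, Pi.add_apply,
        Pi.neg_apply, neg_add_eq_zero] at h1
      rw [← h1, hez]
    calc t * z = t * z * t⁻¹ * t := by group
      _ = z * t := by rw [hzt]

end vec

section one

open Cfsg.Agent.Omega.IId.NV (zl_le_zz o2_le_S SP V_le_S inf_D S_le_line fac_one exists_sylow_over)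
open Cfsg.Agent.Omega.BTwo (cj mem_cj cj_mono cj_eq_self_iff conj_mem_cj card_cj)

variable {G : Type u} [Group G] [Finite G] {F F' : Type} [Field F] [Finite F] [CharP F 2] [Field F'] [Finite F']
  [CharP F' 2] {S S' : Sylow 2 G} {P P' V V' D D' : Subgroup G} {k : ℕ} (M : NatD F S P V D k)

theorem D_le_zcS (M : NatD F S P V D k) : D ≤ zc (S : Subgroup G) := by
  intro d hd
  have h1 := (zl_le_zz M) (M.D_le hd)
  rw [VModule.mem_zc]
  refine ⟨o2_le_S M (VModule.zc_le _ h1), fun t ht => ?_, (VModule.mem_zc.1 h1).2.2⟩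
  exact (mem_centralizer_iff.1 (M.cD (SP M ht)) d hd).symm

/-- `|C_R(T)| |D| ≤ |Ω₁(Z(S))|`, `T = stab M i`, `R = line M i`, any `k` -/
theorem card_zc_ge (i : Fin k) :
    Nat.card (NV.line M.toNatV i ⊓ centralizer (NV.stab M.toNatV i : Set G) : Subgroup G) * Nat.card D ≤
      Nat.card (zc (S : Subgroup G)) := by
  have hex : ∀ f : (NV.line M.toNatV i ⊓ centralizer (NV.stab M.toNatV i : Set G) : Subgroup G),
      ∃ z ∈ V, M.e z i = M.e (f : G) i ∧ ∀ s ∈ (S : Subgroup G), s * z = z * s := fun f =>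
    exists_vec_cent M.toNatV (SP M) (NV.line_le _ _ f.2.1) fun t ht => mem_centralizer_iff.1 f.2.2 t ht
  choose z hzV hze hzc using hex
  rw [← Nat.card_prod]
  refine Nat.card_le_card_of_injective (fun p => (⟨z p.1 * p.2, mul_mem (VModule.mem_zc.2
    ⟨V_le_S M (hzV p.1), hzc p.1, by rw [pow_two]; exact NV.sq M.toNatV (hzV p.1)⟩) (D_le_zcS M p.2.2)⟩ :
      zc (S : Subgroup G))) ?_
  rintro ⟨p, q⟩ ⟨p', q'⟩ heq
  have h4 : z p * q = z p' * q' := congrArg Subtype.val heq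
  have h5 : (z p')⁻¹ * z p = q' * (q : G)⁻¹ := by
    calc (z p')⁻¹ * z p = (z p')⁻¹ * (z p * q) * (q : G)⁻¹ := by group
      _ = (z p')⁻¹ * (z p' * q') * (q : G)⁻¹ := by rw [h4]
      _ = q' * (q : G)⁻¹ := by group
  have h6 : (z p')⁻¹ * z p = 1 := inf_D (M := M)
    (mul_mem (inv_mem (hzV p')) (hzV p)) (by rw [h5]; exact mul_mem q'.2 (inv_mem q.2))
  have h7 : (q' : G) = q := by
    rw [h6] at h5
    exact mul_inv_eq_one.1 h5.symm
  have h8 : z p' = z p := inv_mul_eq_one.1 h6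
  have h9 : (p : G) = p' := by
    refine NV.ext_fac M.toNatV (NV.line_le _ _ p.2.1) (NV.line_le _ _ p'.2.1) ?_
    rw [← hze p, ← hze p', h8]
  exact Prod.ext (Subtype.ext h9) (Subtype.ext h7.symm)

/-- **`D' ≠ 1`** for `k' = 1`, any `k` -/
theorem D'_ne_bot (M' : NatD F' S' P' V' D' 1) {i : Fin k} {i' : Fin 1}
    (hl : NV.line M.toNatV i = NV.line M'.toNatV i') (hD : D ≠ ⊥ ∨ D' ≠ ⊥) : D' ≠ ⊥ := by
  have : Fact (Nat.Prime 2) := ⟨Nat.prime_two⟩
  intro hD'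
  have hD1 : D ≠ ⊥ := hD.resolve_right fun h => h hD'
  have hS'R : (S' : Subgroup G) ≤ normalizer (NV.line M.toNatV i : Set G) := by
    rw [hl]; exact S_le_line M' i'
  have hT2 : IsPGroup 2 (NV.stab M.toNatV i) := S.isPGroup'.to_le (NV.stab_le _ _)
  obtain ⟨Q, hTQ, hQN⟩ := exists_sylow_over (T₁ := S') hT2 (NV.stab_normalizes_line M.toNatV (SP M) i) hS'R
  obtain ⟨g, hg, hgQ⟩ := exists_cj_eq hS'R hQN S'.isPGroup' Q.isPGroup' (MinSimple.Basic.not_dvd_relIndex S' hS'R)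
    (MinSimple.Basic.not_dvd_relIndex Q hQN)
  have hgR : cj g (NV.line M.toNatV i) = NV.line M.toNatV i := cj_eq_self_iff.2 hg
  -- `Ω₁(Z(S')) ≤ (C_R(T))^g`
  have h1 : zc (S' : Subgroup G) ≤ cj g (NV.line M.toNatV i ⊓ centralizer (NV.stab M.toNatV i : Set G)) := by
    intro z hz
    have hzV : z ∈ V' := by
      obtain ⟨n, hn, d, hd, rfl⟩ := M'.dec z (VModule.zc_le_zl _ _ hz)
      rw [hD', mem_bot] at hd
      subst hd
      rwa [mul_one]
    have hzR : z ∈ NV.line M.toNatV i := by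
      rw [hl]
      refine NV.fix_le_line M'.toNatV (SP M') (by rwa [fac_one M' i']) fun t ht => ?_
      exact (VModule.mem_zc.1 hz).2.1 t (NV.stab_le _ _ ht)
    rw [mem_cj]
    refine mem_inf.2 ⟨?_, mem_centralizer_iff.2 fun t ht => ?_⟩
    · rw [← mem_cj, hgR]; exact hzR
    · have h2 : g * t * g⁻¹ ∈ (S' : Subgroup G) := by
        rw [← hgQ]; exact conj_mem_cj (hTQ ht)
      have h3 := (VModule.mem_zc.1 hz).2.1 _ h2
      calc t * (g⁻¹ * z * g) = g⁻¹ * (g * t * g⁻¹ * z) * g := by group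
        _ = g⁻¹ * (z * (g * t * g⁻¹)) * g := by rw [h3]
        _ = g⁻¹ * z * g * t := by group
  have h2 := Subgroup.card_le_of_le h1
  rw [card_cj] at h2
  have h3 := card_zc_ge M i
  have h4 : Nat.card (zc (S' : Subgroup G)) = Nat.card (zc (S : Subgroup G)) :=
    Half.card_zc_of_card_eq S S'.isPGroup' (by rw [S.card_eq_multiplicity, S'.card_eq_multiplicity])
  have h5 : 1 < Nat.card D := (Subgroup.one_lt_card_iff_ne_bot _).2 hD1
  have h6 : 0 < Nat.card (NV.line M.toNatV i ⊓ centralizer (NV.stab M.toNatV i : Set G) : Subgroup G) := Nat.card_pos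
  nlinarith

end one

open Cfsg.Agent.Omega.IId.NV (pos_one)
open Cfsg.Agent.Omega.NatPair (NatMod)
open Cfsg.Agent.Omega.HOne.Cut (TS0 Three0 More0 EndL known_of_pos)

/-- **`BigOne2`** : `k' = 1`, `V'` unmixed, `q = 2`. -/
theorem bigOne2 {K : Cls.{u}} (hT : TS0.{u, u}) (h3 : Three0.{u, u}) (hm : More0.{u, u})
    (hE : EndL.{u}) : BigOne2 K := by
  intro G _ _ S S' hH P P' hp F F' _ _ _ _ _ _ V V' D D' k M M' hk hC hD i i' L hu hF
  have hL := lineD_of_ent L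
  have hF' : Nat.card F' = 2 := hL.card.trans hF
  have hD' : D' ≠ ⊥ := D'_ne_bot M M' hL.eq' hD
  obtain ⟨N, P₁, o, r, z, p⟩ := pos_one M' hF' hD' hu
  exact known_of_pos hT h3 hm hE (hH.conj S').ctx (hH.conj S').full (hH.conj S').allIn p

/-- **`BigOne4`** : `k' = 1`, `V'` unmixed, `q ≥ 4`. -/
theorem bigOne4 {K : Cls.{u}} (hC : ChainT.{u}) (hE : EndL.{u}) : BigOne4 K := by
  intro G _ _ S S' hH P P' hp F F' _ _ _ _ _ _ V V' D D' k M M' hk hCC hDD i i' L hu h4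
  have hL := lineD_of_ent L
  have hD := D'_ne_bot M M' hL.eq' hDD
  obtain ⟨N, e⟩ := NV.bts_of_one M' (NV.nm_of_unM M' (Or.inl rfl) i' hu) hu
  obtain ⟨o, ho⟩ : ∃ o, BTwo.pt N o = NV.line M'.toNatV i' := ⟨⟨N.line ![1, 0], _, vec_one_ne, rfl⟩, e.line⟩
  refine known_four hC hE (hH.conj S').toHyp (hL.card ▸ h4) N e.bts (o := o)
    ((NV.SP M').trans (NV.P_le_fac M' i')) ?_ fun h => hD (le_bot_iff.1 (e.cenD.trans h.le))
  rw [ho]
  exact NV.S_le_line M' i'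

end Cfsg.Agent.Omega.IId.CvBig

end

end
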