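import Cfsg.Agent.Mrg.ParSys.FrontSys
import Cfsg.Agent.Mrg.Omega.BTwo.Split
import Cfsg.Agent.Mrg.ParSys.Par
import Cfsg.Agent.Mrg.RankTwoClose.Braid
import Cfsg.Agent.Solvable.Glauberman
import Cfsg.Agent.Mrg.Omega.BTwo.QuadGrp
import Cfsg.Agent.Mrg.Omega.Lie.End.Top

-- merged: Cfsg.Agent.Mrg.Omega.HOne.EndNode
section

/-!
# II.0h1, END: the node of `V = N`

`Nod V R U B i₁ i₂`: `U ≤ B` fix the point `R i₁`, `XX V R ⊔ B` is the minimal parabolic subgroup of the node of `V`.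
The fields `three`, `ptr`, `reg`, `fpf` of `Front.sys` for this node, and `SepG` against another node.
-/

set_option autoImplicit false

namespace Cfsg.Agent.Omega.HOne.End

open Subgroup Cfsg.Agent.Omega.BTwo
open Cfsg.Agent.ParSys (Qk FpfG SepG mem_Qk Qk_le)

variable {G : Type*} [Group G] {ι : Type*}

/-- The node of `V`: `U ≤ B` fix the point `R i₁`. -/
structure Nod (V : Subgroup G) (R : ι → Subgroup G) (U B : Subgroup G) (i₁ : ι) : Prop where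
  U_le : U ≤ B
  W_le : WW V (R i₁) ≤ U
  B_V : B ≤ normalizer (V : Set G)
  B_R : B ≤ normalizer (R i₁ : Set G)
  /-- `U` centralises `R i₁` -/
  UR : ∀ u ∈ U, ∀ a ∈ R i₁, u * a * u⁻¹ = a
  /-- `[V, U] ≤ R i₁` -/
  UV : ∀ u ∈ U, ∀ v ∈ V, u * v * u⁻¹ * v⁻¹ ∈ R i₁
  /-- the stabiliser of `R i₁` in `X` -/
  X_B : XX V R ⊓ normalizer (R i₁ : Set G) ≤ B

namespace Nod

variable {V : Subgroup G} {R : ι → Subgroup G} {U B : Subgroup G} {i₁ : ι}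

/-- an element of `N(V)` which fixes all points -/
def Fx (R : ι → Subgroup G) : Subgroup G := ⨅ k, normalizer (R k : Set G)

theorem mem_Fx {x : G} : x ∈ Fx R ↔ ∀ k, cj x (R k) = R k := by
  rw [Fx, Subgroup.mem_iInf]
  exact forall_congr' fun k => cj_eq_self_iff.symm

variable (b : BT V R) (D : Nod V R U B i₁)
include b D

theorem B_X : B ≤ normalizer (XX V R : Set G) := D.B_V.trans b.NV_le_NX

theorem mem_P {g : G} (hg : g ∈ XX V R ⊔ B) : ∃ x ∈ XX V R, ∃ c ∈ B, g = x * c := by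
  rw [sup_comm] at hg
  obtain ⟨x, hx, c, hc, rfl⟩ := Solvable.Glauberman.exists_mul_of_mem_sup B (XX V R) (D.B_X b) hg
  exact ⟨x, hx, c, hc, rfl⟩

/-- `P ∩ N(R i₁) = B` -/
theorem mem_B_iff {g : G} (hg : g ∈ XX V R ⊔ B) : g ∈ B ↔ cj g (R i₁) = R i₁ := by
  constructor
  · exact fun h => cj_eq_self_iff.2 (D.B_R h)
  · intro h
    obtain ⟨x, hx, c, hc, rfl⟩ := D.mem_P b hg
    rw [cj_mul, cj_eq_self_iff.2 (D.B_R hc), cj_eq_self_iff] at h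
    exact mul_mem (D.X_B ⟨hx, h⟩) hc

theorem P_V : XX V R ⊔ B ≤ normalizer (V : Set G) := sup_le b.X_le_NV D.B_V

/-- two elements of `P` with the same image of `R i₁` are in the same coset -/
theorem coset {g h : G} (hg : g ∈ XX V R ⊔ B) (hh : h ∈ XX V R ⊔ B) :
    g⁻¹ * h ∈ B ↔ cj g (R i₁) = cj h (R i₁) := by
  rw [D.mem_B_iff b (mul_mem (inv_mem hg) hh), cj_mul]
  constructor
  · intro h1
    have := congrArg (cj g) h1
    rwa [cj_cj_inv, eq_comm] at this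
  · intro h1
    rw [← h1, cj_inv_cj]

theorem exists_k {g : G} (hg : g ∈ XX V R ⊔ B) : ∃ k, cj g (R i₁) = R k := b.perm g (D.P_V b hg) i₁

/-- the kernel of the panel -/
theorem mem_Qk_iff {x : G} : x ∈ Qk B (XX V R ⊔ B) ↔ x ∈ B ∧ ∀ k, cj x (R k) = R k := by
  constructor
  · intro hx
    refine ⟨Qk_le _ _ hx, fun k => ?_⟩
    obtain ⟨g, hg, e⟩ := b.trans_X_one i₁ k
    have hg' : g ∈ XX V R ⊔ B := mem_sup_left hg
    have h1 := cj_eq_self_iff.2 (D.B_R (hx g hg'))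
    rw [cj_mul, cj_mul, e] at h1
    have := congrArg (cj g) h1
    rwa [cj_cj_inv, e] at this
  · rintro ⟨hxB, hx⟩ g hg
    have hxP : x ∈ XX V R ⊔ B := mem_sup_right hxB
    rw [D.mem_B_iff b (mul_mem (mul_mem (inv_mem hg) hxP) hg), cj_mul, cj_mul]
    obtain ⟨k, hk⟩ := D.exists_k b hg
    rw [hk, hx k, ← hk, cj_inv_cj]

/-- an element of `U` which fixes a second point centralises `V` -/
theorem cen_of_fix {u : G} (hu : u ∈ U) {k : ι} (hk : k ≠ i₁) (h : cj u (R k) = R k) :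
    u ∈ centralizer (V : Set G) := by
  have h1 : R k ≤ centralizer {u} := by
    intro v hv
    rw [mem_centralizer_singleton_iff]
    have h2 : u * v * u⁻¹ ∈ R k := by rw [← h]; exact conj_mem_cj hv
    have h3 := D.UV u hu v (b.R_le k hv)
    have h4 := b.eq_one hk (mul_mem h2 (inv_mem hv)) h3
    rw [mul_inv_eq_one, mul_inv_eq_iff_eq_mul] at h4
    exact h4.symm
  have h2 : R i₁ ≤ centralizer {u} := by
    intro v hv
    rw [mem_centralizer_singleton_iff]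
    have := D.UR u hu v hv
    rw [mul_inv_eq_iff_eq_mul] at this
    exact this.symm
  have h3 : V ≤ centralizer {u} := by
    rw [← b.R_sup k i₁ hk]
    exact sup_le h1 h2
  rw [mem_centralizer_iff]
  exact fun v hv => mem_centralizer_singleton_iff.1 (h3 hv)

theorem cen_Qk {u : G} (hu : u ∈ B) (h : u ∈ centralizer (V : Set G)) : u ∈ Qk B (XX V R ⊔ B) :=
  (D.mem_Qk_iff b).2 ⟨hu, fun k => cj_eq_self_iff.2 (b.cen_le_N k h)⟩

/-- `U ∩ Qk = C_U(V)` -/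
theorem mem_Qk_iff_cen {u : G} (hu : u ∈ U) : u ∈ Qk B (XX V R ⊔ B) ↔ u ∈ centralizer (V : Set G) := by
  refine ⟨fun h => ?_, D.cen_Qk b (D.U_le hu)⟩
  obtain ⟨k, hk, -⟩ := b.third i₁ i₁
  exact D.cen_of_fix b hu hk (((D.mem_Qk_iff b).1 h).2 k)

theorem three : ∃ x ∈ XX V R ⊔ B, ∃ y ∈ XX V R ⊔ B, x ∉ B ∧ y ∉ B ∧ x⁻¹ * y ∉ B := by
  obtain ⟨k, hk, -⟩ := b.third i₁ i₁
  obtain ⟨l, hl, hlk⟩ := b.third i₁ k
  obtain ⟨x, hx, ex⟩ := b.trans_X_one i₁ k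
  obtain ⟨y, hy, ey⟩ := b.trans_X_one i₁ l
  have hx' : x ∈ XX V R ⊔ B := mem_sup_left hx
  have hy' : y ∈ XX V R ⊔ B := mem_sup_left hy
  refine ⟨x, hx', y, hy', ?_, ?_, ?_⟩
  · rw [D.mem_B_iff b hx', ex]
    exact fun h => hk (b.R_index h)
  · rw [D.mem_B_iff b hy', ey]
    exact fun h => hl (b.R_index h)
  · rw [D.coset b hx' hy', ex, ey]
    exact fun h => hlk (b.R_index h).symm

theorem ptr : ParSys.Hall.HallData.PTr B U (XX V R ⊔ B) := by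
  intro g hg hgB g' hg' hgB'
  obtain ⟨k, hk⟩ := D.exists_k b hg
  obtain ⟨l, hl⟩ := D.exists_k b hg'
  have hk1 : k ≠ i₁ := by
    rintro rfl
    exact hgB ((D.mem_B_iff b hg).2 hk)
  have hl1 : l ≠ i₁ := by
    rintro rfl
    exact hgB' ((D.mem_B_iff b hg').2 hl)
  obtain ⟨w, hw, e⟩ := b.trans i₁ hk1 hl1
  refine ⟨w, D.W_le hw, (w * g)⁻¹ * g', ?_, by group⟩
  have hwP : w ∈ XX V R ⊔ B := mem_sup_left (W_le_X V R i₁ hw)
  rw [D.coset b (mul_mem hwP hg) hg', cj_mul, hk, hl, e]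

theorem reg : ∀ u ∈ U, ∀ g ∈ XX V R ⊔ B, g ∉ B → g⁻¹ * u * g ∈ B → u ∈ Qk B (XX V R ⊔ B) := by
  intro u hu g hg hgB h
  obtain ⟨k, hk⟩ := D.exists_k b hg
  have hk1 : k ≠ i₁ := by
    rintro rfl
    exact hgB ((D.mem_B_iff b hg).2 hk)
  have h1 := cj_eq_self_iff.2 (D.B_R h)
  rw [cj_mul, cj_mul, hk] at h1
  have h2 := congrArg (cj g) h1
  rw [cj_cj_inv, hk] at h2
  exact D.cen_Qk b (D.U_le hu) (D.cen_of_fix b hu hk1 h2)

/-- An element which fixes only the points `R i₁`, `R i₂` is fixed-point-free on `U / Qk`. -/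
theorem fpf_of {i₂ : ι} (h12 : i₁ ≠ i₂) {t : G} (ht2 : cj t (R i₂) = R i₂)
    (hfix : ∀ k, cj t (R k) = R k → k = i₁ ∨ k = i₂) :
    ∀ u ∈ U, t * u * t⁻¹ * u⁻¹ ∈ Qk B (XX V R ⊔ B) → u ∈ Qk B (XX V R ⊔ B) := by
  intro u hu h
  have h1 := ((D.mem_Qk_iff b).1 h).2
  have huP : u ∈ XX V R ⊔ B := mem_sup_right (D.U_le hu)
  obtain ⟨k, hk⟩ := b.perm u (D.P_V b huP) i₂
  have h2 := h1 k
  have ht2' : cj t⁻¹ (R i₂) = R i₂ := by
    conv_lhs => rw [← ht2]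
    rw [cj_inv_cj]
  have hk' : cj u⁻¹ (R k) = R i₂ := by rw [← hk, cj_inv_cj]
  rw [cj_mul, cj_mul, cj_mul, hk', ht2', hk] at h2
  rcases hfix k h2 with rfl | rfl
  · exfalso
    apply h12
    have h3 := cj_eq_self_iff.2 (D.B_R (D.U_le hu))
    exact b.R_index (cj_injective (h3.trans hk.symm))
  · exact D.cen_Qk b (D.U_le hu) (D.cen_of_fix b hu h12.symm hk)

/-- `FpfG` for the node of `V` -/
theorem fpfG {i₂ : ι} (h12 : i₁ ≠ i₂) {t : G} (ht : t ∈ B) (hodd : ∃ k : ℕ, Nat.Coprime 2 k ∧ t ^ k = 1)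
    (ht2 : cj t (R i₂) = R i₂) (hfix : ∀ k, cj t (R k) = R k → k = i₁ ∨ k = i₂) :
    FpfG 2 B U (XX V R ⊔ B) :=
  ⟨t, ht, hodd, D.fpf_of b h12 ht2 hfix⟩

/-- `SepG` for another node `P'` and the node of `V` -/
theorem sepG {i₂ : ι} (h12 : i₁ ≠ i₂) {P' : Subgroup G} {t : G} (ht : t ∈ B)
    (hodd : ∃ k : ℕ, Nat.Coprime 2 k ∧ t ^ k = 1)
    (ht2 : cj t (R i₂) = R i₂) (hfix : ∀ k, cj t (R k) = R k → k = i₁ ∨ k = i₂)
    (hP' : ∀ u ∈ U, t * u * t⁻¹ * u⁻¹ ∈ Qk B P') : SepG 2 B U P' (XX V R ⊔ B) :=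
  ⟨t, ht, hodd, hP', D.fpf_of b h12 ht2 hfix⟩

end Nod

end Cfsg.Agent.Omega.HOne.End

end

-- merged: Cfsg.Agent.Mrg.Omega.HOne.EndPoly
section

section


/-!
# II.0h1, END: residues of rank two, from PATH and BRAID to a generalised polygon

`Duo`: two minimal parabolic subgroups `P false`, `P true` over a common Borel subgroup `B` with a torus `H` and
reflections `n i` normalising `H`.  `Duo.frame` is the corresponding `RankTwoClose.Frame`; with PATH and BRAID it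
gives a `ParSys.Polygon` (`Duo.exists_polygon`).
-/

set_option autoImplicit false

namespace Cfsg.Agent.Omega.HOne.End

open Subgroup Cfsg.Agent.ParSys Cfsg.Agent.RankTwoClose
open Cfsg.Agent.LieExceptional.BNPairCore

variable {G : Type*} [Group G]

/-- Two minimal parabolic subgroups with a common Borel subgroup and a torus. -/
structure Duo (p : ℕ) (B U H : Subgroup G) (P : Bool → Subgroup G) (n : Bool → G) : Prop where
  hall : Hall.HallData p B U H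
  le : ∀ i, B ≤ P i
  ptr : ∀ i, Hall.HallData.PTr B U (P i)
  fix : ∀ i, ∀ c ∈ U, c ∈ centralizer (H : Set G) → c ∈ Qk B (P i)
  inf : P false ⊓ P true = B
  n_mem : ∀ i, n i ∈ P i
  n_not : ∀ i, n i ∉ B
  n_norm : ∀ i, n i ∈ normalizer (H : Set G)
  thick : ∀ i, ∃ b ∈ B, n i * b * (n i)⁻¹ ∉ B

namespace Duo

variable {p : ℕ} {B U H : Subgroup G} {P : Bool → Subgroup G} {n : Bool → G}

/-- two `H`-fixed chambers `≠ B` of a panel coincide -/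
theorem panel_unique [Finite G] [Fact p.Prime] (D : Duo p B U H P n) (i : Bool) {g g' : G} (hg : g ∈ P i)
    (hgB : g ∉ B) (hg' : g' ∈ P i) (hgB' : g' ∉ B)
    (hfix : ∀ a ∈ H, g⁻¹ * a * g ∈ B) (hfix' : ∀ a ∈ H, g'⁻¹ * a * g' ∈ B) : g⁻¹ * g' ∈ B := by
  obtain ⟨u, hu, b, hb, he⟩ := D.ptr i g hg hgB g' hg' hgB'
  obtain ⟨c, hcU, hcC, hc⟩ := D.hall.fixed_trans (X := G ⧸ B) ((g : G) : G ⧸ B) ((g' : G) : G ⧸ B) (by
      intro a ha
      change ((a * g : G) : G ⧸ B) = _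
      refine (QuotientGroup.eq.mpr ?_).symm
      rw [← mul_assoc]
      exact hfix a ha) (by
      intro a ha
      change ((a * g' : G) : G ⧸ B) = _
      refine (QuotientGroup.eq.mpr ?_).symm
      rw [← mul_assoc]
      exact hfix' a ha) hu (by
      change ((u * g : G) : G ⧸ B) = _
      rw [he]
      exact (QuotientGroup.mk_mul_of_mem _ hb).symm)
  have h1 : ((c * g : G) : G ⧸ B) = ((g' : G) : G ⧸ B) := hc
  have h2 := QuotientGroup.eq.1 h1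
  have h3 := D.fix i c hcU hcC g hg
  have h4 := mul_mem h3 h2
  have e : g⁻¹ * c * g * ((c * g)⁻¹ * g') = g⁻¹ * g' := by group
  rwa [e] at h4

/-- the frame -/
def frame [Finite G] [Fact p.Prime] (D : Duo p B U H P n) : Frame G where
  B := B
  H := H
  P := P
  n := n
  memP i x := by
    constructor
    · intro hx
      by_cases hxB : x ∈ B
      · exact Or.inl hxB
      · obtain ⟨u, hu, b, hb, e⟩ := D.ptr i (n i) (D.n_mem i) (D.n_not i) x hx hxB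
        exact Or.inr ⟨u, D.hall.U_le hu, b, hb, e⟩
    · rintro (hx | ⟨b, hb, c, hc, rfl⟩)
      · exact D.le i hx
      · exact mul_mem (mul_mem (D.le i hb) (D.n_mem i)) (D.le i hc)
  inter := D.inf
  H_le := D.hall.H_le
  n_norm := D.n_norm
  n_not := D.n_not
  two i g hg h := by
    by_cases hgB : g ∈ B
    · exact Or.inl hgB
    · refine Or.inr (D.panel_unique i (D.n_mem i) (D.n_not i) hg hgB (fun a ha => ?_) h)
      have := (Subgroup.mem_normalizer_iff.mp (inv_mem (D.n_norm i)) a).mp ha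
      rw [inv_inv] at this
      exact D.hall.H_le this

variable [Finite G] [Fact p.Prime] (D : Duo p B U H P n)

@[simp] theorem frame_B : D.frame.B = B := rfl
@[simp] theorem frame_H : D.frame.H = H := rfl
@[simp] theorem frame_P (i : Bool) : D.frame.P i = P i := rfl
@[simp] theorem frame_n (i : Bool) : D.frame.n i = n i := rfl

include D in
/-- The (B,N)-pair of rank two of `P false ⊔ P true`. -/
theorem exists_bnPair {m : ℕ} (hbr : D.frame.Braid m) (hm : 1 ≤ m) (hp : ∀ k < m, D.frame.PathTo k) :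
    ∃ (Q : Cfsg.BNPair ↥(P false ⊔ P true)) (s : Bool → ↥(P false ⊔ P true)),
      Q.B = B.subgroupOf (P false ⊔ P true) ∧ Q.S = {s false, s true} ∧ s false ≠ s true ∧
      (∀ i, (s i : G) = n i) ∧ ∀ i, (P i).subgroupOf (P false ⊔ P true) = Q.parabolic {s i} := by
  set X := P false ⊔ P true with hX
  have hX' : ∀ i, D.frame.P i ≤ X := by
    rintro (_ | _)
    · exact le_sup_left
    · exact le_sup_right
  set R := D.frame.restrict X hX' with hR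
  have hBX : B ≤ X := (D.le false).trans (hX' false)
  have g1 : R.P false ⊔ R.P true = ⊤ := by
    show (P false).subgroupOf X ⊔ (P true).subgroupOf X = ⊤
    have h0 : P false ≤ X := hX' false
    have h1 : P true ≤ X := hX' true
    rw [← Subgroup.subgroupOf_sup h0 h1, ← hX]
    exact Subgroup.subgroupOf_self X
  have g2 : ∀ i, ∃ b ∈ R.B, R.n i * b * (R.n i)⁻¹ ∉ R.B := by
    intro i
    obtain ⟨b, hb, hnb⟩ := D.thick i
    exact ⟨⟨b, hBX hb⟩, Subgroup.mem_subgroupOf.2 hb, fun h => hnb (Subgroup.mem_subgroupOf.1 h)⟩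
  set Q := R.toBNPair (m := m) hbr.restrict hm (fun k hk => (hp k hk).restrict) g1 g2 with hQ
  have hS : Q.S = {R.n false, R.n true} := rfl
  refine ⟨Q, R.n, rfl, hS, R.n_ne, fun i => rfl, fun i => ?_⟩
  have hRn : R.n i ∈ Q.S := by
    rw [hS]; cases i <;> simp
  have hRP : (P i).subgroupOf X = R.P i := rfl
  rw [hRP]
  apply le_antisymm
  · intro x hx
    rcases (R.memP i x).1 hx with h | ⟨b, hb, c, hc, rfl⟩
    · exact (le_sup_left : Q.B ≤ _) h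
    · exact mul_mem (mul_mem ((le_sup_left : Q.B ≤ _) hb)
        ((le_sup_right : closure {R.n i} ≤ _) (subset_closure rfl))) ((le_sup_left : Q.B ≤ _) hc)
  · refine sup_le (R.B_le i) ?_
    rw [Subgroup.closure_le, Set.singleton_subset_iff]
    exact R.n_mem i

/-- **PATH and BRAID give a generalised polygon.** -/
theorem exists_polygon {m : ℕ} (hbr : D.frame.Braid m) (hm : 1 ≤ m) (hp : ∀ k < m, D.frame.PathTo k)
    {I : Type*} {R : I → Subgroup G} {a b : I} (ha : R a = P false) (hb : R b = P true) :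
    ∃ k, 2 ≤ k ∧ Polygon B R a b k ∧
      (3 ≤ k ↔ n false * n true * (n false)⁻¹ * (n true)⁻¹ ∉ B) := by
  obtain ⟨Q, s, hB, hS, hne, hs, hP⟩ := D.exists_bnPair hbr hm hp
  generalize hX0 : P false ⊔ P true = X at Q s hB hS hne hs hP
  obtain ⟨k, h2, hr, hbk, hlt⟩ := LieRecognition.FeitHigmanGroup.exists_max_red hS hne
  have hs0 : s false ∈ Q.S := by rw [hS]; simp
  have hs1 : s true ∈ Q.S := by rw [hS]; simp
  have hpol : Polygon Q.B (fun i => (R i).subgroupOf X) a b k := by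
    refine polygon_of_red hs0 hs1 ?_ ?_ hr hbk
    · show (R a).subgroupOf X = _
      rw [ha]; exact hP false
    · show (R b).subgroupOf X = _
      rw [hb]; exact hP true
  have hPX : ∀ i, i = a ∨ i = b → R i ≤ X := by
    rintro i (rfl | rfl)
    · rw [ha, ← hX0]; exact le_sup_left
    · rw [hb, ← hX0]; exact le_sup_right
  have hBR : ∀ i, i = a ∨ i = b → B ≤ R i := by
    rintro i (rfl | rfl)
    · rw [ha]; exact D.le false
    · rw [hb]; exact D.le true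
  have hlink : Link B R a b Q.B (fun i => (R i).subgroupOf X)
      (fun g e => ∃ h : g ∈ X, ((MonoidHom.id X) ⟨g, h⟩)⁻¹ * (MonoidHom.id X) e ∈ Q.B) := by
    refine link_of_hom X (MonoidHom.id X) (MonoidHom.id X) Q.B (fun i => (R i).subgroupOf X) hPX ?_ ?_ ?_ ?_ ?_ ?_ ?_
    · intro x
      rw [hB]; exact Iff.rfl
    · intro i _ x
      exact Iff.rfl
    · intro e; exact Iff.rfl
    · intro i _ e; exact Iff.rfl
    · intro i hi x hx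
      rw [hB] at hx
      exact hBR i hi hx
    · intro e; exact ⟨e, rfl⟩
    · intro i _ y _
      exact ⟨y, 1, one_mem _, by simp⟩
  refine ⟨k, h2, hlink.polygon hpol, ?_⟩
  -- the commutator of the reflections
  have e : (LieRecognition.FeitHigmanGroup.alt 2 (s false) (s true))⁻¹ *
      LieRecognition.FeitHigmanGroup.alt 2 (s true) (s false) =
      (s true)⁻¹ * (s false)⁻¹ * s true * s false := by
    simp only [LieRecognition.FeitHigmanGroup.alt_succ, LieRecognition.FeitHigmanGroup.alt_zero, mul_one]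
    group
  have hst : s false * s true ∈ Q.N := mul_mem (mem_N hs0) (mem_N hs1)
  have hts : s true * s false ∈ Q.N := mul_mem (mem_N hs1) (mem_N hs0)
  have key : s false * s true * (s false)⁻¹ * (s true)⁻¹ ∈ Q.B ↔
      (s true)⁻¹ * (s false)⁻¹ * s true * s false ∈ Q.B := by
    constructor
    · intro h1
      have h3 : s false * s true * (s false)⁻¹ * (s true)⁻¹ ∈ Q.N :=
        mul_mem (mul_mem hst (inv_mem (mem_N hs0))) (inv_mem (mem_N hs1))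
      have h4 := conj_mem_inv (P := Q) hts h1 h3
      have h5 := inv_mem h4
      have e1 : ((s true * s false)⁻¹ * (s false * s true * (s false)⁻¹ * (s true)⁻¹) *
          (s true * s false))⁻¹ = (s true)⁻¹ * (s false)⁻¹ * s true * s false := by group
      rwa [e1] at h5
    · intro h1
      have h3 : (s true)⁻¹ * (s false)⁻¹ * s true * s false ∈ Q.N :=
        mul_mem (mul_mem (mul_mem (inv_mem (mem_N hs1)) (inv_mem (mem_N hs0)))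
        (mem_N hs1)) (mem_N hs0)
      have h4 := conj_mem' (P := Q) hts h1 h3
      have h5 := inv_mem h4
      have e1 : (s true * s false * ((s true)⁻¹ * (s false)⁻¹ * s true * s false) *
          (s true * s false)⁻¹)⁻¹ = s false * s true * (s false)⁻¹ * (s true)⁻¹ := by group
      rwa [e1] at h5
  have hcoe : n false * n true * (n false)⁻¹ * (n true)⁻¹ ∈ B ↔
      s false * s true * (s false)⁻¹ * (s true)⁻¹ ∈ Q.B := by
    rw [hB, Subgroup.mem_subgroupOf]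
    push_cast
    rw [hs, hs]
  rw [hcoe, key]
  constructor
  · intro h3 h4
    exact hlt 2 (by omega) (by omega) (by rw [e]; exact h4)
  · intro h3
    by_contra h4
    obtain rfl : k = 2 := by omega
    rw [e] at hbk
    exact h3 hbk

end Duo

end Cfsg.Agent.Omega.HOne.End

end

section


/-!
# II.0h1, END: braid relations from a kernel which is central modulo a subgroup of the Borel subgroup

`CenMod L C J`: `C` and `J` are normal in `L` and `C / J` is central.  `braid_three`, `braid_four`: the braid relations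
of length three and four in a `RankTwoClose.Frame` from relations which are known modulo `C`.
-/

set_option autoImplicit false

namespace Cfsg.Agent.Omega.HOne.End

open Subgroup Cfsg.Agent.RankTwoClose
open scoped commutatorElement

variable {G : Type*} [Group G]

/-- `C` is normal in `L` and central modulo the normal subgroup `J` of `L`. -/
structure CenMod (L C J : Subgroup G) : Prop where
  C_le : C ≤ L
  J_le : J ≤ L
  J_norm : ∀ x ∈ L, ∀ c ∈ J, x * c * x⁻¹ ∈ J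
  comm : ∀ x ∈ L, ∀ c ∈ C, x * c * x⁻¹ * c⁻¹ ∈ J

namespace CenMod

variable {L C J : Subgroup G} (h : CenMod L C J)

include h

theorem comm_inv {x c : G} (hx : x ∈ L) (hc : c ∈ C) : x * c⁻¹ * x⁻¹ * c ∈ J := by
  have := h.comm x hx c⁻¹ (inv_mem hc)
  rwa [inv_inv] at this

theorem norm' {x c : G} (hx : x ∈ L) (hc : c ∈ J) : x⁻¹ * c * x ∈ J := by
  have := h.J_norm x⁻¹ (inv_mem hx) c hc
  rwa [inv_inv] at this

/-- Commutators do not change modulo `J` if the entries are multiplied by elements of `C`. -/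
theorem commutator_mul {c c' d d' : G} (hc : c ∈ C) (hc' : c' ∈ C) (hd : d ∈ L) (hd' : d' ∈ L) :
    ⁅c * d, c' * d'⁆ * ⁅d, d'⁆⁻¹ ∈ J := by
  have hcL := h.C_le hc
  have hcL' := h.C_le hc'
  have j1 := h.comm d hd c' hc'
  have j2 := h.comm_inv (x := d * d' * d⁻¹) (mul_mem (mul_mem hd hd') (inv_mem hd)) hc
  have j3 := h.comm_inv (x := ⁅d, d'⁆) (by
    rw [commutatorElement_def]
    exact mul_mem (mul_mem (mul_mem hd hd') (inv_mem hd)) (inv_mem hd')) hc'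
  have j4 := h.comm c hcL c' hc'
  have k1 := h.J_norm c hcL _ j1
  have k2 := h.J_norm (c * c') (mul_mem hcL hcL') _ j2
  have k3 := h.J_norm (c * c' * c⁻¹) (mul_mem (mul_mem hcL hcL') (inv_mem hcL)) _ j3
  have := mul_mem (mul_mem (mul_mem k1 k2) k3) j4
  have e : c * (d * c' * d⁻¹ * c'⁻¹) * c⁻¹ *
      (c * c' * (d * d' * d⁻¹ * c⁻¹ * (d * d' * d⁻¹)⁻¹ * c) * (c * c')⁻¹) *
      (c * c' * c⁻¹ * (⁅d, d'⁆ * c'⁻¹ * ⁅d, d'⁆⁻¹ * c') * (c * c' * c⁻¹)⁻¹) *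
      (c * c' * c⁻¹ * c'⁻¹) = ⁅c * d, c' * d'⁆ * ⁅d, d'⁆⁻¹ := by
    simp only [commutatorElement_def]
    group
  rwa [e] at this

/-- `C` is normal in `L` if `J ≤ C`. -/
theorem C_norm (hJ : J ≤ C) {x c : G} (hx : x ∈ L) (hc : c ∈ C) : x * c * x⁻¹ ∈ C := by
  have := mul_mem (hJ (h.comm x hx c hc)) hc
  rwa [inv_mul_cancel_right] at this

theorem commutator_sup (hJ : J ≤ C) {D : Subgroup G} (hD : D ≤ L) : ⁅D ⊔ C, D ⊔ C⁆ ≤ ⁅D, D⁆ ⊔ J := by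
  have hn : D ≤ normalizer (C : Set G) := by
    intro x hx
    rw [Subgroup.mem_normalizer_iff]
    intro c
    refine ⟨h.C_norm hJ (hD hx), fun hc => ?_⟩
    have := h.C_norm hJ (inv_mem (hD hx)) hc
    have e : x⁻¹ * (x * c * x⁻¹) * x⁻¹⁻¹ = c := by group
    rwa [e] at this
  rw [Subgroup.commutator_le]
  intro x hx y hy
  obtain ⟨c, hc, d, hd, rfl⟩ := Solvable.Glauberman.exists_mul_of_mem_sup D C hn hx
  obtain ⟨c', hc', d', hd', rfl⟩ := Solvable.Glauberman.exists_mul_of_mem_sup D C hn hy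
  have h1 := h.commutator_mul hc hc' (hD hd) (hD hd')
  have h2 : ⁅d, d'⁆ ∈ ⁅D, D⁆ := Subgroup.commutator_mem_commutator hd hd'
  have h3 := mul_mem ((le_sup_right : J ≤ ⁅D, D⁆ ⊔ J) h1) ((le_sup_left : ⁅D, D⁆ ≤ _ ⊔ J) h2)
  rwa [inv_mul_cancel_right] at h3

/-- If `t` centralises the perfect group `M` modulo `C`, then it centralises it modulo `J`. -/
theorem perfect {M : Subgroup G} (hM : M ≤ L) (hp : ⁅M, M⁆ = M) {t : G} (_ : t ∈ L)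
    (hc : ∀ m ∈ M, t * m * t⁻¹ * m⁻¹ ∈ C) {m : G} (hm : m ∈ M) : t * m * t⁻¹ * m⁻¹ ∈ J := by
  let K : Subgroup G :=
    { carrier := {x | x ∈ L ∧ t * x * t⁻¹ * x⁻¹ ∈ J}
      one_mem' := ⟨one_mem _, by simp⟩
      mul_mem' := by
        rintro a b ⟨ha, ha'⟩ ⟨hb, hb'⟩
        refine ⟨mul_mem ha hb, ?_⟩
        have h1 := mul_mem ha' (h.J_norm a ha _ hb')
        have e : t * a * t⁻¹ * a⁻¹ * (a * (t * b * t⁻¹ * b⁻¹) * a⁻¹) = t * (a * b) * t⁻¹ * (a * b)⁻¹ := by group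
        rwa [e] at h1
      inv_mem' := by
        rintro a ⟨ha, ha'⟩
        refine ⟨inv_mem ha, ?_⟩
        have h1 := h.norm' ha (inv_mem ha')
        have e : a⁻¹ * (t * a * t⁻¹ * a⁻¹)⁻¹ * a = t * a⁻¹ * t⁻¹ * a⁻¹⁻¹ := by group
        rwa [e] at h1 }
  have key : ⁅M, M⁆ ≤ K := by
    rw [Subgroup.commutator_le]
    intro x hx y hy
    have hxL := hM hx
    have hyL := hM hy
    refine ⟨by
      rw [commutatorElement_def]
      exact mul_mem (mul_mem (mul_mem hxL hyL) (inv_mem hxL)) (inv_mem hyL), ?_⟩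
    have h1 := h.commutator_mul (hc x hx) (hc y hy) hxL hyL
    have e : ⁅t * x * t⁻¹ * x⁻¹ * x, t * y * t⁻¹ * y⁻¹ * y⁆ * ⁅x, y⁆⁻¹ = t * ⁅x, y⁆ * t⁻¹ * ⁅x, y⁆⁻¹ := by
      simp only [commutatorElement_def]
      group
    rwa [e] at h1
  rw [hp] at key
  exact (key hm).2

end CenMod

/-- `Bf` : a subgroup of `B` normalised by the reflections (the elements of `B` fixing the whole frame). -/
structure FixPart (F : Frame G) (Bf : Subgroup G) : Prop where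
  le : Bf ≤ F.B
  norm : ∀ i, F.n i ∈ normalizer (Bf : Set G)

namespace FixPart

variable {F : Frame G} {Bf : Subgroup G} (hf : FixPart F Bf)

include hf

theorem conj (i : Bool) {b : G} (hb : b ∈ Bf) : F.n i * b * (F.n i)⁻¹ ∈ Bf :=
  (Subgroup.mem_normalizer_iff.1 (hf.norm i) b).1 hb

theorem conj' (i : Bool) {b : G} (hb : b ∈ Bf) : (F.n i)⁻¹ * b * F.n i ∈ Bf := by
  have := (Subgroup.mem_normalizer_iff.1 (inv_mem (hf.norm i)) b).1 hb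
  rwa [inv_inv] at this

end FixPart

variable (F : Frame G)

theorem braid_of_conj {m : ℕ} {i : Bool}
    (hm : (alt F.n (!i) m)⁻¹ * F.n i * alt F.n (!i) m ∈ F.P (nxt (!i) m)) : F.Braid (m + 1) :=
  F.braid_of_mem (i := i) (l := F.n i) (by rw [inv_mul_cancel]; exact one_mem _) hm

/-- **The braid relation of length three**: `D ≤ P i` is conjugate, modulo `C`, to `D' ≤ P (!i)` under
`w = n (!i) n i`; `n i` lies in `[D, D] Bf`. -/
theorem braid_three {L C J Bf D D' : Subgroup G} (h : CenMod L C J) (hJC : J ≤ C) (hJ : J ≤ F.B)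
    (hf : FixPart F Bf) (i : Bool) (hD' : D' ≤ F.P (!i)) (hD'L : D' ≤ L)
    (hconj : ∀ x ∈ D, (F.n (!i) * F.n i)⁻¹ * x * (F.n (!i) * F.n i) ∈ D' ⊔ C)
    {l : G} (hl : l ∈ ⁅D, D⁆) (hb : (F.n i)⁻¹ * l ∈ Bf) : F.Braid 3 := by
  have hw : alt F.n (!i) 2 = F.n (!i) * F.n i := by simp [alt_succ]
  apply braid_of_conj F (m := 2) (i := i)
  have hnxt : nxt (!i) 2 = !i := by simp [nxt]
  rw [hnxt, hw]
  set w := F.n (!i) * F.n i with hwdef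
  -- `w⁻¹ l w ∈ P (!i)`
  have h1 : ⁅D, D⁆ ≤ (⁅D' ⊔ C, D' ⊔ C⁆ : Subgroup G).comap (MulAut.conj w⁻¹).toMonoidHom := by
    rw [Subgroup.commutator_le]
    intro x hx y hy
    rw [Subgroup.mem_comap]
    have e : (MulAut.conj w⁻¹).toMonoidHom ⁅x, y⁆ = ⁅w⁻¹ * x * w, w⁻¹ * y * w⁆ := by
      rw [MulEquiv.coe_toMonoidHom, map_commutatorElement, MulAut.conj_apply, MulAut.conj_apply, inv_inv]
    rw [e]
    exact Subgroup.commutator_mem_commutator (hconj x hx) (hconj y hy)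
  have h2 : w⁻¹ * l * w ∈ ⁅D' ⊔ C, D' ⊔ C⁆ := by
    have := h1 hl
    rw [Subgroup.mem_comap] at this
    have e : (MulAut.conj w⁻¹).toMonoidHom l = w⁻¹ * l * w := by
      rw [MulEquiv.coe_toMonoidHom, MulAut.conj_apply, inv_inv]
    rwa [e] at this
  have h3 : w⁻¹ * l * w ∈ F.P (!i) := by
    refine (sup_le ?_ (hJ.trans (F.B_le _))) (h.commutator_sup hJC hD'L h2)
    exact (Subgroup.commutator_le.2 fun x hx y hy => by
      rw [commutatorElement_def]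
      exact mul_mem (mul_mem (mul_mem (hD' hx) (hD' hy)) (inv_mem (hD' hx))) (inv_mem (hD' hy)))
  -- `w⁻¹ b w ∈ B`
  have h4 : w⁻¹ * ((F.n i)⁻¹ * l) * w ∈ F.B := by
    have := hf.le (hf.conj' i (hf.conj' (!i) hb))
    have e : (F.n i)⁻¹ * ((F.n (!i))⁻¹ * ((F.n i)⁻¹ * l) * F.n (!i)) * F.n i =
        w⁻¹ * ((F.n i)⁻¹ * l) * w := by rw [hwdef]; group
    rwa [e] at this
  have h5 := mul_mem h3 (F.B_le (!i) (inv_mem h4))
  have e : w⁻¹ * l * w * (w⁻¹ * ((F.n i)⁻¹ * l) * w)⁻¹ = w⁻¹ * F.n i * w := by group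
  rwa [e] at h5

/-- **The braid relation of length four**: `M ≤ P i` perfect, `l ∈ M` represents the reflection `n i`, and the
conjugate of `l` under `n (!i)` centralises `M` modulo `C`. -/
theorem braid_four {L C J Bf M : Subgroup G} (h : CenMod L C J) (hJ : J ≤ F.B)
    (hf : FixPart F Bf) (i : Bool) (hM : M ≤ F.P i) (hML : M ≤ L) (hp : ⁅M, M⁆ = M)
    {l : G} (hl : l ∈ M) (hb : (F.n i)⁻¹ * l ∈ Bf) (hsq : F.n (!i) * F.n (!i) ∈ Bf)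
    (hlL : (F.n (!i))⁻¹ * l * F.n (!i) ∈ L)
    (hcomm : ∀ m ∈ M, ((F.n (!i))⁻¹ * l * F.n (!i)) * m * ((F.n (!i))⁻¹ * l * F.n (!i))⁻¹ * m⁻¹ ∈ C) :
    F.Braid 4 := by
  have hw : alt F.n (!i) 3 = F.n (!i) * (F.n i * F.n (!i)) := by simp [alt_succ]
  apply braid_of_conj F (m := 3) (i := i)
  have hnxt : nxt (!i) 3 = i := by simp [nxt]
  rw [hnxt, hw]
  set s := F.n (!i) with hs
  set t := F.n i with ht
  set l' := s⁻¹ * l * s with hl'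
  have h1 : l' * l * l'⁻¹ * l⁻¹ ∈ J := h.perfect hML hp hlL hcomm hl
  -- `l'⁻¹ l l' ∈ P i`
  have h2 : l'⁻¹ * l * l' ∈ F.P i := by
    have h3 := F.B_le i (hJ (h.norm' hlL h1))
    -- `l'⁻¹ (l' l l'⁻¹ l⁻¹) l' = l l'⁻¹ l⁻¹ l'`
    have h4 := mul_mem (inv_mem h3) (hM hl)
    have e : (l'⁻¹ * (l' * l * l'⁻¹ * l⁻¹) * l')⁻¹ * l = l'⁻¹ * l * l' := by group
    rwa [e] at h4
  -- conjugation by `l'` maps `Bf` into `Bf`
  have hBf : ∀ b ∈ Bf, l'⁻¹ * b * l' ∈ Bf := by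
    intro b hb'
    have k1 := (Subgroup.mem_normalizer_iff.1 (hf.norm (!i)) b).1 hb'
    have k2 := hf.conj' i k1
    have k3 := mul_mem (mul_mem (inv_mem hb) k2) hb
    have k4 := hf.conj' (!i) k3
    have e : (F.n (!i))⁻¹ * (((F.n i)⁻¹ * l)⁻¹ * ((F.n i)⁻¹ * (F.n (!i) * b * (F.n (!i))⁻¹) * F.n i) *
        ((F.n i)⁻¹ * l)) * F.n (!i) = l'⁻¹ * b * l' := by rw [hl', hs]; group
    rwa [e] at k4
  -- `w = s² l' b'`
  have hb' : s⁻¹ * ((t⁻¹ * l)⁻¹) * s ∈ Bf := hf.conj' (!i) (inv_mem hb)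
  set b' := s⁻¹ * ((t⁻¹ * l)⁻¹) * s with hb'def
  have hwe : s * (t * s) = s * s * l' * b' := by rw [hb'def, hl']; group
  -- `y = t⁻¹ (s²)⁻¹ t s²`
  have hy : t⁻¹ * (s * s)⁻¹ * t * (s * s) ∈ Bf := mul_mem (hf.conj' i (inv_mem hsq)) hsq
  have h5 := hBf _ (mul_mem (inv_mem hb) hy)
  have h6 := mul_mem (mul_mem (F.B_le i (hf.le (inv_mem hb'))) (mul_mem h2 (F.B_le i (hf.le h5))))
    (F.B_le i (hf.le hb'))
  have e : b'⁻¹ * (l'⁻¹ * l * l' * (l'⁻¹ * ((t⁻¹ * l)⁻¹ * (t⁻¹ * (s * s)⁻¹ * t * (s * s))) * l')) * b' =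
      (s * (t * s))⁻¹ * t * (s * (t * s)) := by
    rw [hwe]
    group
  rwa [e] at h6

end Cfsg.Agent.Omega.HOne.End

end

section


/-!
# II.0h1, END: the residue of type A2

`Pl`: the points of `N` and their `κ`-conjugates form an `L`-invariant family `Ω`; this determines the groups of
elations of the frame `R₁, R₂, R₃` modulo the kernel `C`, and gives the braid relation of length three.
-/

set_option autoImplicit false

namespace Cfsg.Agent.Omega.HOne.End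

open Subgroup Cfsg.Agent.RankTwoClose
open scoped commutatorElement

variable {G : Type*} [Group G]

/-- The conjugate `g⁻¹ A g`. -/
def rc (A : Subgroup G) (g : G) : Subgroup G := A.comap (MulAut.conj g).toMonoidHom

theorem mem_rc {A : Subgroup G} {g x : G} : x ∈ rc A g ↔ g * x * g⁻¹ ∈ A := Iff.rfl

theorem rc_rc (A : Subgroup G) (g h : G) : rc (rc A g) h = rc A (g * h) := by
  ext x
  rw [mem_rc, mem_rc, mem_rc]
  have e : g * (h * x * h⁻¹) * g⁻¹ = g * h * x * (g * h)⁻¹ := by group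
  rw [e]

@[simp] theorem rc_one (A : Subgroup G) : rc A 1 = A := by
  ext x; rw [mem_rc]; simp

theorem rc_mono {A A' : Subgroup G} (h : A ≤ A') (g : G) : rc A g ≤ rc A' g := fun _ hx => h hx

theorem rc_inj {A A' : Subgroup G} {g : G} (h : rc A g = rc A' g) : A = A' := by
  have := congrArg (fun K => rc K g⁻¹) h
  simpa [rc_rc] using this

theorem rc_bot (g : G) : rc (⊥ : Subgroup G) g = ⊥ := by
  ext x
  rw [mem_rc, Subgroup.mem_bot, Subgroup.mem_bot]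
  constructor
  · intro h
    have e : x = g⁻¹ * (g * x * g⁻¹) * g := by group
    rw [e, h]; group
  · rintro rfl; group

theorem mem_rc_conj {A : Subgroup G} {g x : G} (hx : x ∈ A) : g⁻¹ * x * g ∈ rc A g := by
  rw [mem_rc]
  have e : g * (g⁻¹ * x * g) * g⁻¹ = x := by group
  rwa [e]

theorem rc_sup (A A' : Subgroup G) (g : G) : rc (A ⊔ A') g = rc A g ⊔ rc A' g := by
  apply le_antisymm
  · intro x hx
    rw [mem_rc] at hx
    have key : A ⊔ A' ≤ rc (rc A g ⊔ rc A' g) g⁻¹ := by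
      refine sup_le (fun y hy => ?_) (fun y hy => ?_)
      · exact (rc_mono (le_sup_left : rc A g ≤ rc A g ⊔ rc A' g) g⁻¹) (by rw [rc_rc]; simpa using hy)
      · exact (rc_mono (le_sup_right : rc A' g ≤ rc A g ⊔ rc A' g) g⁻¹) (by rw [rc_rc]; simpa using hy)
    have := key hx
    rw [mem_rc] at this
    have e : g⁻¹ * (g * x * g⁻¹) * g⁻¹⁻¹ = x := by group
    rwa [e] at this
  · exact sup_le (rc_mono le_sup_left g) (rc_mono le_sup_right g)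

theorem rc_eq_of_mem_normalizer {A : Subgroup G} {g : G} (h : g ∈ normalizer (A : Set G)) : rc A g = A := by
  ext x
  rw [mem_rc]
  exact (Subgroup.mem_normalizer_iff.1 h x).symm

theorem mem_normalizer_of_rc_eq {A : Subgroup G} {g : G} (h : rc A g = A) : g ∈ normalizer (A : Set G) := by
  rw [Subgroup.mem_normalizer_iff]
  intro x
  have : x ∈ rc A g ↔ x ∈ A := by rw [h]
  exact this.symm

/-- `g` centralises `A`. -/
def Ce (A : Subgroup G) (g : G) : Prop := ∀ r ∈ A, g * r = r * g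

theorem Ce.conj {A : Subgroup G} {g : G} (h : Ce A g) (k : G) : Ce (rc A k) (k⁻¹ * g * k) := by
  intro r hr
  have h1 := h _ hr
  have e1 : k⁻¹ * g * k * r = k⁻¹ * (g * (k * r * k⁻¹)) * k := by group
  have e2 : r * (k⁻¹ * g * k) = k⁻¹ * ((k * r * k⁻¹) * g) * k := by group
  rw [e1, e2]
  exact congrArg (fun z => k⁻¹ * z * k) h1

theorem Ce.mul {A : Subgroup G} {g h : G} (hg : Ce A g) (hh : Ce A h) : Ce A (g * h) := by
  intro r hr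
  rw [mul_assoc, hh r hr, ← mul_assoc, hg r hr, mul_assoc]

theorem Ce.inv {A : Subgroup G} {g : G} (hg : Ce A g) : Ce A g⁻¹ := by
  intro r hr
  have := hg r hr
  calc g⁻¹ * r = g⁻¹ * (r * g) * g⁻¹ := by group
    _ = g⁻¹ * (g * r) * g⁻¹ := by rw [this]
    _ = r * g⁻¹ := by group

theorem Ce.rc_eq {A : Subgroup G} {g : G} (hg : Ce A g) : rc A g = A := by
  ext x
  rw [mem_rc]
  constructor
  · intro h
    have h1 := hg.inv _ h
    have e : g⁻¹ * (g * x * g⁻¹) = x * g⁻¹ := by group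
    rw [e] at h1
    have h2 : x = g * x * g⁻¹ := by
      have := congrArg (· * g) h1
      simpa [mul_assoc] using this
    rwa [h2]
  · intro h
    rw [hg x h, mul_inv_cancel_right]
    exact h

/-- `g` is an elation: it centralises `A` and `D` and moves `B` inside `A B`. -/
structure Mv (L A B D : Subgroup G) (g : G) : Prop where
  mem : g ∈ L
  fixA : Ce A g
  fixD : Ce D g
  move : ∀ r ∈ B, r⁻¹ * (g⁻¹ * r * g) ∈ A

theorem Mv.conj {L A B D : Subgroup G} {g : G} (h : Mv L A B D g) {k : G} (hk : k ∈ normalizer (L : Set G)) :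
    Mv L (rc A k) (rc B k) (rc D k) (k⁻¹ * g * k) where
  mem := by
    have := (Subgroup.mem_normalizer_iff.1 (inv_mem hk) g).1 h.mem
    rwa [inv_inv] at this
  fixA := h.fixA.conj k
  fixD := h.fixD.conj k
  move := by
    intro r hr
    rw [mem_rc] at hr ⊢
    have := h.move _ hr
    have e : (k * r * k⁻¹)⁻¹ * (g⁻¹ * (k * r * k⁻¹) * g) =
        k * (r⁻¹ * ((k⁻¹ * g * k)⁻¹ * r * (k⁻¹ * g * k))) * k⁻¹ := by group
    rwa [e] at this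

/-- **Elations modulo the kernel.** -/
theorem Mv.mem_mul {L A B D Y : Subgroup G} {Ω : Set (Subgroup G)}
    (hΩ : ∀ g ∈ L, ∀ p ∈ Ω, rc p g ∈ Ω) (hB : B ∈ Ω) (hAB : A ⊓ B = ⊥) (hA : A ≠ ⊥)
    (hY : ∀ y ∈ Y, Mv L A B D y)
    (htr : ∀ p ∈ Ω, p ≤ A ⊔ B → p ≠ A → ∃ y ∈ Y, rc p y = B) {g : G} (hg : Mv L A B D g) :
    ∃ y ∈ Y, ∃ c ∈ L, Ce A c ∧ Ce B c ∧ Ce D c ∧ g = c * y := by
  have h1 : rc B g ≤ A ⊔ B := by
    intro x hx
    rw [mem_rc] at hx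
    have h2 := hg.move _ hx
    have h3 : (g * x * g⁻¹) * ((g * x * g⁻¹)⁻¹ * (g⁻¹ * (g * x * g⁻¹) * g)) = x := by group
    rw [← h3]
    exact mul_mem (Subgroup.mem_sup_right hx) (Subgroup.mem_sup_left h2)
  have h2 : rc B g ≠ A := by
    intro h3
    have h4 : rc A g = A := hg.fixA.rc_eq
    have h5 : B = A := rc_inj (h3.trans h4.symm)
    rw [h5, inf_idem] at hAB
    exact hA hAB
  obtain ⟨y, hy, hyB⟩ := htr _ (hΩ g hg.mem B hB) h1 h2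
  have hyM := hY y hy
  refine ⟨y⁻¹, inv_mem hy, g * y, mul_mem hg.mem hyM.mem, hg.fixA.mul hyM.fixA, ?_, hg.fixD.mul hyM.fixD, by group⟩
  rw [rc_rc] at hyB
  intro r hr
  -- `r⁻¹ (gy)⁻¹ r (gy) ∈ A ∩ B`
  have h3 : (g * y)⁻¹ * r * (g * y) ∈ B := by
    have h4 := mem_rc_conj (g := g * y) hr
    rwa [hyB] at h4
  have h5 : r⁻¹ * ((g * y)⁻¹ * r * (g * y)) ∈ A := by
    have h6 := hg.move r hr
    -- `y⁻¹ (g⁻¹ r g) y = y⁻¹ r (r⁻¹ g⁻¹ r g) y`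
    have h7 := hyM.move r hr
    have h8 := hyM.fixA.inv _ h6
    have e : r⁻¹ * ((g * y)⁻¹ * r * (g * y)) = (r⁻¹ * (y⁻¹ * r * y)) * (y⁻¹ * (r⁻¹ * (g⁻¹ * r * g)) * y) := by
      group
    rw [e, h8, inv_mul_cancel_right]
    exact mul_mem h7 h6
  have h9 : r⁻¹ * ((g * y)⁻¹ * r * (g * y)) ∈ A ⊓ B := Subgroup.mem_inf.2 ⟨h5, mul_mem (inv_mem hr) h3⟩
  rw [hAB, Subgroup.mem_bot] at h9
  have h10 : (g * y)⁻¹ * r * (g * y) = r := by
    have := congrArg (r * ·) h9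
    simpa using this
  have h11 := congrArg ((g * y) * ·) h10
  have e : (g * y) * ((g * y)⁻¹ * r * (g * y)) = r * (g * y) := by group
  rw [← e]
  exact h11.symm ▸ rfl

/-- The stabiliser of a family of subgroups. -/
def StO (Ω : Set (Subgroup G)) : Subgroup G where
  carrier := {b | ∀ q, rc q b ∈ Ω ↔ q ∈ Ω}
  one_mem' := fun q => by simp
  mul_mem' := fun {a b} ha hb q => by rw [← rc_rc, hb, ha]
  inv_mem' := fun {a} ha q => by rw [← ha (rc q a⁻¹), rc_rc, inv_mul_cancel, rc_one]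

theorem mem_StO {Ω : Set (Subgroup G)} {b : G} : b ∈ StO Ω ↔ ∀ q, rc q b ∈ Ω ↔ q ∈ Ω := Iff.rfl

theorem mem_StO_of {Ω : Set (Subgroup G)} {b : G} (h : ∀ q ∈ Ω, rc q b ∈ Ω) (h' : ∀ q ∈ Ω, rc q b⁻¹ ∈ Ω) :
    b ∈ StO Ω := by
  intro q
  refine ⟨fun hq => ?_, h q⟩
  have := h' _ hq
  rwa [rc_rc, mul_inv_cancel, rc_one] at this

theorem mem_StO_of_finite [Finite G] {Ω : Set (Subgroup G)} {b : G} (h : ∀ q ∈ Ω, rc q b ∈ Ω) : b ∈ StO Ω := by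
  refine mem_StO_of h ?_
  have h1 : ∀ n : ℕ, ∀ q ∈ Ω, rc q (b ^ n) ∈ Ω := by
    intro n
    induction n with
    | zero => intro q hq; simpa using hq
    | succ n ih => intro q hq; rw [pow_succ, ← rc_rc]; exact h _ (ih q hq)
  have e : b⁻¹ = b ^ (orderOf b - 1) := by
    rw [inv_eq_iff_mul_eq_one, ← pow_succ', Nat.sub_add_cancel (orderOf_pos b), pow_orderOf_eq_one]
  rw [e]
  exact h1 _

/-- The local data for a residue of type A2: `pts` = the points of `N`, `κ` = the perfect group of the node `j`. -/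
structure Pl (L κ Pf U₁ U₂ : Subgroup G) (pts : Set (Subgroup G)) (R₁ R₂ R₃ : Subgroup G) (n₁ n₂ : G) : Prop where
  /-- `L` is generated by `κ`, a group `Pf` fixing `N` and normalising `κ`, and `n₁` -/
  gen : L ≤ (Pf ⊔ κ) ⊔ zpowers n₁
  Pf_norm : ∀ b ∈ Pf, ∀ k ∈ κ, b⁻¹ * k * b ∈ κ
  Pf_pts : ∀ b ∈ Pf, ∀ p ∈ pts, rc p b ∈ pts
  n₁_pts : ∀ p ∈ pts, rc p n₁ ∈ pts
  U₁_le : U₁ ≤ Pf
  U₂_le : U₂ ≤ Pf
  U₁_n₁ : rc U₁ n₁ = U₂
  U₂_n₁ : rc U₂ n₁ = U₁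
  R₁_n₁ : rc R₁ n₁ = R₂
  R₂_n₁ : rc R₂ n₁ = R₁
  R₃_n₁ : rc R₃ n₁ = R₃
  mem₁ : R₁ ∈ pts
  mem₂ : R₂ ∈ pts
  /-- `κ` moves `N` to `N` or, up to `U₂`, to `N n₂` -/
  line : ∀ k ∈ κ, (∀ p ∈ pts, rc p k ∈ pts) ∨ ∃ u ∈ U₂, ∀ p ∈ pts, ∃ p' ∈ pts, rc p (k * u) = rc p' n₂
  /-- `U₁` is transitive on the points `≠ R₁` of `N n₂` -/
  point : ∀ p ∈ pts, rc p n₂ = R₁ ∨ ∃ u ∈ U₁, rc (rc p n₂) u = R₃
  n₂_mem : n₂ ∈ κ ⊔ Pf
  R₁_n₂ : rc R₁ n₂ = R₁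
  R₂_n₂ : rc R₂ n₂ = R₃
  R₃_n₂ : rc R₃ n₂ = R₂
  /-- `N` -/
  N_Y : ∀ b ∈ U₁ ⊔ U₂, rc (R₁ ⊔ R₂) b = R₁ ⊔ R₂
  R₃_not : ¬ R₃ ≤ R₁ ⊔ R₂

namespace Pl

variable {L κ Pf U₁ U₂ : Subgroup G} {pts : Set (Subgroup G)} {R₁ R₂ R₃ : Subgroup G} {n₁ n₂ : G}
  (D : Pl L κ Pf U₁ U₂ pts R₁ R₂ R₃ n₁ n₂)

/-- All points of the plane. -/
def Om (κ : Subgroup G) (pts : Set (Subgroup G)) : Set (Subgroup G) := {q | ∃ p ∈ pts, ∃ k ∈ κ, q = rc p k}

theorem pts_sub {p : Subgroup G} (hp : p ∈ pts) : p ∈ Om κ pts := ⟨p, hp, 1, one_mem _, by simp⟩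

theorem Om_κ {k : G} (hk : k ∈ κ) {q : Subgroup G} (hq : q ∈ Om κ pts) : rc q k ∈ Om κ pts := by
  obtain ⟨p, hp, k', hk', rfl⟩ := hq
  exact ⟨p, hp, k' * k, mul_mem hk' hk, rc_rc _ _ _⟩

include D

theorem Om_Pf {b : G} (hb : b ∈ Pf) {q : Subgroup G} (hq : q ∈ Om κ pts) : rc q b ∈ Om κ pts := by
  obtain ⟨p, hp, k, hk, rfl⟩ := hq
  refine ⟨rc p b, D.Pf_pts b hb p hp, b⁻¹ * k * b, D.Pf_norm b hb k hk, ?_⟩
  rw [rc_rc, rc_rc]
  congr 1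
  group

theorem Om_sup {b : G} (hb : b ∈ κ ⊔ Pf) {q : Subgroup G} (hq : q ∈ Om κ pts) : rc q b ∈ Om κ pts := by
  have key : κ ⊔ Pf ≤ StO (Om κ pts) := by
    refine sup_le (fun b hb => mem_StO_of (fun q hq => Om_κ hb hq) (fun q hq => Om_κ (inv_mem hb) hq))
      (fun b hb => mem_StO_of (fun q hq => D.Om_Pf hb hq) (fun q hq => D.Om_Pf (inv_mem hb) hq))
  exact (key hb q).2 hq

theorem R₃_mem : R₃ ∈ Om κ pts := by
  rw [← D.R₂_n₂]
  exact D.Om_sup D.n₂_mem (pts_sub D.mem₂)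

/-- The points outside `N` are conjugate to `R₃` under `Y = U₁ U₂`. -/
theorem cases {q : Subgroup G} (hq : q ∈ Om κ pts) : q ∈ pts ∨ ∃ y ∈ U₁ ⊔ U₂, rc q y = R₃ := by
  obtain ⟨p, hp, k, hk, rfl⟩ := hq
  rcases D.line k hk with h | ⟨u, hu, h⟩
  · exact Or.inl (h p hp)
  · obtain ⟨p', hp', e⟩ := h p hp
    rcases D.point p' hp' with h1 | ⟨v, hv, h1⟩
    · -- `rc p (k u) = R₁`
      left
      rw [h1] at e
      have e2 : rc p k = rc R₁ u⁻¹ := by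
        rw [← e, rc_rc]; congr 1; group
      rw [e2]
      exact D.Pf_pts _ (D.U₂_le (inv_mem hu)) _ D.mem₁
    · right
      refine ⟨u * v, mul_mem (Subgroup.mem_sup_right hu) (Subgroup.mem_sup_left hv), ?_⟩
      rw [rc_rc, ← mul_assoc, ← rc_rc, e, h1]

theorem Om_n₁ {q : Subgroup G} (hq : q ∈ Om κ pts) : rc q n₁ ∈ Om κ pts := by
  rcases D.cases hq with h | ⟨y, hy, h⟩
  · exact pts_sub (D.n₁_pts q h)
  · -- `rc q n₁ = rc R₃ (y⁻¹ n₁) = rc R₃ (n₁⁻¹ y⁻¹ n₁)`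
    have hY : n₁⁻¹ * y⁻¹ * n₁ ∈ U₁ ⊔ U₂ := by
      have h1 : rc (U₁ ⊔ U₂) n₁ = U₁ ⊔ U₂ := by rw [rc_sup, D.U₁_n₁, D.U₂_n₁, sup_comm]
      have h2 := mem_rc_conj (g := n₁) (inv_mem hy)
      rwa [h1] at h2
    have hYPf : n₁⁻¹ * y⁻¹ * n₁ ∈ Pf := (sup_le D.U₁_le D.U₂_le) hY
    have e : rc q n₁ = rc R₃ (n₁⁻¹ * y⁻¹ * n₁) := by
      have e1 : rc R₃ n₁⁻¹ = R₃ := by
        conv_lhs => rw [← D.R₃_n₁]
        rw [rc_rc, mul_inv_cancel, rc_one]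
      rw [mul_assoc, ← rc_rc R₃ n₁⁻¹, e1, ← h, rc_rc]
      congr 1
      group
    rw [e]
    exact D.Om_Pf hYPf D.R₃_mem

/-- **The plane is invariant under `⟨B, κ, n₁⟩`.** -/
theorem Om_all [Finite G] {g : G} (hg : g ∈ (Pf ⊔ κ) ⊔ zpowers n₁) {q : Subgroup G} (hq : q ∈ Om κ pts) :
    rc q g ∈ Om κ pts := by
  have key : (Pf ⊔ κ) ⊔ zpowers n₁ ≤ StO (Om κ pts) := by
    refine sup_le (sup_le (fun b hb => mem_StO_of_finite fun q hq => D.Om_Pf hb hq)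
      (fun b hb => mem_StO_of_finite fun q hq => Om_κ hb hq)) ?_
    rw [Subgroup.zpowers_le]
    exact mem_StO_of_finite fun q hq => D.Om_n₁ hq
  exact (key hg q).2 hq

/-- **The plane is invariant under `L`.** -/
theorem Om_L [Finite G] {g : G} (hg : g ∈ L) {q : Subgroup G} (hq : q ∈ Om κ pts) : rc q g ∈ Om κ pts :=
  D.Om_all (D.gen hg) hq

/-- the points of the plane contained in `N` -/
theorem mem_pts {q : Subgroup G} (hq : q ∈ Om κ pts) (hN : q ≤ R₁ ⊔ R₂) : q ∈ pts := by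
  rcases D.cases hq with h | ⟨y, hy, h⟩
  · exact h
  · exfalso
    apply D.R₃_not
    rw [← h, ← D.N_Y y hy]
    exact rc_mono hN y

/-- `U₂` is transitive on the points `≠ R₂` of `R₂ R₃` -/
theorem trans₂₃ [Finite G] {q : Subgroup G} (hq : q ∈ Om κ pts) (h : q ≤ R₂ ⊔ R₃)
    (hne : q ≠ R₂) : ∃ y ∈ U₂, rc q y = R₃ := by
  have e1 : rc (R₁ ⊔ R₃) n₁ = R₂ ⊔ R₃ := by rw [rc_sup, D.R₁_n₁, D.R₃_n₁]
  have e2 : rc (R₁ ⊔ R₂) n₂ = R₁ ⊔ R₃ := by rw [rc_sup, D.R₁_n₂, D.R₂_n₂]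
  set q1 := rc q n₁⁻¹ with hq1
  have hq1' : rc q1 n₁ = q := by rw [hq1, rc_rc, inv_mul_cancel, rc_one]
  have h1 : q1 ≤ R₁ ⊔ R₃ := by
    have := rc_mono h n₁⁻¹
    rwa [← e1, rc_rc (R₁ ⊔ R₃), mul_inv_cancel, rc_one] at this
  have hq1m : q1 ∈ Om κ pts := D.Om_all (Subgroup.mem_sup_right (inv_mem (Subgroup.mem_zpowers n₁))) hq
  set q2 := rc q1 n₂⁻¹ with hq2
  have hq2' : rc q2 n₂ = q1 := by rw [hq2, rc_rc, inv_mul_cancel, rc_one]
  have h2 : q2 ≤ R₁ ⊔ R₂ := by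
    have := rc_mono h1 n₂⁻¹
    rwa [← e2, rc_rc (R₁ ⊔ R₂), mul_inv_cancel, rc_one] at this
  have hq2m : q2 ∈ pts := D.mem_pts (D.Om_sup (inv_mem D.n₂_mem) hq1m) h2
  rcases D.point q2 hq2m with h3 | ⟨u, hu, h3⟩
  · exfalso
    apply hne
    rw [hq2'] at h3
    rw [← hq1', h3, D.R₁_n₁]
  · rw [hq2'] at h3
    refine ⟨n₁⁻¹ * u * n₁, ?_, ?_⟩
    · have := mem_rc_conj (g := n₁) hu
      rwa [D.U₁_n₁] at this
    · have e : rc q (n₁⁻¹ * u * n₁) = rc (rc q1 u) n₁ := by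
        rw [hq1, rc_rc, rc_rc, mul_assoc]
      rw [e, h3, D.R₃_n₁]

/-- **The braid relation of length three.** -/
theorem braid [Finite G] {F : Frame G} {C J Bf : Subgroup G} {i : Bool} (hi : F.n i = n₁) (hi' : F.n (!i) = n₂)
    (hL : CenMod L C J) (hJC : J ≤ C) (hJ : J ≤ F.B) (hf : FixPart F Bf)
    (hC : ∀ c ∈ L, Ce R₁ c → Ce R₂ c → Ce R₃ c → c ∈ C) (hn₁ : n₁ ∈ normalizer (L : Set G))
    (hn₂ : n₂ ∈ normalizer (L : Set G)) (hCn : rc C n₂ ≤ C)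
    (hU₂B : U₂ ≤ F.B) (hU₂ : ∀ u ∈ U₂, Mv L R₂ R₃ R₁ u) (hsq : rc U₁ (n₂ * n₂) = U₁)
    (h23 : R₂ ⊓ R₃ = ⊥) (hR₂ : R₂ ≠ ⊥)
    {l : G} (hl : l ∈ ⁅rc U₁ n₂ ⊔ rc U₁ (n₂ * n₁), rc U₁ n₂ ⊔ rc U₁ (n₂ * n₁)⁆) (hb : n₁⁻¹ * l ∈ Bf) :
    F.Braid 3 := by
  -- elations
  have k23 : ∀ g, Mv L R₂ R₃ R₁ g → g ∈ U₂ ⊔ C := by
    intro g hg
    obtain ⟨y, hy, c, hc, c1, c2, c3, rfl⟩ := Mv.mem_mul (Ω := Om κ pts) (fun g hg p hp => D.Om_L hg hp) D.R₃_mem h23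
      hR₂ hU₂ (fun p hp h1 h2 => D.trans₂₃ hp h1 h2) hg
    exact mul_mem (Subgroup.mem_sup_right (hC c hc c3 c1 c2)) (Subgroup.mem_sup_left hy)
  have k32 : ∀ g, Mv L R₃ R₂ R₁ g → g ∈ rc U₂ n₂ ⊔ C := by
    intro g hg
    have h1 := hg.conj (k := n₂⁻¹) (inv_mem hn₂)
    have e1 : rc R₃ n₂⁻¹ = R₂ := by rw [← D.R₂_n₂, rc_rc, mul_inv_cancel, rc_one]
    have e2 : rc R₂ n₂⁻¹ = R₃ := by
      conv_lhs => rw [← D.R₃_n₂]
      rw [rc_rc, mul_inv_cancel, rc_one]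
    have e3 : rc R₁ n₂⁻¹ = R₁ := by
      conv_lhs => rw [← D.R₁_n₂]
      rw [rc_rc, mul_inv_cancel, rc_one]
    rw [e1, e2, e3] at h1
    have h2 := mem_rc_conj (g := n₂) (k23 _ h1)
    have e : n₂⁻¹ * (n₂⁻¹⁻¹ * g * n₂⁻¹) * n₂ = g := by group
    rw [e, rc_sup] at h2
    exact (sup_le_sup_left hCn _ : rc U₂ n₂ ⊔ rc C n₂ ≤ rc U₂ n₂ ⊔ C) h2
  have hU₁ : ∀ u ∈ U₁, Mv L R₁ R₃ R₂ u := by
    intro u hu
    have h1 : n₁⁻¹ * u * n₁ ∈ U₂ := by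
      have := mem_rc_conj (g := n₁) hu
      rwa [D.U₁_n₁] at this
    have h2 := (hU₂ _ h1).conj (k := n₁⁻¹) (inv_mem hn₁)
    have e1 : rc R₂ n₁⁻¹ = R₁ := by rw [← D.R₁_n₁, rc_rc, mul_inv_cancel, rc_one]
    have e2 : rc R₁ n₁⁻¹ = R₂ := by
      conv_lhs => rw [← D.R₂_n₁]
      rw [rc_rc, mul_inv_cancel, rc_one]
    have e3 : rc R₃ n₁⁻¹ = R₃ := by
      conv_lhs => rw [← D.R₃_n₁]
      rw [rc_rc, mul_inv_cancel, rc_one]
    rw [e1, e2, e3] at h2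
    have e : n₁⁻¹⁻¹ * (n₁⁻¹ * u * n₁) * n₁⁻¹ = u := by group
    rwa [e] at h2
  have w1 : rc R₁ (n₂ * n₁) = R₂ := by rw [← rc_rc, D.R₁_n₂, D.R₁_n₁]
  have w2 : rc R₂ (n₂ * n₁) = R₃ := by rw [← rc_rc, D.R₂_n₂, D.R₃_n₁]
  have w3 : rc R₃ (n₂ * n₁) = R₁ := by rw [← rc_rc, D.R₃_n₂, D.R₂_n₁]
  have hU₂L : U₂ ≤ L := fun u hu => (hU₂ u hu).mem
  have hn₂P : n₂ ∈ F.P (!i) := hi' ▸ F.n_mem (!i)
  subst hi hi'
  refine braid_three F hL hJC hJ hf i (D := rc U₁ (F.n (!i)) ⊔ rc U₁ (F.n (!i) * F.n i))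
    (D' := U₂ ⊔ rc U₂ (F.n (!i))) ?_ ?_ ?_ hl hb
  · refine sup_le (hU₂B.trans (F.B_le _)) ?_
    intro x hx
    rw [mem_rc] at hx
    have := mul_mem (mul_mem (inv_mem hn₂P) (F.B_le _ (hU₂B hx))) hn₂P
    have e : (F.n (!i))⁻¹ * (F.n (!i) * x * (F.n (!i))⁻¹) * F.n (!i) = x := by group
    rwa [e] at this
  · refine sup_le hU₂L ?_
    intro x hx
    rw [mem_rc] at hx
    have := (Subgroup.mem_normalizer_iff.1 (inv_mem hn₂) _).1 (hU₂L hx)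
    have e : (F.n (!i))⁻¹ * (F.n (!i) * x * (F.n (!i))⁻¹) * (F.n (!i))⁻¹⁻¹ = x := by group
    rwa [e] at this
  · have key : rc U₁ (F.n (!i)) ⊔ rc U₁ (F.n (!i) * F.n i) ≤
        rc ((U₂ ⊔ rc U₂ (F.n (!i))) ⊔ C) (F.n (!i) * F.n i)⁻¹ := by
      refine sup_le (fun x hx => ?_) (fun x hx => ?_)
      · rw [mem_rc]
        have h1 := mem_rc_conj (g := F.n (!i) * F.n i) hx
        rw [rc_rc, ← mul_assoc, ← rc_rc, hsq, D.U₁_n₁] at h1
        rw [inv_inv]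
        exact Subgroup.mem_sup_left (Subgroup.mem_sup_left h1)
      · rw [mem_rc, inv_inv]
        rw [mem_rc] at hx
        have h1 := ((hU₁ _ hx).conj (k := F.n (!i) * F.n i) (mul_mem hn₂ hn₁)).conj
          (k := F.n (!i) * F.n i) (mul_mem hn₂ hn₁)
        rw [w1, w2, w3, w1] at h1
        have e : (F.n (!i) * F.n i)⁻¹ * ((F.n (!i) * F.n i)⁻¹ * (F.n (!i) * F.n i * x * (F.n (!i) * F.n i)⁻¹) *
          (F.n (!i) * F.n i)) * (F.n (!i) * F.n i) = (F.n (!i) * F.n i)⁻¹ * x * (F.n (!i) * F.n i) := by group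
        rw [e] at h1
        have h2 := k32 _ h1
        exact (sup_le_sup_right le_sup_right C) h2
    intro x hx
    have := key hx
    rwa [mem_rc, inv_inv] at this

end Pl

end Cfsg.Agent.Omega.HOne.End

end

section


/-!
# II.0h1, END: the residue of type C2, and the PATH conditions

`braid_quad`: the braid relation of length four for the residue `Sp4(q)` from the frame `R₁, R₂, R₋₂, R₋₁` of `V / Z`.
`path_three`, `path_four`: the conditions `PathTo k` for `k < 3`, `k < 4`.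
-/

set_option autoImplicit false

namespace Cfsg.Agent.Omega.HOne.End

open Subgroup Cfsg.Agent.RankTwoClose
open scoped commutatorElement

variable {G : Type*} [Group G]

/-- Elements which act on complementary pieces commute modulo the kernel. -/
theorem comm_of_pieces {L A B Z : Subgroup G} (hZ : ∀ g ∈ L, ∀ z ∈ Z, g * z = z * g) (hZL : Z ≤ L) (hAL : A ≤ L) (hBL : B ≤ L)
    {g h : G} (hg : g ∈ L) (hh : h ∈ L)
    (gA : ∀ r ∈ A, r⁻¹ * (g⁻¹ * r * g) ∈ Z) (gB : ∀ r ∈ B, g⁻¹ * r * g ∈ B ⊔ Z)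
    (hB : ∀ r ∈ B, r⁻¹ * (h⁻¹ * r * h) ∈ Z) (hA : ∀ r ∈ A, h⁻¹ * r * h ∈ A ⊔ Z) :
    ∀ r ∈ A ⊔ B ⊔ Z, r⁻¹ * ((h * g * h⁻¹ * g⁻¹)⁻¹ * r * (h * g * h⁻¹ * g⁻¹)) ∈ Z := by
  -- conjugation is trivial on `Z`
  have cz : ∀ x ∈ L, ∀ z ∈ Z, x⁻¹ * z * x = z := by
    intro x hx z hz
    have := hZ x hx z hz
    calc x⁻¹ * z * x = x⁻¹ * (z * x) := by group
      _ = x⁻¹ * (x * z) := by rw [this]
      _ = z := by group
  have hZn : ∀ x ∈ L, ∀ z ∈ Z, x⁻¹ * z * x ∈ Z := fun x hx z hz => by rw [cz x hx z hz]; exact hz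
  -- the set of `r` on which `x` is trivial modulo `Z`, as a subgroup of `L`
  have triv : ∀ (x : G), x ∈ L → ∀ (K : Subgroup G), K ≤ L → (∀ r ∈ K, r⁻¹ * (x⁻¹ * r * x) ∈ Z) →
      ∀ r ∈ K ⊔ Z, r⁻¹ * (x⁻¹ * r * x) ∈ Z := by
    intro x hx K hK hr r hrK
    have hn : K ≤ normalizer (Z : Set G) := by
      intro k hk
      rw [Subgroup.mem_normalizer_iff]
      intro z
      constructor
      · intro hz
        have := cz k⁻¹ (inv_mem (hK hk)) z hz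
        rw [inv_inv] at this
        rwa [this]
      · intro hz
        have := cz k (hK hk) _ hz
        have e : k⁻¹ * (k * z * k⁻¹) * k = z := by group
        rw [e] at this
        rwa [this]
    obtain ⟨z, hz, k, hk, rfl⟩ := Solvable.Glauberman.exists_mul_of_mem_sup K Z hn hrK
    have h1 := hr k hk
    have e : (z * k)⁻¹ * (x⁻¹ * (z * k) * x) = k⁻¹ * (z⁻¹ * (x⁻¹ * z * x)) * k * (k⁻¹ * (x⁻¹ * k * x)) := by group
    rw [e, cz x hx z hz, inv_mul_cancel, mul_one, inv_mul_cancel, one_mul]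
    exact h1
  -- `r^(hg) ≡ r^(gh)`
  have keyA : ∀ r ∈ A, ((h * g)⁻¹ * r * (h * g)) * ((g * h)⁻¹ * r * (g * h))⁻¹ ∈ Z := by
    intro r hr
    have h1 := triv g hg A hAL gA _ (hA r hr)
    have h2 := gA r hr
    -- `r^(hg) = r^h z`, `r^(gh) = r^h z'`
    have h3 := cz h hh _ h2
    have e : ((h * g)⁻¹ * r * (h * g)) * ((g * h)⁻¹ * r * (g * h))⁻¹ =
        (h⁻¹ * r * h) * (((h⁻¹ * r * h)⁻¹ * (g⁻¹ * (h⁻¹ * r * h) * g)) *
          (h⁻¹ * (r⁻¹ * (g⁻¹ * r * g)) * h)⁻¹) * (h⁻¹ * r * h)⁻¹ := by group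
    rw [e, h3]
    have h4 := mul_mem h1 (inv_mem h2)
    have hrL : (h⁻¹ * r * h) ∈ L := mul_mem (mul_mem (inv_mem hh) (hAL hr)) hh
    have h5 := hZn _ (inv_mem hrL) _ h4
    rwa [inv_inv] at h5
  have keyB : ∀ r ∈ B, ((h * g)⁻¹ * r * (h * g)) * ((g * h)⁻¹ * r * (g * h))⁻¹ ∈ Z := by
    intro r hr
    have h1 := triv h hh B hBL hB _ (gB r hr)
    have h2 := hB r hr
    have h3 := cz g hg _ h2
    have e : ((h * g)⁻¹ * r * (h * g)) * ((g * h)⁻¹ * r * (g * h))⁻¹ =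
        (g⁻¹ * r * g) * ((g⁻¹ * (r⁻¹ * (h⁻¹ * r * h)) * g) *
          ((g⁻¹ * r * g)⁻¹ * (h⁻¹ * (g⁻¹ * r * g) * h))⁻¹) * (g⁻¹ * r * g)⁻¹ := by group
    rw [e, h3]
    have h4 := mul_mem h2 (inv_mem h1)
    have hrL : (g⁻¹ * r * g) ∈ L := mul_mem (mul_mem (inv_mem hg) (hBL hr)) hg
    have h5 := hZn _ (inv_mem hrL) _ h4
    rwa [inv_inv] at h5
  -- translate
  have key : ∀ r ∈ L, ((h * g)⁻¹ * r * (h * g)) * ((g * h)⁻¹ * r * (g * h))⁻¹ ∈ Z →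
      r⁻¹ * ((h * g * h⁻¹ * g⁻¹)⁻¹ * r * (h * g * h⁻¹ * g⁻¹)) ∈ Z := by
    intro r hrL h1
    have hgh : (g * h)⁻¹ ∈ L := inv_mem (mul_mem hg hh)
    have h2 := hZn _ hgh _ h1
    have h3 := hZn _ hrL _ h2
    have e : r⁻¹ * ((g * h)⁻¹⁻¹ * (((h * g)⁻¹ * r * (h * g)) * ((g * h)⁻¹ * r * (g * h))⁻¹) * (g * h)⁻¹) * r =
        r⁻¹ * ((h * g * h⁻¹ * g⁻¹)⁻¹ * r * (h * g * h⁻¹ * g⁻¹)) := by group
    rwa [e] at h3
  have hc : h * g * h⁻¹ * g⁻¹ ∈ L := mul_mem (mul_mem (mul_mem hh hg) (inv_mem hh)) (inv_mem hg)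
  refine triv _ hc (A ⊔ B) (sup_le hAL hBL) ?_
  -- the set is a subgroup
  let K : Subgroup G :=
    { carrier := {r | r ∈ L ∧ r⁻¹ * ((h * g * h⁻¹ * g⁻¹)⁻¹ * r * (h * g * h⁻¹ * g⁻¹)) ∈ Z}
      one_mem' := ⟨one_mem _, by
        have e : (1 : G)⁻¹ * ((h * g * h⁻¹ * g⁻¹)⁻¹ * 1 * (h * g * h⁻¹ * g⁻¹)) = 1 := by group
        rw [e]; exact one_mem _⟩
      mul_mem' := by
        rintro a b ⟨ha, ha'⟩ ⟨hb, hb'⟩
        refine ⟨mul_mem ha hb, ?_⟩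
        have h1 := mul_mem (hZn b hb _ ha') hb'
        have e : b⁻¹ * (a⁻¹ * ((h * g * h⁻¹ * g⁻¹)⁻¹ * a * (h * g * h⁻¹ * g⁻¹))) * b *
            (b⁻¹ * ((h * g * h⁻¹ * g⁻¹)⁻¹ * b * (h * g * h⁻¹ * g⁻¹))) =
            (a * b)⁻¹ * ((h * g * h⁻¹ * g⁻¹)⁻¹ * (a * b) * (h * g * h⁻¹ * g⁻¹)) := by
          have hz := hZ _ hb _ ha'
          have hz2 : b⁻¹ * (a⁻¹ * ((h * g * h⁻¹ * g⁻¹)⁻¹ * a * (h * g * h⁻¹ * g⁻¹))) * b =
              a⁻¹ * ((h * g * h⁻¹ * g⁻¹)⁻¹ * a * (h * g * h⁻¹ * g⁻¹)) := cz b hb _ ha'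
          have hz3 := hZ b⁻¹ (inv_mem hb) _ ha'
          rw [hz2]
          calc a⁻¹ * ((h * g * h⁻¹ * g⁻¹)⁻¹ * a * (h * g * h⁻¹ * g⁻¹)) *
              (b⁻¹ * ((h * g * h⁻¹ * g⁻¹)⁻¹ * b * (h * g * h⁻¹ * g⁻¹)))
              = (a⁻¹ * ((h * g * h⁻¹ * g⁻¹)⁻¹ * a * (h * g * h⁻¹ * g⁻¹)) * b⁻¹) *
                ((h * g * h⁻¹ * g⁻¹)⁻¹ * b * (h * g * h⁻¹ * g⁻¹)) := by group
            _ = (b⁻¹ * (a⁻¹ * ((h * g * h⁻¹ * g⁻¹)⁻¹ * a * (h * g * h⁻¹ * g⁻¹)))) *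
                ((h * g * h⁻¹ * g⁻¹)⁻¹ * b * (h * g * h⁻¹ * g⁻¹)) := by rw [hz3]
            _ = _ := by group
        rwa [e] at h1
      inv_mem' := by
        rintro a ⟨ha, ha'⟩
        refine ⟨inv_mem ha, ?_⟩
        have h1 := hZn _ (inv_mem ha) _ (inv_mem ha')
        have e : a⁻¹⁻¹ * (a⁻¹ * ((h * g * h⁻¹ * g⁻¹)⁻¹ * a * (h * g * h⁻¹ * g⁻¹)))⁻¹ * a⁻¹ =
            a⁻¹⁻¹ * ((h * g * h⁻¹ * g⁻¹)⁻¹ * a⁻¹ * (h * g * h⁻¹ * g⁻¹)) := by group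
        rwa [e] at h1 }
  have hK : A ⊔ B ≤ K := by
    refine sup_le (fun r hr => ⟨hAL hr, key r (hAL hr) (keyA r hr)⟩) (fun r hr => ⟨hBL hr, key r (hBL hr) (keyB r hr)⟩)
  exact fun r hr => (hK hr).2

/-- **The braid relation of length four for the residue `Sp4(q)`.**  `A = R₁ R₋₁`, `B = R₂ R₋₂`. -/
theorem braid_quad {F : Frame G} {L C J Bf M A B Z : Subgroup G} (h : CenMod L C J) (hJ : J ≤ F.B)
    (hf : FixPart F Bf) (i : Bool) (hM : M ≤ F.P i) (hML : M ≤ L) (hp : ⁅M, M⁆ = M)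
    {l : G} (hl : l ∈ M) (hb : (F.n i)⁻¹ * l ∈ Bf) (hsq : F.n (!i) * F.n (!i) ∈ Bf)
    (hnL : F.n (!i) ∈ normalizer (L : Set G)) (hZ : ∀ g ∈ L, ∀ z ∈ Z, g * z = z * g) (hZL : Z ≤ L)
    (hAL : A ≤ L) (hBL : B ≤ L)
    (gA : ∀ m ∈ M, ∀ r ∈ A, r⁻¹ * (m⁻¹ * r * m) ∈ Z) (gB : ∀ m ∈ M, ∀ r ∈ B, m⁻¹ * r * m ∈ B ⊔ Z)
    (hAn : rc A (F.n (!i)) = B) (hBn : rc B (F.n (!i)) = A) (hZn : rc Z (F.n (!i)) = Z)
    (hC : ∀ c ∈ L, (∀ r ∈ A ⊔ B ⊔ Z, r⁻¹ * (c⁻¹ * r * c) ∈ Z) → c ∈ C) : F.Braid 4 := by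
  have hlL : (F.n (!i))⁻¹ * l * F.n (!i) ∈ L := by
    have := (Subgroup.mem_normalizer_iff.1 (inv_mem hnL) l).1 (hML hl)
    rwa [inv_inv] at this
  refine braid_four F h hJ hf i hM hML hp hl hb hsq hlL ?_
  intro m hm
  set s := F.n (!i) with hs
  refine hC _ ?_ ?_
  · exact mul_mem (mul_mem (mul_mem hlL (hML hm)) (inv_mem hlL)) (inv_mem (hML hm))
  · -- `m` plays the role of `g`, `l' = s⁻¹ l s` that of `h`
    refine comm_of_pieces (g := m) (h := s⁻¹ * l * s) hZ hZL hAL hBL (hML hm) hlL (gA m hm) (gB m hm) ?_ ?_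
    · intro r hr
      rw [← hAn, mem_rc] at hr
      have h1 := gA l hl _ hr
      have h2 := mem_rc_conj (g := s) h1
      rw [hZn] at h2
      have e : s⁻¹ * ((s * r * s⁻¹)⁻¹ * (l⁻¹ * (s * r * s⁻¹) * l)) * s =
          r⁻¹ * ((s⁻¹ * l * s)⁻¹ * r * (s⁻¹ * l * s)) := by group
      rwa [e] at h2
    · intro r hr
      rw [← hBn, mem_rc] at hr
      have h1 := gB l hl _ hr
      have h2 := mem_rc_conj (g := s) h1
      rw [rc_sup, hBn, hZn] at h2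
      have e : s⁻¹ * (l⁻¹ * (s * r * s⁻¹) * l) * s = (s⁻¹ * l * s)⁻¹ * r * (s⁻¹ * l * s) := by group
      rwa [e] at h2

/-! ### PATH -/

section path

variable {F : Frame G}

/-- conjugation by `g` on the left: `x ∈ rc A g` gives `g x g⁻¹ ∈ A` -/
theorem conj_of_rc {A A' : Subgroup G} {g x : G} (h : rc A g = A') (hx : x ∈ A') : g * x * g⁻¹ ∈ A := by
  rw [← h] at hx
  exact hx

theorem mem_of_rc_eq {A A' : Subgroup G} {g x : G} (h : rc A g = A') (hx : x ∈ A) : g⁻¹ * x * g ∈ A' := by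
  rw [← h]
  exact mem_rc_conj hx

/-- **PATH for a residue of type A2** (`a` = the node of `N`). -/
theorem path_three {U₁ U₂ : Subgroup G} (a : Bool)
    (h12 : rc U₁ (F.n a) = U₂) (h21 : rc U₂ (F.n a) = U₁) (hU₁ : U₁ ≤ F.B) (hU₂ : U₂ ≤ F.B)
    (hn : ∀ x ∈ U₁, F.n (!a) * x * (F.n (!a))⁻¹ ∈ F.B) (hn' : rc U₁ (F.n (!a)) ≤ F.B)
    (t₁ : ∀ b ∈ F.B, ∃ x ∈ rc U₁ (F.n (!a)), ∃ c ∈ F.B, b = x * c ∧ (F.n a)⁻¹ * c * F.n a ∈ F.B)
    (t₂ : ∀ b ∈ F.B, ∃ x ∈ U₂, ∃ c ∈ F.B, b = x * c ∧ (F.n (!a))⁻¹ * c * F.n (!a) ∈ F.B) :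
    ∀ k < 3, F.PathTo k := by
  set X : Bool → Set G := fun i => if i = a then (rc U₁ (F.n (!a)) : Set G) else (U₂ : Set G) with hX
  have hXa : X a = (rc U₁ (F.n (!a)) : Set G) := by simp [hX]
  have hXb : X (!a) = (U₂ : Set G) := by simp [hX]
  have hXt : ∀ i, ∀ b ∈ F.B, ∃ x ∈ X i, ∃ c ∈ F.B, b = x * c ∧ (F.n i)⁻¹ * c * F.n i ∈ F.B := by
    intro i
    rcases Bool.eq_or_eq_not i a with rfl | h
    · rw [hXa]; exact t₁
    · rw [h, hXb]; exact t₂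
  intro k hk
  refine F.pathTo_of_root X hXt ?_
  intro i x hx
  interval_cases k
  · rw [nxt_zero] at hx
    have : x ∈ F.B := by
      rcases Bool.eq_or_eq_not i a with rfl | h
      · rw [hXa] at hx; exact hn' hx
      · rw [h, hXb] at hx; exact hU₂ hx
    simpa using this
  · have e1 : nxt i 1 = !i := by simp [nxt]
    rw [e1] at hx
    rw [alt_one]
    rcases Bool.eq_or_eq_not i a with rfl | h
    · rw [hXb] at hx
      exact hU₁ (conj_of_rc h12 hx)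
    · rw [h, Bool.not_not, hXa] at hx
      rw [h]
      exact hU₁ hx
  · have e1 : nxt i 2 = i := by simp [nxt]
    rw [e1] at hx
    have e2 : alt F.n i 2 = F.n i * F.n (!i) := by simp [alt_succ]
    have e3 : alt F.n i 2 * x * (alt F.n i 2)⁻¹ = F.n i * (F.n (!i) * x * (F.n (!i))⁻¹) * (F.n i)⁻¹ := by
      rw [e2]; group
    rw [e3]
    rcases Bool.eq_or_eq_not i a with rfl | h
    · rw [hXa] at hx
      exact hU₂ (conj_of_rc h21 hx)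
    · rw [h, hXb] at hx
      rw [h, Bool.not_not]
      exact hn _ (conj_of_rc h12 hx)

/-- **PATH for a residue of type C2** (`a` = the node of `N`). -/
theorem path_four {D Z₁ Z₂ : Subgroup G} (a : Bool)
    (hD : rc D (F.n a) = D) (h12 : rc Z₁ (F.n a) = Z₂) (h21 : rc Z₂ (F.n a) = Z₁)
    (hZ₁ : rc Z₁ (F.n (!a)) = Z₁) (hDB : D ≤ F.B) (hZ₁B : Z₁ ≤ F.B) (hZ₂B : Z₂ ≤ F.B)
    (hn : ∀ x ∈ D, F.n (!a) * x * (F.n (!a))⁻¹ ∈ F.B) (hn' : rc D (F.n (!a)) ≤ F.B)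
    (t₁ : ∀ b ∈ F.B, ∃ x ∈ rc D (F.n (!a)), ∃ c ∈ F.B, b = x * c ∧ (F.n a)⁻¹ * c * F.n a ∈ F.B)
    (t₂ : ∀ b ∈ F.B, ∃ x ∈ Z₂, ∃ c ∈ F.B, b = x * c ∧ (F.n (!a))⁻¹ * c * F.n (!a) ∈ F.B) :
    ∀ k < 4, F.PathTo k := by
  set X : Bool → Set G := fun i => if i = a then (rc D (F.n (!a)) : Set G) else (Z₂ : Set G) with hX
  have hXa : X a = (rc D (F.n (!a)) : Set G) := by simp [hX]
  have hXb : X (!a) = (Z₂ : Set G) := by simp [hX]
  have hXt : ∀ i, ∀ b ∈ F.B, ∃ x ∈ X i, ∃ c ∈ F.B, b = x * c ∧ (F.n i)⁻¹ * c * F.n i ∈ F.B := by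
    intro i
    rcases Bool.eq_or_eq_not i a with rfl | h
    · rw [hXa]; exact t₁
    · rw [h, hXb]; exact t₂
  intro k hk
  refine F.pathTo_of_root X hXt ?_
  intro i x hx
  interval_cases k
  · rw [nxt_zero] at hx
    have : x ∈ F.B := by
      rcases Bool.eq_or_eq_not i a with rfl | h
      · rw [hXa] at hx; exact hn' hx
      · rw [h, hXb] at hx; exact hZ₂B hx
    simpa using this
  · have e1 : nxt i 1 = !i := by simp [nxt]
    rw [e1] at hx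
    rw [alt_one]
    rcases Bool.eq_or_eq_not i a with rfl | h
    · rw [hXb] at hx
      exact hZ₁B (conj_of_rc h12 hx)
    · rw [h, Bool.not_not, hXa] at hx
      rw [h]
      exact hDB hx
  · have e1 : nxt i 2 = i := by simp [nxt]
    rw [e1] at hx
    have e2 : alt F.n i 2 = F.n i * F.n (!i) := by simp [alt_succ]
    have e3 : alt F.n i 2 * x * (alt F.n i 2)⁻¹ = F.n i * (F.n (!i) * x * (F.n (!i))⁻¹) * (F.n i)⁻¹ := by
      rw [e2]; group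
    rw [e3]
    rcases Bool.eq_or_eq_not i a with rfl | h
    · rw [hXa] at hx
      exact hDB (conj_of_rc hD hx)
    · rw [h, hXb] at hx
      rw [h, Bool.not_not]
      exact hZ₁B (conj_of_rc hZ₁ (conj_of_rc h12 hx))
  · have e1 : nxt i 3 = !i := by simp [nxt]
    rw [e1] at hx
    have e2 : alt F.n i 3 = F.n i * (F.n (!i) * F.n i) := by simp [alt_succ]
    have e3 : alt F.n i 3 * x * (alt F.n i 3)⁻¹ =
        F.n i * (F.n (!i) * (F.n i * x * (F.n i)⁻¹) * (F.n (!i))⁻¹) * (F.n i)⁻¹ := by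
      rw [e2]; group
    rw [e3]
    rcases Bool.eq_or_eq_not i a with rfl | h
    · rw [hXb] at hx
      exact hZ₂B (conj_of_rc h21 (conj_of_rc hZ₁ (conj_of_rc h12 hx)))
    · rw [h, Bool.not_not, hXa] at hx
      rw [h, Bool.not_not]
      exact hn _ (conj_of_rc hD hx)

end path

end Cfsg.Agent.Omega.HOne.End

end

end

-- merged: Cfsg.Agent.Mrg.Omega.HOne.EndBase
section

section


/-!
# II.0h1, END: the node of `V` and another node, common part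

`Base`: the node of `V` (`P₁ = XX V R ⊔ B`) and a second minimal parabolic subgroup `P₂ ≤ N(R i₁)` which moves `V`.
`Base.exists_fr`: reflections `n₁`, `n₂` which normalise `H`, and the second point `R i₂` fixed by `H`.
-/

set_option autoImplicit false
set_option linter.unusedSectionVars false

namespace Cfsg.Agent.Omega.HOne.End

open Subgroup Cfsg.Agent.Omega.BTwo Cfsg.Agent.Lib.SL2Mat
open Cfsg.Agent.ParSys (Qk FpfG SepG mem_Qk Qk_le Qk_conj Qk_conj')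
open Cfsg.Agent.ParSys.Hall (HallData)
open Cfsg.Agent.ParSys.Hall.HallData (PTr)

variable {G : Type*} [Group G] {ι : Type*}

theorem rc_eq_cj (A : Subgroup G) (g : G) : rc A g = cj g⁻¹ A := by
  ext x
  rw [mem_rc, mem_cj, inv_inv]

theorem rc_inv_eq_cj (A : Subgroup G) (g : G) : rc A g⁻¹ = cj g A := by rw [rc_eq_cj, inv_inv]

theorem rc_cj (A : Subgroup G) (g : G) : rc (cj g A) g = A := by rw [rc_eq_cj, cj_inv_cj]

theorem cj_eq_iff_rc {A A' : Subgroup G} {g : G} : cj g A = A' ↔ rc A' g = A := by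
  rw [rc_eq_cj]
  constructor
  · rintro rfl; rw [cj_inv_cj]
  · rintro rfl; rw [cj_cj_inv]

/-! ### one panel -/

/-- two `H`-fixed chambers `≠ B` of a panel coincide -/
theorem panel_unique [Finite G] [Fact (Nat.Prime 2)] {B U H P : Subgroup G} (hall : HallData 2 B U H)
    (ptr : PTr B U P) (fix : ∀ c ∈ U, c ∈ centralizer (H : Set G) → c ∈ Qk B P) {g g' : G} (hg : g ∈ P)
    (hgB : g ∉ B) (hg' : g' ∈ P) (hgB' : g' ∉ B)
    (hfix : ∀ a ∈ H, g⁻¹ * a * g ∈ B) (hfix' : ∀ a ∈ H, g'⁻¹ * a * g' ∈ B) : g⁻¹ * g' ∈ B := by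
  obtain ⟨u, hu, b, hb, he⟩ := ptr g hg hgB g' hg' hgB'
  obtain ⟨c, hcU, hcC, hc⟩ := hall.fixed_trans (X := G ⧸ B) ((g : G) : G ⧸ B) ((g' : G) : G ⧸ B) (by
      intro a ha
      change ((a * g : G) : G ⧸ B) = _
      refine (QuotientGroup.eq.mpr ?_).symm
      rw [← mul_assoc]
      exact hfix a ha) (by
      intro a ha
      change ((a * g' : G) : G ⧸ B) = _
      refine (QuotientGroup.eq.mpr ?_).symm
      rw [← mul_assoc]
      exact hfix' a ha) hu (by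
      change ((u * g : G) : G ⧸ B) = _
      rw [he]
      exact (QuotientGroup.mk_mul_of_mem _ hb).symm)
  have h1 : ((c * g : G) : G ⧸ B) = ((g' : G) : G ⧸ B) := hc
  have h2 := QuotientGroup.eq.1 h1
  have h3 := fix c hcU hcC g hg
  have h4 := mul_mem h3 h2
  have e : g⁻¹ * c * g * ((c * g)⁻¹ * g') = g⁻¹ * g' := by group
  rwa [e] at h4

section panel

variable [Finite G] [Fact (Nat.Prime 2)] {B U H P : Subgroup G} (hall : HallData 2 B U H)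
    (ptr : PTr B U P) (fix : ∀ c ∈ U, c ∈ centralizer (H : Set G) → c ∈ Qk B P) (hle : B ≤ P)
    {n : G} (hn : n ∈ P) (hnB : n ∉ B) (hnH : n ∈ normalizer (H : Set G))

include hall ptr fix hle hn hnB hnH

/-- elements of `B` normalising `H` -/
theorem conj_mem_of_norm {c : G} (hc : c ∈ B) (hcH : c ∈ normalizer (H : Set G)) : n⁻¹ * c * n ∈ B := by
  have h1 : ∀ a ∈ H, n⁻¹ * a * n ∈ B := fun a ha => hall.H_le (conj_inv_mem_of_normalizer hnH ha)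
  have h2 : ∀ a ∈ H, (c * n)⁻¹ * a * (c * n) ∈ B := by
    intro a ha
    have := h1 _ (conj_inv_mem_of_normalizer hcH ha)
    have e : n⁻¹ * (c⁻¹ * a * c) * n = (c * n)⁻¹ * a * (c * n) := by group
    rwa [e] at this
  have h3 : c * n ∉ B := fun h => hnB (by
    have := mul_mem (inv_mem hc) h
    rwa [inv_mul_cancel_left] at this)
  have := panel_unique hall ptr fix hn hnB (mul_mem (hle hc) hn) h3 h1 h2
  rwa [← mul_assoc] at this

theorem sq_mem_of_norm : n * n ∈ B := by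
  have h1 : ∀ a ∈ H, n⁻¹ * a * n ∈ B := fun a ha => hall.H_le (conj_inv_mem_of_normalizer hnH ha)
  have h2 : ∀ a ∈ H, n⁻¹⁻¹ * a * n⁻¹ ∈ B := fun a ha => hall.H_le (by
    rw [inv_inv]
    exact conj_mem_of_normalizer hnH ha)
  have h3 : n⁻¹ ∉ B := fun h => hnB (by simpa using inv_mem h)
  have := inv_mem (panel_unique hall ptr fix hn hnB (inv_mem hn) h3 h1 h2)
  simpa using this

/-- `n` normalises `B ∩ N(H)` -/
theorem norm_inf : n ∈ normalizer ((B ⊓ normalizer (H : Set G) : Subgroup G) : Set G) := by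
  have key : ∀ n ∈ P, n ∉ B → n ∈ normalizer (H : Set G) → ∀ c ∈ B ⊓ normalizer (H : Set G),
      n⁻¹ * c * n ∈ B ⊓ normalizer (H : Set G) := fun n hn hnB hnH c hc =>
    mem_inf.2 ⟨conj_mem_of_norm hall ptr fix hle hn hnB hnH (mem_inf.1 hc).1 (mem_inf.1 hc).2,
      mul_mem (mul_mem (inv_mem hnH) (mem_inf.1 hc).2) hnH⟩
  rw [Subgroup.mem_normalizer_iff]
  intro c
  constructor
  · intro hc
    have h3 : n⁻¹ ∉ B := fun h => hnB (by simpa using inv_mem h)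
    have := key n⁻¹ (inv_mem hn) h3 (inv_mem hnH) c hc
    rwa [inv_inv] at this
  · intro hc
    have := key n hn hnB hnH _ hc
    have e : n⁻¹ * (n * c * n⁻¹) * n = c := by group
    rwa [e] at this

end panel

/-- every chamber `≠ B` of a panel is `U`-conjugate to one fixed by `H`; the representative is changed by `U` only -/
theorem exists_n_of [Finite G] [Fact (Nat.Prime 2)] {B U H P : Subgroup G} (D : HallData 2 B U H) (hBP : B ≤ P)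
    (htr : PTr B U P) {g : G} (hgP : g ∈ P) (hgB : g ∉ B) :
    ∃ u ∈ U, ∃ w ∈ U, u * g * w ∈ normalizer (H : Set G) := by
  obtain ⟨u, hu, hfix⟩ := D.exists_fixed (X := G ⧸ B) ((g : G) : G ⧸ B) (by
    intro a ha
    have haB := D.H_le ha
    obtain ⟨v, hv, b, hb, hvb⟩ := htr g hgP hgB (a * g) (P.mul_mem (hBP haB) hgP)
      (fun h => hgB (by simpa using B.mul_mem (B.inv_mem haB) h))
    refine ⟨v, hv, ?_⟩
    change ((a * g : G) : G ⧸ B) = ((v * g : G) : G ⧸ B)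
    rw [hvb]
    exact QuotientGroup.mk_mul_of_mem _ hb)
  have hHB : ∀ a ∈ H, (u * g)⁻¹ * a * (u * g) ∈ B := by
    intro a ha
    have h1 : ((a * (u * g) : G) : G ⧸ B) = ((u * g : G) : G ⧸ B) := hfix a ha
    have h2 := QuotientGroup.eq.mp h1.symm
    rwa [← mul_assoc] at h2
  obtain ⟨w, hw, e⟩ := D.conj (K := cj (u * g)⁻¹ H) (by
      rintro _ ⟨a, ha, rfl⟩
      have := hHB a ha
      change (u * g)⁻¹ * a * (u * g)⁻¹⁻¹ ∈ B
      rwa [inv_inv]) (card_cj _ _)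
  refine ⟨u, hu, w, hw, ?_⟩
  rw [← cj_eq_self_iff, cj_mul]
  have e' : cj w H = cj (u * g)⁻¹ H := by
    rw [← e]; rfl
  rw [e', cj_cj_inv]

/-- **The node of `V` and a second node `P₂ ≤ N(R i₁)`.** -/
structure Base (F : Type*) [Field F] (V : Subgroup G) (R : ι → Subgroup G) (U B H P₂ : Subgroup G) (i₁ : ι) :
    Prop where
  bt : BT V R
  nod : Nod V R U B i₁
  hall : HallData 2 B U H
  sup : U ⊔ H = B
  U_UU : ∀ i, UU V R i ≤ U
  le₂ : B ≤ P₂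
  three₂ : ∃ x ∈ P₂, ∃ y ∈ P₂, x ∉ B ∧ y ∉ B ∧ x⁻¹ * y ∉ B
  ptr₂ : PTr B U P₂
  reg₂ : ∀ u ∈ U, ∀ g ∈ P₂, g ∉ B → g⁻¹ * u * g ∈ B → u ∈ Qk B P₂
  fix₂ : ∀ c ∈ U, c ∈ centralizer (H : Set G) → c ∈ Qk B P₂
  P₂_R : P₂ ≤ normalizer (R i₁ : Set G)
  NV₂ : P₂ ⊓ normalizer (V : Set G) ≤ B
  coord : ∀ j, i₁ ≠ j → ∃ (v : F → F → G) (w1 w2 : F → G), Coord V R i₁ j v w1 w2
  big : ∃ a : F, a ≠ 0 ∧ a ≠ 1

namespace Base

variable {F : Type*} [Field F] {V : Subgroup G} {R : ι → Subgroup G} {U B H P₂ : Subgroup G} {i₁ : ι}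
  (D : Base F V R U B H P₂ i₁)
include D

/-- 2-elements of `B` lie in `U` -/
theorem mem_U [Finite G] [Fact (Nat.Prime 2)] {x : G} (hx : x ∈ B) (h2 : ∃ k, x ^ 2 ^ k = 1) : x ∈ U := by
  obtain ⟨k, hk⟩ := h2
  exact D.hall.pgroup_le_of_le_sup (D.sup.symm ▸ hx) hk

theorem two_elt [Finite G] [Fact (Nat.Prime 2)] {u g : G} (hu : u ∈ U) (h : g⁻¹ * u * g ∈ B) : g⁻¹ * u * g ∈ U := by
  refine D.mem_U h ?_
  obtain ⟨k, hk⟩ := D.hall.U_pgroup ⟨u, hu⟩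
  refine ⟨k, ?_⟩
  have hk' : u ^ 2 ^ k = 1 := by simpa using congrArg Subtype.val hk
  have e : g⁻¹ * u * g = MulAut.conj g⁻¹ u := by rw [MulAut.conj_apply, inv_inv]
  rw [e, ← map_pow, hk', map_one]

theorem Bt : B ≤ XX V R ⊔ B := le_sup_right

theorem ptr₁ : PTr B U (XX V R ⊔ B) := D.nod.ptr D.bt

/-- every element of `B` is `u h` -/
theorem exists_uh [Finite G] [Fact (Nat.Prime 2)] {b : G} (hb : b ∈ B) : ∃ u ∈ U, ∃ h ∈ H, b = u * h := by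
  rw [← D.sup, sup_comm] at hb
  obtain ⟨u, hu, h, hh, rfl⟩ := Solvable.Glauberman.exists_mul_of_mem_sup H U D.hall.H_norm_U hb
  exact ⟨u, hu, h, hh, rfl⟩

/-- an element of `B` which fixes two points acts on `V` as an element of `H` -/
theorem exists_h [Finite G] [Fact (Nat.Prime 2)] {i₂ : ι} (h12 : i₁ ≠ i₂) (hH : H ≤ normalizer (R i₂ : Set G)) {b : G} (hb : b ∈ B)
    (hb2 : cj b (R i₂) = R i₂) : ∃ u ∈ U, u ∈ centralizer (V : Set G) ∧ ∃ h ∈ H, b = u * h := by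
  obtain ⟨u, hu, h, hh, rfl⟩ := D.exists_uh hb
  refine ⟨u, hu, ?_, h, hh, rfl⟩
  refine D.nod.cen_of_fix D.bt hu h12.symm ?_
  rw [cj_mul, cj_eq_self_iff.2 (hH hh)] at hb2
  exact hb2

/-- the second point fixed by `H`, before the choice of the coordinates -/
theorem exists_fixed [Finite G] [Fact (Nat.Prime 2)] :
    ∃ i₂, i₁ ≠ i₂ ∧ H ≤ normalizer (R i₂ : Set G) := by
  obtain ⟨x, hx, -, -, hxB, -, -⟩ := D.nod.three D.bt
  obtain ⟨n, hn, hnB, hnH⟩ := D.hall.exists_n (P := XX V R ⊔ B) le_sup_right ⟨x, hx, hxB⟩ D.ptr₁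
  obtain ⟨k, hk⟩ := D.nod.exists_k D.bt hn
  refine ⟨k, ?_, ?_⟩
  · rintro rfl
    exact hnB ((D.nod.mem_B_iff D.bt hn).2 hk)
  · intro h hh
    rw [← cj_eq_self_iff, ← hk, ← cj_mul]
    have h1 := conj_inv_mem_of_normalizer hnH hh
    have h2 := cj_eq_self_iff.2 (D.nod.B_R (D.hall.H_le h1))
    have e : h * n = n * (n⁻¹ * h * n) := by group
    rw [e, cj_mul, h2]

/-- a torus element: `h ∈ H` acts on `V` as `diag(a, a⁻¹)` -/
theorem exists_tor [Finite G] [Fact (Nat.Prime 2)] [CharP F 2] {i₂ : ι} (h12 : i₁ ≠ i₂)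
    (hH : H ≤ normalizer (R i₂ : Set G)) {v : F → F → G} {w1 w2 : F → G} (c : Coord V R i₁ i₂ v w1 w2)
    {a : F} (ha : a ≠ 0) : ∃ h ∈ H, (∀ x y, h * v x y * h⁻¹ = v (a * x) (a⁻¹ * y)) ∧
      ∃ u ∈ U, u ∈ centralizer (V : Set G) ∧ hh w1 w2 a = u * h := by
  have h1 : hh w1 w2 a ∈ B := D.nod.X_B ⟨c.hh_mem_X D.bt a, cj_eq_self_iff.1 (c.hh_R1 D.bt ha)⟩
  obtain ⟨u, hu, hc, h, hh', e⟩ := D.exists_h h12 hH h1 (c.hh_R2 D.bt ha)
  refine ⟨h, hh', fun x y => ?_, u, hu, hc, e⟩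
  rw [← c.hh_act ha x y, e]
  have h2 := mem_centralizer_iff.1 hc _ (c.v_mem (a * x) (a⁻¹ * y))
  have e2 : u * h * v x y * (u * h)⁻¹ = u * (h * v x y * h⁻¹) * u⁻¹ := by group
  rw [e2]
  have h3 : h * v x y * h⁻¹ ∈ V := conj_mem_of_normalizer (D.nod.B_V (D.hall.H_le hh')) (c.v_mem x y)
  rw [← mem_centralizer_iff.1 hc _ h3, mul_inv_cancel_right]

/-- an element with two different eigenvalues fixes only two points -/
theorem fix_two' {i₂ : ι} (h12 : i₁ ≠ i₂) {v : F → F → G} {w1 w2 : F → G}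
    (c : Coord V R i₁ i₂ v w1 w2) {a s : F} (ha1 : a ≠ s) {h : G}
    (hact : ∀ x y, h * v x y * h⁻¹ = v (a * x) (s * y)) (k : ι) (hk : cj h (R k) = R k) : k = i₁ ∨ k = i₂ := by
  by_contra hc
  push Not at hc
  obtain ⟨h1, h2⟩ := hc
  obtain ⟨w, hw, e⟩ := D.bt.trans i₁ (Ne.symm h12) h1
  obtain ⟨d, hd⟩ := c.W1_act w hw
  -- `R k = {v (d y) y}`
  have h3 : w * v 0 1 * w⁻¹ ∈ R k := by
    rw [← e]; exact conj_mem_cj ((c.mem_R2 _).2 ⟨1, rfl⟩)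
  rw [hd, zero_add, mul_one] at h3
  have h4 : h * v d 1 * h⁻¹ ∈ R k := by
    rw [← hk]; exact conj_mem_cj h3
  rw [hact, mul_one] at h4
  -- also `w v 0 s w⁻¹ ∈ R k`
  have h5 : w * v 0 s * w⁻¹ ∈ R k := by
    rw [← e]; exact conj_mem_cj ((c.mem_R2 _).2 ⟨_, rfl⟩)
  rw [hd, zero_add] at h5
  have h6 : v (a * d - d * s) 0 ∈ R k := by
    have h7 := mul_mem h4 (inv_mem h5)
    have h8 := c.v_add (a * d - d * s) 0 (d * s) s
    rw [sub_add_cancel, zero_add] at h8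
    rwa [h8, mul_inv_cancel_right] at h7
  have h9 := D.bt.eq_one h1 h6 ((c.mem_R1 _).2 ⟨_, rfl⟩)
  have h10 := (c.v_one _ _ h9).1
  have h11 : d ≠ 0 := by
    rintro rfl
    apply h2
    have h12' : v 0 1 = 1 := by
      refine D.bt.eq_one h2 h3 ((c.mem_R2 _).2 ⟨_, rfl⟩)
    exact absurd (c.v_one _ _ h12').2 one_ne_zero
  have h13 : (a - s) * d = 0 := by rw [← h10]; ring
  rcases mul_eq_zero.1 h13 with h14 | h14
  · exact ha1 (sub_eq_zero.1 h14)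
  · exact absurd h14 h11

/-- a torus element `≠ 1` fixes only two points -/
theorem fix_two [CharP F 2] {i₂ : ι} (h12 : i₁ ≠ i₂) {v : F → F → G} {w1 w2 : F → G}
    (c : Coord V R i₁ i₂ v w1 w2) {a : F} (ha : a ≠ 0) (ha1 : a ≠ 1) {h : G}
    (hact : ∀ x y, h * v x y * h⁻¹ = v (a * x) (a⁻¹ * y)) (k : ι) (hk : cj h (R k) = R k) : k = i₁ ∨ k = i₂ := by
  refine D.fix_two' h12 c ?_ hact k hk
  intro h14
  apply ha1
  have h15 : a * a = 1 := by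
    nth_rw 2 [h14]
    exact mul_inv_cancel₀ ha
  have h16 : (a - 1) * (a - 1) = 0 := by
    have h17 : (2 : F) = 0 := by exact_mod_cast CharP.cast_eq_zero F 2
    have : (a - 1) * (a - 1) = a * a - 1 + 2 * (1 - a) := by ring
    rw [this, h15, h17]; ring
  exact sub_eq_zero.1 (mul_self_eq_zero.1 h16)

/-- `C_U(H)` acts trivially on the panel of `V` -/
theorem fix₁ [Finite G] [Fact (Nat.Prime 2)] [CharP F 2] :
    ∀ c ∈ U, c ∈ centralizer (H : Set G) → c ∈ Qk B (XX V R ⊔ B) := by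
  obtain ⟨i₂, h12, hH⟩ := D.exists_fixed
  obtain ⟨v, w1, w2, c⟩ := D.coord i₂ h12
  obtain ⟨a, ha, ha1⟩ := D.big
  obtain ⟨h, hh', hact, -⟩ := D.exists_tor h12 hH c ha
  intro x hx hxC
  refine D.nod.fpf_of D.bt h12 (cj_eq_self_iff.2 (hH hh')) (fun k hk => D.fix_two h12 c ha ha1 hact k hk) x hx ?_
  have : h * x * h⁻¹ * x⁻¹ = 1 := by
    rw [mem_centralizer_iff.1 hxC h hh']; group
  rw [this]
  exact one_mem _

/-- `H` fixes only two points -/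
theorem fixed_unique [Finite G] [Fact (Nat.Prime 2)] [CharP F 2] {k l : ι} (hk : i₁ ≠ k) (hl : i₁ ≠ l)
    (hHk : H ≤ normalizer (R k : Set G)) (hHl : H ≤ normalizer (R l : Set G)) : k = l := by
  obtain ⟨x, hx, ex⟩ := D.bt.trans_X_one i₁ k
  obtain ⟨y, hy, ey⟩ := D.bt.trans_X_one i₁ l
  have hx' : x ∈ XX V R ⊔ B := mem_sup_left hx
  have hy' : y ∈ XX V R ⊔ B := mem_sup_left hy
  have key : ∀ {z : G} {m : ι}, z ∈ XX V R ⊔ B → cj z (R i₁) = R m → H ≤ normalizer (R m : Set G) →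
      ∀ a ∈ H, z⁻¹ * a * z ∈ B := by
    intro z m hz ez hm a ha
    have haP : a ∈ XX V R ⊔ B := mem_sup_right (D.hall.H_le ha)
    rw [D.nod.mem_B_iff D.bt (mul_mem (mul_mem (inv_mem hz) haP) hz), cj_mul, cj_mul, ez,
      cj_eq_self_iff.2 (hm ha), ← ez, cj_inv_cj]
  have hxB : x ∉ B := fun h => hk (D.bt.R_index (((D.nod.mem_B_iff D.bt hx').1 h).symm.trans ex))
  have hyB : y ∉ B := fun h => hl (D.bt.R_index (((D.nod.mem_B_iff D.bt hy').1 h).symm.trans ey))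
  have h1 := panel_unique D.hall D.ptr₁ D.fix₁ hx' hxB hy' hyB (key hx' ex hHk) (key hy' ey hHl)
  rw [D.nod.coset D.bt hx' hy', ex, ey] at h1
  exact D.bt.R_index h1

end Base

/-- The reflections. -/
structure Fr (V : Subgroup G) (R : ι → Subgroup G) (U B H P₂ : Subgroup G) (i₁ i₂ : ι) (n₁ n₂ : G) : Prop where
  ne : i₁ ≠ i₂
  H_R : H ≤ normalizer (R i₂ : Set G)
  n₁_mem : n₁ ∈ XX V R ⊔ B
  n₁_XU : n₁ ∈ XX V R ⊔ U
  n₁_not : n₁ ∉ B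
  n₁_H : n₁ ∈ normalizer (H : Set G)
  n₂_mem : n₂ ∈ P₂
  n₂_not : n₂ ∉ B
  n₂_H : n₂ ∈ normalizer (H : Set G)
  /-- `n₁` interchanges the two points -/
  n₁_1 : rc (R i₁) n₁ = R i₂
  n₁_2 : rc (R i₂) n₁ = R i₁

namespace Base

variable {F : Type*} [Field F] {V : Subgroup G} {R : ι → Subgroup G} {U B H P₂ : Subgroup G} {i₁ : ι}
  (D : Base F V R U B H P₂ i₁) [Finite G] [Fact (Nat.Prime 2)] [CharP F 2]
include D

/-- the reflections; `n₂` can be chosen in any coset `U g U` -/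
theorem exists_fr_of {y : G} (hy : y ∈ P₂) (hyB : y ∉ B) :
    ∃ i₂ n₁ n₂, Fr V R U B H P₂ i₁ i₂ n₁ n₂ ∧ ∃ u ∈ U, ∃ w ∈ U, n₂ = u * y * w := by
  obtain ⟨m, hm, -⟩ := D.bt.third i₁ i₁
  obtain ⟨x, hx, ex⟩ := D.bt.trans_X_one i₁ m
  have hxP : x ∈ XX V R ⊔ B := mem_sup_left hx
  have hxB : x ∉ B := fun h => hm (D.bt.R_index (ex.symm.trans ((D.nod.mem_B_iff D.bt hxP).1 h)))
  obtain ⟨u, hu, w, hw, hn₁H⟩ := exists_n_of D.hall le_sup_right D.ptr₁ hxP hxB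
  obtain ⟨u', hu', w', hw', hn₂H⟩ := exists_n_of D.hall D.le₂ D.ptr₂ hy hyB
  have hUB := D.nod.U_le
  set n₁ := u * x * w with hn₁def
  have hn₁ : n₁ ∈ XX V R ⊔ B := mul_mem (mul_mem (mem_sup_right (hUB hu)) hxP) (mem_sup_right (hUB hw))
  have hn₁U : n₁ ∈ XX V R ⊔ U := mul_mem (mul_mem (mem_sup_right hu) (mem_sup_left hx)) (mem_sup_right hw)
  have hn₁B : n₁ ∉ B := fun h => hxB (by
    have := mul_mem (mul_mem (inv_mem (hUB hu)) h) (inv_mem (hUB hw))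
    have e : u⁻¹ * n₁ * w⁻¹ = x := by rw [hn₁def]; group
    rwa [e] at this)
  have hn₂ : u' * y * w' ∈ P₂ := mul_mem (mul_mem (D.le₂ (hUB hu')) hy) (D.le₂ (hUB hw'))
  have hn₂B : u' * y * w' ∉ B := fun h => hyB (by
    have := mul_mem (mul_mem (inv_mem (hUB hu')) h) (inv_mem (hUB hw'))
    have e : u'⁻¹ * (u' * y * w') * w'⁻¹ = y := by group
    rwa [e] at this)
  have key : ∀ {n : G} {k : ι}, n ∈ XX V R ⊔ B → n ∉ B → n ∈ normalizer (H : Set G) → cj n (R i₁) = R k →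
      i₁ ≠ k ∧ H ≤ normalizer (R k : Set G) := by
    intro n k hn hnB hnH hk
    refine ⟨?_, ?_⟩
    · rintro rfl
      exact hnB ((D.nod.mem_B_iff D.bt hn).2 hk)
    · intro h hh
      rw [← cj_eq_self_iff, ← hk, ← cj_mul]
      have h1 := conj_inv_mem_of_normalizer hnH hh
      have h2 := cj_eq_self_iff.2 (D.nod.B_R (D.hall.H_le h1))
      have e : h * n = n * (n⁻¹ * h * n) := by group
      rw [e, cj_mul, h2]
  obtain ⟨k, hk⟩ := D.nod.exists_k D.bt hn₁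
  obtain ⟨l, hl⟩ := D.nod.exists_k D.bt (inv_mem hn₁)
  obtain ⟨k1, k2⟩ := key hn₁ hn₁B hn₁H hk
  obtain ⟨l1, l2⟩ := key (inv_mem hn₁) (fun h => hn₁B (by simpa using inv_mem h)) (inv_mem hn₁H) hl
  have hkl := D.fixed_unique k1 l1 k2 l2
  subst hkl
  refine ⟨k, n₁, u' * y * w', ⟨k1, k2, hn₁, hn₁U, hn₁B, hn₁H, hn₂, hn₂B, hn₂H, ?_, ?_⟩, u', hu', w', hw', rfl⟩
  · rw [rc_eq_cj, hl]
  · rw [← hk, rc_cj]

theorem exists_fr : ∃ i₂ n₁ n₂, Fr V R U B H P₂ i₁ i₂ n₁ n₂ := by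
  obtain ⟨y, hy, -, -, hyB, -, -⟩ := D.three₂
  obtain ⟨i₂, n₁, n₂, E, -⟩ := D.exists_fr_of hy hyB
  exact ⟨i₂, n₁, n₂, E⟩

/-- the reflections, `n₂` centralises `R i₁` -/
theorem exists_fr_cen (hC : P₂ ≤ (P₂ ⊓ centralizer (R i₁ : Set G)) ⊔ B) :
    ∃ i₂ n₁ n₂, Fr V R U B H P₂ i₁ i₂ n₁ n₂ ∧ n₂ ∈ centralizer (R i₁ : Set G) := by
  have h1 : ∃ y ∈ P₂ ⊓ centralizer (R i₁ : Set G), y ∉ B := by
    by_contra hc
    push Not at hc
    obtain ⟨y, hy, -, -, hyB, -, -⟩ := D.three₂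
    exact hyB ((hC.trans (sup_le hc le_rfl)) hy)
  obtain ⟨y, hy, hyB⟩ := h1
  obtain ⟨i₂, n₁, n₂, E, u, hu, w, hw, rfl⟩ := D.exists_fr_of (mem_inf.1 hy).1 hyB
  have hU : U ≤ centralizer (R i₁ : Set G) := by
    intro u hu
    rw [mem_centralizer_iff]
    intro r hr
    have := D.nod.UR u hu r hr
    rw [mul_inv_eq_iff_eq_mul] at this
    exact this.symm
  exact ⟨i₂, n₁, _, E, mul_mem (mul_mem (hU hu) (mem_inf.1 hy).2) (hU hw)⟩

variable {i₂ : ι} {n₁ n₂ : G} (E : Fr V R U B H P₂ i₁ i₂ n₁ n₂)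
include E

theorem n₁_sq : n₁ * n₁ ∈ B := sq_mem_of_norm D.hall D.ptr₁ D.fix₁ le_sup_right E.n₁_mem E.n₁_not E.n₁_H

theorem n₂_sq : n₂ * n₂ ∈ B := sq_mem_of_norm D.hall D.ptr₂ D.fix₂ D.le₂ E.n₂_mem E.n₂_not E.n₂_H

/-- an element of `B` normalising `H` fixes `R i₂` -/
theorem norm_R₂ {c : G} (hc : c ∈ B) (hcH : c ∈ normalizer (H : Set G)) : cj c (R i₂) = R i₂ := by
  obtain ⟨k, hk⟩ := D.bt.perm c (D.nod.B_V hc) i₂
  have h1 : i₁ ≠ k := by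
    rintro rfl
    have h2 := cj_eq_self_iff.2 (D.nod.B_R hc)
    exact E.ne (D.bt.R_index (cj_injective (h2.trans hk.symm)))
  have h2 : H ≤ normalizer (R k : Set G) := by
    intro h hh
    rw [← cj_eq_self_iff, ← hk, ← cj_mul]
    have h3 := conj_inv_mem_of_normalizer hcH hh
    have h4 := cj_eq_self_iff.2 (E.H_R h3)
    have e : h * c = c * (c⁻¹ * h * c) := by group
    rw [e, cj_mul, h4]
  rw [hk, D.fixed_unique h1 E.ne h2 E.H_R]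

theorem n₂_R : rc (R i₁) n₂ = R i₁ := rc_eq_of_mem_normalizer (D.P₂_R E.n₂_mem)

theorem n₂_V : n₂ ∉ normalizer (V : Set G) := fun h => E.n₂_not (D.NV₂ ⟨E.n₂_mem, h⟩)

theorem n₁_V : n₁ ∈ normalizer (V : Set G) := D.nod.P_V D.bt E.n₁_mem

theorem V_eq : V = R i₁ ⊔ R i₂ := (D.bt.R_sup i₁ i₂ E.ne).symm

/-- the inverse of `n₁` -/
theorem n₁_1' : rc (R i₁) n₁⁻¹ = R i₂ := by
  rw [← E.n₁_2, rc_rc, mul_inv_cancel, rc_one]

theorem n₁_2' : rc (R i₂) n₁⁻¹ = R i₁ := by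
  rw [← E.n₁_1, rc_rc, mul_inv_cancel, rc_one]

theorem U₁_n₁ : rc (UU V R i₁) n₁ = UU V R i₂ := by
  rw [rc_eq_cj]
  refine D.bt.cj_UU (inv_mem (D.n₁_V E)) ?_
  rw [← rc_eq_cj, E.n₁_1]

theorem U₂_n₁ : rc (UU V R i₂) n₁ = UU V R i₁ := by
  rw [rc_eq_cj]
  refine D.bt.cj_UU (inv_mem (D.n₁_V E)) ?_
  rw [← rc_eq_cj, E.n₁_2]

theorem W₁_n₁ : rc (WW V (R i₁)) n₁ = WW V (R i₂) := by
  rw [rc_eq_cj]
  refine D.bt.cj_WW ?_
  rw [← rc_eq_cj, E.n₁_1]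

theorem W₁_n₂ : rc (WW V (R i₁)) n₂ = WW V (R i₁) :=
  rc_eq_of_mem_normalizer (normalizer_le_WW V (R i₁) (D.P₂_R E.n₂_mem))

/-- `H` normalises `U₁` -/
theorem B_U₁ : B ≤ normalizer (UU V R i₁ : Set G) := by
  intro x hx
  rw [← cj_eq_self_iff]
  exact D.bt.cj_UU (D.nod.B_V hx) (cj_eq_self_iff.2 (D.nod.B_R hx))

theorem U₁_sq : rc (UU V R i₁) (n₂ * n₂) = UU V R i₁ :=
  rc_eq_of_mem_normalizer (D.B_U₁ E (D.n₂_sq E))

theorem U₁_n₂_le : rc (UU V R i₁) n₂ ≤ WW V (R i₁) := by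
  rw [← D.W₁_n₂ E]
  exact rc_mono (UU_le_WW i₁) n₂

theorem U₁_n₂_inv : rc (UU V R i₁) n₂⁻¹ = rc (UU V R i₁) n₂ := by
  conv_lhs => rw [← D.U₁_sq E]
  rw [rc_rc, mul_assoc, mul_inv_cancel, mul_one]

/-- `H` normalises `U₁^n₂` -/
theorem H_U₁ {h : G} (hh : h ∈ H) : rc (rc (UU V R i₁) n₂) h = rc (UU V R i₁) n₂ := by
  have h1 : n₂ * h * n₂⁻¹ ∈ H := conj_mem_of_normalizer E.n₂_H hh
  have h2 := rc_eq_of_mem_normalizer (D.B_U₁ E (D.hall.H_le h1))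
  have e : n₂ * h = (n₂ * h * n₂⁻¹) * n₂ := by group
  rw [rc_rc, e, ← rc_rc, h2]

/-- `U₁` and its conjugate generate `W₁` -/
theorem cover₁ [Finite F] (hU : ¬ rc (UU V R i₁) n₂ ≤ centralizer (V : Set G)) {w : G}
    (hw : w ∈ WW V (R i₁)) : ∃ x ∈ rc (UU V R i₁) n₂, x⁻¹ * w ∈ UU V R i₁ := by
  obtain ⟨v, w1, w2, c⟩ := D.coord i₂ E.ne
  obtain ⟨x, hx, hxV⟩ := Set.not_subset.1 hU
  have hxV : x ∉ centralizer (V : Set G) := hxV
  have hxW := D.U₁_n₂_le E hx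
  obtain ⟨a, ha⟩ := c.W1_act x hxW
  obtain ⟨d, hd⟩ := c.W1_act w hw
  have ha0 : a ≠ 0 := by
    rintro rfl
    apply hxV
    rw [mem_centralizer_iff]
    intro y hy
    obtain ⟨p, q, rfl⟩ := (c.mem_V y).1 hy
    have := ha p q
    rw [zero_mul, add_zero, mul_inv_eq_iff_eq_mul] at this
    exact this.symm
  by_cases hd0 : d = 0
  · refine ⟨1, one_mem _, ?_⟩
    rw [inv_one, one_mul]
    refine mem_inf.2 ⟨hw, ?_⟩
    rw [mem_centralizer_iff]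
    intro y hy
    obtain ⟨p, q, rfl⟩ := (c.mem_V y).1 hy
    have := hd p q
    rw [hd0, zero_mul, add_zero, mul_inv_eq_iff_eq_mul] at this
    exact this.symm
  -- `s² a = d`
  obtain ⟨s, hs⟩ := FiniteField.isSquare_of_char_two (F := F) (ringChar.eq F 2) (d / a)
  have hs' : s * s * a = d := by rw [← hs]; field_simp
  have hs0 : s ≠ 0 := by
    rintro rfl
    apply hd0
    rw [← hs', zero_mul, zero_mul]
  obtain ⟨h, hh', hact, -⟩ := D.exists_tor E.ne E.H_R c hs0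
  have h1 : h * x * h⁻¹ ∈ rc (UU V R i₁) n₂ := by
    have h2 := D.H_U₁ E (inv_mem hh')
    rw [← h2, mem_rc]
    have e : h⁻¹ * (h * x * h⁻¹) * h⁻¹⁻¹ = x := by group
    rwa [e]
  have hactinv : ∀ p q, h⁻¹ * v p q * h = v (s⁻¹ * p) (s * q) := by
    intro p q
    have h2 := hact (s⁻¹ * p) (s * q)
    rw [← mul_assoc, ← mul_assoc, mul_inv_cancel₀ hs0, inv_mul_cancel₀ hs0, one_mul, one_mul] at h2
    rw [← h2]; group
  refine ⟨_, h1, ?_⟩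
  refine mem_inf.2 ⟨mul_mem (inv_mem (D.U₁_n₂_le E h1)) hw, ?_⟩
  -- the action of `h x h⁻¹` is that of `w`
  have h2 : ∀ p q, h * x * h⁻¹ * v p q * (h * x * h⁻¹)⁻¹ = v (p + d * q) q := by
    intro p q
    have e : h * x * h⁻¹ * v p q * (h * x * h⁻¹)⁻¹ = h * (x * (h⁻¹ * v p q * h) * x⁻¹) * h⁻¹ := by group
    rw [e, hactinv, ha, hact]
    congr 1
    · rw [mul_add, ← mul_assoc, mul_inv_cancel₀ hs0, one_mul, ← hs']; ring
    · rw [← mul_assoc, inv_mul_cancel₀ hs0, one_mul]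
  rw [mem_centralizer_iff]
  intro y hy
  obtain ⟨p, q, rfl⟩ := (c.mem_V y).1 hy
  have h3 : w * v p q * w⁻¹ = h * x * h⁻¹ * v p q * (h * x * h⁻¹)⁻¹ := by rw [hd, h2]
  generalize h * x * h⁻¹ = z at h3
  have h4 : z⁻¹ * w * v p q = v p q * (z⁻¹ * w) := by
    have h5 : w * v p q = z * v p q * z⁻¹ * w := by rw [← h3]; group
    calc z⁻¹ * w * v p q = z⁻¹ * (w * v p q) := by group
      _ = z⁻¹ * (z * v p q * z⁻¹ * w) := by rw [h5]
      _ = v p q * (z⁻¹ * w) := by group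
  exact h4.symm

/-- `U = U₁^n₂ C_U(V)` -/
theorem cover_U [Finite F] (hU : ¬ rc (UU V R i₁) n₂ ≤ centralizer (V : Set G)) {u : G} (hu : u ∈ U) :
    ∃ x ∈ rc (UU V R i₁) n₂, x⁻¹ * u ∈ U ∧ x⁻¹ * u ∈ centralizer (V : Set G) := by
  obtain ⟨k, hk⟩ := D.bt.perm u (D.nod.B_V (D.nod.U_le hu)) i₂
  have hk1 : k ≠ i₁ := by
    rintro rfl
    have h2 := cj_eq_self_iff.2 (D.nod.B_R (D.nod.U_le hu))
    exact E.ne (D.bt.R_index (cj_injective (h2.trans hk.symm)))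
  obtain ⟨w, hw, e⟩ := D.bt.trans i₁ (Ne.symm E.ne) hk1
  obtain ⟨x, hx, hxw⟩ := D.cover₁ E hU hw
  have hxU : x ∈ U := D.nod.W_le (D.U₁_n₂_le E hx)
  refine ⟨x, hx, mul_mem (inv_mem hxU) hu, ?_⟩
  have h1 : w⁻¹ * u ∈ U := mul_mem (inv_mem (D.nod.W_le hw)) hu
  have h2 : w⁻¹ * u ∈ centralizer (V : Set G) := by
    refine D.nod.cen_of_fix D.bt h1 (Ne.symm E.ne) ?_
    rw [cj_mul, hk, ← e, cj_inv_cj]
  have := mul_mem (UU_le_cen i₁ hxw) h2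
  have e : x⁻¹ * w * (w⁻¹ * u) = x⁻¹ * u := by group
  rwa [e] at this

/-- the action of `n₁` on `V` -/
theorem n₁_act {v : F → F → G} {w1 w2 : F → G} (c : Coord V R i₁ i₂ v w1 w2) {b : G} {p s : F}
    (hact : ∀ x y, b * v x y * b⁻¹ = v (p * x) (s * y)) (x y : F) :
    n₁ * b * n₁⁻¹ * v x y * (n₁ * b * n₁⁻¹)⁻¹ = v (s * x) (p * y) := by
  -- `n₁ = z u`, `z ∈ X`, and `U` acts as `W₁`
  have hXU : ∀ g ∈ XX V R ⊔ U, ∃ A, ActV v g A := by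
    intro g hg
    have hn : U ≤ normalizer (XX V R : Set G) := D.nod.U_le.trans (D.nod.B_X D.bt)
    rw [sup_comm] at hg
    obtain ⟨z, hz, u, hu, rfl⟩ := Solvable.Glauberman.exists_mul_of_mem_sup U (XX V R) hn hg
    obtain ⟨A, hA⟩ := c.exists_actV D.bt hz
    -- `u = w c`
    obtain ⟨k, hk⟩ := D.bt.perm u (D.nod.B_V (D.nod.U_le hu)) i₂
    have hk1 : k ≠ i₁ := by
      rintro rfl
      have h2 := cj_eq_self_iff.2 (D.nod.B_R (D.nod.U_le hu))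
      exact E.ne (D.bt.R_index (cj_injective (h2.trans hk.symm)))
    obtain ⟨w, hw, e⟩ := D.bt.trans i₁ (Ne.symm E.ne) hk1
    have h1 : w⁻¹ * u ∈ U := mul_mem (inv_mem (D.nod.W_le hw)) hu
    have h2 : w⁻¹ * u ∈ centralizer (V : Set G) := by
      refine D.nod.cen_of_fix D.bt h1 (Ne.symm E.ne) ?_
      rw [cj_mul, hk, ← e, cj_inv_cj]
    obtain ⟨A', hA'⟩ := c.exists_actV D.bt (W_le_X V R i₁ hw)
    have h3 : ActV v (w⁻¹ * u) 1 := (c.actV_one_iff).2 h2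
    have h4 := hA'.mul h3
    rw [mul_inv_cancel_left] at h4
    exact ⟨_, hA.mul h4⟩
  obtain ⟨A, hA⟩ := hXU n₁ E.n₁_XU
  have h1 : cj n₁ (R i₁) = R i₂ := cj_eq_iff_rc.2 E.n₁_2
  have h2 : cj n₁ (R i₂) = R i₁ := cj_eq_iff_rc.2 E.n₁_1
  have h00 : ent A 0 0 = 0 := by
    have h3 : n₁ * v 1 0 * n₁⁻¹ ∈ R i₂ := by rw [← h1]; exact conj_mem_cj ((c.mem_R1 _).2 ⟨1, rfl⟩)
    rw [hA, mul_one, mul_zero, add_zero, mul_one, mul_zero, add_zero] at h3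
    obtain ⟨d, hd⟩ := (c.mem_R2 _).1 h3
    exact (c.v_inj hd).1.symm
  have h11 : ent A 1 1 = 0 := by
    have h3 : n₁ * v 0 1 * n₁⁻¹ ∈ R i₁ := by rw [← h2]; exact conj_mem_cj ((c.mem_R2 _).2 ⟨1, rfl⟩)
    rw [hA, mul_one, mul_zero, zero_add, mul_one, mul_zero, zero_add] at h3
    obtain ⟨d, hd⟩ := (c.mem_R1 _).1 h3
    exact (c.v_inj hd).2.symm
  have hdet := det_eq A
  rw [h00, zero_mul, zero_sub] at hdet
  have hinv := hA.inv x y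
  rw [ent_inv A, mk_00, mk_01, mk_10, mk_11, h00, h11] at hinv
  have e : n₁ * b * n₁⁻¹ * v x y * (n₁ * b * n₁⁻¹)⁻¹ = n₁ * (b * (n₁⁻¹ * v x y * n₁⁻¹⁻¹) * b⁻¹) * n₁⁻¹ := by group
  rw [e, hinv, hact, hA, h00, h11]
  congr 1
  · linear_combination s * x * hdet
  · linear_combination p * y * hdet

end Base

end Cfsg.Agent.Omega.HOne.End

end

section


/-!
# II.0h1, END: the pair (node of `V`, node `j`), residue of type A2

`PairA`: `M` is a subgroup of order `q³` of `D`, invariant under both minimal parabolic subgroups, `V` and its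
conjugates under `P₂` are its lines through `R i₁`.
-/

set_option autoImplicit false
set_option linter.unusedSectionVars false

namespace Cfsg.Agent.Omega.HOne.End

open Subgroup Cfsg.Agent.Omega.BTwo Cfsg.Agent.RankTwoClose
open Cfsg.Agent.ParSys (Qk FpfG SepG Polygon mem_Qk Qk_le Qk_conj Qk_conj')
open Cfsg.Agent.ParSys.Hall (HallData)
open Cfsg.Agent.ParSys.Hall.HallData (PTr)
open scoped commutatorElement

variable {G : Type*} [Group G] {ι : Type*}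

/-- the elements `m` of `N(Z)` with `[q, m] ∈ Z` -/
def CZ (q : G) (Z : Subgroup G) : Subgroup G where
  carrier := {m | m ∈ normalizer (Z : Set G) ∧ q * m * q⁻¹ * m⁻¹ ∈ Z}
  one_mem' := ⟨one_mem _, by
    have : q * 1 * q⁻¹ * 1⁻¹ = 1 := by group
    rw [this]; exact one_mem _⟩
  mul_mem' := by
    rintro a b ⟨ha, ha'⟩ ⟨hb, hb'⟩
    refine ⟨mul_mem ha hb, ?_⟩
    have h1 := mul_mem ha' (BTwo.conj_mem_of_normalizer ha hb')
    have e : q * a * q⁻¹ * a⁻¹ * (a * (q * b * q⁻¹ * b⁻¹) * a⁻¹) = q * (a * b) * q⁻¹ * (a * b)⁻¹ := by group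
    rwa [e] at h1
  inv_mem' := by
    rintro a ⟨ha, ha'⟩
    refine ⟨inv_mem ha, ?_⟩
    have h1 := conj_inv_mem_of_normalizer ha (inv_mem ha')
    have e : a⁻¹ * (q * a * q⁻¹ * a⁻¹)⁻¹ * a = q * a⁻¹ * q⁻¹ * a⁻¹⁻¹ := by group
    rwa [e] at h1

theorem mem_CZ {q m : G} {Z : Subgroup G} :
    m ∈ CZ q Z ↔ m ∈ normalizer (Z : Set G) ∧ q * m * q⁻¹ * m⁻¹ ∈ Z := Iff.rfl

/-- **The pair (node of `V`, node `j`), residue of type A2.** -/
structure PairA (F : Type*) [Field F] (V : Subgroup G) (R : ι → Subgroup G) (U B H P₂ M : Subgroup G)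
    (i₁ : ι) : Prop extends Base F V R U B H P₂ i₁ where
  V_M : V ≤ M
  M_D : M ≤ DD V R
  P₂_M : P₂ ≤ normalizer (M : Set G)
  /-- the conjugates of `V` are the lines of `M` through `R i₁` -/
  span : ∀ k ∈ P₂, k ∉ B → M ≤ V ⊔ cj k V
  meet : ∀ k ∈ P₂, k ∉ B → V ⊓ cj k V ≤ R i₁
  U₁_M : ¬ UU V R i₁ ≤ centralizer (M : Set G)
  /-- `Y` is transitive on the lines `≠ V` -/
  cov₂ : ∀ u ∈ U, ∃ x ∈ YY V R, x⁻¹ * u ∈ Qk B P₂

/-- the normaliser condition of `Base` -/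
theorem NV₂_of {V : Subgroup G} {R : ι → Subgroup G} {B P₂ M : Subgroup G} {i₁ : ι} (b : BT V R)
    (span : ∀ k ∈ P₂, k ∉ B → M ≤ V ⊔ cj k V) (U₁_M : ¬ UU V R i₁ ≤ centralizer (M : Set G)) :
    P₂ ⊓ normalizer (V : Set G) ≤ B := by
  have _ := b
  rintro k ⟨hk, hkV⟩
  by_contra hkB
  have h1 := span k hk hkB
  rw [cj_eq_self_iff.2 hkV, sup_idem] at h1
  exact U₁_M ((UU_le_cen i₁).trans (centralizer_le h1))

namespace PairA

variable {F : Type*} [Field F] {V : Subgroup G} {R : ι → Subgroup G} {U B H P₂ M : Subgroup G} {i₁ : ι}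
  (D : PairA F V R U B H P₂ M i₁)
include D

theorem M_comm {a b : G} (ha : a ∈ M) (hb : b ∈ M) : a * b = b * a := D.bt.D_comm (D.M_D ha) (D.M_D hb)

theorem X_M : XX V R ≤ normalizer (M : Set G) :=
  le_normalizer_of fun x hx m hm => by
    have h1 := D.V_M (D.bt.XD hx (D.M_D hm))
    have := mul_mem h1 hm
    rwa [inv_mul_cancel_right] at this

theorem P₁_M : XX V R ⊔ B ≤ normalizer (M : Set G) := sup_le D.X_M (D.le₂.trans D.P₂_M)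

theorem W_Qk : WW V (R i₁) ≤ Qk B P₂ := by
  intro w hw g hg
  exact D.nod.U_le (D.nod.W_le (conj_inv_mem_of_normalizer (normalizer_le_WW V (R i₁) (D.P₂_R hg)) hw))

theorem cov {i₂ : ι} (h12 : i₁ ≠ i₂) {u : G} (hu : u ∈ U) : ∃ x ∈ UU V R i₂, x⁻¹ * u ∈ Qk B P₂ := by
  obtain ⟨y, hy, hq⟩ := D.cov₂ u hu
  rw [D.bt.Y_eq (Ne.symm h12)] at hy
  obtain ⟨z, hz, x, hx, rfl⟩ := Solvable.Glauberman.exists_mul_of_mem_sup (UU V R i₂) (UU V R i₁)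
    ((UU_le_cen i₂).trans (D.bt.cen_le_NU i₁)) hy
  refine ⟨x, hx, ?_⟩
  have hxP : x ∈ P₂ := D.le₂ (D.nod.U_le (D.U_UU i₂ hx))
  have h1 := Qk_conj (D.W_Qk (UU_le_WW i₁ hz)) hxP
  have h2 := mul_mem h1 hq
  have e : x⁻¹ * z * x * ((z * x)⁻¹ * u) = x⁻¹ * u := by group
  rwa [e] at h2

variable [Finite G] [Fact (Nat.Prime 2)] [CharP F 2] {i₂ : ι} {n₁ n₂ : G} (E : Fr V R U B H P₂ i₁ i₂ n₁ n₂)
include E

/-- the third point -/
theorem V_n₂ : rc V n₂ = R i₁ ⊔ rc (R i₂) n₂ := by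
  have h := D.V_eq E
  conv_lhs => rw [h]
  rw [rc_sup, D.n₂_R E]

theorem M_n₂ : rc M n₂ = M := rc_eq_of_mem_normalizer (D.P₂_M E.n₂_mem)

theorem M_n₁ : rc M n₁ = M := rc_eq_of_mem_normalizer (D.P₁_M E.n₁_mem)

theorem R₃_M : rc (R i₂) n₂ ≤ M := by
  rw [← D.M_n₂ E]
  exact rc_mono ((D.bt.R_le i₂).trans D.V_M) n₂

theorem n₂_inv_not : n₂⁻¹ ∉ B := fun h => E.n₂_not (by simpa using inv_mem h)

theorem M_le : M ≤ V ⊔ rc (R i₂) n₂ := by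
  have h1 := D.span n₂⁻¹ (inv_mem E.n₂_mem) (D.n₂_inv_not E)
  rw [← rc_eq_cj, D.V_n₂ E] at h1
  refine h1.trans (sup_le le_sup_left (sup_le ((D.bt.R_le i₁).trans le_sup_left) le_sup_right))

theorem R₃_V {x : G} (hx : x ∈ V) (hx' : x ∈ rc (R i₂) n₂) : x = 1 := by
  have h1 := D.meet n₂⁻¹ (inv_mem E.n₂_mem) (D.n₂_inv_not E)
  rw [← rc_eq_cj] at h1
  have h2 : x ∈ R i₁ := h1 ⟨hx, rc_mono (D.bt.R_le i₂) n₂ hx'⟩
  rw [← D.n₂_R E, mem_rc] at h2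
  rw [mem_rc] at hx'
  have h3 := D.bt.eq_one E.ne h2 hx'
  have e : x = n₂⁻¹ * (n₂ * x * n₂⁻¹) * n₂ := by group
  rw [e, h3]; group

/-- `U ∩ Qk` acts trivially on `M / R i₁` -/
theorem Qk_M {q m : G} (hq : q ∈ U) (hqQ : q ∈ Qk B P₂) (hm : m ∈ M) : q * m * q⁻¹ * m⁻¹ ∈ R i₁ := by
  have hR : M ≤ normalizer (R i₁ : Set G) := le_normalizer_of fun x hx y hy => by
    rw [D.M_comm hx (D.V_M (D.bt.R_le i₁ hy)), mul_inv_cancel_right]
    exact hy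
  have h1 : V ≤ CZ q (R i₁) := fun v hv => ⟨hR (D.V_M hv), D.nod.UV q hq v hv⟩
  have h2 : rc (R i₂) n₂ ≤ CZ q (R i₁) := by
    intro r hr
    refine ⟨hR (D.R₃_M E hr), ?_⟩
    have h3 : n₂ * q * n₂⁻¹ ∈ U := by
      have h4 : n₂⁻¹⁻¹ * q * n₂⁻¹ ∈ U := D.two_elt hq (Qk_le _ _ (Qk_conj hqQ (inv_mem E.n₂_mem)))
      rwa [inv_inv] at h4
    have h4 := D.nod.UV _ h3 _ (D.bt.R_le i₂ (mem_rc.1 hr))
    have h5 : q * r * q⁻¹ * r⁻¹ ∈ rc (R i₁) n₂ := by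
      rw [mem_rc]
      have e : n₂ * (q * r * q⁻¹ * r⁻¹) * n₂⁻¹ =
          n₂ * q * n₂⁻¹ * (n₂ * r * n₂⁻¹) * (n₂ * q * n₂⁻¹)⁻¹ * (n₂ * r * n₂⁻¹)⁻¹ := by group
      rwa [e]
    rwa [D.n₂_R E] at h5
  exact ((D.M_le E).trans (sup_le h1 h2) hm).2

/-- `[M, U] ≤ V` -/
theorem U_M {u m : G} (hu : u ∈ U) (hm : m ∈ M) : u * m * u⁻¹ * m⁻¹ ∈ V := by
  obtain ⟨x, hx, hq⟩ := D.cov E.ne hu
  have hxX : x ∈ XX V R := YY_le_XX (UU_le_YY i₂ hx)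
  have h1 := D.bt.XD hxX (D.M_D hm)
  have h2 := D.bt.R_le i₁ (D.Qk_M E (mul_mem (inv_mem (D.U_UU i₂ hx)) hu) hq hm)
  have h3 := mul_mem (BTwo.conj_mem_of_normalizer (D.bt.X_le_NV hxX) h2) h1
  have e : x * (x⁻¹ * u * m * (x⁻¹ * u)⁻¹ * m⁻¹) * x⁻¹ * (x * m * x⁻¹ * m⁻¹) = u * m * u⁻¹ * m⁻¹ := by group
  rwa [e] at h3

/-- an `H`-invariant subgroup of `M` which meets `V` trivially is in `R₃` -/
theorem le_R₃ {K : Subgroup G} (hK : K ≤ M) (hH : ∀ h ∈ H, rc K h = K) (hV : ∀ x ∈ K, x ∈ V → x = 1) :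
    K ≤ rc (R i₂) n₂ := by
  obtain ⟨v, w1, w2, c⟩ := D.coord i₂ E.ne
  obtain ⟨a, ha, ha1⟩ := D.big
  obtain ⟨h, hh', hact, u, hu, huV, e⟩ := D.exists_tor E.ne E.H_R c ha
  have h1 : ∀ m ∈ M, h * m * h⁻¹ * m⁻¹ ∈ V := by
    intro m hm
    have h2 := D.bt.XD (c.hh_mem_X D.bt a) (D.M_D hm)
    have h3 := D.U_M E (inv_mem hu) hm
    have h4 := mul_mem (conj_inv_mem_of_normalizer (cen_le_NV V huV) h2) h3
    have e2 : u⁻¹ * (hh w1 w2 a * m * (hh w1 w2 a)⁻¹ * m⁻¹) * u * (u⁻¹ * m * u⁻¹⁻¹ * m⁻¹) =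
        h * m * h⁻¹ * m⁻¹ := by rw [e]; group
    rwa [e2] at h4
  intro r hr
  have hrM := hK hr
  -- `r` commutes with `h`
  have h2 : h * r * h⁻¹ = r := by
    have h3 : h * r * h⁻¹ ∈ K := by
      have := hH h⁻¹ (inv_mem hh')
      rw [← this, mem_rc]
      have e3 : h⁻¹ * (h * r * h⁻¹) * h⁻¹⁻¹ = r := by group
      rwa [e3]
    exact mul_inv_eq_one.1 (hV _ (mul_mem h3 (inv_mem hr)) (h1 r hrM))
  -- decompose
  have hn : rc (R i₂) n₂ ≤ normalizer (V : Set G) := le_normalizer_of fun x hx y hy => by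
    rw [D.M_comm (D.R₃_M E hx) (D.V_M hy), mul_inv_cancel_right]
    exact hy
  have h3 := D.M_le E hrM
  rw [sup_comm] at h3
  obtain ⟨x, hx, s, hs, rfl⟩ := Solvable.Glauberman.exists_mul_of_mem_sup _ V hn h3
  have h4 : h * s * h⁻¹ = s := by
    have h5 : h * s * h⁻¹ ∈ rc (R i₂) n₂ := by
      rw [mem_rc]
      have h6 : n₂ * h * n₂⁻¹ ∈ H := BTwo.conj_mem_of_normalizer E.n₂_H hh'
      have h7 := BTwo.conj_mem_of_normalizer (E.H_R h6) (mem_rc.1 hs)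
      have e3 : n₂ * h * n₂⁻¹ * (n₂ * s * n₂⁻¹) * (n₂ * h * n₂⁻¹)⁻¹ = n₂ * (h * s * h⁻¹) * n₂⁻¹ := by group
      rwa [e3] at h7
    exact mul_inv_eq_one.1 (D.R₃_V E (h1 s (D.R₃_M E hs)) (mul_mem h5 (inv_mem hs)))
  have h5 : h * x * h⁻¹ = x := by
    have h6 : h * x * h⁻¹ * (h * s * h⁻¹) = x * s := by
      rw [← h2]; group
    rw [h4] at h6
    exact mul_right_cancel h6
  obtain ⟨p, q, rfl⟩ := (c.mem_V x).1 hx
  rw [hact] at h5
  obtain ⟨h6, h7⟩ := c.v_inj h5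
  have hp : p = 0 := by
    have : (a - 1) * p = 0 := by rw [sub_mul, h6, one_mul, sub_self]
    exact (mul_eq_zero.1 this).resolve_left (sub_ne_zero.2 ha1)
  have hq : q = 0 := by
    have : (a⁻¹ - 1) * q = 0 := by rw [sub_mul, h7, one_mul, sub_self]
    refine (mul_eq_zero.1 this).resolve_left (sub_ne_zero.2 fun h => ha1 ?_)
    rw [← inv_inv a, h, inv_one]
  rw [hp, hq, c.v_zero, one_mul]
  exact hs

theorem R₃_H {h : G} (hh : h ∈ H) : rc (rc (R i₂) n₂) h = rc (R i₂) n₂ := by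
  have h1 : n₂ * h * n₂⁻¹ ∈ H := BTwo.conj_mem_of_normalizer E.n₂_H hh
  have h2 := rc_eq_of_mem_normalizer (E.H_R h1)
  have e : n₂ * h = (n₂ * h * n₂⁻¹) * n₂ := by group
  rw [rc_rc, e, ← rc_rc, h2]

theorem R₃_n₁_le {n : G} (hn : n ∈ XX V R ⊔ B) (hnH : n ∈ normalizer (H : Set G)) :
    rc (rc (R i₂) n₂) n ≤ rc (R i₂) n₂ := by
  have hnV := D.nod.P_V D.bt hn
  refine D.le_R₃ E ?_ ?_ ?_
  · rw [← rc_eq_of_mem_normalizer (D.P₁_M hn)]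
    exact rc_mono (D.R₃_M E) n
  · intro h hh
    have h1 : n * h * n⁻¹ ∈ H := BTwo.conj_mem_of_normalizer hnH hh
    have e : n * h = (n * h * n⁻¹) * n := by group
    rw [rc_rc, e, ← rc_rc, D.R₃_H E h1]
  · intro x hx hxV
    rw [mem_rc] at hx
    have h1 := D.R₃_V E (BTwo.conj_mem_of_normalizer hnV hxV) hx
    have e : x = n⁻¹ * (n * x * n⁻¹) * n := by group
    rw [e, h1]; group

/-- `n₁` normalises `R₃` -/
theorem R₃_n₁ : rc (rc (R i₂) n₂) n₁ = rc (R i₂) n₂ := by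
  apply le_antisymm (D.R₃_n₁_le E E.n₁_mem E.n₁_H)
  have h1 := rc_mono (D.R₃_n₁_le E (inv_mem E.n₁_mem) (inv_mem E.n₁_H)) n₁
  rwa [rc_rc, inv_mul_cancel, rc_one] at h1

theorem R₃_n₂ : rc (rc (R i₂) n₂) n₂ = R i₂ := by
  rw [rc_rc]
  refine rc_eq_of_mem_normalizer (cj_eq_self_iff.1 ?_)
  exact D.norm_R₂ E (D.n₂_sq E) (mul_mem E.n₂_H E.n₂_H)

theorem R₃_bot : rc (R i₂) n₂ ≠ ⊥ := by
  intro h
  apply D.bt.R_ne i₂
  rw [← rc_bot n₂] at h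
  exact rc_inj h

theorem U₁_V : ¬ rc (UU V R i₁) n₂ ≤ centralizer (V : Set G) := by
  intro h
  apply D.U₁_M
  -- `U₁` centralises `V` and `rc V n₂⁻¹`
  have h1 : ∀ u ∈ UU V R i₁, Ce (rc V n₂⁻¹) u := by
    intro u hu
    have h2 : Ce V (n₂⁻¹ * u * n₂) := by
      intro r hr
      exact (mem_centralizer_iff.1 (h (mem_rc_conj hu)) r hr).symm
    have h3 := h2.conj n₂⁻¹
    have e : n₂⁻¹⁻¹ * (n₂⁻¹ * u * n₂) * n₂⁻¹ = u := by group
    rwa [e] at h3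
  have h2 : M ≤ V ⊔ cj n₂ V := D.span n₂ E.n₂_mem E.n₂_not
  rw [← rc_inv_eq_cj] at h2
  intro u hu
  have h3 : V ⊔ rc V n₂⁻¹ ≤ centralizer {u} := by
    refine sup_le (fun v hv => ?_) (fun v hv => ?_)
    · rw [mem_centralizer_singleton_iff]
      exact mem_centralizer_iff.1 (UU_le_cen i₁ hu) v hv
    · rw [mem_centralizer_singleton_iff]
      exact (h1 u hu v hv).symm
  rw [mem_centralizer_iff]
  exact fun m hm => mem_centralizer_singleton_iff.1 (h3 (h2 hm))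

/-- `U₂` consists of elations -/
theorem U₂_Mv {L : Subgroup G} (hL : XX V R ≤ L) {u : G} (hu : u ∈ UU V R i₂) :
    Mv L (R i₂) (rc (R i₂) n₂) (R i₁) u where
  mem := hL (YY_le_XX (UU_le_YY i₂ hu))
  fixA := fun r hr => (mem_centralizer_iff.1 (UU_le_cen i₂ hu) r (D.bt.R_le i₂ hr)).symm
  fixD := fun r hr => (mem_centralizer_iff.1 (UU_le_cen i₂ hu) r (D.bt.R_le i₁ hr)).symm
  move := by
    intro r hr
    -- `r⁻¹ u⁻¹ r u = [r⁻¹, u⁻¹]`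
    have h1 := D.bt.DU (inv_mem (D.M_D (D.R₃_M E hr))) (inv_mem hu)
    have e : r⁻¹ * u⁻¹ * r⁻¹⁻¹ * u⁻¹⁻¹ = r⁻¹ * (u⁻¹ * r * u) := by group
    rwa [e] at h1

/-- the elements of `B` fixing the frame -/
def Bf (_ : PairA F V R U B H P₂ M i₁) (_ : Fr V R U B H P₂ i₁ i₂ n₁ n₂) : Subgroup G :=
  B ⊓ (normalizer (R i₂ : Set G) ⊓ normalizer ((rc (R i₂) n₂ : Subgroup G) : Set G))

theorem mem_Bf {x : G} : x ∈ D.Bf E ↔ x ∈ B ∧ rc (R i₂) x = R i₂ ∧ rc (rc (R i₂) n₂) x = rc (R i₂) n₂ := by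
  rw [Bf, mem_inf, mem_inf]
  refine and_congr_right fun _ => and_congr ⟨rc_eq_of_mem_normalizer, mem_normalizer_of_rc_eq⟩
    ⟨rc_eq_of_mem_normalizer, mem_normalizer_of_rc_eq⟩

theorem Bf_n₁ {n : G} (hn : n ∈ XX V R ⊔ B) (h12 : rc (R i₁) n = R i₂) (h21 : rc (R i₂) n = R i₁)
    (h3 : rc (rc (R i₂) n₂) n = rc (R i₂) n₂) {x : G} (hx : x ∈ D.Bf E) : n⁻¹ * x * n ∈ D.Bf E := by
  rw [D.mem_Bf E] at hx ⊢
  obtain ⟨hB, h2, h3'⟩ := hx
  have hP : n⁻¹ * x * n ∈ XX V R ⊔ B := mul_mem (mul_mem (inv_mem hn) (mem_sup_right hB)) hn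
  have i12 : rc (R i₂) n⁻¹ = R i₁ := by rw [← h12, rc_rc, mul_inv_cancel, rc_one]
  have i21 : rc (R i₁) n⁻¹ = R i₂ := by rw [← h21, rc_rc, mul_inv_cancel, rc_one]
  have i3 : rc (rc (R i₂) n₂) n⁻¹ = rc (R i₂) n₂ := by
    conv_lhs => rw [← h3]
    rw [rc_rc, mul_inv_cancel, rc_one]
  have h1 : rc (R i₁) x = R i₁ := rc_eq_of_mem_normalizer (D.nod.B_R hB)
  refine ⟨?_, ?_, ?_⟩
  · rw [D.nod.mem_B_iff D.bt hP, cj_eq_iff_rc, ← rc_rc, ← rc_rc, i21, h2, h21]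
  · rw [← rc_rc, ← rc_rc, i12, h1, h12]
  · rw [← rc_rc, ← rc_rc, i3, h3', h3]

theorem Bf_n₂ {n : G} (hn : n ∈ P₂) (h2 : rc (R i₂) n = rc (R i₂) n₂) (h3 : rc (rc (R i₂) n₂) n = R i₂)
    {x : G} (hx : x ∈ D.Bf E) : n⁻¹ * x * n ∈ D.Bf E := by
  rw [D.mem_Bf E] at hx ⊢
  obtain ⟨hB, h2', h3'⟩ := hx
  have i23 : rc (rc (R i₂) n₂) n⁻¹ = R i₂ := by rw [← h2, rc_rc, mul_inv_cancel, rc_one]
  have i32 : rc (R i₂) n⁻¹ = rc (R i₂) n₂ := by
    conv_lhs => rw [← h3]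
    rw [rc_rc, mul_inv_cancel, rc_one]
  have k2 : rc (R i₂) (n⁻¹ * x * n) = R i₂ := by rw [← rc_rc, ← rc_rc, i32, h3', h3]
  refine ⟨?_, k2, ?_⟩
  · refine D.NV₂ (mem_inf.2 ⟨mul_mem (mul_mem (inv_mem hn) (D.le₂ hB)) hn, mem_normalizer_of_rc_eq ?_⟩)
    have h4 : rc (R i₁) (n⁻¹ * x * n) = R i₁ :=
      rc_eq_of_mem_normalizer (D.P₂_R (mul_mem (mul_mem (inv_mem hn) (D.le₂ hB)) hn))
    rw [D.V_eq E, rc_sup, k2, h4]
  · rw [← rc_rc, ← rc_rc, i23, h2', h2]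

/-- the residue as a `Duo` -/
theorem duo : Duo 2 B U H (fun i => if i then P₂ else XX V R ⊔ B) (fun i => if i then n₂ else n₁) where
  hall := D.hall
  le i := by cases i <;> simp [D.le₂]
  ptr i := by
    cases i
    · simpa using D.ptr₁
    · simpa using D.ptr₂
  fix i := by
    cases i
    · simpa using D.fix₁
    · simpa using D.fix₂
  inf := by
    apply le_antisymm
    · intro x hx
      have hx1 : x ∈ XX V R ⊔ B := by simpa using (mem_inf.1 hx).1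
      have hx2 : x ∈ P₂ := by simpa using (mem_inf.1 hx).2
      exact D.NV₂ ⟨hx2, D.nod.P_V D.bt hx1⟩
    · refine le_inf ?_ ?_
      · simp
      · simpa using D.le₂
  n_mem i := by
    cases i
    · simpa using E.n₁_mem
    · simpa using E.n₂_mem
  n_not i := by
    cases i
    · simpa using E.n₁_not
    · simpa using E.n₂_not
  n_norm i := by
    cases i
    · simpa using E.n₁_H
    · simpa using E.n₂_H
  thick i := by
    have key : ∀ (P : Subgroup G) (n : G), B ≤ P → PTr B U P →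
        (∃ x ∈ P, ∃ y ∈ P, x ∉ B ∧ y ∉ B ∧ x⁻¹ * y ∉ B) → n ∈ P → n ∉ B → ∃ b ∈ B, n * b * n⁻¹ ∉ B := by
      intro P n hBP hptr h3 hn hnB
      by_contra hc
      push Not at hc
      have hc' : n ∈ normalizer (B : Set G) := mem_normalizer_of_conj hc
      obtain ⟨x, hx, y, hy, hxB, hyB, hxy⟩ := h3
      have hform : ∀ z ∈ P, z ∉ B → ∃ b ∈ B, z = n * b := by
        intro z hz hzB
        obtain ⟨u, hu, b, hb, e⟩ := hptr n hn hnB z hz hzB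
        have h4 := conj_inv_mem_of_normalizer hc' (D.nod.U_le hu)
        exact ⟨n⁻¹ * u * n * b, mul_mem h4 hb, by rw [e]; group⟩
      obtain ⟨b, hb, rfl⟩ := hform x hx hxB
      obtain ⟨b', hb', rfl⟩ := hform y hy hyB
      apply hxy
      have e : (n * b)⁻¹ * (n * b') = b⁻¹ * b' := by group
      rw [e]
      exact mul_mem (inv_mem hb) hb'
    cases i
    · simpa using key _ _ le_sup_right D.ptr₁ (D.nod.three D.bt) E.n₁_mem E.n₁_not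
    · simpa using key _ _ D.le₂ D.ptr₂ D.three₂ E.n₂_mem E.n₂_not

theorem fixPart : FixPart (D.duo E).frame (D.Bf E) where
  le := inf_le_left
  norm i := by
    have key : ∀ n, (∀ x ∈ D.Bf E, n⁻¹ * x * n ∈ D.Bf E) → n ∈ normalizer (D.Bf E : Set G) := by
      intro n hn
      have : n⁻¹ ∈ normalizer (D.Bf E : Set G) := mem_normalizer_of_conj fun x hx => by
        rw [inv_inv]; exact hn x hx
      simpa using inv_mem this
    cases i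
    · exact key n₁ fun x hx => D.Bf_n₁ E E.n₁_mem E.n₁_1 E.n₁_2 (D.R₃_n₁ E) hx
    · exact key n₂ fun x hx => D.Bf_n₂ E E.n₂_mem rfl (D.R₃_n₂ E) hx

/-- `U₁^n₂` centralises `R₃` -/
theorem X1_R₃ : rc (UU V R i₁) n₂ ≤ centralizer (rc (R i₂) n₂ : Set G) := by
  intro x hx
  have h1 : Ce V (n₂ * x * n₂⁻¹) := fun r hr => (mem_centralizer_iff.1 (UU_le_cen i₁ (mem_rc.1 hx)) r hr).symm
  have h2 := h1.conj n₂
  have e : n₂⁻¹ * (n₂ * x * n₂⁻¹) * n₂ = x := by group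
  rw [e] at h2
  rw [mem_centralizer_iff]
  exact fun r hr => (h2 r (rc_mono (D.bt.R_le i₂) n₂ hr)).symm

theorem X2_R₃ : rc (UU V R i₁) (n₂ * n₁) ≤ centralizer (rc (R i₂) n₂ : Set G) := by
  intro x hx
  rw [← rc_rc, mem_rc] at hx
  have h1 : Ce (rc (R i₂) n₂) (n₁ * x * n₁⁻¹) := fun r hr =>
    (mem_centralizer_iff.1 (D.X1_R₃ E hx) r hr).symm
  have h2 := h1.conj n₁
  have e : n₁⁻¹ * (n₁ * x * n₁⁻¹) * n₁ = x := by group
  rw [e, D.R₃_n₁ E] at h2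
  rw [mem_centralizer_iff]
  exact fun r hr => (h2 r hr).symm

/-- coordinates with root groups in `⟨U₁^n₂, U₁^(n₂ n₁)⟩` -/
theorem exists_coord [Finite F] : ∃ (v : F → F → G) (x1 x2 : F → G), Coord V R i₁ i₂ v x1 x2 ∧
    (∀ a, x1 a ∈ rc (UU V R i₁) n₂) ∧ ∀ a, x2 a ∈ rc (UU V R i₁) (n₂ * n₁) := by
  obtain ⟨v, w1, w2, c⟩ := D.coord i₂ E.ne
  -- the action does not change
  have act : ∀ {w x : G}, x⁻¹ * w ∈ centralizer (V : Set G) → ∀ p q, x * v p q * x⁻¹ = w * v p q * w⁻¹ := by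
    intro w x h p q
    have h1 := mem_centralizer_iff.1 h _ (c.v_mem p q)
    calc x * v p q * x⁻¹ = x * (v p q * (x⁻¹ * w)) * w⁻¹ := by group
      _ = x * (x⁻¹ * w * v p q) * w⁻¹ := by rw [h1]
      _ = w * v p q * w⁻¹ := by group
  have h1 : ∀ a, ∃ x ∈ rc (UU V R i₁) n₂, ∀ p q, x * v p q * x⁻¹ = v (p + a * q) q := by
    intro a
    obtain ⟨x, hx, hxw⟩ := D.cover₁ E (D.U₁_V E) (c.w1_mem a)
    exact ⟨x, hx, fun p q => by rw [act (UU_le_cen i₁ hxw), c.w1_act]⟩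
  have h2 : ∀ a, ∃ x ∈ rc (UU V R i₁) (n₂ * n₁), ∀ p q, x * v p q * x⁻¹ = v p (q + a * p) := by
    intro a
    have h3 : n₁ * w2 a * n₁⁻¹ ∈ WW V (R i₁) := by
      rw [← mem_rc, D.W₁_n₁ E]; exact c.w2_mem a
    obtain ⟨x, hx, hxw⟩ := D.cover₁ E (D.U₁_V E) h3
    refine ⟨n₁⁻¹ * x * n₁, ?_, fun p q => ?_⟩
    · rw [← rc_rc]; exact mem_rc_conj hx
    · have h4 := mem_rc_conj (g := n₁) hxw
      rw [D.U₁_n₁ E] at h4
      have e : n₁⁻¹ * (x⁻¹ * (n₁ * w2 a * n₁⁻¹)) * n₁ = (n₁⁻¹ * x * n₁)⁻¹ * w2 a := by group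
      rw [e] at h4
      rw [act (UU_le_cen i₂ h4), c.w2_act]
  choose x1 h1m h1a using h1
  choose x2 h2m h2a using h2
  have h2W : ∀ a, x2 a ∈ WW V (R i₂) := by
    intro a
    rw [← D.W₁_n₁ E]
    have := h2m a
    rw [← rc_rc] at this
    exact rc_mono (D.U₁_n₂_le E) n₁ this
  exact ⟨v, x1, x2, { c with
    w1_mem := fun a => D.U₁_n₂_le E (h1m a)
    w2_mem := h2W
    w1_act := fun a p q => h1a a p q
    w2_act := fun a p q => h2a a p q }, h1m, h2m⟩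

/-- `U₁` is determined by the flag `(R i₁, V)` -/
theorem norm_U₁ {g : G} (h1 : rc (R i₁) g = R i₁) (h2 : rc (R i₂) g = R i₂) : rc (UU V R i₁) g = UU V R i₁ := by
  have hV : g ∈ normalizer (V : Set G) := by
    apply mem_normalizer_of_rc_eq
    rw [D.V_eq E, rc_sup, h1, h2]
  refine rc_eq_of_mem_normalizer (cj_eq_self_iff.1 (D.bt.cj_UU hV ?_))
  exact cj_eq_self_iff.2 (mem_normalizer_of_rc_eq h1)

/-- `w = n₂ n₁` maps `⟨U₁^n₂, U₁^(n₂ n₁)⟩` to `⟨U₂, U₂^n₂⟩` -/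
theorem conj_w {x : G} (hx : x ∈ rc (UU V R i₁) n₂ ⊔ rc (UU V R i₁) (n₂ * n₁)) :
    (n₂ * n₁)⁻¹ * x * (n₂ * n₁) ∈ UU V R i₂ ⊔ rc (UU V R i₂) n₂ := by
  have e1 : rc (UU V R i₁) (n₂ * (n₂ * n₁)) = UU V R i₂ := by
    rw [← mul_assoc, ← rc_rc, D.U₁_sq E, D.U₁_n₁ E]
  have e2 : rc (UU V R i₁) (n₂ * n₁ * (n₂ * n₁)) = rc (UU V R i₂) n₂ := by
    have k1 : rc (R i₁) (n₂ * n₁ * (n₂ * n₁)) = rc (R i₂) n₂ := by
      simp only [← rc_rc]
      rw [D.n₂_R E, E.n₁_1, D.R₃_n₁ E]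
    have k2 : rc (R i₁) (n₁ * n₂) = rc (R i₂) n₂ := by rw [← rc_rc, E.n₁_1]
    have k3 : rc (R i₂) (n₂ * n₁ * (n₂ * n₁)) = R i₁ := by
      simp only [← rc_rc]
      rw [D.R₃_n₁ E, D.R₃_n₂ E, E.n₁_2]
    have k4 : rc (R i₂) (n₁ * n₂) = R i₁ := by rw [← rc_rc, E.n₁_2, D.n₂_R E]
    have k : ∀ {A A' : Subgroup G}, rc A (n₂ * n₁ * (n₂ * n₁)) = A' → rc A (n₁ * n₂) = A' →
        rc A (n₂ * n₁ * (n₂ * n₁) * (n₁ * n₂)⁻¹) = A := by
      intro A A' h h'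
      rw [← rc_rc, h, ← h', rc_rc, mul_inv_cancel, rc_one]
    have h := D.norm_U₁ E (k k1 k2) (k k3 k4)
    have h2 := congrArg (fun A => rc A (n₁ * n₂)) h
    simp only [rc_rc, inv_mul_cancel_right] at h2
    rw [h2, ← rc_rc, D.U₁_n₁ E]
  have key : rc (UU V R i₁) n₂ ⊔ rc (UU V R i₁) (n₂ * n₁) ≤ rc (UU V R i₂ ⊔ rc (UU V R i₂) n₂) (n₂ * n₁)⁻¹ := by
    refine sup_le (fun y hy => ?_) (fun y hy => ?_)
    · rw [mem_rc, inv_inv]
      have := mem_rc_conj (g := n₂ * n₁) hy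
      rw [rc_rc, e1] at this
      exact mem_sup_left this
    · rw [mem_rc, inv_inv]
      have := mem_rc_conj (g := n₂ * n₁) hy
      rw [rc_rc, e2] at this
      exact mem_sup_right this
  have := key hx
  rwa [mem_rc, inv_inv] at this

/-- **BRAID** -/
theorem braid [Finite F] : (D.duo E).frame.Braid 3 := by
  obtain ⟨v, x1, x2, c, hx1, hx2⟩ := D.exists_coord E
  set l := nn x1 x2 (1 : F) with hl
  have hlX : l ∈ rc (UU V R i₁) n₂ ⊔ rc (UU V R i₁) (n₂ * n₁) :=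
    mul_mem (mul_mem (mem_sup_left (hx1 _)) (mem_sup_right (hx2 _))) (mem_sup_left (hx1 _))
  have hl1 : cj l (R i₁) = R i₂ := c.nn_R1 D.bt one_ne_zero
  have hl2 : cj l (R i₂) = R i₁ := c.nn_R2 D.bt one_ne_zero
  have hlXX : l ∈ XX V R := c.nn_mem_X D.bt 1
  have hX3 : rc (UU V R i₁) n₂ ⊔ rc (UU V R i₁) (n₂ * n₁) ≤ centralizer (rc (R i₂) n₂ : Set G) :=
    sup_le (D.X1_R₃ E) (D.X2_R₃ E)
  have hl3 : rc (rc (R i₂) n₂) l = rc (R i₂) n₂ := by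
    refine Ce.rc_eq fun r hr => ?_
    exact (mem_centralizer_iff.1 (hX3 hlX) r hr).symm
  have hn₁P := E.n₁_mem
  have hb : n₁⁻¹ * l ∈ D.Bf E := by
    rw [D.mem_Bf E]
    have hP : n₁⁻¹ * l ∈ XX V R ⊔ B := mul_mem (inv_mem hn₁P) (mem_sup_left hlXX)
    refine ⟨?_, ?_, ?_⟩
    · rw [D.nod.mem_B_iff D.bt hP, cj_mul, hl1, ← rc_eq_cj, E.n₁_2]
    · rw [← rc_rc, D.n₁_2' E]
      exact cj_eq_iff_rc.1 hl2
    · have : rc (rc (R i₂) n₂) n₁⁻¹ = rc (R i₂) n₂ := by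
        conv_lhs => rw [← D.R₃_n₁ E]
        rw [rc_rc, mul_inv_cancel, rc_one]
      rw [← rc_rc, this, hl3]
  have hU₂P : UU V R i₂ ≤ P₂ := (D.U_UU i₂).trans (D.nod.U_le.trans D.le₂)
  have h1 : (n₂ * n₁)⁻¹ * l * (n₂ * n₁) ∈ P₂ := by
    refine (sup_le hU₂P ?_) (D.conj_w E hlX)
    intro y hy
    have := mul_mem (mul_mem (inv_mem E.n₂_mem) (hU₂P (mem_rc.1 hy))) E.n₂_mem
    have e : n₂⁻¹ * (n₂ * y * n₂⁻¹) * n₂ = y := by group
    rwa [e] at this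
  have hf := D.fixPart E
  have h2 : (n₂ * n₁)⁻¹ * (n₁⁻¹ * l) * (n₂ * n₁) ∈ P₂ := by
    have h3 : n₁⁻¹ * (n₂⁻¹ * (n₁⁻¹ * l) * n₂) * n₁ ∈ D.Bf E := hf.conj' false (hf.conj' true hb)
    have e : n₁⁻¹ * (n₂⁻¹ * (n₁⁻¹ * l) * n₂) * n₁ = (n₂ * n₁)⁻¹ * (n₁⁻¹ * l) * (n₂ * n₁) := by group
    rw [e] at h3
    exact D.le₂ (hf.le h3)
  refine braid_of_conj _ (m := 2) (i := false) ?_
  have hw : RankTwoClose.alt (D.duo E).frame.n (!false) 2 = n₂ * n₁ := by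
    simp [RankTwoClose.alt_succ]
  have hnxt : RankTwoClose.nxt (!false) 2 = true := by simp [RankTwoClose.nxt]
  rw [hnxt, hw]
  show (n₂ * n₁)⁻¹ * n₁ * (n₂ * n₁) ∈ P₂
  have := mul_mem h1 (inv_mem h2)
  have e : (n₂ * n₁)⁻¹ * l * (n₂ * n₁) * ((n₂ * n₁)⁻¹ * (n₁⁻¹ * l) * (n₂ * n₁))⁻¹ =
      (n₂ * n₁)⁻¹ * n₁ * (n₂ * n₁) := by group
  rwa [e] at this

/-- **PATH** -/
theorem path [Finite F] : ∀ k < 3, (D.duo E).frame.PathTo k := by
  refine path_three (F := (D.duo E).frame) (U₁ := UU V R i₁) (U₂ := UU V R i₂) false (D.U₁_n₁ E) (D.U₂_n₁ E)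
    ((D.U_UU i₁).trans D.nod.U_le) ((D.U_UU i₂).trans D.nod.U_le) ?_ ?_ ?_ ?_
  · intro x hx
    have h1 : n₂ * x * n₂⁻¹ ∈ WW V (R i₁) :=
      BTwo.conj_mem_of_normalizer (normalizer_le_WW V (R i₁) (D.P₂_R E.n₂_mem)) (UU_le_WW i₁ hx)
    exact D.nod.U_le (D.nod.W_le h1)
  · exact (D.U₁_n₂_le E).trans (D.nod.W_le.trans D.nod.U_le)
  · intro b hb
    obtain ⟨u, hu, h, hh, rfl⟩ := D.exists_uh hb
    obtain ⟨x, hx, hxu, hxV⟩ := D.cover_U E (D.U₁_V E) hu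
    refine ⟨x, hx, x⁻¹ * u * h, mul_mem (D.nod.U_le hxu) (D.hall.H_le hh), by group, ?_⟩
    have h1 : n₁⁻¹ * (x⁻¹ * u) * n₁ ∈ B := D.nod.cen_Qk D.bt (D.nod.U_le hxu) hxV n₁ E.n₁_mem
    have h2 : n₁⁻¹ * h * n₁ ∈ B := D.hall.H_le (conj_inv_mem_of_normalizer E.n₁_H hh)
    have e : n₁⁻¹ * (x⁻¹ * u * h) * n₁ = n₁⁻¹ * (x⁻¹ * u) * n₁ * (n₁⁻¹ * h * n₁) := by group
    show n₁⁻¹ * (x⁻¹ * u * h) * n₁ ∈ B
    rw [e]
    exact mul_mem h1 h2
  · intro b hb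
    obtain ⟨u, hu, h, hh, rfl⟩ := D.exists_uh hb
    obtain ⟨x, hx, hq⟩ := D.cov E.ne hu
    have hxu : x⁻¹ * u ∈ B := Qk_le _ _ hq
    refine ⟨x, hx, x⁻¹ * u * h, mul_mem hxu (D.hall.H_le hh), by group, ?_⟩
    have h1 : n₂⁻¹ * (x⁻¹ * u) * n₂ ∈ B := hq n₂ E.n₂_mem
    have h2 : n₂⁻¹ * h * n₂ ∈ B := D.hall.H_le (conj_inv_mem_of_normalizer E.n₂_H hh)
    have e : n₂⁻¹ * (x⁻¹ * u * h) * n₂ = n₂⁻¹ * (x⁻¹ * u) * n₂ * (n₂⁻¹ * h * n₂) := by group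
    show n₂⁻¹ * (x⁻¹ * u * h) * n₂ ∈ B
    rw [e]
    exact mul_mem h1 h2

omit E in
/-- **The residue of type A2 is a generalised polygon.** -/
theorem polygon [Finite F] {I : Type*} {Q : I → Subgroup G} {x y : I} (hx : Q x = XX V R ⊔ B) (hy : Q y = P₂) :
    ∃ k, 3 ≤ k ∧ Polygon B Q x y k := by
  obtain ⟨i₂, n₁, n₂, E⟩ := D.exists_fr
  obtain ⟨k, -, h, h3⟩ := (D.duo E).exists_polygon (D.braid E) (by norm_num) (D.path E) (R := Q) (a := x) (b := y)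
    (by simpa using hx) (by simpa using hy)
  refine ⟨k, h3.2 ?_, h⟩
  intro hB
  have h1 : cj (n₁ * n₂ * n₁⁻¹ * n₂⁻¹) (R i₁) = R i₁ := cj_eq_self_iff.2 (D.nod.B_R hB)
  rw [cj_mul, cj_mul, cj_mul, cj_eq_self_iff.2 (inv_mem (D.P₂_R E.n₂_mem)), ← rc_eq_cj, E.n₁_1, ← rc_inv_eq_cj,
    ← rc_inv_eq_cj] at h1
  -- `n₁ (n₂ R₂) = R₁`
  have h2 : rc (R i₂) n₂⁻¹ = rc (R i₂) n₂ := by
    conv_lhs => rw [← D.R₃_n₂ E]
    rw [rc_rc, mul_inv_cancel, rc_one]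
  have h3 : rc (rc (R i₂) n₂) n₁⁻¹ = rc (R i₂) n₂ := by
    conv_lhs => rw [← D.R₃_n₁ E]
    rw [rc_rc, mul_inv_cancel, rc_one]
  rw [h2, h3] at h1
  apply D.R₃_bot E
  rw [eq_bot_iff_forall]
  intro z hz
  exact D.R₃_V E (D.bt.R_le i₁ (h1 ▸ hz)) hz

end PairA

end Cfsg.Agent.Omega.HOne.End

end

section


/-!
# II.0h1, END: residue of type A2: the fields `frat` and `sep`
-/

set_option autoImplicit false
set_option linter.unusedSectionVars false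

namespace Cfsg.Agent.Omega.HOne.End

open Subgroup Cfsg.Agent.Omega.BTwo Cfsg.Agent.RankTwoClose
open Cfsg.Agent.ParSys (Qk FpfG SepG Polygon mem_Qk Qk_le Qk_conj Qk_conj')
open Cfsg.Agent.ParSys.Hall (HallData)
open Cfsg.Agent.ParSys.Hall.HallData (PTr)
open scoped commutatorElement

variable {G : Type*} [Group G] {ι : Type*}

namespace PairA

variable {F : Type*} [Field F] {V : Subgroup G} {R : ι → Subgroup G} {U B H P₂ M : Subgroup G} {i₁ : ι}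
  (D : PairA F V R U B H P₂ M i₁)
variable [Finite G] [Fact (Nat.Prime 2)] [CharP F 2]
include D

/-- the elements of `B` centralising `M` act trivially on the residue -/
theorem cen_le_Qk : B ⊓ centralizer (M : Set G) ≤ Qk B ((XX V R ⊔ B) ⊔ P₂) := by
  have hV : centralizer (M : Set G) ≤ centralizer (V : Set G) := centralizer_le D.V_M
  have h1 : XX V R ⊔ B ≤ normalizer ((B ⊓ centralizer (M : Set G) : Subgroup G) : Set G) := by
    intro g hg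
    refine mem_normalizer_of_conj fun c hc => ?_
    obtain ⟨hcB, hcM⟩ := mem_inf.1 hc
    refine mem_inf.2 ⟨Qk_le _ _ (Qk_conj' (D.nod.cen_Qk D.bt hcB (hV hcM)) hg), ?_⟩
    exact BTwo.conj_mem_of_normalizer (normalizer_le_normalizer_centralizer M (D.P₁_M hg)) hcM
  have h2 : P₂ ≤ normalizer ((B ⊓ centralizer (M : Set G) : Subgroup G) : Set G) := by
    intro g hg
    refine mem_normalizer_of_conj fun c hc => ?_
    obtain ⟨hcB, hcM⟩ := mem_inf.1 hc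
    have h3 := BTwo.conj_mem_of_normalizer (normalizer_le_normalizer_centralizer M (D.P₂_M hg)) hcM
    exact mem_inf.2 ⟨D.NV₂ (mem_inf.2 ⟨mul_mem (mul_mem hg (D.le₂ hcB)) (inv_mem hg), cen_le_NV V (hV h3)⟩), h3⟩
  intro c hc g hg
  exact (mem_inf.1 (conj_inv_mem_of_normalizer (sup_le h1 h2 hg) hc)).1

/-- `U₁` and `U` commute on `M` -/
theorem U_U₁ {x z : G} (hx : x ∈ U) (hz : z ∈ UU V R i₁) {i₂ : ι} {n₁ n₂ : G} (E : Fr V R U B H P₂ i₁ i₂ n₁ n₂) :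
    x * z * x⁻¹ * z⁻¹ ∈ centralizer (M : Set G) := by
  have hxM := D.P₁_M (mem_sup_right (D.nod.U_le hx))
  have hzM := D.X_M (YY_le_XX (UU_le_YY i₁ hz))
  have key : ∀ m ∈ M, x * z * m * (x * z)⁻¹ = z * x * m * (z * x)⁻¹ := by
    intro m hm
    have h1 : z * m * z⁻¹ * m⁻¹ ∈ R i₁ := by
      have := inv_mem (D.bt.DU (D.M_D hm) hz)
      have e : (m * z * m⁻¹ * z⁻¹)⁻¹ = z * m * z⁻¹ * m⁻¹ := by group
      rwa [e] at this
    have h2 := D.U_M E hx hm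
    set r := z * m * z⁻¹ * m⁻¹ with hr
    set v := x * m * x⁻¹ * m⁻¹ with hv
    have hxr := D.nod.UR x hx r h1
    have hzv : z * v * z⁻¹ = v := by
      rw [← mem_centralizer_iff.1 (UU_le_cen i₁ hz) v h2, mul_inv_cancel_right]
    have hrv := D.bt.V_comm r (D.bt.R_le i₁ h1) v h2
    calc x * z * m * (x * z)⁻¹ = x * (r * m) * x⁻¹ := by rw [hr]; group
      _ = (x * r * x⁻¹) * (v * m) := by rw [hv]; group
      _ = r * v * m := by rw [hxr]; group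
      _ = v * (r * m) := by rw [hrv]; group
      _ = (z * v * z⁻¹) * (z * m * z⁻¹) := by rw [hzv, hr]; group
      _ = z * x * m * (z * x)⁻¹ := by rw [hv]; group
  rw [mem_centralizer_iff]
  intro m' hm'
  have h1 := key _ (conj_inv_mem_of_normalizer (mul_mem hzM hxM) hm')
  have e1 : z * x * ((z * x)⁻¹ * m' * (z * x)) * (z * x)⁻¹ = m' := by group
  rw [e1] at h1
  have e2 : x * z * ((z * x)⁻¹ * m' * (z * x)) * (x * z)⁻¹ =
      x * z * x⁻¹ * z⁻¹ * m' * (x * z * x⁻¹ * z⁻¹)⁻¹ := by group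
  rw [e2, mul_inv_eq_iff_eq_mul] at h1
  exact h1.symm

variable {i₂ : ι} {n₁ n₂ : G} (E : Fr V R U B H P₂ i₁ i₂ n₁ n₂)
include E

/-- `U ∩ Qk ∩ Qk = U₁ C_U(M)` -/
theorem dec [Finite F] {u : G} (hu : u ∈ U) (h1 : u ∈ Qk B (XX V R ⊔ B)) (h2 : u ∈ Qk B P₂) :
    ∃ z ∈ UU V R i₁, z⁻¹ * u ∈ centralizer (M : Set G) := by
  have huV := (D.nod.mem_Qk_iff_cen D.bt hu).1 h1
  have hu' : n₂ * u * n₂⁻¹ ∈ U := by
    have h4 : n₂⁻¹⁻¹ * u * n₂⁻¹ ∈ U := D.two_elt hu (Qk_le _ _ (Qk_conj h2 (inv_mem E.n₂_mem)))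
    rwa [inv_inv] at h4
  obtain ⟨x, hx, -, hxc⟩ := D.cover_U E (D.U₁_V E) hu'
  have hz : n₂⁻¹ * x * n₂ ∈ UU V R i₁ := by
    have := mem_rc_conj (g := n₂) hx
    rwa [rc_rc, D.U₁_sq E] at this
  refine ⟨_, hz, ?_⟩
  have e : (n₂⁻¹ * x * n₂)⁻¹ * u = n₂⁻¹ * (x⁻¹ * (n₂ * u * n₂⁻¹)) * n₂ := by group
  have h3 : (n₂⁻¹ * x * n₂)⁻¹ * u ∈ centralizer (V : Set G) := mul_mem (inv_mem (UU_le_cen i₁ hz)) huV
  have h4 : Ce (rc V n₂) ((n₂⁻¹ * x * n₂)⁻¹ * u) := by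
    rw [e]
    exact Ce.conj (fun r hr => (mem_centralizer_iff.1 hxc r hr).symm) n₂
  generalize (n₂⁻¹ * x * n₂)⁻¹ * u = y at h3 h4
  have h5 : M ≤ centralizer {y} := by
    refine (D.M_le E).trans (sup_le ?_ ?_)
    · exact fun r hr => mem_centralizer_singleton_iff.2 (mem_centralizer_iff.1 h3 r hr)
    · exact fun r hr => mem_centralizer_singleton_iff.2 (h4 r (rc_mono (D.bt.R_le i₂) n₂ hr)).symm
  rw [mem_centralizer_iff]
  exact fun m hm => mem_centralizer_singleton_iff.1 (h5 hm)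

/-- `(U ∩ Qk ∩ Qk) / C_U(M)` is central in `U / C_U(M)` -/
theorem cenMod_Q [Finite F] : CenMod U (U ⊓ (Qk B (XX V R ⊔ B) ⊓ Qk B P₂)) (U ⊓ centralizer (M : Set G)) where
  C_le := inf_le_left
  J_le := inf_le_left
  J_norm x hx c hc := by
    obtain ⟨h1, h2⟩ := mem_inf.1 hc
    exact mem_inf.2 ⟨mul_mem (mul_mem hx h1) (inv_mem hx), BTwo.conj_mem_of_normalizer
      (normalizer_le_normalizer_centralizer M (D.P₁_M (mem_sup_right (D.nod.U_le hx)))) h2⟩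
  comm x hx c hc := by
    obtain ⟨h1, h2⟩ := mem_inf.1 hc
    obtain ⟨h2, h3⟩ := mem_inf.1 h2
    obtain ⟨z, hz, hk⟩ := D.dec E h1 h2 h3
    have hzU := D.U_UU i₁ hz
    have hxM := normalizer_le_normalizer_centralizer M (D.P₁_M (mem_sup_right (D.nod.U_le hx)))
    have hzM := normalizer_le_normalizer_centralizer M (D.X_M (YY_le_XX (UU_le_YY i₁ hz)))
    refine mem_inf.2 ⟨mul_mem (mul_mem (mul_mem hx h1) (inv_mem hx)) (inv_mem h1), ?_⟩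
    have h4 := D.U_U₁ hx hz E
    have h5 := mul_mem (BTwo.conj_mem_of_normalizer hxM hk) (inv_mem hk)
    have h6 := BTwo.conj_mem_of_normalizer hzM h5
    have h7 := mul_mem h4 h6
    have e : x * z * x⁻¹ * z⁻¹ * (z * (x * (z⁻¹ * c) * x⁻¹ * (z⁻¹ * c)⁻¹) * z⁻¹) = x * c * x⁻¹ * c⁻¹ := by group
    rwa [e] at h7

omit E in
/-- **The field `frat`.** -/
theorem frat [Finite F] (T : Subgroup G) (hT : T ≤ U)
    (hcov : ∀ u ∈ U, ∃ t ∈ T, t⁻¹ * u ∈ Qk B (XX V R ⊔ B) ∧ t⁻¹ * u ∈ Qk B P₂) :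
    ∀ u ∈ U, ∃ t ∈ T, t⁻¹ * u ∈ Qk B ((XX V R ⊔ B) ⊔ P₂) := by
  obtain ⟨i₂, n₁, n₂, E⟩ := D.exists_fr
  have hK : U ⊓ centralizer (M : Set G) ≤ Qk B ((XX V R ⊔ B) ⊔ P₂) :=
    (inf_le_inf_right _ D.nod.U_le).trans D.cen_le_Qk
  have C := D.cenMod_Q E
  have hUM : ∀ x ∈ U, ∀ c ∈ U ⊓ centralizer (M : Set G), x⁻¹ * c * x ∈ U ⊓ centralizer (M : Set G) :=
    fun x hx c hc => C.norm' hx hc
  -- `T` covers `U₁`
  have key : ∀ z ∈ UU V R i₁, ∃ t ∈ T, t⁻¹ * z ∈ U ⊓ centralizer (M : Set G) := by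
    intro z hz
    obtain ⟨w, hw, hwV⟩ := Set.not_subset.1 (D.U₁_V E)
    have hwW : w ∈ WW V (R i₁) := D.U₁_n₂_le E hw
    have hwU : w ∈ U := D.nod.W_le hwW
    have hw' : w ∉ UU V R i₁ := fun h => hwV (UU_le_cen i₁ h)
    obtain ⟨u, hu, hd⟩ := D.bt.surj (Ne.symm E.ne) hwW hw' hz
    have huU := D.U_UU i₂ hu
    obtain ⟨t₁, ht₁, a1, a2⟩ := hcov w hwU
    obtain ⟨t₂, ht₂, b1, b2⟩ := hcov u huU
    have hq : ∀ {x t : G}, x ∈ U → t ∈ T → t⁻¹ * x ∈ Qk B (XX V R ⊔ B) → t⁻¹ * x ∈ Qk B P₂ →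
        x * t⁻¹ ∈ U ⊓ (Qk B (XX V R ⊔ B) ⊓ Qk B P₂) := by
      intro x t hx ht h1 h2
      have htB := D.nod.U_le (hT ht)
      have k1 := Qk_conj' h1 (mem_sup_right htB : t ∈ XX V R ⊔ B)
      have k2 := Qk_conj' h2 (D.le₂ htB)
      have e : t * (t⁻¹ * x) * t⁻¹ = x * t⁻¹ := by group
      rw [e] at k1 k2
      exact mem_inf.2 ⟨mul_mem hx (inv_mem (hT ht)), mem_inf.2 ⟨k1, k2⟩⟩
    have h1 := C.commutator_mul (hq hwU ht₁ a1 a2) (hq huU ht₂ b1 b2) (hT ht₁) (hT ht₂)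
    rw [inv_mul_cancel_right, inv_mul_cancel_right] at h1
    refine ⟨⁅t₁, t₂⁆, ?_, ?_⟩
    · rw [commutatorElement_def]
      exact mul_mem (mul_mem (mul_mem ht₁ ht₂) (inv_mem ht₁)) (inv_mem ht₂)
    · have ht : ⁅t₁, t₂⁆ ∈ U := by
        rw [commutatorElement_def]
        exact mul_mem (mul_mem (mul_mem (hT ht₁) (hT ht₂)) (inv_mem (hT ht₁))) (inv_mem (hT ht₂))
      have h2 := hUM _ ht _ h1
      have h3 : (⁅w, u⁆)⁻¹ * z ∈ U ⊓ centralizer (M : Set G) := by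
        rw [commutatorElement_def]
        refine mem_inf.2 ⟨D.U_UU i₁ (D.bt.D_le_U i₁ hd), ?_⟩
        rw [mem_centralizer_iff]
        exact fun m hm => D.bt.D_comm (D.M_D hm) hd
      have h4 := mul_mem h2 h3
      have e : (⁅t₁, t₂⁆)⁻¹ * (⁅w, u⁆ * (⁅t₁, t₂⁆)⁻¹) * ⁅t₁, t₂⁆ * ((⁅w, u⁆)⁻¹ * z) = (⁅t₁, t₂⁆)⁻¹ * z := by group
      rwa [e] at h4
  intro u hu
  obtain ⟨t, ht, h1, h2⟩ := hcov u hu
  have hqU : t⁻¹ * u ∈ U := mul_mem (inv_mem (hT ht)) hu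
  obtain ⟨z, hz, hk⟩ := D.dec E hqU h1 h2
  obtain ⟨t', ht', hk'⟩ := key z hz
  refine ⟨t * t', mul_mem ht ht', hK ?_⟩
  have hkU : z⁻¹ * (t⁻¹ * u) ∈ U ⊓ centralizer (M : Set G) :=
    mem_inf.2 ⟨mul_mem (inv_mem (D.U_UU i₁ hz)) hqU, hk⟩
  have h3 := mul_mem hk' hkU
  have e : t'⁻¹ * z * (z⁻¹ * (t⁻¹ * u)) = (t * t')⁻¹ * u := by group
  rwa [e] at h3

/-! ### the torus -/

/-- an element of `U₂` which centralises `R₃` acts trivially on the panel -/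
theorem Qk_of_R₃ {y : G} (hy : y ∈ UU V R i₂) (h : ∀ r ∈ rc (R i₂) n₂, y * r * y⁻¹ = r) : y ∈ Qk B P₂ := by
  have hyU := D.U_UU i₂ hy
  refine D.reg₂ y hyU n₂⁻¹ (inv_mem E.n₂_mem) (D.n₂_inv_not E) ?_
  rw [inv_inv]
  refine D.NV₂ (mem_inf.2 ⟨mul_mem (mul_mem E.n₂_mem (D.le₂ (D.nod.U_le hyU))) (inv_mem E.n₂_mem),
    mem_normalizer_of_rc_eq ?_⟩)
  have h1 : rc (rc V n₂) y = rc V n₂ := by
    rw [D.V_n₂ E, rc_sup]
    congr 1
    · refine Ce.rc_eq fun r hr => ?_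
      exact (mem_centralizer_iff.1 (UU_le_cen i₂ hy) r (D.bt.R_le i₁ hr)).symm
    · refine Ce.rc_eq fun r hr => ?_
      rw [← mul_inv_eq_iff_eq_mul, h r hr]
  rw [← rc_rc, ← rc_rc]
  have h2 : rc (rc (rc V n₂) y) n₂⁻¹ = V := by rw [h1, rc_rc, mul_inv_cancel, rc_one]
  have h3 : rc V n₂ = rc (rc V (n₂ * y * n₂⁻¹)) n₂ := by
    rw [rc_rc, inv_mul_cancel_right, ← rc_rc, h1]
  have h4 := rc_inj h3
  rw [← rc_rc, ← rc_rc] at h4
  exact h4.symm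

/-- `n₁` acts trivially on `M / V`, so `n₁ b n₁⁻¹` acts on `R₃` as `b` -/
theorem n₁_act₃ {b : G} (hb : b ∈ H) {r : G}
    (hr : r ∈ rc (R i₂) n₂) : n₁ * b * n₁⁻¹ * r * (n₁ * b * n₁⁻¹)⁻¹ = b * r * b⁻¹ := by
  have hrM := D.R₃_M E hr
  have hyV : n₁ ∈ normalizer (V : Set G) := D.n₁_V E
  have hyM : n₁ ∈ normalizer (M : Set G) := D.P₁_M E.n₁_mem
  have hy1 : ∀ m ∈ M, n₁ * m * n₁⁻¹ * m⁻¹ ∈ V := by
    intro m hm
    have hn : U ≤ normalizer (XX V R : Set G) := D.nod.U_le.trans (D.nod.B_X D.bt)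
    have h0 := E.n₁_XU
    rw [sup_comm] at h0
    obtain ⟨x, hx, u, hu, e⟩ := Solvable.Glauberman.exists_mul_of_mem_sup U (XX V R) hn h0
    have h1 := D.U_M E hu hm
    have h2 := BTwo.conj_mem_of_normalizer (D.P₁_M (mem_sup_right (D.nod.U_le hu))) hm
    have h3 := D.bt.XD hx (D.M_D h2)
    have h4 := mul_mem h3 h1
    have e2 : x * (u * m * u⁻¹) * x⁻¹ * (u * m * u⁻¹)⁻¹ * (u * m * u⁻¹ * m⁻¹) = n₁ * m * n₁⁻¹ * m⁻¹ := by
      rw [e]; group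
    rwa [e2] at h4
  have hbV := D.nod.B_V (D.hall.H_le hb)
  have hbM := D.P₁_M (mem_sup_right (D.hall.H_le hb))
  -- modulo `V`
  have h1 : n₁ * b * n₁⁻¹ * r * (n₁ * b * n₁⁻¹)⁻¹ * (b * r * b⁻¹)⁻¹ ∈ V := by
    have k1 := hy1 _ (BTwo.conj_mem_of_normalizer hbM (conj_inv_mem_of_normalizer hyM hrM))
    have k2 := BTwo.conj_mem_of_normalizer hbV (inv_mem (hy1 _ (conj_inv_mem_of_normalizer hyM hrM)))
    have k3 := mul_mem k1 k2
    have e2 : n₁ * (b * (n₁⁻¹ * r * n₁) * b⁻¹) * n₁⁻¹ * (b * (n₁⁻¹ * r * n₁) * b⁻¹)⁻¹ *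
        (b * (n₁ * (n₁⁻¹ * r * n₁) * n₁⁻¹ * (n₁⁻¹ * r * n₁)⁻¹)⁻¹ * b⁻¹) =
        n₁ * b * n₁⁻¹ * r * (n₁ * b * n₁⁻¹)⁻¹ * (b * r * b⁻¹)⁻¹ := by group
    rwa [e2] at k3
  have hb' : n₁ * b * n₁⁻¹ ∈ H := BTwo.conj_mem_of_normalizer E.n₁_H hb
  have h2 : ∀ {b : G}, b ∈ H → b * r * b⁻¹ ∈ rc (R i₂) n₂ := by
    intro b hb
    rw [← D.R₃_H E (inv_mem hb), mem_rc]
    have e : b⁻¹ * (b * r * b⁻¹) * b⁻¹⁻¹ = r := by group
    rwa [e]
  exact mul_inv_eq_one.1 (D.R₃_V E h1 (mul_mem (h2 hb') (inv_mem (h2 hb))))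

/-- the elements of the torus of `X` act trivially on `R₃` -/
theorem tor_R₃ {v : F → F → G} {w1 w2 : F → G} (c : Coord V R i₁ i₂ v w1 w2) {a : F}
    {h u : G} (hh' : h ∈ H) (hu : u ∈ U) (huV : u ∈ centralizer (V : Set G)) (e : hh w1 w2 a = u * h)
    {r : G} (hr : r ∈ rc (R i₂) n₂) : h * r * h⁻¹ = r := by
  have h1 : ∀ m ∈ M, h * m * h⁻¹ * m⁻¹ ∈ V := by
    intro m hm
    have h2 := D.bt.XD (c.hh_mem_X D.bt a) (D.M_D hm)
    have h3 := D.U_M E (inv_mem hu) hm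
    have h4 := mul_mem (conj_inv_mem_of_normalizer (cen_le_NV V huV) h2) h3
    have e2 : u⁻¹ * (hh w1 w2 a * m * (hh w1 w2 a)⁻¹ * m⁻¹) * u * (u⁻¹ * m * u⁻¹⁻¹ * m⁻¹) =
        h * m * h⁻¹ * m⁻¹ := by rw [e]; group
    rwa [e2] at h4
  have h3 : h * r * h⁻¹ ∈ rc (R i₂) n₂ := by
    rw [← D.R₃_H E (inv_mem hh'), mem_rc]
    have e3 : h⁻¹ * (h * r * h⁻¹) * h⁻¹⁻¹ = r := by group
    rwa [e3]
  exact mul_inv_eq_one.1 (D.R₃_V E (h1 r (D.R₃_M E hr)) (mul_mem h3 (inv_mem hr)))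

omit E in
/-- **The field `torus`.** -/
theorem sepG [Finite F] (hC : P₂ ≤ (P₂ ⊓ centralizer (R i₁ : Set G)) ⊔ B)
    (hF : ∃ a : F, a ≠ 0 ∧ a ^ 3 ≠ 1) : SepG 2 B U P₂ (XX V R ⊔ B) := by
  obtain ⟨i₂, n₁, n₂, E, hn₂C⟩ := D.exists_fr_cen hC
  obtain ⟨a, ha, ha3⟩ := hF
  obtain ⟨v, w1, w2, c⟩ := D.coord i₂ E.ne
  obtain ⟨t, ht, hact, u, hu, huV, e⟩ := D.exists_tor E.ne E.H_R c ha
  have ht3 : ∀ r ∈ rc (R i₂) n₂, t * r * t⁻¹ = r := fun r hr => D.tor_R₃ E c ht hu huV e hr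
  set s := n₂⁻¹ * t * n₂ with hs
  have hsH : s ∈ H := conj_inv_mem_of_normalizer E.n₂_H ht
  have htR1 : ∀ x, t * v x 0 * t⁻¹ = v (a * x) 0 := fun x => by rw [hact, mul_zero]
  have htR2 : ∀ y, t * v 0 y * t⁻¹ = v 0 (a⁻¹ * y) := fun y => by rw [hact, mul_zero]
  -- the action of `s`
  have hsR1 : ∀ x, s * v x 0 * s⁻¹ = v (a * x) 0 := by
    intro x
    have h1 : ∀ y, n₂ * v y 0 * n₂⁻¹ = v y 0 := fun y => by
      rw [← mem_centralizer_iff.1 hn₂C _ ((c.mem_R1 _).2 ⟨y, rfl⟩), mul_inv_cancel_right]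
    have h2 : n₂⁻¹ * v (a * x) 0 * n₂ = v (a * x) 0 := by
      conv_lhs => rw [← h1 (a * x)]
      group
    have e3 : s * v x 0 * s⁻¹ = n₂⁻¹ * (t * (n₂ * v x 0 * n₂⁻¹) * t⁻¹) * n₂ := by rw [hs]; group
    rw [e3, h1, htR1, h2]
  have hn₂R2 : rc (R i₂) n₂⁻¹ = rc (R i₂) n₂ := by
    conv_lhs => rw [← D.R₃_n₂ E]
    rw [rc_rc, mul_inv_cancel, rc_one]
  have hsR2 : ∀ r ∈ R i₂, s * r * s⁻¹ = r := by
    intro r hr
    have h1 : n₂ * r * n₂⁻¹ ∈ rc (R i₂) n₂ := by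
      rw [← hn₂R2, mem_rc]
      have e3 : n₂⁻¹ * (n₂ * r * n₂⁻¹) * n₂⁻¹⁻¹ = r := by group
      rwa [e3]
    have h2 := ht3 _ h1
    have e3 : s * r * s⁻¹ = n₂⁻¹ * (t * (n₂ * r * n₂⁻¹) * t⁻¹) * n₂ := by rw [hs]; group
    rw [e3, h2]; group
  set b := t * s with hb
  have hbH : b ∈ H := mul_mem ht hsH
  have hbR1 : ∀ x, b * v x 0 * b⁻¹ = v (a * a * x) 0 := by
    intro x
    have e3 : b * v x 0 * b⁻¹ = t * (s * v x 0 * s⁻¹) * t⁻¹ := by rw [hb]; group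
    rw [e3, hsR1, htR1, mul_assoc]
  have hbR2 : ∀ y, b * v 0 y * b⁻¹ = v 0 (a⁻¹ * y) := by
    intro y
    have e3 : b * v 0 y * b⁻¹ = t * (s * v 0 y * s⁻¹) * t⁻¹ := by rw [hb]; group
    rw [e3, hsR2 _ ((c.mem_R2 _).2 ⟨y, rfl⟩), htR2]
  have hbact : ∀ x y, b * v x y * b⁻¹ = v (a * a * x) (a⁻¹ * y) := by
    intro x y
    have h1 := c.v_add x 0 0 y
    rw [add_zero, zero_add] at h1
    have h2 := c.v_add (a * a * x) 0 0 (a⁻¹ * y)
    rw [add_zero, zero_add] at h2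
    rw [h1, h2, ← hbR1, ← hbR2]; group
  -- `b₁ = n₁ b n₁⁻¹`
  have hb₁H : n₁ * b * n₁⁻¹ ∈ H := BTwo.conj_mem_of_normalizer E.n₁_H hbH
  have hb₁ := D.n₁_act E c hbact
  have hb₁3 : ∀ r ∈ rc (R i₂) n₂, n₁ * b * n₁⁻¹ * r * (n₁ * b * n₁⁻¹)⁻¹ = s * r * s⁻¹ := by
    intro r hr
    rw [D.n₁_act₃ E hbH hr]
    have hsr : s * r * s⁻¹ ∈ rc (R i₂) n₂ := by
      rw [← D.R₃_H E (inv_mem hsH), mem_rc]
      have e3 : s⁻¹ * (s * r * s⁻¹) * s⁻¹⁻¹ = r := by group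
      rwa [e3]
    have e3 : b * r * b⁻¹ = t * (s * r * s⁻¹) * t⁻¹ := by rw [hb]; group
    rw [e3, ht3 _ hsr]
  set g := n₂ * n₁ with hg
  -- `g b g⁻¹` acts on `V` as the scalar `a⁻¹`
  have hgb : g * b * g⁻¹ = n₂ * (n₁ * b * n₁⁻¹) * n₂⁻¹ := by rw [hg]; group
  have hg1 : ∀ x, g * b * g⁻¹ * v x 0 * (g * b * g⁻¹)⁻¹ = v (a⁻¹ * x) 0 := by
    intro x
    have h1 : ∀ y, n₂ * v y 0 * n₂⁻¹ = v y 0 := fun y => by
      rw [← mem_centralizer_iff.1 hn₂C _ ((c.mem_R1 _).2 ⟨y, rfl⟩), mul_inv_cancel_right]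
    have h2 : n₂⁻¹ * v x 0 * n₂ = v x 0 := by
      conv_lhs => rw [← h1 x]
      group
    have e3 : g * b * g⁻¹ * v x 0 * (g * b * g⁻¹)⁻¹ =
        n₂ * (n₁ * b * n₁⁻¹ * (n₂⁻¹ * v x 0 * n₂) * (n₁ * b * n₁⁻¹)⁻¹) * n₂⁻¹ := by rw [hgb]; group
    rw [e3, h2, hb₁, mul_zero, h1]
  have hg2 : ∀ y, g * b * g⁻¹ * v 0 y * (g * b * g⁻¹)⁻¹ = v 0 (a⁻¹ * y) := by
    intro y
    have h1 : n₂⁻¹ * v 0 y * n₂ ∈ rc (R i₂) n₂ := mem_rc_conj ((c.mem_R2 _).2 ⟨y, rfl⟩)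
    have h2 := hb₁3 _ h1
    have e3 : g * b * g⁻¹ * v 0 y * (g * b * g⁻¹)⁻¹ =
        n₂ * (n₁ * b * n₁⁻¹ * (n₂⁻¹ * v 0 y * n₂) * (n₁ * b * n₁⁻¹)⁻¹) * n₂⁻¹ := by rw [hgb]; group
    have e4 : n₂ * (s * (n₂⁻¹ * v 0 y * n₂) * s⁻¹) * n₂⁻¹ = t * v 0 y * t⁻¹ := by rw [hs]; group
    rw [e3, h2, e4, htR2]
  have hgact : ∀ x y, g * b * g⁻¹ * v x y * (g * b * g⁻¹)⁻¹ = v (a⁻¹ * x) (a⁻¹ * y) := by
    intro x y
    have h1 := c.v_add x 0 0 y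
    rw [add_zero, zero_add] at h1
    have h2 := c.v_add (a⁻¹ * x) 0 0 (a⁻¹ * y)
    rw [add_zero, zero_add] at h2
    rw [h1, h2, ← hg1, ← hg2]; group
  -- points
  have hR3g : rc (R i₂) g = rc (R i₂) n₂ := by rw [hg, ← rc_rc, D.R₃_n₁ E]
  have hW : ∀ x ∈ UU V R i₂, g * x * g⁻¹ ∈ WW V (R i₁) := by
    intro x hx
    rw [← mem_rc, hg, ← rc_rc, D.W₁_n₂ E, D.W₁_n₁ E]
    exact UU_le_WW i₂ hx
  -- `b` commutes with the action of `U₂` on `R₂ R₃`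
  have hbx : ∀ x ∈ UU V R i₂, ∀ r ∈ rc (R i₂) n₂,
      b * x * b⁻¹ * x⁻¹ * r * (b * x * b⁻¹ * x⁻¹)⁻¹ = r := by
    intro x hx r hr
    have hr' : g * r * g⁻¹ ∈ R i₂ := by rw [← mem_rc, hR3g]; exact hr
    obtain ⟨y, hy⟩ := (c.mem_R2 _).1 hr'
    obtain ⟨d, hd⟩ := c.W1_act _ (hW x hx)
    have hdinv : ∀ p q, (g * x * g⁻¹)⁻¹ * v p q * (g * x * g⁻¹) = v (p - d * q) q := by
      intro p q
      have := hd (p - d * q) q
      rw [sub_add_cancel] at this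
      rw [← this]; group
    have hginv : ∀ p q, (g * b * g⁻¹)⁻¹ * v p q * (g * b * g⁻¹) = v (a * p) (a * q) := by
      intro p q
      have h5 : ∀ z : F, a⁻¹ * (a * z) = z := fun z => by rw [← mul_assoc, inv_mul_cancel₀ ha, one_mul]
      have := hgact (a * p) (a * q)
      rw [h5, h5] at this
      rw [← this]; group
    have e3 : g * (b * x * b⁻¹ * x⁻¹ * r * (b * x * b⁻¹ * x⁻¹)⁻¹) * g⁻¹ =
        g * b * g⁻¹ * ((g * x * g⁻¹) * ((g * b * g⁻¹)⁻¹ * ((g * x * g⁻¹)⁻¹ * (g * r * g⁻¹) * (g * x * g⁻¹)) *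
          (g * b * g⁻¹)) * (g * x * g⁻¹)⁻¹) * (g * b * g⁻¹)⁻¹ := by group
    have h1 : g * (b * x * b⁻¹ * x⁻¹ * r * (b * x * b⁻¹ * x⁻¹)⁻¹) * g⁻¹ = g * r * g⁻¹ := by
      rw [e3, ← hy, hdinv, hginv, hd, hgact]
      congr 1
      · ring
      · rw [← mul_assoc, inv_mul_cancel₀ ha, one_mul]
    have e4 : ∀ z : G, g⁻¹ * (g * z * g⁻¹) * g = z := fun z => by group
    rw [← e4 (b * x * b⁻¹ * x⁻¹ * r * (b * x * b⁻¹ * x⁻¹)⁻¹), h1, e4]
  have hbB := D.hall.H_le hbH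
  refine D.nod.sepG D.bt E.ne hbB ⟨Nat.card H, ?_, ?_⟩ (cj_eq_self_iff.2 (E.H_R hbH)) ?_ ?_
  · exact D.hall.H_cop
  · exact ParSys.Hall.pow_card_of_mem hbH
  · refine fun k hk => D.fix_two' E.ne c ?_ hbact k hk
    intro h
    apply ha3
    calc a ^ 3 = a * a * a := by ring
      _ = a⁻¹ * a := by rw [h]
      _ = 1 := inv_mul_cancel₀ ha
  · intro y hy
    obtain ⟨x, hx, hq⟩ := D.cov E.ne hy
    have hxU := D.U_UU i₂ hx
    have hbx2 : b * x * b⁻¹ * x⁻¹ ∈ UU V R i₂ := by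
      have h1 : cj b (UU V R i₂) = UU V R i₂ :=
        D.bt.cj_UU (D.nod.B_V hbB) (cj_eq_self_iff.2 (E.H_R hbH))
      have h2 : b * x * b⁻¹ ∈ UU V R i₂ := by rw [← h1]; exact conj_mem_cj hx
      exact mul_mem h2 (inv_mem hx)
    have h1 := D.Qk_of_R₃ E hbx2 (hbx x hx)
    have h2 : b * (x⁻¹ * y) * b⁻¹ * (x⁻¹ * y)⁻¹ ∈ Qk B P₂ :=
      mul_mem (Qk_conj' hq (D.le₂ hbB)) (inv_mem hq)
    have h3 := Qk_conj' h2 (D.le₂ (D.nod.U_le hxU))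
    have h4 := mul_mem h1 h3
    have e3 : b * x * b⁻¹ * x⁻¹ * (x * (b * (x⁻¹ * y) * b⁻¹ * (x⁻¹ * y)⁻¹) * x⁻¹) = b * y * b⁻¹ * y⁻¹ := by group
    rwa [e3] at h4

end PairA

end Cfsg.Agent.Omega.HOne.End

end

end

-- merged: Cfsg.Agent.Mrg.Omega.HOne.EndRes0
section

/-!
# The residue `(0, k)` of type alpha

`res0_alpha` : the literal `Res0` of `Lie/End/Top.lean` for a node of type alpha, over a bare `BT V R`.
-/

set_option autoImplicit false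
set_option linter.unusedSectionVars false

namespace Cfsg.Agent.Omega.HOne.End

open Subgroup Cfsg.Agent.Omega.BTwo
open Cfsg.Agent.ParSys (Qk FpfG SepG Polygon mem_Qk Qk_le Qk_conj Qk_conj' fix_of_fpfG)
open Cfsg.Agent.Omega.Lie.Zero (Dat P0)
open Cfsg.Agent.Omega.Lie.End (Pre PPo Res0 exists_hall_of_index)

universe u v w

variable {G : Type u} [Group G] {ι : Type w} {V : Subgroup G} {R : ι → Subgroup G} {i j : ι} {F : Type v} [Field F]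
  {v : F → F → G} {w1 w2 : F → G}

/-- conjugate coordinates -/
theorem Coord.conj (b : BT V R) (c : Coord V R i j v w1 w2) {g : G} (hg : g ∈ normalizer (V : Set G)) {i' j' : ι}
    (hi : cj g (R i) = R i') (hj : cj g (R j) = R j') :
    Coord V R i' j' (fun p q => g * v p q * g⁻¹) (fun a => g * w1 a * g⁻¹) (fun a => g * w2 a * g⁻¹) where
  ne := by
    rintro rfl
    exact c.ne (b.R_index (cj_injective (hi.trans hj.symm)))
  v_add p q p' q' := by rw [c.v_add]; group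
  v_one p q h := c.v_one p q (by
    have := congrArg (fun z => g⁻¹ * z * g) h
    simpa [mul_assoc] using this)
  mem_V x := by
    constructor
    · intro hx
      obtain ⟨p, q, e⟩ := (c.mem_V _).1 (conj_inv_mem_of_normalizer hg hx)
      exact ⟨p, q, by rw [e]; group⟩
    · rintro ⟨p, q, rfl⟩
      exact conj_mem_of_normalizer hg (c.v_mem p q)
  mem_R1 x := by
    rw [← hi, mem_cj, c.mem_R1]
    constructor
    · rintro ⟨p, e⟩; exact ⟨p, by rw [e]; group⟩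
    · rintro ⟨p, rfl⟩; exact ⟨p, by group⟩
  mem_R2 x := by
    rw [← hj, mem_cj, c.mem_R2]
    constructor
    · rintro ⟨p, e⟩; exact ⟨p, by rw [e]; group⟩
    · rintro ⟨p, rfl⟩; exact ⟨p, by group⟩
  w1_mem a := by
    rw [← b.cj_WW hi]; exact conj_mem_cj (c.w1_mem a)
  w2_mem a := by
    rw [← b.cj_WW hj]; exact conj_mem_cj (c.w2_mem a)
  w1_act a p q := by
    have e : g * w1 a * g⁻¹ * (g * v p q * g⁻¹) * (g * w1 a * g⁻¹)⁻¹ = g * (w1 a * v p q * (w1 a)⁻¹) * g⁻¹ := by group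
    rw [e, c.w1_act]
  w2_act a p q := by
    have e : g * w2 a * g⁻¹ * (g * v p q * g⁻¹) * (g * w2 a * g⁻¹)⁻¹ = g * (w2 a * v p q * (w2 a)⁻¹) * g⁻¹ := by group
    rw [e, c.w2_act]
  W1_act x hx := by
    rw [← b.cj_WW hi, mem_cj] at hx
    obtain ⟨a, ha⟩ := c.W1_act _ hx
    refine ⟨a, fun p q => ?_⟩
    have e : x * (g * v p q * g⁻¹) * x⁻¹ = g * ((g⁻¹ * x * g) * v p q * (g⁻¹ * x * g)⁻¹) * g⁻¹ := by group
    rw [e, ha]
  W2_act x hx := by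
    rw [← b.cj_WW hj, mem_cj] at hx
    obtain ⟨a, ha⟩ := c.W2_act _ hx
    refine ⟨a, fun p q => ?_⟩
    have e : x * (g * v p q * g⁻¹) * x⁻¹ = g * ((g⁻¹ * x * g) * v p q * (g⁻¹ * x * g)⁻¹) * g⁻¹ := by group
    rw [e, ha]

/-- coordinates for every second point -/
theorem exists_coord_snd (b : BT V R) (c : Coord V R i j v w1 w2) {l : ι} (hl : i ≠ l) :
    ∃ (v : F → F → G) (w1 w2 : F → G), Coord V R i l v w1 w2 := by
  obtain ⟨w, hw, e⟩ := b.trans i c.ne.symm hl.symm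
  exact ⟨_, _, _, Coord.conj b c (b.W_le_NV i hw) (cj_eq_self_iff.2 (b.W_le_N i hw)) e⟩

/-- `Nod` from `Dat` -/
theorem nod_of_dat (b : BT V R) {B U : Subgroup G} (D : Dat V R i B U) : Nod V R U B i where
  U_le := D.UB
  W_le := D.WU
  B_V := D.BV
  B_R := D.BR
  UR u hu a ha := by
    obtain ⟨w, hw, hc⟩ := D.UC u hu
    have h1 := mem_centralizer_iff.1 hc a (b.R_le i ha)
    have h2 := b.conj_R (b.W_le_Q i hw) ha
    calc u * a * u⁻¹ = w * (w⁻¹ * u * a) * (w⁻¹ * u)⁻¹ * w⁻¹ := by group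
      _ = w * (a * (w⁻¹ * u)) * (w⁻¹ * u)⁻¹ * w⁻¹ := by rw [← h1]
      _ = w * a * w⁻¹ := by group
      _ = a := h2
  UV u hu v hv := by
    obtain ⟨w, hw, hc⟩ := D.UC u hu
    have h1 := mem_centralizer_iff.1 hc v hv
    have h2 := b.QV i w (b.W_le_Q i hw) v hv
    have e : u * v * u⁻¹ * v⁻¹ = w * v * w⁻¹ * v⁻¹ := by
      calc u * v * u⁻¹ * v⁻¹ = w * (w⁻¹ * u * v) * (w⁻¹ * u)⁻¹ * w⁻¹ * v⁻¹ := by group
        _ = w * (v * (w⁻¹ * u)) * (w⁻¹ * u)⁻¹ * w⁻¹ * v⁻¹ := by rw [← h1]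
        _ = w * v * w⁻¹ * v⁻¹ := by group
    rwa [e]
  X_B := D.XB

/-- **The local data of a node of type alpha**: `M` is abelian of order `q³`, inside `D`, invariant under `P`; the
conjugates of `V` under `P` are its lines through `R i`. -/
structure Alpha (V : Subgroup G) (R : ι → Subgroup G) (i : ι) (B U P M : Subgroup G) : Prop where
  V_M : V ≤ M
  M_D : M ≤ DD V R
  P_M : P ≤ normalizer (M : Set G)
  P_R : P ≤ normalizer (R i : Set G)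
  span : ∀ x ∈ P, x ∉ B → M ≤ V ⊔ cj x V
  meet : ∀ x ∈ P, x ∉ B → V ⊓ cj x V ≤ R i
  U₁_M : ¬ UU V R i ≤ centralizer (M : Set G)
  cov : ∀ u ∈ U, ∃ x ∈ YY V R, x⁻¹ * u ∈ Qk B P

theorem pairA_of [Finite G] [CharP F 2] (b : BT V R) {B U : Subgroup G} (D : Dat V R i B U)
    (c : Coord V R i j v w1 w2) (hF : ∃ a : F, a ≠ 0 ∧ a ≠ 1) {J : Type} {P : J → Subgroup G} {m : J → J → ℕ}
    (pre : Pre 2 B U P m) {k : J} (hUU : UU V R j ≤ U) {M : Subgroup G} (A : Alpha V R i B U (P k) M) :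
    ∃ H, PairA F V R U B H (P k) M i := by
  have : Fact (Nat.Prime 2) := ⟨Nat.prime_two⟩
  obtain ⟨H, hall, hsup⟩ := exists_hall_of_index pre.U_le pre.norm pre.isP pre.index
  refine ⟨H, {
    bt := b
    nod := nod_of_dat b D
    hall := hall
    sup := hsup
    U_UU := ?_
    le₂ := pre.le k
    three₂ := pre.three k
    ptr₂ := pre.ptr k
    reg₂ := pre.reg k
    fix₂ := fix_of_fpfG hall (pre.le k) (pre.fpf k)
    P₂_R := A.P_R
    NV₂ := NV₂_of b A.span A.U₁_M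
    coord := fun l hl => exists_coord_snd b c hl
    big := hF
    V_M := A.V_M
    M_D := A.M_D
    P₂_M := A.P_M
    span := A.span
    meet := A.meet
    U₁_M := A.U₁_M
    cov₂ := A.cov }⟩
  intro l
  by_cases hl : l = i
  · rw [hl]; exact (UU_le_WW i).trans D.WU
  · obtain ⟨w, hw, e⟩ := b.trans i c.ne.symm hl
    rw [← b.cj_UU (b.W_le_NV i hw) e, cj_le_iff]
    intro x hx
    exact mul_mem (mul_mem (D.WU hw) (hUU hx)) (inv_mem (D.WU hw))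

/-- **The residue `(0, k)` of a node of type alpha.**  `sep` is given. -/
theorem res0_alpha' [Finite G] [Finite F] [CharP F 2] (b : BT V R) {B U : Subgroup G} (D : Dat V R i B U)
    (c : Coord V R i j v w1 w2) (hF : ∃ a : F, a ≠ 0 ∧ a ≠ 1) {J : Type} {P : J → Subgroup G} {m : J → J → ℕ}
    (pre : Pre 2 B U P m) {k : J} (hUU : UU V R j ≤ U) {M : Subgroup G} (A : Alpha V R i B U (P k) M)
    (sep : SepG 2 B U (P k) (P0 V R B) ∨ SepG 2 B U (P0 V R B) (P k)) :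
    ∃ n, 3 ≤ n ∧ Res0 V R B U P k n := by
  have : Fact (Nat.Prime 2) := ⟨Nat.prime_two⟩
  obtain ⟨H, E⟩ := pairA_of b D c hF pre hUU A
  obtain ⟨n, hn, hp⟩ := E.polygon (Q := PPo V R B P) (x := none) (y := some k) rfl rfl
  refine ⟨n, hn, hp, fun X hX h => ?_, sep⟩
  have := E.frat X hX fun u hu => by
    obtain ⟨x, hx, h1, h2⟩ := h u hu
    exact ⟨x, hx, h2, h1⟩
  rwa [sup_comm]

/-- **The residue `(0, k)` of a node of type alpha, `|F| ≥ 8`.** -/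
theorem res0_alpha [Finite G] [Finite F] [CharP F 2] (b : BT V R) {B U : Subgroup G} (D : Dat V R i B U)
    (c : Coord V R i j v w1 w2) (hF : ∃ a : F, a ≠ 0 ∧ a ^ 3 ≠ 1) {J : Type} {P : J → Subgroup G} {m : J → J → ℕ}
    (pre : Pre 2 B U P m) {k : J} (hUU : UU V R j ≤ U) {M : Subgroup G} (A : Alpha V R i B U (P k) M)
    (hC : P k ≤ (P k ⊓ centralizer (R i : Set G)) ⊔ B) : ∃ n, 3 ≤ n ∧ Res0 V R B U P k n := by
  have : Fact (Nat.Prime 2) := ⟨Nat.prime_two⟩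
  have hF' : ∃ a : F, a ≠ 0 ∧ a ≠ 1 := by
    obtain ⟨a, h1, h2⟩ := hF
    exact ⟨a, h1, fun h => h2 (by rw [h, one_pow])⟩
  obtain ⟨H, E⟩ := pairA_of b D c hF' pre hUU A
  exact res0_alpha' b D c hF' pre hUU A (Or.inl (E.sepG hC hF))

end Cfsg.Agent.Omega.HOne.End

end
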