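import Cfsg.Agent.Mrg.Omega.HOne.CutT
import Cfsg.Agent.Mrg.Omega.HOneQ.FrRad
import Cfsg.Agent.Mrg.Omega.HOneQ.ExcDead
import Cfsg.Agent.Mrg.Omega.HOne.EndRes0
import Cfsg.Agent.Mrg.Omega.HOneQ.ResN
import Cfsg.Agent.Mrg.Omega.Lie.End.RSNode
import Cfsg.Agent.Mrg.Omega.Lie.End.Zero
import Cfsg.Agent.Mrg.Omega.HOneQ.ResK
import Cfsg.Agent.Mrg.Omega.Lie.Nodes.SigGrp
import Cfsg.Agent.Mrg.Omega.Lie.End.Real
import Cfsg.Agent.Mrg.Omega.Lie.End.KDOf
import Cfsg.Agent.Mrg.Omega.Lie.End.KSys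
import Cfsg.Agent.Mrg.Omega.Lie.End.ZeroLone
import Cfsg.Agent.Mrg.Omega.HOne.EigOf
import Cfsg.Agent.Mrg.Omega.HOneQ.NodeQUse

-- merged: Cfsg.Agent.Mrg.Omega.HOne.OfKD
section

/-!
# The split chain over a 2-group `T`: `FrT`, `NVT`, `RsT` from the K-side data `KD`

* `KDT` : the K-side data of `E = ⟨A^H⟩` over `SitT`;
* `frT : KDT → FrT`, `nvT : KDT → NVT`, `rsT : KSideX → KDT → RsT`.
-/

set_option autoImplicit false
set_option linter.unusedSectionVars false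

namespace Cfsg.Agent.Omega.HOne.TLift

open Subgroup Cfsg Cfsg.Agent.ZN Cfsg.Agent.Omega.MinPar Cfsg.Agent.Omega.Frame
open Cfsg.Agent.Omega.NatPair (NatMod)
open Cfsg.Agent.Omega.BTwo Cfsg.Agent.Omega.Lie Cfsg.Agent.Omega.Lie.Quot Cfsg.Agent.Omega.Lie.End
open Cfsg.Agent.Omega.IIa4 (Lay)
open Cfsg.Agent.Omega.HOneQ.SylIOf (TSyl)
open Cfsg.Agent.Omega.HOneQ.ECen (SylI)
open Cfsg.Agent.Omega.HOneQ
open Cfsg.Agent.Omega.HOneQ.Fr (KD)

universe u

/-- **The K-side data** (helper951, helper466) -/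
def KDT : Prop :=
  ∀ (G : Type u) [Group G] [Finite G] (T : Subgroup G) (F : Type) [Field F] [Finite F] [CharP F 2] (N : Subgroup G)
    (M : NatMod F N), SitT T M → LayS N (pt M) F →
      ∀ (i j : Pt M) (v : F → F → G) (w1 w2 t : F → G), Coord N (pt M) i j v w1 w2 →
        ∀ (τ : TorD N (pt M) i j v t) (S : Subgroup (HQ (pt M i))), SylI τ S →
          ∃ (HE : Subgroup (HQ (pt M i))) (w : HQ (pt M i)),
            KD (ECen.EE N (pt M) i j) (S ⊓ ECen.EE N (pt M) i j) HE (AA N (pt M) i j) (TT τ) w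

/-- **`FrT`** -/
theorem frT (hk : KDT.{u}) : FrT.{u} := by
  intro G _ _ T F _ _ _ N M h hl i j hij x hx
  obtain ⟨v, w1, w2, c⟩ := h.exists_coord hij
  obtain ⟨t, τ⟩ := h.exists_torD c
  obtain ⟨T₁, hT₁⟩ := h.exists_T i
  have I := h.sylI c τ hT₁
  have l := hl i j v w1 w2 t c τ _ I
  obtain ⟨HE, w, k⟩ := hk G T F N M h hl i j v w1 w2 t c τ _ I
  obtain ⟨e, he, h1⟩ := Fr.frattini h.bts h.exists_ne c τ (h.odd i) (h.exists_ZZ' hij) I l.innC l.odd k hx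
  exact ⟨e, he, h1⟩

/-- **`NVT`** -/
theorem nvT (hk : KDT.{u}) : NVT.{u} := by
  intro G _ _ T F _ _ _ N M h hl _ i j hij x hx hA
  obtain ⟨v, w1, w2, c⟩ := h.exists_coord hij
  obtain ⟨t, τ⟩ := h.exists_torD c
  obtain ⟨T₁, hT₁⟩ := h.exists_T i
  have I := h.sylI c τ hT₁
  have l := hl i j v w1 w2 t c τ _ I
  obtain ⟨HE, w, k⟩ := hk G T F N M h hl i j v w1 w2 t c τ _ I
  exact NormV.normV h.bts h.exists_ne c τ (h.odd i) I l.innC l.odd k (h.exists_ZZ' hij) hx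
    fun a ha => BTwo.conj_mem_of_normalizer hA ha

/-- **`RsT`** -/
theorem rsT (hks : KSideX.{u}) (hk : KDT.{u}) : RsT.{u} := by
  intro G _ _ T F _ _ _ N M h hl hfr i j v w1 w2 t c τ hT
  have I := h.sylI c τ hT
  have l := hl i j v w1 w2 t c τ _ I
  obtain ⟨HE, w, k⟩ := hk G T F N M h hl i j v w1 w2 t c τ _ I
  have hUD : ¬ UU N (pt M) j ≤ DD N (pt M) := by
    obtain ⟨z, hz, h'⟩ := h.exists_ZZ' (i := i) (k := j) c.ne
    exact fun hle => h' (hle (zU_le j hz))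
  have hd := NormV.hd h.bts h.exists_ne c τ (h.odd i) I l.innC l.odd k hUD
  have hexc := ExcDead.not_kExc_lay h.bts (h.odd i) c τ
    (fun _ hg h' => ExcDead.nv_of_normE h.bt c τ h.exists_ne (h.odd i) hd hg h') I l
  obtain ⟨n, K, J, P, m, h1, h2, h3, h4⟩ := SitRS4.exists_rsx hks h.bt τ c.ne h.four (h.exists_ZZ' c.ne)
    (hfr i j c.ne) l hexc
  exact ⟨n, K, J, P, m, h1, h2, h3, fun a => (h4 a).2⟩

end Cfsg.Agent.Omega.HOne.TLift

end

-- merged: Cfsg.Agent.Mrg.Omega.HOne.AlphaOf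
section

/-!
# The residue `(0, k)` of type alpha from the node of `HOneQ`

* `nd_of` : a moved panel `P` with at least five chambers gives `Nd V R i j (P ⊓ C(R i))`;
* `alpha_of` : a line `≠ V` inside `D` gives `Alpha V R i B U P (WN V (P ⊓ C(R i)))`;
* `res0_alpha_nd'`, `res0_alpha_nd` : the residue.
-/

set_option autoImplicit false
set_option linter.unusedSectionVars false

namespace Cfsg.Agent.Omega.HOne.End

open Subgroup Cfsg Cfsg.Agent.ParSys Cfsg.Agent.Omega.BTwo Cfsg.Agent.Omega.HOneQ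
open Cfsg.Agent.Omega.Lie.Zero (Dat P0)
open Cfsg.Agent.Omega.Lie.End (Pre PPo Res0)

universe u v w

variable {G : Type u} [Group G] {ι : Type w} {V : Subgroup G} {R : ι → Subgroup G} {i j : ι} {F : Type v} [Field F]
  {v : F → F → G} {w1 w2 : F → G} {B U P : Subgroup G}

/-- every element of `P` is an element of `P ⊓ C(R i)` modulo `B` -/
theorem exists_fact (hle : B ≤ P) (hPR : P ≤ normalizer (R i : Set G))
    (hC : P ≤ (P ⊓ centralizer (R i : Set G)) ⊔ B) {x : G} (hx : x ∈ P) :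
    ∃ p ∈ P ⊓ centralizer (R i : Set G), ∃ b ∈ B, x = p * b := by
  have hn : P ≤ normalizer ((P ⊓ centralizer (R i : Set G) : Subgroup G) : Set G) := by
    intro g hg
    have key : ∀ g ∈ P, ∀ y ∈ P ⊓ centralizer (R i : Set G), g * y * g⁻¹ ∈ P ⊓ centralizer (R i : Set G) := by
      rintro g hg y ⟨hy, hyc⟩
      refine mem_inf.2 ⟨mul_mem (mul_mem hg hy) (inv_mem hg), ?_⟩
      rw [mem_centralizer_iff]
      intro r hr
      have h1 : g⁻¹ * r * g ∈ R i := BTwo.conj_inv_mem_of_normalizer (hPR hg) hr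
      have h2 := mem_centralizer_iff.1 hyc _ h1
      calc r * (g * y * g⁻¹) = g * (g⁻¹ * r * g * y) * g⁻¹ := by group
        _ = g * (y * (g⁻¹ * r * g)) * g⁻¹ := by rw [h2]
        _ = g * y * g⁻¹ * r := by group
    rw [mem_normalizer_iff]
    refine fun y => ⟨fun hy => key g hg y hy, fun hy => ?_⟩
    have h1 := key g⁻¹ (inv_mem hg) _ hy
    have e : g⁻¹ * (g * y * g⁻¹) * g⁻¹⁻¹ = y := by group
    rwa [e] at h1
  have h1 : x ∈ (((P ⊓ centralizer (R i : Set G)) ⊔ B : Subgroup G) : Set G) := hC hx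
  rw [coe_mul_of_right_le_normalizer_left _ _ (hle.trans hn)] at h1
  obtain ⟨p, hp, y, hy, e⟩ := h1
  exact ⟨p, hp, y, hy, e.symm⟩

/-- four chambers -/
theorem four_of_relIndex {H : Type*} [Group H] {B P : Subgroup H} (h : 4 ≤ B.relIndex P) :
    ∃ x ∈ P, ∃ y ∈ P, ∃ z ∈ P, x ∉ B ∧ y ∉ B ∧ z ∉ B ∧ x⁻¹ * y ∉ B ∧ x⁻¹ * z ∉ B ∧ y⁻¹ * z ∉ B := by
  classical
  have hc : 4 ≤ Nat.card (P ⧸ B.subgroupOf P) := by
    rw [← Subgroup.index_eq_card]; exact h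
  have hfin : Finite (P ⧸ B.subgroupOf P) := Nat.finite_of_card_ne_zero (by omega)
  have := Fintype.ofFinite (P ⧸ B.subgroupOf P)
  rw [Nat.card_eq_fintype_card] at hc
  have h6 : 2 < Fintype.card {x : P ⧸ B.subgroupOf P // x ≠ ((1 : P) : P ⧸ B.subgroupOf P)} := by
    rw [Fintype.card_subtype_compl, Fintype.card_subtype_eq]
    omega
  obtain ⟨⟨x, hx⟩, ⟨y, hy⟩, ⟨z, hz⟩, hxy, hxz, hyz⟩ := Fintype.two_lt_card_iff.1 h6
  obtain ⟨x, rfl⟩ := QuotientGroup.mk_surjective x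
  obtain ⟨y, rfl⟩ := QuotientGroup.mk_surjective y
  obtain ⟨z, rfl⟩ := QuotientGroup.mk_surjective z
  have h1 : ∀ a : P, (a : P ⧸ B.subgroupOf P) ≠ ((1 : P) : P ⧸ B.subgroupOf P) → (a : H) ∉ B := by
    intro a ha h
    apply ha
    symm
    rw [QuotientGroup.eq, mem_subgroupOf]
    simpa using h
  have h2 : ∀ a c : P, (a : P ⧸ B.subgroupOf P) ≠ (c : P ⧸ B.subgroupOf P) → (a : H)⁻¹ * c ∉ B := by
    intro a c hac h
    apply hac
    rw [QuotientGroup.eq, mem_subgroupOf]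
    exact h
  exact ⟨x, x.2, y, y.2, z, z.2, h1 x hx, h1 y hy, h1 z hz, h2 x y fun h => hxy (Subtype.ext h),
    h2 x z fun h => hxz (Subtype.ext h), h2 y z fun h => hyz (Subtype.ext h)⟩

/-- **a moved panel with at least four chambers** -/
theorem nd_of (b : BT V R) (hij : i ≠ j) (hle : B ≤ P) (hUB : U ≤ B)
    (hBV : B ≤ normalizer (V : Set G)) (hPR : P ≤ normalizer (R i : Set G)) (hptr : Hall.HallData.PTr B U P)
    (h4 : ∃ x ∈ P, ∃ y ∈ P, ∃ z ∈ P, x ∉ B ∧ y ∉ B ∧ z ∉ B ∧ x⁻¹ * y ∉ B ∧ x⁻¹ * z ∉ B ∧ y⁻¹ * z ∉ B)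
    (hNV : P ⊓ normalizer (V : Set G) ≤ B) (hUU : UU V R j ≤ U) (hQ : QQ (R i) ≤ P)
    (cov : ∀ u ∈ U, ∃ x ∈ UU V R j, x⁻¹ * u ∈ Qk B P) (hC : P ≤ (P ⊓ centralizer (R i : Set G)) ⊔ B) :
    Nd V R i j (P ⊓ centralizer (R i : Set G)) where
  hij := hij
  PR := inf_le_right
  UP := le_inf (hUU.trans (hUB.trans hle)) (le_centralizer_iff.1 ((b.R_le i).trans (le_centralizer_iff.1 (UU_le_cen j))))
  QP := le_inf hQ fun q hq => mem_centralizer_iff.2 fun a ha => (b.QR i q hq a ha).symm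
  trans := by
    rintro p ⟨hp, -⟩ hpV p' ⟨hp', -⟩ hpV'
    have h1 : p ∉ B := fun h => hpV (cj_eq_self_iff.2 (hBV h))
    have h2 : p' ∉ B := fun h => hpV' (cj_eq_self_iff.2 (hBV h))
    obtain ⟨u, hu, z, hz, e⟩ := hptr p hp h1 p' hp' h2
    obtain ⟨x, hx, h3⟩ := cov u hu
    refine ⟨x, hx, ?_⟩
    have h4 := mem_Qk.1 h3 p hp
    have e2 : p' = x * p * ((p⁻¹ * (x⁻¹ * u) * p) * z) := by rw [e]; group
    rw [e2, cj_mul, cj_eq_self_iff.2 (hBV (mul_mem h4 hz)), cj_mul]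
  four := by
    have key : ∀ x ∈ P, ∃ p ∈ P ⊓ centralizer (R i : Set G), cj p V = cj x V := by
      intro x hx
      obtain ⟨p, hp, z, hz, rfl⟩ := exists_fact hle hPR hC hx
      exact ⟨p, hp, by rw [cj_mul, cj_eq_self_iff.2 (hBV hz)]⟩
    have key2 : ∀ x ∈ P, ∀ y ∈ P, x⁻¹ * y ∉ B → cj x V ≠ cj y V := by
      intro x hx y hy h h1
      apply h
      refine hNV (mem_inf.2 ⟨mul_mem (inv_mem hx) hy, ?_⟩)
      rw [← cj_eq_self_iff, cj_mul, ← h1, cj_inv_cj]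
    have key3 : ∀ x ∈ P, x ∉ B → cj x V ≠ V := fun x hx h h1 => h (hNV (mem_inf.2 ⟨hx, cj_eq_self_iff.1 h1⟩))
    obtain ⟨x, hx, y, hy, z, hz, h1, h2, h3, h12, h13, h23⟩ := h4
    obtain ⟨x', hx', ex⟩ := key x hx
    obtain ⟨y', hy', ey⟩ := key y hy
    obtain ⟨z', hz', ez⟩ := key z hz
    refine ⟨x', hx', y', hy', z', hz', ?_, ?_, ?_, ?_, ?_, ?_⟩
    · rw [ex]; exact key3 x hx h1
    · rw [ey]; exact key3 y hy h2
    · rw [ez]; exact key3 z hz h3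
    · rw [ex, ey]; exact key2 x hx y hy h12
    · rw [ex, ez]; exact key2 x hx z hz h13
    · rw [ey, ez]; exact key2 y hy z hz h23

/-- **`Alpha` from a line `≠ V` inside `D`** -/
theorem alpha_of (b : BTS V R) (n : Nd V R i j (P ⊓ centralizer (R i : Set G))) (hle : B ≤ P)
    (hBV : B ≤ normalizer (V : Set G)) (hPR : P ≤ normalizer (R i : Set G))
    (hNV : P ⊓ normalizer (V : Set G) ≤ B) (hC : P ≤ (P ⊓ centralizer (R i : Set G)) ⊔ B)
    (cov : ∀ u ∈ U, ∃ x ∈ UU V R j, x⁻¹ * u ∈ Qk B P) {p : G} (hp : p ∈ P ⊓ centralizer (R i : Set G))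
    (hpV : cj p V ≠ V) (hpD : cj p V ≤ DD V R) :
    Alpha V R i B U P (WN V (P ⊓ centralizer (R i : Set G))) := by
  have hD := n.alpha_le b hp hpV hpD
  have hx' : ∀ x ∈ P, x ∉ B → ∃ p ∈ P ⊓ centralizer (R i : Set G), cj p V = cj x V ∧ cj p V ≠ V := by
    intro x hx hxB
    obtain ⟨q, hq, z, hz, rfl⟩ := exists_fact hle hPR hC hx
    have e : cj q V = cj (q * z) V := by rw [cj_mul, cj_eq_self_iff.2 (hBV hz)]
    refine ⟨q, hq, e, fun h => hxB ?_⟩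
    exact hNV (mem_inf.2 ⟨hx, by rw [← cj_eq_self_iff, ← e, h]⟩)
  refine ⟨V_le_WN _ _, hD, ?_, hPR, ?_, ?_, ?_, fun u hu => ?_⟩
  · refine hC.trans (sup_le P_norm_WN fun z hz => norm_WN ?_ (hBV hz))
    have hzP := hle hz
    have key : ∀ g ∈ P, ∀ y ∈ P ⊓ centralizer (R i : Set G), g * y * g⁻¹ ∈ P ⊓ centralizer (R i : Set G) := by
      rintro g hg y ⟨hy, hyc⟩
      refine mem_inf.2 ⟨mul_mem (mul_mem hg hy) (inv_mem hg), ?_⟩
      rw [mem_centralizer_iff]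
      intro r hr
      have h1 : g⁻¹ * r * g ∈ R i := BTwo.conj_inv_mem_of_normalizer (hPR hg) hr
      have h2 := mem_centralizer_iff.1 hyc _ h1
      calc r * (g * y * g⁻¹) = g * (g⁻¹ * r * g * y) * g⁻¹ := by group
        _ = g * (y * (g⁻¹ * r * g)) * g⁻¹ := by rw [h2]
        _ = g * y * g⁻¹ * r := by group
    rw [mem_normalizer_iff]
    refine fun y => ⟨fun hy => key z hzP y hy, fun hy => ?_⟩
    have h1 := key z⁻¹ (inv_mem hzP) _ hy
    have e : z⁻¹ * (z * y * z⁻¹) * z⁻¹⁻¹ = y := by group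
    rwa [e] at h1
  · intro x hx hxB
    obtain ⟨q, hq, e, hqV⟩ := hx' x hx hxB
    rw [← e]
    exact (n.alpha_eq b hq hqV ((line_le_WN hq).trans hD)).le
  · intro x hx hxB
    obtain ⟨q, hq, e, hqV⟩ := hx' x hx hxB
    rw [← e]
    exact (n.alpha_inf b hq hqV).le
  · intro hcen
    apply hpV
    have h1 : cj p V ≤ cj 1 V ⊔ ZZ V R i := by
      rw [cj_one]
      intro y hy
      have hyW : y ∈ WW V (R i) := n.line_le hp hy
      obtain ⟨v, hv, h5⟩ := b.cen_U (b.W_le_Q i hyW) (fun u hu => by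
        have h2 := mem_centralizer_iff.1 (hcen hu) y (line_le_WN hp hy)
        exact h2)
      have h6 : v⁻¹ * y ∈ ZZ V R i := mem_inf.2 ⟨mul_mem (inv_mem (V_le_WW V (R i) hv)) hyW, h5⟩
      have e : y = v * (v⁻¹ * y) := by group
      rw [e]
      exact mul_mem (mem_sup_left hv) (mem_sup_right h6)
    have h2 := n.inj b hp (one_mem _) h1
    rwa [cj_one] at h2
  · obtain ⟨x, hx, h⟩ := cov u hu
    exact ⟨x, UU_le_YY j hx, h⟩

/-! ### for `RS` -/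

open Cfsg.Agent.Omega.Lie.End Cfsg.Agent.Omega.Lie Cfsg.Agent.Omega.Lie.Quot Cfsg.Agent.Omega.IIa4
open Cfsg.Agent.Omega.Lie.End.OfLay

section rs

variable {T S : Subgroup (HQ (R i))} {α : Type} {K : α → Subgroup (HQ (R i))} {J : α → Type}
  {P : ∀ a, J a → Subgroup (K a)} {m : ∀ a, J a → J a → ℕ}

/-- the panels of `RS` have at least four chambers -/
theorem rs_four [Finite G] (D : RS V R i j T S K J P m) (x : Σ a, J a) : ∃ y₁ ∈ PG K T S P x, ∃ y₂ ∈ PG K T S P x,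
    ∃ y₃ ∈ PG K T S P x, y₁ ∉ BG K T S ∧ y₂ ∉ BG K T S ∧ y₃ ∉ BG K T S ∧ y₁⁻¹ * y₂ ∉ BG K T S ∧
      y₁⁻¹ * y₃ ∉ BG K T S ∧ y₂⁻¹ * y₃ ∉ BG K T S := by
  obtain ⟨a, k⟩ := x
  obtain ⟨x, hx, y, hy, z, hz, h1, h2, h3, h12, h13, h23⟩ :=
    four_of_relIndex (le_trans (by norm_num) ((D.sys a).five k))
  have E := D.psit.enl a
  have lift : ∀ x ∈ P a k, ∃ g, ∃ hg : g ∈ normalizer (R i : Set G), pr (R i) ⟨g, hg⟩ = (x : HQ (R i)) ∧
      g ∈ PG K T S P ⟨a, k⟩ := by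
    intro x hx
    obtain ⟨g, hg, e⟩ := exists_pr (x : HQ (R i))
    exact ⟨g, hg, e, mem_up.2 ⟨hg, by rw [e]; exact mem_sup_left ⟨x, hx, rfl⟩⟩⟩
  obtain ⟨x', hx', ex, hxP⟩ := lift x hx
  obtain ⟨y', hy', ey, hyP⟩ := lift y hy
  obtain ⟨z', hz', ez, hzP⟩ := lift z hz
  have k1 : ∀ (x : K a) (x' : G) (hx' : x' ∈ normalizer (R i : Set G)), pr (R i) ⟨x', hx'⟩ = (x : HQ (R i)) →
      x ∉ normalizer (S.subgroupOf (K a) : Set (K a)) → x' ∉ BG K T S := by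
    intro x x' hx' ex h h'
    obtain ⟨h4, h5⟩ := mem_up.1 h'
    rw [ex] at h5
    exact h (E.of_C _ h5)
  have k2 : ∀ (x y : K a) (x' y' : G) (hx' : x' ∈ normalizer (R i : Set G)) (hy' : y' ∈ normalizer (R i : Set G)),
      pr (R i) ⟨x', hx'⟩ = (x : HQ (R i)) → pr (R i) ⟨y', hy'⟩ = (y : HQ (R i)) →
      x⁻¹ * y ∉ normalizer (S.subgroupOf (K a) : Set (K a)) → x'⁻¹ * y' ∉ BG K T S := by
    intro x y x' y' hx' hy' ex ey h
    refine k1 (x⁻¹ * y) _ (mul_mem (inv_mem hx') hy') ?_ h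
    rw [coe_mul, coe_inv, ← ex, ← ey, ← map_inv, ← map_mul]
    rfl
  exact ⟨x', hxP, y', hyP, z', hzP, k1 x x' hx' ex h1, k1 y y' hy' ey h2, k1 z z' hz' ez h3,
    k2 x y x' y' hx' hy' ex ey h12, k2 x z x' z' hx' hz' ex ez h13, k2 y z y' z' hy' hz' ey ez h23⟩

/-- **`Nd` at a moved node of `RS`** -/
theorem rs_nd [Finite G] [Finite α] (b : BT V R) (D : RS V R i j T S K J P m) (hij : i ≠ j)
    (hBV : BG K T S ≤ normalizer (V : Set G)) {a : α} {k : J a}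
    (hm : Moved (S.subgroupOf (K a)) (Tact T (K a)) (P a k)) :
    Nd V R i j (PG K T S P ⟨a, k⟩ ⊓ centralizer (R i : Set G)) :=
  nd_of b hij (D.preG.le ⟨a, k⟩) D.preG.U_le hBV up_le (D.preG.ptr ⟨a, k⟩) (rs_four D ⟨a, k⟩)
    (inf_NV_le (D.preG.ptr ⟨a, k⟩) D.preG.U_le hBV (D.not_le_of_moved b hij hm)) (D.A_le_UG b hij) QQ_le_up
    (fun _ hu => D.cov b hm hu) (D.PG_le b ⟨a, k⟩)

/-- **`Alpha` at a moved node of `RS` with a line `≠ V` inside `D`** -/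
theorem rs_alpha [Finite G] [Finite α] (b : BTS V R) (D : RS V R i j T S K J P m) (hij : i ≠ j)
    (hBV : BG K T S ≤ normalizer (V : Set G)) {a : α} {k : J a}
    (hm : Moved (S.subgroupOf (K a)) (Tact T (K a)) (P a k)) {p : G}
    (hp : p ∈ PG K T S P ⟨a, k⟩ ⊓ centralizer (R i : Set G)) (hpV : cj p V ≠ V) (hpD : cj p V ≤ DD V R) :
    Alpha V R i (BG K T S) (UG K S) (PG K T S P ⟨a, k⟩) (WN V (PG K T S P ⟨a, k⟩ ⊓ centralizer (R i : Set G))) :=
  alpha_of b (rs_nd b.toBT D hij hBV hm) (D.preG.le ⟨a, k⟩) hBV up_le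
    (inf_NV_le (D.preG.ptr ⟨a, k⟩) D.preG.U_le hBV (D.not_le_of_moved b.toBT hij hm)) (D.PG_le b.toBT ⟨a, k⟩)
    (fun _ hu => D.cov b.toBT hm hu) hp hpV hpD

/-- **The residue `(0, k)` of type alpha**, `SepG` given -/
theorem rs_res0_alpha' [Finite G] [Finite F] [CharP F 2] [Finite α] (b : BTS V R) (c : Coord V R i j v w1 w2)
    (hF : ∃ a : F, a ≠ 0 ∧ a ≠ 1) (D : RS V R i j T S K J P m) (hd : Dat V R i (BG K T S) (UG K S)) {a : α} {k : J a}
    (hm : Moved (S.subgroupOf (K a)) (Tact T (K a)) (P a k)) {p : G}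
    (hp : p ∈ PG K T S P ⟨a, k⟩ ⊓ centralizer (R i : Set G)) (hpV : cj p V ≠ V) (hpD : cj p V ≤ DD V R)
    (sep : SepG 2 (BG K T S) (UG K S) (PG K T S P ⟨a, k⟩) (P0 V R (BG K T S)) ∨
      SepG 2 (BG K T S) (UG K S) (P0 V R (BG K T S)) (PG K T S P ⟨a, k⟩)) :
    ∃ n, 3 ≤ n ∧ Res0 V R (BG K T S) (UG K S) (PG K T S P) ⟨a, k⟩ n :=
  res0_alpha' b.toBT hd c hF D.preG (D.A_le_UG b.toBT c.ne) (rs_alpha b D c.ne hd.BV hm hp hpV hpD) sep

/-- **The residue `(0, k)` of type alpha**, `|F| ≥ 8` -/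
theorem rs_res0_alpha [Finite G] [Finite F] [CharP F 2] [Finite α] (b : BTS V R) (c : Coord V R i j v w1 w2)
    (hF : ∃ a : F, a ≠ 0 ∧ a ^ 3 ≠ 1) (D : RS V R i j T S K J P m) (hd : Dat V R i (BG K T S) (UG K S)) {a : α}
    {k : J a} (hm : Moved (S.subgroupOf (K a)) (Tact T (K a)) (P a k)) {p : G}
    (hp : p ∈ PG K T S P ⟨a, k⟩ ⊓ centralizer (R i : Set G)) (hpV : cj p V ≠ V) (hpD : cj p V ≤ DD V R) :
    ∃ n, 3 ≤ n ∧ Res0 V R (BG K T S) (UG K S) (PG K T S P) ⟨a, k⟩ n :=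
  res0_alpha b.toBT hd c hF D.preG (D.A_le_UG b.toBT c.ne) (rs_alpha b D c.ne hd.BV hm hp hpV hpD) (D.PG_le b.toBT _)

end rs

end Cfsg.Agent.Omega.HOne.End

end

-- merged: Cfsg.Agent.Mrg.Omega.HOneQ.SwOf
section

/-!
# II.0h1, split, `q ≥ 4`: the element `m ∈ X` interchanging `R i` and `R j` and inverting the torus (#15939, `Sw`)

`n = nn w1 w2 1` acts on `V` as `v b c ↦ v c b`; `n T n⁻¹` and `T` are complements of `Y` in `Y T`, so `m = k n` with `k ∈ Y`.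
-/

set_option autoImplicit false
set_option linter.unusedSectionVars false

namespace Cfsg.Agent.Omega.HOneQ

open Subgroup Cfsg.Agent.Omega.BTwo
open Cfsg.Agent.Omega.Lie (TorD)

universe u v w

variable {G : Type u} [Group G] {ι : Type w} {V : Subgroup G} {R : ι → Subgroup G} {i j : ι}
  {F : Type v} [Field F] {vv : F → F → G} {w1 w2 : F → G} {t : F → G}

/-- the torus as a homomorphism -/
def torHom (τ : TorD V R i j vv t) : Fˣ →* G where
  toFun a := t a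
  map_one' := by rw [Units.val_one, τ.one]
  map_mul' a b := by rw [Units.val_mul, τ.mul _ _ a.ne_zero b.ne_zero]

/-- **`Sw`**: `m = k n`, `k ∈ Y`, `n = nn w1 w2 1` -/
theorem exists_sw [Finite G] [Finite F] [CharP F 2] (hF : ∃ a : F, a ≠ 0 ∧ a ≠ 1) (b : BTS V R)
    (c : Coord V R i j vv w1 w2) (τ : TorD V R i j vv t) :
    ∃ k ∈ YY V R, Sw V R i j t (k * nn w1 w2 1) ∧
      ∀ x z, (k * nn w1 w2 1) * vv x z * (k * nn w1 w2 1)⁻¹ = vv z x := by
  set n := nn w1 w2 1 with hn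
  have hnX : n ∈ XX V R := c.nn_mem_X b.toBT 1
  have hnact : ∀ x z, n * vv x z * n⁻¹ = vv z x := by
    intro x z
    rw [hn, c.nn_act one_ne_zero, inv_one, one_mul, one_mul]
  have hY2 : IsPGroup 2 (YY V R) := by
    refine (Lie.coord_cen_X_V_isPGroup b.toBT c (b.cen_W_isPGroup i)).to_le ?_
    exact fun y hy => mem_inf.2 ⟨YY_le_XX hy, YY_le_cen hy⟩
  obtain ⟨a₀, ha₀⟩ := IsCyclic.exists_generator (α := Fˣ)
  set s : G := t (a₀ : F) with hs
  have ha0 : (a₀ : F) ≠ 0 := a₀.ne_zero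
  have hsX : s ∈ XX V R := τ.memX _ ha0
  have hso : Odd (orderOf s) := τ.odd _ ha0
  -- `s n s n⁻¹ ∈ Y`
  have hsY : (s⁻¹)⁻¹ * (n * s * n⁻¹) ∈ YY V R := by
    rw [← HOne.XV.cen_X_V hF b c, inv_inv]
    refine mem_inf.2 ⟨mul_mem hsX (mul_mem (mul_mem hnX hsX) (inv_mem hnX)), ?_⟩
    rw [mem_centralizer_iff]
    intro z hz
    obtain ⟨x, y, rfl⟩ := (c.mem_V z).1 hz
    have h1 : n⁻¹ * vv x y * n = vv y x := by
      rw [← hnact y x]; group
    have h2 : (s * (n * s * n⁻¹)) * vv x y * (s * (n * s * n⁻¹))⁻¹ = vv x y := by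
      calc (s * (n * s * n⁻¹)) * vv x y * (s * (n * s * n⁻¹))⁻¹ =
          s * (n * (s * (n⁻¹ * vv x y * n) * s⁻¹) * n⁻¹) * s⁻¹ := by group
        _ = vv x y := by
          rw [h1, hs, τ.act _ _ _ ha0, hnact, τ.act _ _ _ ha0, mul_inv_cancel_left₀ ha0,
            inv_mul_cancel_left₀ ha0]
    exact (mul_inv_eq_iff_eq_mul.1 h2).symm
  obtain ⟨k, hk, hks⟩ := Omega.Lie.Nodes.Apt.conj_of_coset (K := YY V R) (t := s⁻¹) (x := n * s * n⁻¹) hY2
    (b.toBT.NV_le_NY (b.toBT.X_le_NV (inv_mem hsX))) (by rwa [orderOf_inv]) hsY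
    (by
      have h1 : orderOf (n * s * n⁻¹) = orderOf s := (MulAut.conj n).orderOf_eq s
      rwa [h1])
  have hkC : ∀ z ∈ V, k * z * k⁻¹ = z := by
    intro z hz
    rw [← mem_centralizer_iff.1 (YY_le_cen hk) z hz, mul_inv_cancel_right]
  have hact : ∀ x z, (k * n) * vv x z * (k * n)⁻¹ = vv z x := by
    intro x z
    have h1 : (k * n) * vv x z * (k * n)⁻¹ = k * (n * vv x z * n⁻¹) * k⁻¹ := by group
    rw [h1, hnact, hkC _ ((c.mem_V _).2 ⟨_, _, rfl⟩)]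
  have hkR : ∀ l, cj k (R l) = R l := by
    intro l
    exact cj_eq_self_iff.2 (centralizer_le_normalizer _ (centralizer_le (b.toBT.R_le l) (YY_le_cen hk)))
  refine ⟨k, hk, ⟨mul_mem (YY_le_XX hk) hnX, ?_, ?_, ?_⟩, hact⟩
  · rw [cj_mul, c.nn_R1 b.toBT one_ne_zero, hkR]
  · rw [cj_mul, c.nn_R2 b.toBT one_ne_zero, hkR]
  · intro a ha
    obtain ⟨r, hr⟩ := mem_zpowers_iff.1 (ha₀ (Units.mk0 a ha))
    have h1 : t a = s ^ r := by
      have h2 : torHom τ (a₀ ^ r) = torHom τ a₀ ^ r := map_zpow _ _ _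
      rw [hr] at h2
      exact h2
    have h2 : (k * n) * s * (k * n)⁻¹ = s⁻¹ := by
      rw [← hks]; group
    rw [h1, ← conj_zpow, h2, inv_zpow]

end Cfsg.Agent.Omega.HOneQ

end

-- merged: Cfsg.Agent.Mrg.Omega.HOneQ.OneNode
section

/-!
# II.0h1, SPLIT, `q ≥ 4`: the parabolic system of the moved components has more than one node

* `sl_trans` : the normaliser of an abelian Sylow 2-subgroup `A` of `SL₂(k)`, `char k = 2`, is transitive on `A - 1`;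
* `conj_imZ` : `N(V) ∩ N(R i)` normalises the image of `Z(W j)` in `H = N(R i)/O₂(N(R i))`;
* `uniq_of_reg` : `(γ)` implies ONE NODE;
* **`false_of_unique`** : ONE NODE is impossible.
-/

set_option autoImplicit false
set_option linter.unusedSectionVars false

namespace Cfsg.Agent.Omega.HOneQ.OneNode

open Subgroup Cfsg Cfsg.Agent.ParSys Cfsg.Agent.Omega.BTwo Cfsg.Agent.Omega.Lie Cfsg.Agent.Omega.Lie.Quot
open Cfsg.Agent.Omega.IIa4 Cfsg.Agent.Omega.Lie.End Cfsg.Agent.Omega.Lie.End.OfLay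
open Cfsg.Agent.Omega.HOne.ModZ

universe u v w

/-! ### `SL₂(k)` -/

section sl

variable {k : Type*} [Field k]

local notation "SL2" => Matrix.SpecialLinearGroup (Fin 2) k

/-- `(1 b; 0 1)` -/
def uu (b : k) : SL2 := ⟨!![1, b; 0, 1], by rw [Matrix.det_fin_two_of]; ring⟩

/-- `(t 0; 0 t⁻¹)` -/
def hh (t : k) (ht : t ≠ 0) : SL2 := ⟨!![t, 0; 0, t⁻¹], by rw [Matrix.det_fin_two_of, mul_inv_cancel₀ ht]; ring⟩

theorem uu_mul (b c : k) : uu b * uu c = uu (b + c) := by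
  apply Subtype.ext
  show !![1, b; 0, 1] * !![1, c; 0, 1] = !![1, b + c; 0, 1]
  rw [Matrix.mul_fin_two]
  congr 1
  simp [add_comm]

theorem uu_zero : uu (0 : k) = 1 := by
  apply Subtype.ext
  show !![1, (0 : k); 0, 1] = 1
  exact Matrix.one_fin_two.symm

theorem hh_uu (t : k) (ht : t ≠ 0) (b : k) : hh t ht * uu b * (hh t ht)⁻¹ = uu (t ^ 2 * b) := by
  rw [mul_inv_eq_iff_eq_mul]
  apply Subtype.ext
  show !![t, 0; 0, t⁻¹] * !![1, b; 0, 1] = !![1, t ^ 2 * b; 0, 1] * !![t, 0; 0, t⁻¹]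
  rw [Matrix.mul_fin_two, Matrix.mul_fin_two]
  have e : t ^ 2 * b * t⁻¹ = t * b := by field_simp
  congr 1
  simp [e]

/-- the group `(1 *; 0 1)` -/
def U : Subgroup SL2 where
  carrier := Set.range uu
  mul_mem' := by
    rintro _ _ ⟨b, rfl⟩ ⟨c, rfl⟩
    exact ⟨b + c, (uu_mul b c).symm⟩
  one_mem' := ⟨0, uu_zero⟩
  inv_mem' := by
    rintro _ ⟨b, rfl⟩
    refine ⟨-b, ?_⟩
    rw [eq_inv_iff_mul_eq_one, uu_mul, neg_add_cancel, uu_zero]

theorem mem_U {g : SL2} : g ∈ U (k := k) ↔ ∃ b, uu b = g := Iff.rfl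

variable [CharP k 2]

theorem U_two : IsPGroup 2 (U (k := k)) := by
  rintro ⟨_, b, rfl⟩
  refine ⟨1, Subtype.ext ?_⟩
  show (uu b) ^ 2 ^ 1 = 1
  rw [pow_one, pow_two, uu_mul, CharTwo.add_self_eq_zero, uu_zero]

/-- `C(u) = U` -/
theorem mem_U_of_comm {g : SL2} (h : g * uu 1 = uu 1 * g) : g ∈ U (k := k) := by
  obtain ⟨A, hA⟩ := g
  have h1 : A * !![1, 1; 0, 1] = !![1, 1; 0, 1] * A := congrArg Subtype.val h
  have h00 := congrFun (congrFun h1 0) 0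
  have h01 := congrFun (congrFun h1 0) 1
  simp only [Matrix.mul_apply, Fin.sum_univ_two, Matrix.of_apply, Matrix.cons_val', Matrix.cons_val_zero,
    Matrix.cons_val_one, Matrix.cons_val_fin_one, mul_one, mul_zero, add_zero, one_mul] at h00 h01
  have h10 : A 1 0 = 0 := by
    have : A 0 0 = A 0 0 + A 1 0 := by simpa using h00
    exact left_eq_add.1 this
  have h11 : A 0 0 = A 1 1 := by
    have : A 0 0 + A 0 1 = A 0 1 + A 1 1 := by simpa using h01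
    have h3 : A 0 0 + A 0 1 = A 1 1 + A 0 1 := by rw [this, add_comm]
    exact add_right_cancel h3
  rw [Matrix.det_fin_two, h10, mul_zero, sub_zero, h11] at hA
  have h12 : A 1 1 = 1 := by
    have h4 : (A 1 1 - 1) * (A 1 1 - 1) = 0 := by
      have h5 : (2 : k) = 0 := CharP.cast_eq_zero k 2
      linear_combination hA + (1 - A 1 1) * h5
    exact sub_eq_zero.1 (mul_self_eq_zero.1 h4)
  refine ⟨A 0 1, Subtype.ext ?_⟩
  show !![1, A 0 1; 0, 1] = A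
  ext a b
  fin_cases a <;> fin_cases b
  · show (1 : k) = A 0 0
    rw [h11, h12]
  · rfl
  · show (0 : k) = A 1 0
    rw [h10]
  · show (1 : k) = A 1 1
    rw [h12]

/-- **The normaliser of an abelian Sylow 2-subgroup is transitive on its involutions.** -/
theorem sl_trans [Finite k] (A : Sylow 2 SL2) (hab : ∀ x ∈ A, ∀ y ∈ A, x * y = y * x) {x y : SL2} (hx : x ∈ A)
    (hy : y ∈ A) (hx1 : x ≠ 1) (hy1 : y ≠ 1) :
    ∃ g ∈ normalizer ((A : Subgroup SL2) : Set SL2), g * x * g⁻¹ = y := by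
  have hfact : Fact (Nat.Prime 2) := ⟨Nat.prime_two⟩
  obtain ⟨P, hP⟩ := (U_two (k := k)).exists_le_sylow
  obtain ⟨g, hg⟩ := MulAction.exists_smul_eq SL2 A P
  have hm : ∀ z : SL2, g * z * g⁻¹ ∈ P ↔ z ∈ A := by
    intro z
    rw [← hg]
    show g * z * g⁻¹ ∈ ((g • A : Sylow 2 SL2) : Subgroup SL2) ↔ _
    rw [Sylow.smul_def, Sylow.pointwise_smul_def, Subgroup.mem_smul_pointwise_iff_exists]
    constructor
    · rintro ⟨s, hs, e⟩
      rw [MulAut.smul_def, MulAut.conj_apply] at e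
      have : s = z := mul_left_cancel (mul_right_cancel e)
      rwa [← this]
    · intro hz
      exact ⟨z, hz, by rw [MulAut.smul_def, MulAut.conj_apply]⟩
  have hPab : ∀ z ∈ P, ∀ w ∈ P, z * w = w * z := by
    intro z hz w hw
    have h1 := (hm (g⁻¹ * z * g)).1 (by
      have e : g * (g⁻¹ * z * g) * g⁻¹ = z := by group
      rwa [e])
    have h2 := (hm (g⁻¹ * w * g)).1 (by
      have e : g * (g⁻¹ * w * g) * g⁻¹ = w := by group
      rwa [e])
    have h3 := hab _ h1 _ h2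
    calc z * w = g * ((g⁻¹ * z * g) * (g⁻¹ * w * g)) * g⁻¹ := by group
      _ = g * ((g⁻¹ * w * g) * (g⁻¹ * z * g)) * g⁻¹ := by rw [h3]
      _ = w * z := by group
  have hPU : ∀ z ∈ P, z ∈ U (k := k) := fun z hz => mem_U_of_comm (hPab z hz _ (hP ⟨1, rfl⟩))
  obtain ⟨b, hb⟩ := mem_U.1 (hPU _ ((hm x).2 hx))
  obtain ⟨c, hc⟩ := mem_U.1 (hPU _ ((hm y).2 hy))
  have hb0 : b ≠ 0 := by
    rintro rfl
    rw [uu_zero] at hb
    apply hx1
    have : g * x * g⁻¹ = g * 1 * g⁻¹ := by rw [← hb]; group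
    exact mul_left_cancel (mul_right_cancel this)
  have hc0 : c ≠ 0 := by
    rintro rfl
    rw [uu_zero] at hc
    apply hy1
    have : g * y * g⁻¹ = g * 1 * g⁻¹ := by rw [← hc]; group
    exact mul_left_cancel (mul_right_cancel this)
  obtain ⟨t, ht⟩ := FiniteField.isSquare_of_char_two (F := k) (ringChar.eq k 2) (c / b)
  have ht0 : t ≠ 0 := by
    rintro rfl
    rw [mul_zero] at ht
    exact div_ne_zero hc0 hb0 ht
  have hN : ∀ (s : k) (hs : s ≠ 0), ∀ z ∈ A, (g⁻¹ * hh s hs * g) * z * (g⁻¹ * hh s hs * g)⁻¹ ∈ A := by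
    intro s hs z hz
    rw [← hm]
    obtain ⟨d, hd⟩ := mem_U.1 (hPU _ ((hm z).2 hz))
    have e : g * ((g⁻¹ * hh s hs * g) * z * (g⁻¹ * hh s hs * g)⁻¹) * g⁻¹ =
        hh s hs * (g * z * g⁻¹) * (hh s hs)⁻¹ := by group
    rw [e, ← hd, hh_uu]
    exact hP ⟨_, rfl⟩
  have hinv : (hh t ht0)⁻¹ = hh t⁻¹ (inv_ne_zero ht0) := by
    rw [inv_eq_iff_mul_eq_one]
    apply Subtype.ext
    show !![t, 0; 0, t⁻¹] * !![t⁻¹, 0; 0, t⁻¹⁻¹] = 1
    rw [Matrix.mul_fin_two, Matrix.one_fin_two]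
    simp [ht0]
  refine ⟨g⁻¹ * hh t ht0 * g, ?_, ?_⟩
  · rw [mem_normalizer_iff]
    intro z
    refine ⟨hN t ht0 z, fun hz => ?_⟩
    have h1 := hN _ (inv_ne_zero ht0) _ hz
    rw [← hinv] at h1
    have e : g⁻¹ * (hh t ht0)⁻¹ * g * (g⁻¹ * hh t ht0 * g * z * (g⁻¹ * hh t ht0 * g)⁻¹) *
        (g⁻¹ * (hh t ht0)⁻¹ * g)⁻¹ = z := by group
    rwa [e] at h1
  · have e : g⁻¹ * hh t ht0 * g * x * (g⁻¹ * hh t ht0 * g)⁻¹ =
        g⁻¹ * (hh t ht0 * (g * x * g⁻¹) * (hh t ht0)⁻¹) * g := by group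
    have h2 : t ^ 2 * b = c := by
      rw [pow_two, ← ht]
      field_simp
    rw [e, ← hb, hh_uu, h2, hc]
    group

end sl

/-! ### The image of `Z(W j)` -/

section bt

variable {G : Type u} [Group G] {ι : Type w} {V : Subgroup G} {R : ι → Subgroup G} {i j : ι}

theorem ZZ_le_UU (j : ι) : ZZ V R j ≤ UU V R j := fun _ hz =>
  mem_inf.2 ⟨(mem_inf.1 hz).1, cen_W_le V (R j) (mem_inf.1 hz).2⟩

/-- `N(V) ∩ N(R i)` normalises the image of `Z(W j)` -/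
theorem conj_imZ (b : BT V R) (hij : i ≠ j) {g : G} (hgR : g ∈ normalizer (R i : Set G))
    (hgV : g ∈ normalizer (V : Set G)) {z : HQ (R i)} (hz : z ∈ im (R i) (ZZ V R j)) :
    pr (R i) ⟨g, hgR⟩ * z * (pr (R i) ⟨g, hgR⟩)⁻¹ ∈ im (R i) (ZZ V R j) := by
  obtain ⟨z, hzN, hzZ, rfl⟩ := mem_im.1 hz
  obtain ⟨k, hk⟩ := b.perm g hgV j
  have hki : k ≠ i := by
    rintro rfl
    have h1 : cj g (R k) = R k := cj_eq_self_iff.2 hgR
    exact hij (b.R_index (cj_injective (h1.trans hk.symm)))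
  obtain ⟨w, hw, hwk⟩ := b.trans i hki (Ne.symm hij)
  have hwN : w ∈ normalizer (R i : Set G) := b.W_le_N i hw
  have hwg : w * g ∈ normalizer (R j : Set G) := by
    rw [← cj_eq_self_iff, cj_mul, hk, hwk]
  have h1 : pr (R i) ⟨w * g, mul_mem hwN hgR⟩ = pr (R i) ⟨g, hgR⟩ := by
    have e : (⟨w * g, mul_mem hwN hgR⟩ : ↥(normalizer (R i : Set G))) = ⟨w, hwN⟩ * ⟨g, hgR⟩ := rfl
    rw [e, map_mul, (pr_eq_one hwN).2 (b.W_le_Q i hw), one_mul]
  rw [← h1, ← map_inv, ← map_mul, ← map_mul]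
  refine pr_mem_im (mul_mem (mul_mem (mul_mem hwN hgR) hzN) (inv_mem (mul_mem hwN hgR))) ?_
  exact (mem_normalizer_iff.1 (N_le_NZ j hwg) z).1 hzZ

end bt

/-! ### ONE NODE -/

section real

variable {G : Type u} [Group G] [Finite G] {ι : Type w} {V : Subgroup G} {R : ι → Subgroup G} {i j : ι}
  {F : Type v} [Field F] [Finite F] [CharP F 2] {vv : F → F → G} {w1 w2 t : F → G}

/-- the image of `Z(W j)` is proper in `A`: an abstract form of `N0_ne_top` -/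
theorem not_AA_le_imZ {M : Type u} [AddCommGroup M] [Module F M] [DistribMulAction (HQ (R i)) M] {p : G → M}
    {f : M →ₗ[F] M →ₗ[F] F} {e : F →ₗ[F] M} {ω : M →ₗ[F] F} {σ : HQ (R i) →* RingAut F} {κ : HQ (R i) → F}
    {N : Type u} [AddCommGroup N] [Module F N] {P1 P2 : G → N}
    (q : Fq V R i vv M p f e ω σ κ) (b : BTS V R) (c : Coord V R i j vv w1 w2)
    (τ : TorD V R i j vv t) (y : YPair V R i j w1 w2 N P1 P2) (hF : ∃ a : F, a ≠ 0 ∧ a ≠ 1)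
    (hodd : Odd ((normalizer (V : Set G)).relIndex (normalizer (R i : Set G))))
    (hZ : ∃ z ∈ ZZ V R j, z ∉ DD V R) : ¬ AA V R i j ≤ im (R i) (ZZ V R j) := by
  intro hle
  apply q.N0_ne_top b c τ y hF hodd hZ
  rw [eq_top_iff]
  intro k _
  obtain ⟨u, hu, rfl⟩ := exists_u y k
  rw [mem_N0']
  obtain ⟨z, hzN, hz, e⟩ := mem_im.1 (hle ((mem_AA b.toBT).2 ⟨u, hu, rfl⟩))
  rw [pr_eq_pr] at e
  have hzU : z ∈ UU V R j := ZZ_le_UU j hz
  have h1 : z⁻¹ * u ∈ DD V R := (U_inf_Q b.toBT c.ne (mul_mem (inv_mem hzU) hu)).1 e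
  have hY : z⁻¹ * u ∈ YY V R := UU_le_YY j (mul_mem (inv_mem hzU) hu)
  have h2 := ((y.mem_D _ hY).1 h1).2
  refine ⟨z, hz, ?_⟩
  have h3 := y.mul2 z (UU_le_YY j hzU) _ hY
  rw [mul_inv_cancel_left, h2, add_zero] at h3
  exact h3.symm

variable {S : Subgroup (HQ (R i))} {α : Type} {K : α → Subgroup (HQ (R i))} {J : α → Type}
  {P : ∀ a, J a → Subgroup (K a)} {m : ∀ a, J a → J a → ℕ}

/-- **ONE NODE**: `A` lies in the image of `Z(W j)`. -/
theorem AA_le_imZ (b : BT V R) (τ : TorD V R i j vv t) (hij : i ≠ j) (h4 : 4 ≤ Nat.card F)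
    (hz : ∃ z ∈ ZZ V R j, z ∉ DD V R) (D : RS V R i j (TT τ) S K J P m) (hone : ∀ a, OneL (K a) (J a))
    (hNV : ∀ g (hg : g ∈ normalizer (R i : Set G)),
      (∀ a ∈ AA V R i j, pr (R i) ⟨g, hg⟩ * a * (pr (R i) ⟨g, hg⟩)⁻¹ ∈ AA V R i j) → g ∈ normalizer (V : Set G))
    (huniq : ∀ x x' : Σ a, J a, x = x') : AA V R i j ≤ im (R i) (ZZ V R j) := by
  have hfact : Fact (Nat.Prime 2) := ⟨Nat.prime_two⟩
  obtain ⟨L, hL⟩ := SitRS4.exists_mcomp b hij hz D.lay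
  obtain ⟨a, rfl⟩ := D.sur L hL
  obtain ⟨k₀, -⟩ := (D.sys a).moved
  have hα : ∀ c, c = a := by
    intro c
    obtain ⟨k, -⟩ := (D.sys c).moved
    exact congrArg Sigma.fst (huniq ⟨c, k⟩ ⟨a, k₀⟩)
  have hJ : ∀ k k' : J a, k = k' := by
    intro k k'
    have h1 := huniq ⟨a, k⟩ ⟨a, k'⟩
    exact eq_of_heq (Sigma.mk.inj h1).2
  have hK : ∀ L : Subgroup (HQ (R i)), MComp V R i j L → L = K a := by
    intro L hL
    obtain ⟨c, rfl⟩ := D.sur L hL
    rw [hα c]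
  have hA : AA V R i j ≤ K a :=
    (D.lay.A_le b hij).trans (iSup₂_le fun L hL => inf_le_right.trans (hK L hL).le)
  have ht : TAct (S.subgroupOf (K a)) (Tact (TT τ) (K a)) := tact_of_lay b τ hij h4 D.lay (D.mem a)
  have h2 : S.subgroupOf (K a) = (AA V R i j).subgroupOf (K a) := by
    rw [← KDOf.AT_eq_self (D.mem a).1.2 (OfLay.odd_center (pCore_HQ (R i)) (D.mem a).1) (D.sys a) ht hJ,
      OfLay.AT_eq (D.hyp a), inf_subgroupOf_right]
  obtain ⟨k, _, _, hk2, ⟨e⟩⟩ := hone a hJ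
  have hc : CharP k 2 := ringChar.of_eq hk2
  obtain ⟨e'⟩ := HexGlob.SLQuot.exists_equiv (F' := k) (K := k) Nat.card_eq_fintype_card.symm
  obtain ⟨X, hX⟩ := OfLay.exists_sylow (D.hyp a).toPre
  set φ : K a ≃* Matrix.SpecialLinearGroup (Fin 2) k := e.trans e' with hφ
  -- the Sylow 2-subgroup of `SL₂(k)`
  set Y : Sylow 2 (Matrix.SpecialLinearGroup (Fin 2) k) :=
    X.mapSurjective (f := φ.toMonoidHom) φ.surjective with hY
  have hmY : ∀ x : K a, φ x ∈ Y ↔ (x : HQ (R i)) ∈ AA V R i j := by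
    intro x
    have h3 : φ x ∈ Y ↔ x ∈ X := by
      constructor
      · rintro ⟨y, hy, e⟩
        have : y = x := φ.injective e
        rw [← this]
        exact hy
      · intro hx
        exact ⟨x, hx, rfl⟩
    rw [h3]
    show x ∈ (X : Subgroup (K a)) ↔ _
    rw [hX, h2, mem_subgroupOf]
  have hab : ∀ x ∈ Y, ∀ y ∈ Y, x * y = y * x := by
    intro x hx y hy
    obtain ⟨x, rfl⟩ := φ.surjective x
    obtain ⟨y, rfl⟩ := φ.surjective y
    have hx' := (hmY x).1 hx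
    have hy' := (hmY y).1 hy
    rw [← map_mul, ← map_mul]
    congr 1
    apply Subtype.ext
    show (x : HQ (R i)) * y = y * x
    have h3 := A_sq b hij (mul_mem hx' hy')
    have h4 := A_sq b hij hx'
    have h5 := A_sq b hij hy'
    have h6 : (x : HQ (R i))⁻¹ = x := inv_eq_of_mul_eq_one_left h4
    have h7 : (y : HQ (R i))⁻¹ = y := inv_eq_of_mul_eq_one_left h5
    have h8 : ((x : HQ (R i)) * y)⁻¹ = x * y := inv_eq_of_mul_eq_one_left h3
    rw [← h8, mul_inv_rev, h6, h7]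
  -- a nontrivial element
  obtain ⟨z, hz, hzD⟩ := hz
  have hzU : z ∈ UU V R j := ZZ_le_UU j hz
  have hzN := U_le_N b i j hzU
  have hz1 : pr (R i) ⟨z, hzN⟩ ≠ 1 := fun h => hzD ((U_inf_Q b hij hzU).1 ((pr_eq_one hzN).1 h))
  have hzA : pr (R i) ⟨z, hzN⟩ ∈ AA V R i j := (mem_AA b).2 ⟨z, hzU, rfl⟩
  intro x hx
  by_cases hx1 : x = 1
  · rw [hx1]; exact one_mem _
  have hYz : φ ⟨_, hA hzA⟩ ∈ Y := (hmY _).2 hzA
  have hYx : φ ⟨x, hA hx⟩ ∈ Y := (hmY _).2 hx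
  obtain ⟨g, hg, hgx⟩ := sl_trans Y hab hYz hYx (by
      rw [Ne, EmbeddingLike.map_eq_one_iff]
      exact fun h => hz1 (congrArg Subtype.val h)) (by
      rw [Ne, EmbeddingLike.map_eq_one_iff]
      exact fun h => hx1 (congrArg Subtype.val h))
  obtain ⟨g, rfl⟩ := φ.surjective g
  have hgA : ∀ y ∈ AA V R i j, (g : HQ (R i)) * y * (g : HQ (R i))⁻¹ ∈ AA V R i j := by
    intro y hy
    have h3 := (mem_normalizer_iff.1 hg (φ ⟨y, hA hy⟩)).1 ((hmY _).2 hy)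
    rw [← map_inv, ← map_mul, ← map_mul] at h3
    exact (hmY _).1 h3
  obtain ⟨g', hg', hgg⟩ := exists_pr (g : HQ (R i))
  have hV := hNV g' hg' (fun y hy => by rw [hgg]; exact hgA y hy)
  have h3 := conj_imZ b hij hg' hV (pr_mem_im hzN hz)
  rw [hgg] at h3
  rw [← map_inv, ← map_mul, ← map_mul] at hgx
  have h4 : (g : HQ (R i)) * pr (R i) ⟨z, hzN⟩ * (g : HQ (R i))⁻¹ = x := congrArg Subtype.val (φ.injective hgx)
  rwa [h4] at h3

/-- **ONE NODE IS IMPOSSIBLE** ((5) of bb #17641). -/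
theorem false_of_unique {M : Type u} [AddCommGroup M] [Module F M] [DistribMulAction (HQ (R i)) M] {p : G → M}
    {f : M →ₗ[F] M →ₗ[F] F} {e : F →ₗ[F] M} {ω : M →ₗ[F] F} {σ : HQ (R i) →* RingAut F} {κ : HQ (R i) → F}
    {N : Type u} [AddCommGroup N] [Module F N] {P1 P2 : G → N}
    (q : Fq V R i vv M p f e ω σ κ) (b : BTS V R) (c : Coord V R i j vv w1 w2)
    (τ : TorD V R i j vv t) (y : YPair V R i j w1 w2 N P1 P2) (hF : ∃ a : F, a ≠ 0 ∧ a ≠ 1)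
    (h4 : 4 ≤ Nat.card F) (hodd : Odd ((normalizer (V : Set G)).relIndex (normalizer (R i : Set G))))
    (hz : ∃ z ∈ ZZ V R j, z ∉ DD V R) (D : RS V R i j (TT τ) S K J P m) (hone : ∀ a, OneL (K a) (J a))
    (hNV : ∀ g (hg : g ∈ normalizer (R i : Set G)),
      (∀ a ∈ AA V R i j, pr (R i) ⟨g, hg⟩ * a * (pr (R i) ⟨g, hg⟩)⁻¹ ∈ AA V R i j) → g ∈ normalizer (V : Set G))
    (huniq : ∀ x x' : Σ a, J a, x = x') : False :=
  not_AA_le_imZ q b c τ y hF hodd hz (AA_le_imZ b.toBT τ c.ne h4 hz D hone hNV huniq)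

/-! ### `(γ)` implies ONE NODE -/

/-- **`(γ)` implies ONE NODE.** -/
theorem uniq_of_reg (b : BT V R) (τ : TorD V R i j vv t) (hij : i ≠ j) (h4 : 4 ≤ Nat.card F)
    (D : RS V R i j (TT τ) S K J P m)
    (hNV : ∀ g (hg : g ∈ normalizer (R i : Set G)),
      (∀ a ∈ AA V R i j, pr (R i) ⟨g, hg⟩ * a * (pr (R i) ⟨g, hg⟩)⁻¹ ∈ AA V R i j) → g ∈ normalizer (V : Set G))
    (x : Σ a, J a) (hx : ¬ PG K (TT τ) S P x ≤ normalizer (V : Set G))
    (reg : ∀ u ∈ UU V R j, ∀ g ∈ PG K (TT τ) S P x, g ∉ normalizer (V : Set G) →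
      g⁻¹ * u * g ∈ normalizer (V : Set G) → u ∈ DD V R) : ∀ y y' : Σ a, J a, y = y' := by
  obtain ⟨a, k⟩ := x
  have hQV : QQ (R i) ≤ normalizer (V : Set G) := b.Q_le_NV i
  set E₀ : Subgroup (HQ (R i)) := im (R i) (normalizer (V : Set G)) with hE₀
  have hmE : ∀ g (hg : g ∈ normalizer (R i : Set G)), pr (R i) ⟨g, hg⟩ ∈ E₀ ↔ g ∈ normalizer (V : Set G) :=
    fun g hg => pr_mem_im_iff hQV hg
  have hAE : AA V R i j ≤ E₀ := im_mono ((UU_le_cen j).trans (cen_le_NV V))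
  have hNE : ∀ g : HQ (R i), g ∈ normalizer (AA V R i j : Set (HQ (R i))) → g ∈ E₀ := by
    intro g hg
    obtain ⟨g', hg', rfl⟩ := exists_pr g
    exact (hmE g' hg').2 (hNV g' hg' fun y hy => (mem_normalizer_iff.1 hg y).1 hy)
  have hBE : ∀ x : K a, x ∈ normalizer (S.subgroupOf (K a) : Set (K a)) → (x : HQ (R i)) ∈ E₀ := fun x hx =>
    hNE _ (NA.norm_A_of_ksys (D.hyp a) (D.sys a) x.2 hx)
  have hmv : ∃ g ∈ P a k, (g : HQ (R i)) ∉ E₀ := by
    by_contra hcon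
    push Not at hcon
    apply hx
    have h1 : PPx K (fun a => S.subgroupOf (K a)) (TT τ) P ⟨a, k⟩ ≤ E₀ := by
      refine sup_le ?_ fun g hg => hNE g (D.CC_norm_A hg)
      rintro _ ⟨g, hg, rfl⟩
      exact hcon g hg
    intro g hg
    obtain ⟨hgN, hgP⟩ := Moved.mem_up.1 hg
    exact (hmE g hgN).1 (h1 hgP)
  have hreg : ∀ y ∈ AA V R i j, ∀ g ∈ P a k, (g : HQ (R i)) ∉ E₀ → (g : HQ (R i))⁻¹ * y * g ∈ E₀ → y = 1 := by
    intro y hy g hg hgE hyE
    obtain ⟨u, hu, rfl⟩ := (mem_AA b).1 hy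
    obtain ⟨g', hg', hgg⟩ := exists_pr (g : HQ (R i))
    rw [← hgg] at hgE hyE
    have hgP : g' ∈ PG K (TT τ) S P ⟨a, k⟩ := Moved.mem_up.2 ⟨hg', by
      rw [hgg]
      exact mem_sup_left ⟨g, hg, rfl⟩⟩
    have hgV : g' ∉ normalizer (V : Set G) := fun h => hgE ((hmE g' hg').2 h)
    rw [← map_inv, ← map_mul, ← map_mul] at hyE
    have huN := U_le_N b i j hu
    have h1 : g'⁻¹ * u * g' ∈ normalizer (V : Set G) :=
      (hmE _ (mul_mem (mul_mem (inv_mem hg') huN) hg')).1 hyE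
    have h2 := reg u hu g' hgP hgV h1
    exact (pr_eq_one huN).2 ((U_inf_Q b hij hu).2 h2)
  have htact : ∀ L, MComp V R i j L → TAct (S.subgroupOf L) (Tact (TT τ) L) := fun L hL =>
    tact_of_lay b τ hij h4 D.lay hL
  have hj : Moved (S.subgroupOf (K a)) (Tact (TT τ) (K a)) (P a k) := by
    rcases (D.sys a).dich k with hk | hk
    · exfalso
      have ht := htact _ (D.mem a)
      apply ht.ne
      rw [eq_bot_iff_forall]
      intro y hy
      have h1 : AT (S.subgroupOf (K a)) (Tact (TT τ) (K a)) ≤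
          Qk (normalizer (S.subgroupOf (K a) : Set (K a))) (P a k) := by
        unfold AT
        rw [closure_le]
        rintro _ ⟨s, hs, u, hu, rfl⟩
        exact hk s hs u hu
      obtain ⟨g, hg, hgE⟩ := hmv
      have h2 := hBE _ (h1 hy g hg)
      have hyA : (y : HQ (R i)) ∈ AA V R i j := by
        rw [OfLay.AT_eq (D.hyp a)] at hy
        exact (mem_subgroupOf.1 hy).1
      exact Subtype.ext (hreg _ hyA g hg hgE h2)
    · exact hk
  obtain ⟨h1, h2⟩ := KDOf.uniq_of_reg D.lay (D.mem a) htact (D.sys a) hj E₀ hAE hBE hmv hreg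
  have h3 : ∀ y : Σ a, J a, y = ⟨a, k⟩ := by
    rintro ⟨c, l⟩
    obtain rfl : c = a := D.inj (h1 _ (D.mem c))
    rw [h2 l k]
  intro y y'
  rw [h3 y, h3 y']

end real

end Cfsg.Agent.Omega.HOneQ.OneNode

end

-- merged: Cfsg.Agent.Mrg.Omega.Lie.End.SepLone
section

section


/-!
# The end of NODE LIE: `SepG` of the node `0` with a node, if there is another component

`RS.exists_scal` : a moved node `x`, not of type `(γ)`, has an element `h ∈ P x ∩ B`, `h ∈ up (K x.1)`, centralising `R i`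
and nontrivial on `V / R i`;  `RS.sep_lone`, `RS.sep_of_ne` : `SepG 2 B U (P ⟨a, k⟩) P₀` if there is a component `≠ K a`.
-/

set_option autoImplicit false
set_option linter.unusedSectionVars false

namespace Cfsg.Agent.Omega.Lie.End

open Subgroup Cfsg Cfsg.Agent.ParSys Cfsg.Agent.Omega.BTwo Cfsg.Agent.Omega.Lie Cfsg.Agent.Omega.Lie.Quot
open Cfsg.Agent.Omega.IIa4 Cfsg.Agent.Omega.Lie.End.OfLay

universe u v w

namespace RS

variable {G : Type u} [Group G] {ι : Type w} {V : Subgroup G} {R : ι → Subgroup G} {F : Type v} [Field F] {i j : ι}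
  {v : F → F → G} {w1 w2 : F → G} {t : F → G}
variable {T S : Subgroup (HQ (R i))} {α : Type} {K : α → Subgroup (HQ (R i))} {J : α → Type}
  {P : ∀ a, J a → Subgroup (K a)} {m : ∀ a, J a → J a → ℕ} (D : RS V R i j T S K J P m)

/-- the rank one group of the node in `G` -/
abbrev LG (K : α → Subgroup (HQ (R i))) (P : ∀ a, J a → Subgroup (K a)) (x : Σ a, J a) : Subgroup G :=
  up (R i) ((P x.1 x.2).map (K x.1).subtype)

include D

theorem LG_norm [Finite G] (x : Σ a, J a) : BG K T S ≤ normalizer (LG K P x : Set G) := by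
  refine up_norm ?_
  have key : ∀ c ∈ CC K (fun a => S.subgroupOf (K a)) T, ∀ y ∈ (P x.1 x.2).map (K x.1).subtype,
      c * y * c⁻¹ ∈ (P x.1 x.2).map (K x.1).subtype := by
    rintro c hc _ ⟨y, hy, rfl⟩
    obtain ⟨z, hz, e⟩ := D.psit.C_norm_P x.1 x.2 c hc y hy
    exact ⟨z, hz, e⟩
  intro c hc
  rw [mem_normalizer_iff]
  intro y
  refine ⟨key c hc y, fun h => ?_⟩
  have h1 := key c⁻¹ (inv_mem hc) _ h
  have e : c⁻¹ * (c * y * c⁻¹) * c⁻¹⁻¹ = y := by group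
  rwa [e] at h1

theorem LG_le_cen (b : BT V R) (x : Σ a, J a) : LG K P x ≤ centralizer (R i : Set G) :=
  (up_mono (map_subtype_le _)).trans (D.K_le_cen b x.1)

/-- **an element of a moved node which acts nontrivially on `V / R i`** (`BT`) -/
theorem exists_scal' [Finite G] [Finite F] [CharP F 2] [Finite α] (b : BT V R)
    (τ : TorD V R i j v t) (hF : ∃ a : F, a ≠ 0 ∧ a ≠ 1) (hl : Zero.LineHyp V R i v t)
    (hd : Zero.Dat V R i (BG K T S) (UG K S)) (x : Σ a, J a)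
    (hx : ¬ PG K T S P x ≤ normalizer (V : Set G)) (hg : ¬ GamT V (PG K T S P x)) :
    ∃ h ∈ LG K P x, h ∈ BG K T S ∧ (∀ r ∈ R i, h * r = r * h) ∧ ∃ p₀ s₀ : F, h * v 0 1 * h⁻¹ = v p₀ s₀ ∧ s₀ ≠ 1 := by
  have hg' : ∀ p ∈ PG K T S P x, ∀ y ∈ V, ∀ z ∈ V, p * y * p⁻¹ * z = z * (p * y * p⁻¹) := by
    intro p hp y hy z hz
    by_contra hne
    exact hg ⟨p, hp, y, hy, z, hz, hne⟩
  exact Zero.exists_scal_node' b τ hF hl hd (D.preG.le x) D.preG.isP (D.preG.ptr x) hx hg' (up_mono le_sup_left)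
    (D.LG_le_cen b x) (D.LG_norm x) (by rw [← up_sup]; exact le_rfl)

/-- **an element of a moved node which acts nontrivially on `V / R i`** -/
theorem exists_scal [Finite G] [Finite F] [CharP F 2] [Finite α] (b : BTC V R) (c : Coord V R i j v w1 w2)
    (τ : TorD V R i j v t) (hF : ∃ a : F, a ≠ 0 ∧ a ≠ 1) (hC : centralizer (WW V (R i) : Set G) ≤ R i)
    (hd : Zero.Dat V R i (BG K T S) (UG K S)) (x : Σ a, J a)
    (hx : ¬ PG K T S P x ≤ normalizer (V : Set G)) (hg : ¬ GamT V (PG K T S P x)) :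
    ∃ h ∈ LG K P x, h ∈ BG K T S ∧ (∀ r ∈ R i, h * r = r * h) ∧ ∃ p₀ s₀ : F, h * v 0 1 * h⁻¹ = v p₀ s₀ ∧ s₀ ≠ 1 :=
  D.exists_scal' b.toBT τ hF (Zero.lineHyp_of_btc b c τ hC) hd x hx hg

/-- **`SepG` with the node `0`**, from a moved node of another component (`BT`) -/
theorem sep_lone' [Finite G] [Finite F] [CharP F 2] [Finite α] (b : BT V R) (c : Coord V R i j v w1 w2)
    (τ : TorD V R i j v t) (hF : ∃ a : F, a ≠ 0 ∧ a ≠ 1) (hl : Zero.LineHyp V R i v t)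
    (hd : Zero.Dat V R i (BG K T S) (UG K S)) {a b' : α} (hab : a ≠ b') (k : J a) (l : J b')
    (hx : ¬ PG K T S P ⟨b', l⟩ ≤ normalizer (V : Set G)) (hg : ¬ GamT V (PG K T S P ⟨b', l⟩)) :
    SepG 2 (BG K T S) (UG K S) (PG K T S P ⟨a, k⟩) (Zero.P0 V R (BG K T S)) := by
  have hg' : ∀ p ∈ PG K T S P ⟨b', l⟩, ∀ y ∈ V, ∀ z ∈ V, p * y * p⁻¹ * z = z * (p * y * p⁻¹) := by
    intro p hp y hy z hz
    by_contra hne
    exact hg ⟨p, hp, y, hy, z, hz, hne⟩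
  refine Zero.sepG_node' b c τ hF hl hd (D.preG.le ⟨b', l⟩) D.preG.isP D.preG.norm D.preG.index (D.preG.ptr ⟨b', l⟩) hx
    hg' (up_mono le_sup_left) (D.LG_le_cen b ⟨b', l⟩) (D.LG_norm ⟨b', l⟩) (by rw [← up_sup]; exact le_rfl)
    (D.preG.le ⟨a, k⟩) ?_
  intro g hgL
  obtain ⟨h1, h2⟩ := mem_inf.1 hgL
  obtain ⟨hN, h3⟩ := mem_up.1 h1
  obtain ⟨_, h4⟩ := mem_up.1 h2
  rw [Qk_up]
  refine mem_up.2 ⟨hN, ?_⟩
  obtain ⟨y, -, e⟩ := h3
  have h5 : (y : HQ (R i)) ∈ CC K (fun a => S.subgroupOf (K a)) T := by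
    rw [← coe_subtype, e]
    exact h4
  have h6 := D.psit.mem_Qk_of hab k h5
  rw [← coe_subtype, e] at h6
  exact h6

/-- **`SepG` with the node `0`**, from a moved node of another component -/
theorem sep_lone [Finite G] [Finite F] [CharP F 2] [Finite α] (b : BTC V R) (c : Coord V R i j v w1 w2)
    (τ : TorD V R i j v t) (hF : ∃ a : F, a ≠ 0 ∧ a ≠ 1) (hC : centralizer (WW V (R i) : Set G) ≤ R i)
    (hd : Zero.Dat V R i (BG K T S) (UG K S)) {a b' : α} (hab : a ≠ b') (k : J a) (l : J b')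
    (hx : ¬ PG K T S P ⟨b', l⟩ ≤ normalizer (V : Set G)) (hg : ¬ GamT V (PG K T S P ⟨b', l⟩)) :
    SepG 2 (BG K T S) (UG K S) (PG K T S P ⟨a, k⟩) (Zero.P0 V R (BG K T S)) :=
  D.sep_lone' b.toBT c τ hF (Zero.lineHyp_of_btc b c τ hC) hd hab k l hx hg

/-- **`SepG` with the node `0`**, if there is another component (`BT`) -/
theorem sep_of_ne' [Finite G] [Finite F] [CharP F 2] [Finite α] (b : BT V R) (c : Coord V R i j v w1 w2)
    (τ : TorD V R i j v t) (hij : i ≠ j) (hF : ∃ a : F, a ≠ 0 ∧ a ≠ 1)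
    (hl : Zero.LineHyp V R i v t) (hd : Zero.Dat V R i (BG K T S) (UG K S))
    (hg : ∀ x, ¬ GamT V (PG K T S P x)) {a b' : α} (hab : a ≠ b') (k : J a) :
    SepG 2 (BG K T S) (UG K S) (PG K T S P ⟨a, k⟩) (Zero.P0 V R (BG K T S)) := by
  obtain ⟨l, hl'⟩ := (D.sys b').moved
  exact D.sep_lone' b c τ hF hl hd hab k l (D.not_le_of_moved b hij hl') (hg _)

/-- **`SepG` with the node `0`**, if there is another component -/
theorem sep_of_ne [Finite G] [Finite F] [CharP F 2] [Finite α] (b : BTC V R) (c : Coord V R i j v w1 w2)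
    (τ : TorD V R i j v t) (hij : i ≠ j) (hF : ∃ a : F, a ≠ 0 ∧ a ≠ 1)
    (hC : centralizer (WW V (R i) : Set G) ≤ R i) (hd : Zero.Dat V R i (BG K T S) (UG K S))
    (hg : ∀ x, ¬ GamT V (PG K T S P x)) {a b' : α} (hab : a ≠ b') (k : J a) :
    SepG 2 (BG K T S) (UG K S) (PG K T S P ⟨a, k⟩) (Zero.P0 V R (BG K T S)) :=
  D.sep_of_ne' b.toBT c τ hij hF (Zero.lineHyp_of_btc b c τ hC) hd hg hab k

/-- **`SepG` with the node `0` for every moved node**, if there are at least two nodes and none is of type `(γ)` (`BT`) -/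
theorem sep_all' [Finite G] [Finite F] [CharP F 2] [Finite α] (b : BT V R) (c : Coord V R i j v w1 w2)
    (τ : TorD V R i j v t) (hij : i ≠ j) (hF : ∃ a : F, a ≠ 0 ∧ a ≠ 1)
    (hl : Zero.LineHyp V R i v t) (hd : Zero.Dat V R i (BG K T S) (UG K S))
    (hCA : ∀ x ∈ WW V (R i), (∀ u ∈ UU V R j, u * x * u⁻¹ * x⁻¹ ∈ R i) → x ∈ V)
    (hg : ∀ x, ¬ GamT V (PG K T S P x)) {x y : Σ a, J a} (hxy : x ≠ y)
    (hx : ¬ PG K T S P x ≤ normalizer (V : Set G)) :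
    SepG 2 (BG K T S) (UG K S) (PG K T S P x) (Zero.P0 V R (BG K T S)) ∨
      SepG 2 (BG K T S) (UG K S) (Zero.P0 V R (BG K T S)) (PG K T S P x) := by
  obtain ⟨a, k⟩ := x
  obtain ⟨a', l⟩ := y
  by_cases h : a = a'
  · subst h
    right
    exact D.sep_nbr b c hij hd hCA ((D.moved_iff b c hij hd hCA).2 hx) ⟨l, fun e => hxy (by rw [e])⟩
  · left
    exact D.sep_of_ne' b c τ hij hF hl hd hg h k

/-- **`SepG` with the node `0` for every moved node**, if there are at least two nodes and none is of type `(γ)` -/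
theorem sep_all [Finite G] [Finite F] [CharP F 2] [Finite α] (b : BTC V R) (c : Coord V R i j v w1 w2)
    (τ : TorD V R i j v t) (hij : i ≠ j) (hF : ∃ a : F, a ≠ 0 ∧ a ≠ 1)
    (hC : centralizer (WW V (R i) : Set G) ≤ R i) (hd : Zero.Dat V R i (BG K T S) (UG K S))
    (hCA : ∀ x ∈ WW V (R i), (∀ u ∈ UU V R j, u * x * u⁻¹ * x⁻¹ ∈ R i) → x ∈ V)
    (hg : ∀ x, ¬ GamT V (PG K T S P x)) {x y : Σ a, J a} (hxy : x ≠ y)
    (hx : ¬ PG K T S P x ≤ normalizer (V : Set G)) :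
    SepG 2 (BG K T S) (UG K S) (PG K T S P x) (Zero.P0 V R (BG K T S)) ∨
      SepG 2 (BG K T S) (UG K S) (Zero.P0 V R (BG K T S)) (PG K T S P x) :=
  D.sep_all' b.toBT c τ hij hF (Zero.lineHyp_of_btc b c τ hC) hd hCA hg hxy hx

end RS

end Cfsg.Agent.Omega.Lie.End

end

section


/-!
# II.0h1, split: lines on `R i` and the torus (`LineHyp` from `Fq`)

`lineHyp_of_fq` : `g ∈ C(R i)`, `V ^ g ≠ V` commutes with `V` and is normalised by `t a` ⟹ `h = g⁻¹ (t a) g (t a)⁻¹` acts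
nontrivially on `V / R i`.
-/

set_option autoImplicit false
set_option linter.unusedSectionVars false

namespace Cfsg.Agent.Omega.HOneQ.SepH

open Subgroup Cfsg.Agent.Omega.BTwo Cfsg.Agent.Omega.Lie Cfsg.Agent.Omega.Lie.Quot
open Cfsg.Agent.Omega.HOne Cfsg.Agent.Omega.HOne.ModZ

universe u v w

section Abs

open Cfsg.Agent.Omega.HOne.EigAbs

variable {F : Type*} [Field F] {M : Type*} [AddCommGroup M] [Module F M] {N : Type*} [AddCommGroup N] [Module F N]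
  {f : M →ₗ[F] M →ₗ[F] F} {e : F →ₗ[F] M} {ω : M →ₗ[F] F} {T : Fˣ → M →ₗ[F] M} {D : Submodule F M}
  {N0 : Submodule F N} {π : LinearMap.ker ω →ₗ[F] N ⧸ N0} {Λ : D →ₗ[F] N →ₗ[F] F} {A : N → M →ₗ[F] M}
  {M0 : Submodule F M} {n : N →ₗ[F] M} {s : N →ₗ[F] N →ₗ[F] M} {sh : N → N →ₗ[F] F}

/-- the eigenvalue `a⁻¹` on `e^⊥` is only on `e` -/
theorem eig_inv (h : Pre f e ω T D N0 π Λ A) (E : Eig f e ω T D N0 π A M0 n s sh) {x : M} (hx : ω x = 0) {a : Fˣ}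
    (ha : (a : F) ≠ 1) (hT : T a x = (a : F)⁻¹ • x) : ∃ γ, x = e γ := by
  obtain ⟨γ, d, hd, g, rfl⟩ := (E.mem_P x).1 hx
  rw [map_add, map_add, h.Te, (E.mem_M0 d).1 hd a, E.n_T, smul_add, smul_add] at hT
  have h1 : e 0 + (1 - (a : F)⁻¹) • d + n (((a : F) - (a : F)⁻¹) • g) = 0 := by
    rw [map_smul, sub_smul, sub_smul, one_smul, map_zero, zero_add]
    have h2 : (a : F)⁻¹ • e γ + d + (a : F) • n g - (a : F)⁻¹ • e γ - (a : F)⁻¹ • d - (a : F)⁻¹ • n g = 0 := by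
      rw [hT]; abel
    rw [← h2]
    abel
  obtain ⟨-, h2, h3⟩ := E.indep 0 _ (M0.smul_mem _ hd) _ h1
  have h4 : (1 : F) - (a : F)⁻¹ ≠ 0 := by
    intro h5
    apply ha
    have := sub_eq_zero.1 h5
    rw [← inv_inv (a : F), ← this, inv_one]
  have h5 : d = 0 := (smul_eq_zero.1 h2).resolve_left h4
  rw [map_smul] at h3
  have h6 : n g = 0 := (smul_eq_zero.1 h3).resolve_left (h.sub_inv_ne a.ne_zero ha)
  exact ⟨γ, by rw [h5, h6, add_zero, add_zero]⟩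

end Abs

variable {G : Type u} [Group G] [Finite G] {ι : Type w} {V : Subgroup G} {R : ι → Subgroup G} {i j : ι}
  {F : Type v} [Field F] {v : F → F → G} {w1 w2 t : F → G}
  {M : Type u} [AddCommGroup M] [Module F M] [DistribMulAction (HQ (R i)) M] {p : G → M}
  {f : M →ₗ[F] M →ₗ[F] F} {e : F →ₗ[F] M} {ω : M →ₗ[F] F} {σ : HQ (R i) →* RingAut F} {κ : HQ (R i) → F}

/-- **`LineHyp` in II.0h1** (`hNE` : `NormE.normE`) -/
theorem lineHyp_of_fq [Finite F] [CharP F 2] (q : Fq V R i v M p f e ω σ κ) (b : BTS V R)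
    (c : Coord V R i j v w1 w2) (τ : TorD V R i j v t) (hF : ∃ a : F, a ≠ 0 ∧ a ≠ 1)
    (hNE : ∀ {g : G} (hg : g ∈ normalizer (R i : Set G)), (∃ γ, pr (R i) ⟨g, hg⟩ • e 1 = e γ) →
      g ∈ normalizer (V : Set G)) : Zero.LineHyp V R i v t := by
  intro a ha ha1 g hg hV hc hT
  obtain ⟨N, _, _, P1, P2, y⟩ := c.exists_yPair b.toBT
  obtain ⟨π, Λ, h, -, -⟩ := q.exists_pre b c τ y hF
  obtain ⟨M0, n, s, sh, E⟩ := h.exists_eig
  have htV : t a ∈ normalizer (V : Set G) := b.toBT.X_le_NV (τ.memX a ha)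
  have hgN : g ∈ normalizer (R i : Set G) := Subgroup.centralizer_le_normalizer (R i : Set G) hg
  have h1 : g⁻¹ * t a * g * (t a)⁻¹ ∈ normalizer (V : Set G) := by
    rw [← cj_eq_self_iff]
    have e1 : cj (t a)⁻¹ V = V := cj_eq_self_iff.2 (inv_mem htV)
    have e2 : cj (t a) (cj g V) = cj g V := cj_eq_self_iff.2 hT
    rw [cj_mul, e1, mul_assoc, cj_mul, cj_mul, e2, cj_inv_cj]
  have h2 : ∀ x ∈ R i, g⁻¹ * t a * g * (t a)⁻¹ * x = x * (g⁻¹ * t a * g * (t a)⁻¹) := by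
    intro x hx
    have k1 : (t a)⁻¹ * x * t a ∈ R i := BTwo.conj_inv_mem_of_normalizer (τ.normR ha) hx
    have k2 : g * ((t a)⁻¹ * x * t a) = ((t a)⁻¹ * x * t a) * g := (mem_centralizer_iff.1 hg _ k1).symm
    have k3 : g⁻¹ * x = x * g⁻¹ := (mem_centralizer_iff.1 (inv_mem hg) _ hx).symm
    calc g⁻¹ * t a * g * (t a)⁻¹ * x = g⁻¹ * t a * (g * ((t a)⁻¹ * x * t a)) * (t a)⁻¹ := by group
      _ = g⁻¹ * t a * (((t a)⁻¹ * x * t a) * g) * (t a)⁻¹ := by rw [k2]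
      _ = (g⁻¹ * x) * (t a * g * (t a)⁻¹) := by group
      _ = x * g⁻¹ * (t a * g * (t a)⁻¹) := by rw [k3]
      _ = x * (g⁻¹ * t a * g * (t a)⁻¹) := by group
  refine ⟨h1, h2, ?_⟩
  obtain ⟨p₀, s₀, hps⟩ := (c.mem_V _).1 (BTwo.conj_mem_of_normalizer h1 (c.v_mem 0 1))
  refine ⟨p₀, s₀, hps.symm, ?_⟩
  rintro rfl
  set a' : Fˣ := Units.mk0 a ha with ha'
  set gb : HQ (R i) := pr (R i) ⟨g, hgN⟩ with hgb
  have hH0 : gb ∈ H0 R i := mem_im.2 ⟨g, hgN, hg, rfl⟩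
  have hgW : ∀ b c, g * v b c * g⁻¹ ∈ WW V (R i) := fun b c' =>
    BTwo.conj_mem_of_normalizer (normalizer_le_WW V (R i) hgN) (q.hvW c b c')
  have e0 : ∀ b c, p (g * v b c * g⁻¹) = gb • e c := fun b c' => by
    rw [hgb, ← q.e_eq b c', q.p_act g hgN _ (q.hvW c b c')]
  have hesm : ∀ x : F, gb • e x = x • (gb • e 1) := by
    intro x
    rw [← q.H0_smul c hH0, ← LinearMap.map_smul e, smul_eq_mul, mul_one]
  -- `e' = g e` is in `e^⊥`
  have hω : ω (gb • e 1) = 0 := by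
    rw [← e0 0 1, q.mem_P c (hgW 0 1)]
    refine mem_inf.2 ⟨hgW 0 1, ?_⟩
    rw [mem_centralizer_iff]
    exact fun z hz => (hc _ (c.v_mem 0 1) z hz).symm
  have hact : q.TL c τ a' (gb • e 1) = (a' : F)⁻¹ • (gb • e 1) := by
    rw [q.TL_apply]
    have k2 : t a * (g * v 0 a * g⁻¹) * (t a)⁻¹ = g * v p₀ 1 * g⁻¹ := by
      have k3 : t a * v 0 a * (t a)⁻¹ = v 0 1 := by rw [τ.act a 0 a ha, mul_zero, inv_mul_cancel₀ ha]
      have k3' : (t a)⁻¹ * v 0 1 * t a = v 0 a := by rw [← k3]; group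
      calc t a * (g * v 0 a * g⁻¹) * (t a)⁻¹ = t a * (g * ((t a)⁻¹ * v 0 1 * t a) * g⁻¹) * (t a)⁻¹ := by rw [k3']
        _ = g * (g⁻¹ * t a * g * (t a)⁻¹ * v 0 1 * (g⁻¹ * t a * g * (t a)⁻¹)⁻¹) * g⁻¹ := by group
        _ = g * v p₀ 1 * g⁻¹ := by rw [← hps]
    have k4 : pr (R i) ⟨t a', τ.normR a'.ne_zero⟩ • (gb • e a) = gb • e 1 := by
      rw [← e0 0 a, ← e0 p₀ 1, q.p_act _ (τ.normR a'.ne_zero) _ (hgW 0 a)]
      exact congrArg p k2
    rw [hesm a, q.t_smul c τ a'] at k4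
    calc pr (R i) ⟨t a', τ.normR a'.ne_zero⟩ • (gb • e 1)
        = (a' : F)⁻¹ • (a • (pr (R i) ⟨t a', τ.normR a'.ne_zero⟩ • (gb • e 1))) := by
          rw [smul_smul (a' : F)⁻¹]
          change _ = (a⁻¹ * a) • _
          rw [inv_mul_cancel₀ ha, one_smul]
      _ = (a' : F)⁻¹ • (gb • e 1) := by rw [k4]
  obtain ⟨γ, hγ⟩ := eig_inv h E hω (a := a') ha1 hact
  have hgV : g ∈ normalizer (V : Set G) := hNE hgN ⟨γ, hγ⟩
  exact hV (cj_eq_self_iff.2 hgV).le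

end Cfsg.Agent.Omega.HOneQ.SepH

end

section


/-!
# The end of NODE LIE: `SepG` with the node `0`, from "unmoved nodes normalise `V`"

`hun : ∀ a k, Unmoved (S ⊓ K a) T (P a k) → P k ≤ N(V)`  instead of  `hCA` (which fails in II.0h1):
`RS.moved_iff_un`, `RS.sep_nbr_un`, `RS.sep_all_un`.
-/

set_option autoImplicit false
set_option linter.unusedSectionVars false

namespace Cfsg.Agent.Omega.Lie.End

open Subgroup Cfsg Cfsg.Agent.ParSys Cfsg.Agent.Omega.BTwo Cfsg.Agent.Omega.Lie Cfsg.Agent.Omega.Lie.Quot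
open Cfsg.Agent.Omega.IIa4 Cfsg.Agent.Omega.Lie.End.OfLay

universe u v w

namespace RS

variable {G : Type u} [Group G] {ι : Type w} {V : Subgroup G} {R : ι → Subgroup G} {F : Type v} [Field F] {i j : ι}
  {v : F → F → G} {w1 w2 : F → G} {t : F → G}
variable {T S : Subgroup (HQ (R i))} {α : Type} {K : α → Subgroup (HQ (R i))} {J : α → Type}
  {P : ∀ a, J a → Subgroup (K a)} {m : ∀ a, J a → J a → ℕ} (D : RS V R i j T S K J P m)

include D

/-- a node is moved iff it is not in `N(V)` -/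
theorem moved_iff_un [Finite G] (b : BT V R) (hij : i ≠ j)
    (hun : ∀ (a : α) (k : J a), Unmoved (S.subgroupOf (K a)) (Tact T (K a)) (P a k) →
      PG K T S P ⟨a, k⟩ ≤ normalizer (V : Set G)) {a : α} {k : J a} :
    End.Moved (S.subgroupOf (K a)) (Tact T (K a)) (P a k) ↔ ¬ PG K T S P ⟨a, k⟩ ≤ normalizer (V : Set G) := by
  refine ⟨D.not_le_of_moved b hij, fun h => ?_⟩
  rcases (D.sys a).dich k with h1 | h1
  · exact absurd (hun a k h1) h
  · exact h1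

/-- `SepG` at `(P₀, P x)`, `x` a moved node which is not the only node of its component -/
theorem sep_nbr_un [Finite G] [Finite α] (b : BT V R)
    (hd : Zero.Dat V R i (BG K T S) (UG K S))
    (hun : ∀ (a : α) (k : J a), Unmoved (S.subgroupOf (K a)) (Tact T (K a)) (P a k) →
      PG K T S P ⟨a, k⟩ ≤ normalizer (V : Set G)) {a : α} {k : J a}
    (hm : End.Moved (S.subgroupOf (K a)) (Tact T (K a)) (P a k)) (hk : ∃ l, l ≠ k) :
    SepG 2 (BG K T S) (UG K S) (Zero.P0 V R (BG K T S)) (PG K T S P ⟨a, k⟩) := by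
  obtain ⟨l, hl, x, hxN, hxP, ⟨n, hn, hxn⟩, hfp⟩ := (D.sys a).nbr k hm hk
  have hps := D.psit
  have hPl := hun a l hl
  -- a lift of `x`
  obtain ⟨h, hh, e⟩ := exists_pr (x : HQ (R i))
  have hxC : (x : HQ (R i)) ∈ CC K (fun a => S.subgroupOf (K a)) T := (hps.enl a).B_le x hxN
  have hhB : h ∈ BG K T S := mem_up.2 ⟨hh, by rw [e]; exact hxC⟩
  -- the normal closure
  set C : Subgroup G := closure {y | ∃ g ∈ normalizer (V : Set G) ⊓ normalizer (R i : Set G), ∃ u ∈ UG K S,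
    g * u * g⁻¹ = y} with hC
  have hQC : QQ (R i) ≤ C := fun q hq => subset_closure ⟨1, one_mem _, q, QQ_le_up hq, by group⟩
  have hmap : (NCl (S.subgroupOf (K a)) (P a l)).map (K a).subtype ≤ im (R i) C := by
    unfold NCl
    rw [MonoidHom.map_closure, closure_le]
    rintro _ ⟨y, ⟨g, hg, hy⟩, rfl⟩
    obtain ⟨g', hg', eg⟩ := exists_pr (g : HQ (R i))
    obtain ⟨s', hs', es⟩ := exists_pr ((g⁻¹ * y * g : K a) : HQ (R i))
    have h1 : g' ∈ PG K T S P ⟨a, l⟩ := mem_up.2 ⟨hg', by rw [eg]; exact mem_sup_left ⟨g, hg, rfl⟩⟩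
    have h2 : s' ∈ UG K S := mem_up.2 ⟨hs', by
      rw [es]
      exact le_iSup (fun a => (S.subgroupOf (K a)).map (K a).subtype) a ⟨_, hy, rfl⟩⟩
    refine mem_im.2 ⟨g' * s' * g'⁻¹, mul_mem (mul_mem hg' hs') (inv_mem hg'),
      subset_closure ⟨g', mem_inf.2 ⟨hPl h1, hg'⟩, s', h2, rfl⟩, ?_⟩
    have e3 : pr (R i) ⟨g' * s' * g'⁻¹, mul_mem (mul_mem hg' hs') (inv_mem hg')⟩ =
        pr (R i) ⟨g', hg'⟩ * pr (R i) ⟨s', hs'⟩ * (pr (R i) ⟨g', hg'⟩)⁻¹ := by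
      rw [← map_mul, ← map_inv, ← map_mul]
      rfl
    rw [e3, eg, es, coe_subtype, coe_mul, coe_mul, coe_inv]
    group
  have hhC : h ∈ C := by
    rw [← pr_mem_im_iff hQC hh, e]
    exact hmap ⟨x, hxP, rfl⟩
  have hhn : h ^ n ∈ UG K S := by
    refine mem_up.2 ⟨pow_mem hh n, ?_⟩
    have e3 : pr (R i) ⟨h ^ n, pow_mem hh n⟩ = (pr (R i) ⟨h, hh⟩) ^ n := by
      rw [← map_pow]
      rfl
    rw [e3, e, ← coe_pow, hxn, coe_one]
    exact one_mem _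
  refine Zero.sepG_nbr b hd D.preG.isP (D.preG.le ⟨a, k⟩) hhB hhC hn hhn fun u hu h1 => ?_
  rw [Qk_up] at h1 ⊢
  obtain ⟨h2, h3⟩ := mem_up.1 hu
  obtain ⟨h4, h5⟩ := mem_up.1 h1
  refine mem_up.2 ⟨h2, ?_⟩
  refine (hps.enl a).fpfE (hps.C_norm_P a k) (b := x) hfp _ h3 ?_
  have e4 : pr (R i) ⟨h * u * h⁻¹ * u⁻¹, h4⟩ = pr (R i) ⟨h, hh⟩ * pr (R i) ⟨u, h2⟩ * (pr (R i) ⟨h, hh⟩)⁻¹ *
      (pr (R i) ⟨u, h2⟩)⁻¹ := by
    rw [← map_mul, ← map_inv, ← map_inv, ← map_mul, ← map_mul]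
    rfl
  rw [e4, e] at h5
  exact h5

/-- **`SepG` with the node `0` for every moved node**, if there are at least two nodes and none is of type `(γ)` -/
theorem sep_all_un [Finite G] [Finite F] [CharP F 2] [Finite α] (b : BT V R) (c : Coord V R i j v w1 w2)
    (τ : TorD V R i j v t) (hij : i ≠ j) (hF : ∃ a : F, a ≠ 0 ∧ a ≠ 1)
    (hl : Zero.LineHyp V R i v t) (hd : Zero.Dat V R i (BG K T S) (UG K S))
    (hun : ∀ (a : α) (k : J a), Unmoved (S.subgroupOf (K a)) (Tact T (K a)) (P a k) →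
      PG K T S P ⟨a, k⟩ ≤ normalizer (V : Set G))
    (hg : ∀ x, ¬ GamT V (PG K T S P x)) {x y : Σ a, J a} (hxy : x ≠ y)
    (hx : ¬ PG K T S P x ≤ normalizer (V : Set G)) :
    SepG 2 (BG K T S) (UG K S) (PG K T S P x) (Zero.P0 V R (BG K T S)) ∨
      SepG 2 (BG K T S) (UG K S) (Zero.P0 V R (BG K T S)) (PG K T S P x) := by
  obtain ⟨a, k⟩ := x
  obtain ⟨a', l⟩ := y
  by_cases h : a = a'
  · subst h
    right
    exact D.sep_nbr_un b hd hun ((D.moved_iff_un b hij hun).2 hx) ⟨l, fun e => hxy (by rw [e])⟩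
  · left
    exact D.sep_of_ne' b c τ hij hF hl hd hg h k

end RS

end Cfsg.Agent.Omega.Lie.End

end

end

-- merged: Cfsg.Agent.Mrg.Omega.Lie.End.UnMov
section

/-!
# Unmoved nodes normalise `V`, from the parabolic system of the component alone

Let `S`, `T`, `P` be a parabolic system `KSys` of `K` and `A = [S, T]`.  If the node `k` is unmoved by `T`, then `P k`
normalises `A` (`UnMov.conj_AT`).  Only a part of `TAct` is used (`UnMov.TW`).

PROOF.  `Q` := the kernel of `P k` on its panel, `O := S ∩ Q`, both normal in `P k`; `A ≤ O`;  `φ(g) := g⁻¹ t(g) ∈ Q` for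
`g ∈ P k`.  Let `P⁺` be the normal closure of `S` in `P k`.  (1) `P⁺` centralises `Q / O` (`comm_Q`), hence `φ(P⁺) ≤ O`
(`phi_O`).  (2) For `g ∈ P⁺` the automorphism `t' := c_g t c_g⁻¹ = c_o t`, `o ∈ O`, has odd order and
`t'^r(u) ∈ o^r u o^-r A`, hence `t'(u) ∈ u A` for `u ∈ S` (`conj_t`).  (3) `a = c⁻¹ t(c)` with `c ∈ A`, so
`g a g⁻¹ = c'⁻¹ t'(c')`, `c' = g c g⁻¹ ∈ O`.  (4) `P k = P⁺ N(S)`.

`RS.unmoved_le'` : the unmoved nodes of `RS` normalise `V`, if `N(A) ∩ N(R i) ≤ N(V)`.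
-/

set_option autoImplicit false
set_option linter.unusedSectionVars false

namespace Cfsg.Agent.Omega.Lie.End

open Subgroup Cfsg Cfsg.Agent.ParSys Cfsg.Agent.Omega.BTwo Cfsg.Agent.Omega.Lie Cfsg.Agent.Omega.Lie.Quot
open Cfsg.Agent.Omega.IIa4 Cfsg.Agent.Omega.Lie.End.OfLay

universe u v w

namespace UnMov

section ksys

variable {K : Type*} [Group K] {S : Subgroup K} {T : Subgroup (MulAut K)} {J : Type} {P : J → Subgroup K}
  {m : J → J → ℕ}

/-- the part of `TAct` which is used here -/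
structure TW (S : Subgroup K) (T : Subgroup (MulAut K)) : Prop where
  odd : Odd (Nat.card T)
  ne : ∃ t ∈ T, t ≠ 1
  stab : ∀ t ∈ T, ∀ u ∈ S, t u ∈ S
  fpf : ∀ t ∈ T, t ≠ 1 → ∀ a ∈ AT S T, t a = a → a = 1

theorem tw_of_tact (ht : TAct S T) : TW S T where
  odd := ht.odd
  ne := KDOf.exists_t ht
  stab := ht.stab
  fpf := ht.fpf

theorem mem_S_iff (ht : TW S T) {t : MulAut K} (htT : t ∈ T) {x : K} : t x ∈ S ↔ x ∈ S := by
  refine ⟨fun h => ?_, ht.stab t htT x⟩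
  have h1 := ht.stab t⁻¹ (inv_mem htT) _ h
  rwa [MulAut.inv_apply_self] at h1

theorem mem_B (ht : TW S T) {t : MulAut K} (htT : t ∈ T) {x : K} (hx : x ∈ normalizer (S : Set K)) :
    t x ∈ normalizer (S : Set K) := by
  rw [mem_normalizer_iff] at hx ⊢
  intro y
  have h1 := hx (t⁻¹ y)
  have e : t (x * t⁻¹ y * x⁻¹) = t x * y * (t x)⁻¹ := by
    rw [map_mul, map_mul, map_inv, MulAut.apply_inv_self]
  change y ∈ S ↔ t x * y * (t x)⁻¹ ∈ S
  rw [← e, mem_S_iff ht htT]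
  change t⁻¹ y ∈ S ↔ _ at h1
  rw [← mem_S_iff ht (inv_mem htT) (x := y)]
  exact h1

theorem mem_Q (h : KSys S T P m) (ht : TW S T) {t : MulAut K} (htT : t ∈ T) {i : J} {x : K}
    (hx : x ∈ Qk (normalizer (S : Set K)) (P i)) : t x ∈ Qk (normalizer (S : Set K)) (P i) := by
  intro g hg
  have h1 := mem_B ht htT (hx _ (h.T_P i t⁻¹ (inv_mem htT) g hg))
  have e : t ((t⁻¹ g)⁻¹ * x * t⁻¹ g) = g⁻¹ * t x * g := by
    rw [map_mul, map_mul, map_inv, MulAut.apply_inv_self]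
  rwa [e] at h1

theorem odd_orderOf [Finite K] (ht : TW S T) {t : MulAut K} (htT : t ∈ T) : Odd (orderOf t) := by
  have h1 : orderOf t ∣ Nat.card T := by
    have := orderOf_dvd_natCard (⟨t, htT⟩ : T)
    rwa [Subgroup.orderOf_mk] at this
  exact Odd.of_dvd_nat ht.odd h1

theorem unmoved_fix [Finite K] (h : KSys S T P m) (ht : TW S T) {k : J} (hk : Unmoved S T (P k)) {t : MulAut K}
    (htT : t ∈ T) {g : K} (hg : g ∈ P k) : g⁻¹ * t g ∈ normalizer (S : Set K) := by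
  by_cases hgB : g ∈ normalizer (S : Set K)
  · exact mul_mem (inv_mem hgB) (mem_B ht htT hgB)
  have htg : t g ∉ normalizer (S : Set K) := by
    intro h1
    have h2 := mem_B ht (inv_mem htT) h1
    rw [MulAut.inv_apply_self] at h2
    exact hgB h2
  obtain ⟨u, hu, c, hc, e⟩ := h.ptr k g hg hgB (t g) (h.T_P k t htT g hg) htg
  have hSP : S ≤ P k := le_normalizer.trans (h.le k)
  have key : ∀ r : ℕ, ∃ q ∈ Qk (normalizer (S : Set K)) (P k), ∃ c ∈ normalizer (S : Set K),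
      (t ^ r) g = q * u ^ r * g * c := by
    intro r
    induction r with
    | zero => exact ⟨1, one_mem _, 1, one_mem _, by simp⟩
    | succ r ih =>
      obtain ⟨q, hq, c₁, hc₁, e₁⟩ := ih
      have hur : u ^ r ∈ S := pow_mem hu r
      have h1 := hk t htT _ hur
      refine ⟨t q * (u ^ r * ((u ^ r)⁻¹ * t (u ^ r)) * (u ^ r)⁻¹),
        mul_mem (mem_Q h ht htT hq) (Qk_conj' h1 (hSP hur)), c * t c₁, mul_mem hc (mem_B ht htT hc₁), ?_⟩
      rw [pow_succ', MulAut.mul_apply, e₁, map_mul, map_mul, map_mul, e, pow_succ]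
      group
  obtain ⟨q, hq, c₁, hc₁, e₁⟩ := key (orderOf t)
  rw [pow_orderOf_eq_one, MulAut.one_apply] at e₁
  have h1 : g⁻¹ * u ^ orderOf t * g ∈ normalizer (S : Set K) := by
    have h2 := hq g hg
    have e2 : g⁻¹ * u ^ orderOf t * g = (g⁻¹ * q * g)⁻¹ * c₁⁻¹ := by
      have e3 : c₁ = (q * u ^ orderOf t * g)⁻¹ * g := eq_inv_mul_of_mul_eq e₁.symm
      rw [e3]
      group
    rw [e2]
    exact mul_mem (inv_mem h2) (inv_mem hc₁)
  have h2 := h.reg k _ (pow_mem hu _) g hg hgB h1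
  have h3 := KDOf.mem_of_odd_pow h hu (odd_orderOf ht htT) h2
  rw [e]
  have e4 : g⁻¹ * (u * g * c) = g⁻¹ * u * g * c := by group
  rw [e4]
  exact mul_mem (h3 g hg) hc

theorem unmoved_Q [Finite K] (h : KSys S T P m) (ht : TW S T) {k : J} (hk : Unmoved S T (P k)) {t : MulAut K}
    (htT : t ∈ T) {g : K} (hg : g ∈ P k) : g⁻¹ * t g ∈ Qk (normalizer (S : Set K)) (P k) := by
  intro x hx
  have h1 := unmoved_fix h ht hk htT (mul_mem hg hx)
  have h2 := unmoved_fix h ht hk htT hx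
  have h3 := mul_mem h1 (inv_mem h2)
  have e : (g * x)⁻¹ * t (g * x) * (x⁻¹ * t x)⁻¹ = x⁻¹ * (g⁻¹ * t g) * x := by
    rw [map_mul]
    group
  rwa [e] at h3

theorem sub_S (ht : TW S T) : AT S T ≤ S := by
  unfold AT
  rw [closure_le]
  rintro a ⟨t, htT, u, hu, rfl⟩
  exact mul_mem (inv_mem hu) (ht.stab t htT u hu)

theorem mem_AT {t : MulAut K} (htT : t ∈ T) {u : K} (hu : u ∈ S) : u⁻¹ * t u ∈ AT S T :=
  subset_closure ⟨t, htT, u, hu, rfl⟩

theorem T_AT (ht : TW S T) {t : MulAut K} (htT : t ∈ T) {a : K} (ha : a ∈ AT S T) : t a ∈ AT S T := by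
  have h1 := mem_AT htT (sub_S ht ha)
  have h2 := mul_mem ha h1
  rwa [mul_inv_cancel_left] at h2

/-- `[A, t] = A` -/
theorem AT_surj [Finite K] (ht : TW S T) {t : MulAut K} (htT : t ∈ T) (ht1 : t ≠ 1) {a : K} (ha : a ∈ AT S T) :
    ∃ c ∈ AT S T, c⁻¹ * t c = a := by
  let β : AT S T → AT S T := fun x => ⟨(x : K)⁻¹ * t x, mul_mem (inv_mem x.2) (T_AT ht htT x.2)⟩
  have hinj : Function.Injective β := by
    intro x y hxy
    have h1 : (x : K)⁻¹ * t x = (y : K)⁻¹ * t y := congrArg Subtype.val hxy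
    have h2 : t ((y : K) * (x : K)⁻¹) = (y : K) * (x : K)⁻¹ := by
      rw [map_mul, map_inv]
      have h3 : t x = x * ((y : K)⁻¹ * t y) := by rw [← h1]; group
      rw [h3]
      group
    have h4 := ht.fpf t htT ht1 _ (mul_mem y.2 (inv_mem x.2)) h2
    exact Subtype.ext (mul_inv_eq_one.1 h4).symm
  obtain ⟨x, hx⟩ := (Finite.injective_iff_surjective.1 hinj) ⟨a, ha⟩
  exact ⟨x, x.2, congrArg Subtype.val hx⟩

/-! ### `O = S ∩ Q` -/

/-- `S ∩ Q` -/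
def OO (S P : Subgroup K) : Subgroup K := S ⊓ Qk (normalizer (S : Set K)) P

theorem OO_conj (h : KSys S T P m) {k : J} {g x : K} (hg : g ∈ P k) (hx : x ∈ OO S (P k)) :
    g * x * g⁻¹ ∈ OO S (P k) := by
  obtain ⟨h1, h2⟩ := mem_inf.1 hx
  have h3 := Qk_conj' h2 hg
  obtain ⟨n, hn⟩ := KDOf.exists_two_pow h h1
  exact mem_inf.2 ⟨KDOf.mem_S_of_two h (Qk_le _ _ h3) (n := n) (by rw [conj_pow, hn, mul_one, mul_inv_cancel]), h3⟩

theorem OO_conj' (h : KSys S T P m) {k : J} {g x : K} (hg : g ∈ P k) (hx : x ∈ OO S (P k)) :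
    g⁻¹ * x * g ∈ OO S (P k) := by
  have h1 := OO_conj h (inv_mem hg) hx
  rwa [inv_inv] at h1

theorem AT_le_OO (ht : TW S T) {k : J} (hk : Unmoved S T (P k)) : AT S T ≤ OO S (P k) := by
  refine le_inf (sub_S ht) ?_
  unfold AT
  rw [closure_le]
  rintro a ⟨t, htT, u, hu, rfl⟩
  exact hk t htT u hu

/-- (1a) the normal closure of `S` in `P k` centralises `Q / O` -/
theorem comm_Q (h : KSys S T P m) {k : J} {x : K} (hx : x ∈ Pp (P k) S) :
    ∀ q ∈ Qk (normalizer (S : Set K)) (P k), x⁻¹ * q * x * q⁻¹ ∈ OO S (P k) := by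
  have hSP : S ≤ P k := le_normalizer.trans (h.le k)
  have hQP : Qk (normalizer (S : Set K)) (P k) ≤ P k := (Qk_le _ _).trans (h.le k)
  let M : Subgroup K :=
    { carrier := {x | x ∈ P k ∧ ∀ q ∈ Qk (normalizer (S : Set K)) (P k), x⁻¹ * q * x * q⁻¹ ∈ OO S (P k)}
      one_mem' := ⟨one_mem _, fun q _ => by
        have e : (1 : K)⁻¹ * q * 1 * q⁻¹ = 1 := by group
        rw [e]
        exact one_mem _⟩
      mul_mem' := by
        rintro x y ⟨hxP, hx⟩ ⟨hyP, hy⟩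
        refine ⟨mul_mem hxP hyP, fun q hq => ?_⟩
        have e : (x * y)⁻¹ * q * (x * y) * q⁻¹ = y⁻¹ * (x⁻¹ * q * x * q⁻¹) * y * (y⁻¹ * q * y * q⁻¹) := by group
        rw [e]
        exact mul_mem (OO_conj' h hyP (hx q hq)) (hy q hq)
      inv_mem' := by
        rintro x ⟨hxP, hx⟩
        refine ⟨inv_mem hxP, fun q hq => ?_⟩
        have h1 := OO_conj h (mul_mem hxP (hQP hq)) (inv_mem (hx _ (Qk_conj' hq hxP)))
        have h2 := hx _ (Qk_conj' hq hxP)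
        have h3 := inv_mem h2
        have e : x⁻¹⁻¹ * q * x⁻¹ * q⁻¹ = (x⁻¹ * (x * q * x⁻¹) * x * (x * q * x⁻¹)⁻¹)⁻¹ := by group
        rw [e]
        exact h3 }
  have h1 : Pp (P k) S ≤ M := by
    unfold Pp
    rw [closure_le]
    rintro _ ⟨g, hg, s, hs, rfl⟩
    refine ⟨mul_mem (mul_mem hg (hSP hs)) (inv_mem hg), fun q hq => ?_⟩
    have hq' : g⁻¹ * q * g ∈ Qk (normalizer (S : Set K)) (P k) := Qk_conj hq hg
    have h2 : s⁻¹ * (g⁻¹ * q * g) * s * (g⁻¹ * q * g)⁻¹ ∈ OO S (P k) := by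
      refine mem_inf.2 ⟨?_, mul_mem (Qk_conj hq' (hSP hs)) (inv_mem hq')⟩
      have h3 := (mem_normalizer_iff.1 (Qk_le _ _ hq') s).1 hs
      have e : s⁻¹ * (g⁻¹ * q * g) * s * (g⁻¹ * q * g)⁻¹ = s⁻¹ * ((g⁻¹ * q * g) * s * (g⁻¹ * q * g)⁻¹) := by group
      rw [e]
      exact mul_mem (inv_mem hs) h3
    have h3 := OO_conj h hg h2
    have e : g * (s⁻¹ * (g⁻¹ * q * g) * s * (g⁻¹ * q * g)⁻¹) * g⁻¹ = (g * s * g⁻¹)⁻¹ * q * (g * s * g⁻¹) * q⁻¹ := by
      group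
    rwa [e] at h3
  exact (h1 hx).2

/-- (1b) `[P⁺, T] ≤ O` -/
theorem phi_O [Finite K] (h : KSys S T P m) (ht : TW S T) {k : J} (hk : Unmoved S T (P k)) {x : K}
    (hx : x ∈ Pp (P k) S) : ∀ t ∈ T, x⁻¹ * t x ∈ OO S (P k) := by
  have hSP : S ≤ P k := le_normalizer.trans (h.le k)
  let M : Subgroup K :=
    { carrier := {x | x ∈ P k ∧ ∀ t ∈ T, x⁻¹ * t x ∈ OO S (P k)}
      one_mem' := ⟨one_mem _, fun t _ => by
        rw [map_one, inv_one, mul_one]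
        exact one_mem _⟩
      mul_mem' := by
        rintro x y ⟨hxP, hx⟩ ⟨hyP, hy⟩
        refine ⟨mul_mem hxP hyP, fun t ht' => ?_⟩
        have e : (x * y)⁻¹ * t (x * y) = y⁻¹ * (x⁻¹ * t x) * y * (y⁻¹ * t y) := by
          rw [map_mul]
          group
        rw [e]
        exact mul_mem (OO_conj' h hyP (hx t ht')) (hy t ht')
      inv_mem' := by
        rintro x ⟨hxP, hx⟩
        refine ⟨inv_mem hxP, fun t ht' => ?_⟩
        have e : x⁻¹⁻¹ * t x⁻¹ = x * (x⁻¹ * t x)⁻¹ * x⁻¹ := by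
          rw [map_inv]
          group
        rw [e]
        exact OO_conj h hxP (inv_mem (hx t ht')) }
  have h1 : Pp (P k) S ≤ M := by
    unfold Pp
    rw [closure_le]
    rintro _ ⟨g, hg, s, hs, rfl⟩
    refine ⟨mul_mem (mul_mem hg (hSP hs)) (inv_mem hg), fun t ht' => ?_⟩
    have hq := unmoved_Q h ht hk ht' (inv_mem hg)
    have hx' : g * s * g⁻¹ ∈ Pp (P k) S := subset_closure ⟨g, hg, s, hs, rfl⟩
    have h2 := comm_Q h hx' _ (inv_mem hq)
    have h3 := OO_conj h hg (AT_le_OO ht hk (mem_AT ht' hs))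
    have h4 := OO_conj' h (mul_mem (inv_mem (inv_mem hg)) (h.T_P k t ht' _ (inv_mem hg))) h3
    have h5 := mul_mem h2 h4
    have e : (g * s * g⁻¹)⁻¹ * (g⁻¹⁻¹ * t g⁻¹)⁻¹ * (g * s * g⁻¹) * (g⁻¹⁻¹ * t g⁻¹)⁻¹⁻¹ *
        ((g⁻¹⁻¹ * t g⁻¹)⁻¹ * (g * (s⁻¹ * t s) * g⁻¹) * (g⁻¹⁻¹ * t g⁻¹)) = (g * s * g⁻¹)⁻¹ * t (g * s * g⁻¹) := by
      rw [map_mul, map_mul, map_inv]
      group
    rwa [e] at h5
  exact (h1 hx).2

/-- (2) `t'(u) ∈ u A` for the conjugates `t'` of `t` under `P⁺` -/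
theorem conj_t [Finite K] (h : KSys S T P m) (ht : TW S T) {k : J} (hk : Unmoved S T (P k)) {g : K}
    (hg : g ∈ Pp (P k) S) {t : MulAut K} (htT : t ∈ T) {u : K} (hu : u ∈ S) :
    u⁻¹ * (g * t (g⁻¹ * u * g) * g⁻¹) ∈ AT S T := by
  have ho := phi_O h ht hk (inv_mem hg) t htT
  set o : K := g⁻¹⁻¹ * t g⁻¹ with ho'
  have hoS : o ∈ S := (mem_inf.1 ho).1
  -- the conjugate
  let t' : MulAut K := MulAut.conj g * t * (MulAut.conj g)⁻¹
  have ht' : ∀ x : K, t' x = g * t (g⁻¹ * x * g) * g⁻¹ := by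
    intro x
    change MulAut.conj g (t ((MulAut.conj g)⁻¹ x)) = _
    rw [MulAut.conj_inv_apply, MulAut.conj_apply]
  have ht2 : ∀ x : K, t' x = o * t x * o⁻¹ := by
    intro x
    rw [ht', ho', map_mul, map_mul, map_inv]
    group
  have hord : Odd (orderOf t') := by
    have h1 : orderOf t' = orderOf t := by
      have h2 := MulEquiv.orderOf_eq (MulAut.conj (MulAut.conj g)) t
      rw [← h2]
      rfl
    rw [h1]
    exact odd_orderOf ht htT
  have key : ∀ r : ℕ, ∃ a ∈ AT S T, (t' ^ r) u = o ^ r * u * (o ^ r)⁻¹ * a := by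
    intro r
    induction r with
    | zero => exact ⟨1, one_mem _, by simp⟩
    | succ r ih =>
      obtain ⟨a, ha, e⟩ := ih
      have hx : o ^ r * u * (o ^ r)⁻¹ ∈ S := mul_mem (mul_mem (pow_mem hoS r) hu) (inv_mem (pow_mem hoS r))
      have h1 := mem_AT htT hx
      refine ⟨o * ((o ^ r * u * (o ^ r)⁻¹)⁻¹ * t (o ^ r * u * (o ^ r)⁻¹) * t a) * o⁻¹,
        h.B_A o (le_normalizer hoS) _ (mul_mem h1 (T_AT ht htT ha)), ?_⟩
      rw [pow_succ', MulAut.mul_apply, e, ht2, map_mul t (o ^ r * u * (o ^ r)⁻¹) a, pow_succ']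
      group
  obtain ⟨n, hn⟩ := KDOf.exists_two_pow h hoS
  -- `r ≡ 0 mod 2 ^ n`, `r ≡ 1` modulo the order of `t'`
  have hcop : (2 ^ n).Coprime (orderOf t') := (Nat.coprime_two_left.2 hord).pow_left n
  obtain ⟨r, hr1, hr2⟩ := Nat.chineseRemainder hcop 0 1
  obtain ⟨a, ha, e⟩ := key r
  have h1 : o ^ r = 1 := by
    obtain ⟨l, hl⟩ := (Nat.modEq_zero_iff_dvd).1 hr1
    rw [hl, pow_mul, hn, one_pow]
  have h2 : t' ^ r = t' := by
    have h3 : t' ^ r = t' ^ 1 := pow_eq_pow_iff_modEq.2 hr2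
    rwa [pow_one] at h3
  rw [h1, h2, ht'] at e
  rw [e]
  have e2 : u⁻¹ * (1 * u * (1 : K)⁻¹ * a) = a := by group
  rw [e2]
  exact ha

/-- **LEMMA UN**: an unmoved parabolic subgroup normalises `[S, T]` -/
theorem conj_AT' [Finite K] (h : KSys S T P m) (ht : TW S T) {k : J} (hk : Unmoved S T (P k)) {g : K} (hg : g ∈ P k)
    {a : K} (ha : a ∈ AT S T) : g * a * g⁻¹ ∈ AT S T := by
  have hSP : S ≤ P k := le_normalizer.trans (h.le k)
  obtain ⟨p, hp, b, hb, rfl⟩ := exists_Pp (h.ptr k) (KDOf.exists_two (by have := h.five k; omega)) hg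
  have hpP : p ∈ P k := Pp_le hSP hp
  -- `N(S)` normalises `A`
  have h1 := h.B_A b hb a ha
  obtain ⟨t, htT, ht1⟩ := ht.ne
  obtain ⟨c, hc, e⟩ := AT_surj ht htT ht1 h1
  have hcO := OO_conj h hpP (AT_le_OO ht hk hc)
  have h2 := conj_t h ht hk hp htT (mem_inf.1 hcO).1
  have e2 : (p * c * p⁻¹)⁻¹ * (p * t (p⁻¹ * (p * c * p⁻¹) * p) * p⁻¹) = p * b * a * (p * b)⁻¹ := by
    have e3 : p⁻¹ * (p * c * p⁻¹) * p = c := by group
    have e4 : t c = c * (b * a * b⁻¹) := by rw [← e]; group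
    rw [e3, e4]
    group
  rwa [e2] at h2

/-- **LEMMA UN**: an unmoved parabolic subgroup normalises `[S, T]` -/
theorem conj_AT [Finite K] (h : KSys S T P m) (ht : TAct S T) {k : J} (hk : Unmoved S T (P k)) {g : K} (hg : g ∈ P k)
    {a : K} (ha : a ∈ AT S T) : g * a * g⁻¹ ∈ AT S T :=
  conj_AT' h (tw_of_tact ht) hk hg ha

end ksys

end UnMov

variable {G : Type u} [Group G] {ι : Type w} {V : Subgroup G} {R : ι → Subgroup G} {F : Type v} [Field F] {i j : ι}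
  {v : F → F → G} {w1 w2 : F → G} {t : F → G}

namespace RS

variable {T S : Subgroup (HQ (R i))} {α : Type} {K : α → Subgroup (HQ (R i))} {J : α → Type}
  {P : ∀ a, J a → Subgroup (K a)} {m : ∀ a, J a → J a → ℕ} (D : RS V R i j T S K J P m)
include D

theorem tw [Finite G] (a : α) : UnMov.TW (S.subgroupOf (K a)) (Tact T (K a)) where
  odd := by
    rw [card_Tact (D.hyp a) (D.mem a).2.2 D.sc]
    exact D.oddT
  ne := D.T_ne a
  stab := by
    intro τ hτ u hu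
    obtain ⟨t, ht, -, h1⟩ := mem_Tact.1 hτ
    rw [mem_subgroupOf, h1]
    exact (D.hyp a).TS t ht u (mem_subgroupOf.1 hu)
  fpf := by
    intro τ hτ hτ1 x hx e
    obtain ⟨t, ht, hN, h1⟩ := mem_Tact.1 hτ
    by_contra ha1
    have h2 : t = 1 := by
      refine D.sc.reg x (mem_subgroupOf.1 (AT_le (D.hyp a).toPre hx)).1 (fun h0 => ha1 (Subtype.ext h0)) t ht ?_
      rw [← h1, e]
    refine hτ1 (MulEquiv.ext fun x => Subtype.ext ?_)
    rw [h1, h2]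
    simp

/-- an unmoved node normalises `A ∩ K a`, hence `A` -/
theorem unmoved_norm_A [Finite G] (b : BT V R) (hij : i ≠ j) {a : α} {k : J a}
    (hu : Unmoved (S.subgroupOf (K a)) (Tact T (K a)) (P a k)) :
    (P a k).map (K a).subtype ≤ normalizer (AA V R i j : Set (HQ (R i))) := by
  -- one direction suffices
  have key : ∀ g ∈ P a k, ∀ x ∈ AA V R i j, (g : HQ (R i)) * x * (g : HQ (R i))⁻¹ ∈ AA V R i j := by
    intro g hg
    have h1 : AA V R i j ≤ (AA V R i j).comap (MulAut.conj (g : HQ (R i))).toMonoidHom := by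
      refine (D.lay.A_le b hij).trans (iSup₂_le fun L hL => ?_)
      obtain ⟨a', rfl⟩ := D.sur L hL
      intro x hx
      change (g : HQ (R i)) * x * (g : HQ (R i))⁻¹ ∈ AA V R i j
      by_cases hab : a = a'
      · subst hab
        have h2 : (⟨x, hx.2⟩ : K a) ∈ AT (S.subgroupOf (K a)) (Tact T (K a)) := by
          rw [AT_eq (D.hyp a)]
          exact mem_subgroupOf.2 hx
        have h3 := UnMov.conj_AT' (D.sys a) (D.tw a) hu hg h2
        rw [AT_eq (D.hyp a)] at h3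
        exact (mem_subgroupOf.1 h3).1
      · have h2 := D.comm a a' hab g g.2 x hx.2
        have e : (g : HQ (R i)) * x * (g : HQ (R i))⁻¹ = x := by rw [h2]; group
        rw [e]
        exact hx.1
    exact fun x hx => h1 hx
  rintro _ ⟨g, hg, rfl⟩
  rw [mem_normalizer_iff]
  refine fun x => ⟨key g hg x, fun h => ?_⟩
  have h1 := key g⁻¹ (inv_mem hg) _ h
  have e : ((g⁻¹ : K a) : HQ (R i)) * ((g : HQ (R i)) * x * (g : HQ (R i))⁻¹) * ((g⁻¹ : K a) : HQ (R i))⁻¹ = x := by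
    rw [coe_inv]
    group
  change ((g⁻¹ : K a) : HQ (R i)) * ((g : HQ (R i)) * x * (g : HQ (R i))⁻¹) * ((g⁻¹ : K a) : HQ (R i))⁻¹ ∈ _ at h1
  rwa [e] at h1

/-- **the unmoved nodes normalise `V`**, if `N(A) ≤ N(V)` in `N(R i)` -/
theorem unmoved_le' [Finite G] [Finite α] (b : BT V R) (hij : i ≠ j)
    (hNV : ∀ (g : G) (hg : g ∈ normalizer (R i : Set G)),
      pr (R i) ⟨g, hg⟩ ∈ normalizer (AA V R i j : Set (HQ (R i))) → g ∈ normalizer (V : Set G)) {a : α} {k : J a}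
    (hu : Unmoved (S.subgroupOf (K a)) (Tact T (K a)) (P a k)) :
    PG K T S P ⟨a, k⟩ ≤ normalizer (V : Set G) := by
  intro g hg
  obtain ⟨h1, h2⟩ := mem_up.1 hg
  have h3 : PPx K (fun a => S.subgroupOf (K a)) T P ⟨a, k⟩ ≤ normalizer (AA V R i j : Set (HQ (R i))) :=
    sup_le (D.unmoved_norm_A b hij hu) D.CC_norm_A
  exact hNV g h1 (h3 h2)

/-- a node is moved iff it is not in `N(V)` -/
theorem moved_iff_nv [Finite G] [Finite α] (b : BT V R) (hij : i ≠ j)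
    (hNV : ∀ (g : G) (hg : g ∈ normalizer (R i : Set G)),
      pr (R i) ⟨g, hg⟩ ∈ normalizer (AA V R i j : Set (HQ (R i))) → g ∈ normalizer (V : Set G)) {a : α} {k : J a} :
    End.Moved (S.subgroupOf (K a)) (Tact T (K a)) (P a k) ↔ ¬ PG K T S P ⟨a, k⟩ ≤ normalizer (V : Set G) := by
  refine ⟨D.not_le_of_moved b hij, fun h => ?_⟩
  rcases (D.sys a).dich k with h1 | h1
  · exact absurd (D.unmoved_le' b hij hNV h1) h
  · exact h1

end RS

end Cfsg.Agent.Omega.Lie.End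

end

-- merged: Cfsg.Agent.Mrg.Omega.HOne.ResOf
section

/-!
# II.0h1, split, `q ≥ 4`: the residues `(0, x)` of the moved nodes

`SBRes` : the residue of a node of type `(σ)` or `(β)`, given `SepG` (helper976, 591, 759, 843);
`res_of` : the residues of all moved nodes, from the trichotomy `node_all`, if there is no node of type `(γ)` (BTS level);
`resT` : the socket `ResT`.
-/

set_option autoImplicit false
set_option linter.unusedSectionVars false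

namespace Cfsg.Agent.Omega.HOne.ResOf

open Subgroup Cfsg Cfsg.Agent.ParSys Cfsg.Agent.Omega.BTwo Cfsg.Agent.Omega.Lie Cfsg.Agent.Omega.Lie.Quot
open Cfsg.Agent.Omega.IIa4 Cfsg.Agent.Omega.Lie.End.OfLay Cfsg.Agent.Omega.Lie.End Cfsg.Agent.Omega.HOneQ

universe u v w

variable {G : Type u} [Group G] {ι : Type w} {V : Subgroup G} {R : ι → Subgroup G} {F : Type v} [Field F] {i j : ι}
  {v : F → F → G} {w1 w2 : F → G} {t : F → G}

variable {S : Subgroup (HQ (R i))} {α : Type} {K : α → Subgroup (HQ (R i))} {J : α → Type}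
  {P : ∀ a, J a → Subgroup (K a)} {m : ∀ a, J a → J a → ℕ}

/-- the torus lies in `B` -/
theorem t_mem_BG (τ : TorD V R i j v t) {a : F} (ha : a ≠ 0) : t a ∈ BG K (TT τ) S := by
  refine mem_up.2 ⟨τ.normR ha, ?_⟩
  exact mem_sup_right ((mem_TT τ).2 ⟨a, ha, rfl⟩)

/-- the torus normalises `P ⊓ C(R i)` -/
theorem t_norm [Finite G] [Finite α] (τ : TorD V R i j v t) (D : RS V R i j (TT τ) S K J P m) (x : Σ a, J a) {a : F}
    (ha : a ≠ 0) : t a ∈ normalizer ((PG K (TT τ) S P x ⊓ centralizer (R i : Set G) : Subgroup G) : Set G) := by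
  have h1 : t a ∈ PG K (TT τ) S P x := D.preG.le x (t_mem_BG τ ha)
  have h2 : t a ∈ normalizer (R i : Set G) := τ.normR ha
  rw [← BTwo.cj_eq_self_iff, cj_inf, BTwo.cj_eq_self_iff.2 (le_normalizer h1),
    BTwo.cj_eq_self_iff.2 (normalizer_le_normalizer_centralizer _ h2)]

/-- **The residue of a node of type `(σ)` or `(β)`** (output of `node_all`), given `SepG` -/
def SBRes (V : Subgroup G) (R : ι → Subgroup G) (i j : ι) (v : F → F → G) (t : F → G) (B U : Subgroup G) {I : Type}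
    (P : I → Subgroup G) (x : I) : Prop :=
  ∀ m p' : G, Sw V R i j t m → Sc V R i j v t (P x ⊓ centralizer (R i : Set G)) p' →
    Sc.Lin V R i (P x ⊓ centralizer (R i : Set G)) v m p' →
    (∀ w ∈ WW V (R i), ∀ y ∈ cj p' V, ∃ n ∈ WN V (P x ⊓ centralizer (R i : Set G)), ∃ z ∈ ZZ V R i,
      w * (m⁻¹ * y * m) * w⁻¹ * (m⁻¹ * y * m)⁻¹ = n * z) →
    (∀ w ∈ W0 V R i (P x ⊓ centralizer (R i : Set G)), ∃ ρ : F, ∀ y z r s',
      Sc.KX V R (P x ⊓ centralizer (R i : Set G)) v m w (p' * v y z * p'⁻¹) r s' → s' = z * ρ) →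
    (∀ w ∈ WW V (R i), (∀ y ∈ W0 V R i (P x ⊓ centralizer (R i : Set G)), w * y = y * w) →
      w ∈ WN V (P x ⊓ centralizer (R i : Set G)) ⊔ ZZ V R i) →
    (SepG 2 B U (P x) (Zero.P0 V R B) ∨ SepG 2 B U (Zero.P0 V R B) (P x)) →
    Res0 V R B U P x 4

/-- **The residues `(0, x)`** -/
theorem res_of [Finite G] [Finite F] [CharP F 2] [Finite α] (b : BTS V R) (c : Coord V R i j v w1 w2)
    (τ : TorD V R i j v t) (h4 : 4 ≤ Nat.card F) (hF : ∃ a : F, a ≠ 0 ∧ a ≠ 1)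
    (hodd : Odd ((normalizer (V : Set G)).relIndex (normalizer (R i : Set G))))
    (hz : ∃ z ∈ ZZ V R j, z ∉ DD V R) (D : RS V R i j (TT τ) S K J P m) (hone : ∀ a, OneL (K a) (J a))
    (hNV : ∀ (g : G) (hg : g ∈ normalizer (R i : Set G)),
      pr (R i) ⟨g, hg⟩ ∈ normalizer (AA V R i j : Set (HQ (R i))) → g ∈ normalizer (V : Set G))
    (hNA : ∀ g (hg : g ∈ normalizer (R i : Set G)),
      (∀ a ∈ AA V R i j, pr (R i) ⟨g, hg⟩ * a * (pr (R i) ⟨g, hg⟩)⁻¹ ∈ AA V R i j) → g ∈ normalizer (V : Set G))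
    (hdd : ∀ z ∈ ZZ V R i, (∀ u ∈ UU V R j, u * z * u⁻¹ * z⁻¹ ∈ R i) → ∀ a, a ≠ 0 → t a * z * (t a)⁻¹ * z⁻¹ ∈ R i)
    (hg : ∀ x, ¬ GamT V (PG K (TT τ) S P x))
    (sb : ∀ x : Σ a, J a, End.Moved (S.subgroupOf (K x.1)) (Tact (TT τ) (K x.1)) (P x.1 x.2) →
      SBRes V R i j v t (BG K (TT τ) S) (UG K S) (PG K (TT τ) S P) x)
    (x : Σ a, J a) (hx : ¬ PG K (TT τ) S P x ≤ normalizer (V : Set G)) :
    ∃ m0, 3 ≤ m0 ∧ Res0 V R (BG K (TT τ) S) (UG K S) (PG K (TT τ) S P) x m0 := by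
  have hij := c.ne
  have hd := RealOf.datS D hF b c τ hij rfl hNV
  have hun : ∀ (a : α) (k : J a), Unmoved (S.subgroupOf (K a)) (Tact (TT τ) (K a)) (P a k) →
      PG K (TT τ) S P ⟨a, k⟩ ≤ normalizer (V : Set G) := fun a k hu => D.unmoved_le' b.toBT hij hNV hu
  obtain ⟨M, _, _, p, mz⟩ := ModZ.exists_MZ b.toBT i
  obtain ⟨_, f, e, ω, σ, κ, q⟩ := mz.exists_fq hF b.toBT c τ
  obtain ⟨N, _, _, P1, P2, y⟩ := c.exists_yPair b.toBT
  -- two nodes
  obtain ⟨x', hxx'⟩ : ∃ x', x ≠ x' := by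
    by_contra hcon
    push Not at hcon
    exact OneNode.false_of_unique q b c τ y hF h4 hodd hz D hone hNA fun z z' => (hcon z).symm.trans (hcon z')
  have hl : Zero.LineHyp V R i v t := SepH.lineHyp_of_fq q b c τ hF fun hg h0 =>
    NormE.normE q b.toBT c τ hF hodd hdd hg h0
  have sep := D.sep_all_un b.toBT c τ hij hF hl hd hun hg hxx' hx
  have hm : End.Moved (S.subgroupOf (K x.1)) (Tact (TT τ) (K x.1)) (P x.1 x.2) :=
    (D.moved_iff_un b.toBT hij hun).2 hx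
  have nd := End.rs_nd b.toBT D hij hd.BV hm
  obtain ⟨kk, hkk, sw, -⟩ := exists_sw hF b c τ
  rcases NodeQ.node_all b c τ hF hodd nd (fun a ha => t_norm τ D x ha) sw with
    ⟨p', hp', h1, h2, -⟩ | ⟨p', sc, lin, hK2, linJ, dc⟩ | ⟨hreg, -⟩
  · exact End.rs_res0_alpha' b c hF D hd hm hp' h1 h2 sep
  · exact ⟨4, by norm_num, sb x hm _ p' sw sc lin hK2 linJ dc sep⟩
  · -- type `(γ)`
    exfalso
    have huniq := OneNode.uniq_of_reg b.toBT τ hij h4 D hNA x hx (fun u hu g hg hgV h3 => ?_)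
    · exact hxx' (huniq x x')
    · -- `g ∈ P x` is `p b`, `p ∈ C(R i)`
      obtain ⟨p', hp', z, hz', rfl⟩ := End.exists_fact (D.preG.le x) up_le (D.PG_le b.toBT x) hg
      have hzV := hd.BV hz'
      refine hreg u hu p' hp' (fun h => hgV (mul_mem h hzV)) ?_
      have e1 : p'⁻¹ * u * p' = z * ((p' * z)⁻¹ * u * (p' * z)) * z⁻¹ := by group
      rw [e1]
      exact mul_mem (mul_mem hzV h3) (inv_mem hzV)

end Cfsg.Agent.Omega.HOne.ResOf

namespace Cfsg.Agent.Omega.HOne.TLift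

open Subgroup Cfsg Cfsg.Agent.ZN Cfsg.Agent.Omega.MinPar Cfsg.Agent.Omega.Frame
open Cfsg.Agent.Omega.NatPair (NatMod)
open Cfsg.Agent.Omega.BTwo Cfsg.Agent.Omega.Lie Cfsg.Agent.Omega.Lie.Quot Cfsg.Agent.Omega.Lie.End
open Cfsg.Agent.Omega.Lie.End.OfLay
open Cfsg.Agent.Omega.HOneQ.SylIOf (TSyl)
open Cfsg.Agent.Omega.HOneQ.ECen (SylI)
open Cfsg.Agent.Omega.HOneQ Cfsg.Agent.Omega.HOne.ResOf

universe u

/-- **The residues of types `(σ)`, `(β)`** as a socket -/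
def SBT : Prop :=
  ∀ (G : Type u) [Group G] [Finite G] (T : Subgroup G) (F : Type) [Field F] [Finite F] [CharP F 2] (N : Subgroup G)
    (M : NatMod F N), SitT T M → ∀ (i j : Pt M) (v : F → F → G) (w1 w2 t : F → G), Coord N (pt M) i j v w1 w2 →
      ∀ (τ : Lie.TorD N (pt M) i j v t) (n : ℕ) (C : Fin n → Subgroup (HQ (pt M i))) (J : Fin n → Type)
        (Q : ∀ a, J a → Subgroup (C a)) (m : ∀ a, J a → J a → ℕ) (S : Subgroup (HQ (pt M i))),
        RS N (pt M) i j (TT τ) S C J Q m → Zero.Dat N (pt M) i (BG C (TT τ) S) (UG C S) →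
          ∀ x : Σ a, J a, End.Moved (S.subgroupOf (C x.1)) (Tact (TT τ) (C x.1)) (Q x.1 x.2) →
            SBRes N (pt M) i j v t (BG C (TT τ) S) (UG C S) (PG C (TT τ) S Q) x

/-- **`ResT`** -/
theorem resT (hk : KDT.{u}) (ga : GaT.{u}) (sb : SBT.{u}) : ResT.{u} := by
  intro G _ _ T F _ _ _ N M h hl hfr hnv i j v w1 w2 t c τ hT n C J Q m hfin hne D hone x hx _
  have I := h.sylI c τ hT
  have l := hl i j v w1 w2 t c τ _ I
  obtain ⟨HE, w, k⟩ := hk G T F N M h hl i j v w1 w2 t c τ _ I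
  have hUD : ¬ UU N (pt M) j ≤ DD N (pt M) := by
    obtain ⟨z, hz, h'⟩ := h.exists_ZZ' (i := i) (k := j) c.ne
    exact fun hle => h' (hle (zU_le j hz))
  have hdd := NormV.hd h.bts h.exists_ne c τ (h.odd i) I l.innC l.odd k hUD
  have hNA : ∀ g (hg : g ∈ normalizer (pt M i : Set G)),
      (∀ a ∈ AA N (pt M) i j, pr (pt M i) ⟨g, hg⟩ * a * (pr (pt M i) ⟨g, hg⟩)⁻¹ ∈ AA N (pt M) i j) →
        g ∈ normalizer (N : Set G) := fun g hg hA =>
    NormV.normV h.bts h.exists_ne c τ (h.odd i) I l.innC l.odd k (h.exists_ZZ' c.ne) hg hA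
  have hd := RealOf.datS D h.exists_ne h.bts c τ c.ne rfl (hnv i j c.ne)
  exact res_of h.bts c τ h.four h.exists_ne (h.odd i) (h.exists_ZZ' c.ne) D hone (hnv i j c.ne) hNA hdd
    (ga G T F N M h hl hfr hnv i j v w1 w2 t c τ hT n C J Q m hfin hne D hone)
    (fun x hm => sb G T F N M h i j v w1 w2 t c τ n C J Q m _ D hd x hm) x hx

end Cfsg.Agent.Omega.HOne.TLift

end
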