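import Cfsg.Agent.Mrg.Omega.Lie.Nodes.AptR
import Cfsg.Agent.Mrg.Omega.Lie.Nodes.Res0Mov
import Cfsg.Agent.Mrg.Omega.HOneQ.ResS
import Cfsg.Agent.Mrg.Omega.Lie.End.Zero
import Cfsg.Agent.Mrg.ParSys.QuadSig
import Cfsg.Agent.Mrg.Omega.HOne.ResOf
import Cfsg.Agent.Mrg.Omega.HOneQ.ResE
import Cfsg.Agent.Mrg.Omega.HOneQ.ResSM
import Cfsg.Agent.Mrg.Omega.Lie.End.KSideMain
import Cfsg.Agent.Nodes.RGDLib
import Cfsg.Agent.Mrg.Omega.Lie.CubSQ
import Cfsg.Agent.Mrg.Omega.Lie.End.OfLay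
import Cfsg.Agent.Mrg.Omega.HOneQ.FrRad
import Cfsg.Agent.Mrg.Omega.Lie.End.KLTwo
import Cfsg.Agent.Mrg.Omega.IIa4.Lay
import Cfsg.Agent.Mrg.Omega.HOneQ.ECenC
import Cfsg.Agent.Mrg.Omega.Lie.Nodes.FratRes
import Cfsg.Agent.Mrg.Omega.Lie.End.Gam
import Cfsg.Agent.Mrg.Omega.HOne.CutT
import Mathlib
import Cfsg.Agent.Omega.Lie.OutT
import Cfsg.Agent.ThreePrime.SzDataExists
import Cfsg.Agent.KFacts.SysFree
import Cfsg.Agent.KFacts.SLRow.Row
import Cfsg.Agent.KFacts.RgdGraphF4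
import Cfsg.Agent.Nodes.Reindex
import Cfsg.Prelude.Def_LieTypeChar
import Cfsg.Agent.Omega.Lie.OutChev
import Cfsg.Agent.S1054
import Cfsg.Agent.S1055
import Cfsg.Agent.KFacts.OutCyc.Gen
import Cfsg.Agent.KFacts.TwESix.OutMain
import Cfsg.Agent.Mrg.ParSys.Fam.D4
import Cfsg.Agent.KFacts.TwF4.OutTwo
import Cfsg.Agent.KFacts.TwF4.Full
import Cfsg.Agent.Omega.Lie.Out.Class
import Cfsg.Agent.Omega.Lie.Out.Orth
import Cfsg.Agent.Omega.Lie.Out.Exo
import Cfsg.Agent.Mrg.Omega.Lie.KRowsPlug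
import Cfsg.Agent.Mrg.Omega.Lie.End.RowFE

-- merged: Cfsg.Agent.Mrg.Omega.HOneQ.AptQuad
section

section


/-!
# Residues `(0, x)`, types `(sigma)` and `(beta)`, over a bare `BT V R`: the quadrangle

`QuadH V R i j B U Px V'`: the parabolic `Px` of the node, `V'` a line `≠ V` through `R i`, `U_j` transitive on the
lines `≠ V` of the panel, `V' ∩ D ≤ R i`.

* `QuadH.quad` : `Quad B P₀ Px (R i) V (W i)` (no triangles);
* `QuadH.quadN`, `QuadH.polygon` : with the closed apartment and the count.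
-/

set_option autoImplicit false
set_option linter.unusedSectionVars false

namespace Cfsg.Agent.Omega.HOneQ

open Subgroup Cfsg.Agent.Omega.BTwo Cfsg.Agent.ParSys
open Cfsg.Agent.Omega.Lie (Zero.Dat Zero.P0)
open Cfsg.Agent.Omega.Lie.Nodes (NodeX)
open scoped Pointwise

universe u w

variable {G : Type u} [Group G] {ι : Type w}

/-- the parabolic of a node of type `(sigma)`, `(beta)` -/
structure QuadH (V : Subgroup G) (R : ι → Subgroup G) (i j : ι) (B U Px V' : Subgroup G) : Prop where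
  ne : i ≠ j
  dat : Lie.Zero.Dat V R i B U
  X : NodeX V R i B U Px
  tr : ∀ x ∈ Px, x ∉ B → ∃ u ∈ UU V R j, cj x V = cj u V'
  VD : V' ⊓ DD V R ≤ R i

namespace QuadH

variable {V : Subgroup G} {R : ι → Subgroup G} {i j : ι} {B U Px V' : Subgroup G}
  (b : BT V R) (h : QuadH V R i j B U Px V')
include b h

/-- **there are no triangles** -/
theorem quad : Quad B (Lie.Zero.P0 V R B) Px (R i) V (WW V (R i)) where
  leA := le_sup_right
  leB := h.X.le
  inf := fun x hx => h.X.PV (mem_inf.2 ⟨(mem_inf.1 hx).2, Lie.Zero.P0_le b h.dat (mem_inf.1 hx).1⟩)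
  aV := fun x hx z hz => BTwo.conj_mem_of_normalizer (Lie.Zero.P0_le b h.dat hx) hz
  bR := fun x hx z hz => BTwo.conj_mem_of_normalizer (h.X.PR hx) hz
  bW := fun x hx z hz => BTwo.conj_mem_of_normalizer (normalizer_le_WW V (R i) (h.X.PR hx)) hz
  RV := b.R_le i
  VW := V_le_WW V (R i)
  ne := b.exists_ne i
  aR := by
    intro x hx hxB z hz hxz
    obtain ⟨l, hl, e1⟩ := (Lie.Zero.not_mem_B_iff b h.dat hx).1 hxB
    have h1 : x * z * x⁻¹ ∈ R l := by rw [← e1]; exact conj_mem_cj hz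
    have h2 := b.eq_one hl h1 hxz
    rwa [mul_inv_eq_one, mul_eq_left] at h2
  bV := by
    intro x hx hxB y hy hyB v hv w hw e
    have h1 : x * v * x⁻¹ ∈ WW V (R i) :=
      BTwo.conj_mem_of_normalizer (normalizer_le_WW V (R i) (h.X.PR hx)) (V_le_WW V (R i) hv)
    obtain ⟨l, hl, e2⟩ := (Lie.Zero.not_mem_B_iff b h.dat hy).1 hyB
    have h2 : x * v * x⁻¹ ∈ DD V R := by
      rw [b.D_eq' (Ne.symm hl)]
      refine mem_inf.2 ⟨h1, ?_⟩
      rw [e, ← b.cj_WW e2]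
      exact conj_mem_cj hw
    obtain ⟨u, hu, hxu⟩ := h.tr x hx hxB
    have h3 : u⁻¹ * (x * v * x⁻¹) * u ∈ V' := mem_cj.1 (hxu.le (conj_mem_cj hv))
    have h4 : u⁻¹ * (x * v * x⁻¹) * u ∈ DD V R :=
      BTwo.conj_inv_mem_of_normalizer (b.Y_le_ND (UU_le_YY j hu)) h2
    have h5 := h.VD (mem_inf.2 ⟨h3, h4⟩)
    have h6 := BTwo.conj_mem_of_normalizer (b.cen_le_N i (UU_le_cen j hu)) h5
    rwa [show u * (u⁻¹ * (x * v * x⁻¹) * u) * u⁻¹ = x * v * x⁻¹ by group] at h6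

theorem V'_ne : V' ≠ V := by
  intro e
  have h1 : V ≤ R i := fun x hx => h.VD (mem_inf.2 ⟨by rw [e]; exact hx, V_le_D V R hx⟩)
  obtain ⟨a, ha, ha1⟩ := b.exists_ne j
  exact ha1 (b.eq_one h.ne (h1 (b.R_le j ha)) ha)

/-- `U_j` is transitive on the chambers `≠ B` of the panel -/
theorem tb {m : G} (hm : m ∈ Px) (hmV : cj m V = V') {x : G} (hx : x ∈ Px) (hxB : x ∉ B) :
    ∃ u ∈ UU V R j, (u * m)⁻¹ * x ∈ B := by
  obtain ⟨u, hu, e⟩ := h.tr x hx hxB
  have hu'B : u ∈ B := Lie.Zero.Y_le_B b h.dat (UU_le_YY j hu)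
  refine ⟨u, hu, h.X.PV (mem_inf.2 ⟨mul_mem (inv_mem (mul_mem (h.X.le hu'B) hm)) hx, ?_⟩)⟩
  rw [← cj_eq_self_iff, cj_mul, e, ← hmV, ← cj_mul u m, cj_inv_cj]

/-- **The quadrangle of a node of type `(sigma)` or `(beta)`.** -/
theorem quadN {n0 m : G} (hn : n0 ∈ XX V R) (hn0 : cj n0 (R i) = R j) (hm : m ∈ Px) (hmV : cj m V = V')
    (eq : (n0 * m * n0 * m)⁻¹ * (m * n0 * m * n0) ∈ XX V R ⊓ normalizer (R i : Set G))
    (cnt : (PanS B (Lie.Zero.P0 V R B)).ncard * ((PanS B Px).ncard * (PanS B (Lie.Zero.P0 V R B)).ncard) ≤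
      (MulAut.conj (n0 * m * n0) • Px).relIndex (WW V (R i))) :
    QuadN B (Lie.Zero.P0 V R B) Px (R i) V (WW V (R i)) (WW V (R i)) n0 m m m n0 m n0 := by
  have hn0P : n0 ∈ Lie.Zero.P0 V R B := (le_sup_left : XX V R ≤ _) hn
  have hn0B : n0 ∉ B := (Lie.Zero.not_mem_B_iff b h.dat hn0P).2 ⟨j, h.ne.symm, hn0⟩
  have hmB : m ∉ B := fun hB => h.V'_ne b (by rw [← hmV, cj_eq_self_iff.2 (h.dat.BV hB)])
  exact
    { h.quad b with
      m'_mem := hm
      m'_not := hmB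
      m1 := ⟨hm, hmB⟩
      m2 := ⟨hn0P, hn0B⟩
      m3 := ⟨hm, hmB⟩
      m4 := ⟨hn0P, hn0B⟩
      eq := h.dat.XB eq
      n_mem := hn0P
      n_not := hn0B
      m_mem := hm
      m_not := hmB
      tb := fun x hx hxB => by
        obtain ⟨u, hu, hux⟩ := h.tb b hm hmV hx hxB
        exact ⟨u, Lie.Zero.Y_le_B b h.dat (UU_le_YY j hu), hux⟩
      O_le := h.dat.WU.trans h.dat.UB
      O_triv := fun o ho x hx => (h.dat.WU.trans h.dat.UB)
        (BTwo.conj_inv_mem_of_normalizer (normalizer_le_WW V (R i) (h.X.PR hx)) ho)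
      cnt := cnt }

theorem polygon [Finite G] {n0 m : G} (hn : n0 ∈ XX V R) (hn0 : cj n0 (R i) = R j) (hm : m ∈ Px) (hmV : cj m V = V')
    (eq : (n0 * m * n0 * m)⁻¹ * (m * n0 * m * n0) ∈ XX V R ⊓ normalizer (R i : Set G))
    (cnt : (PanS B (Lie.Zero.P0 V R B)).ncard * ((PanS B Px).ncard * (PanS B (Lie.Zero.P0 V R B)).ncard) ≤
      (MulAut.conj (n0 * m * n0) • Px).relIndex (WW V (R i))) {J : Type} {P : J → Subgroup G} {x : J}
    (hx : P x = Px) : Polygon B (Lie.End.PPo V R B P) none (some x) 4 := by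
  subst hx
  exact QuadN.polygon (P := Lie.End.PPo V R B P) (a := none) (b := some x) (h.quadN b hn hn0 hm hmV eq cnt)

end QuadH

end Cfsg.Agent.Omega.HOneQ

end

section


/-!
# Residues `(0, x)`, types `(sigma)` and `(beta)`: `QuadH` from `Sc` and `QPx`
-/

set_option autoImplicit false
set_option linter.unusedSectionVars false

namespace Cfsg.Agent.Omega.HOneQ

open Subgroup Cfsg.Agent.Omega.BTwo
open Cfsg.Agent.Omega.Lie (TorD)
open Cfsg.Agent.Omega.Lie.Nodes (QPx)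

universe u v w

variable {G : Type u} [Group G] {ι : Type w} {V : Subgroup G} {R : ι → Subgroup G} {i j : ι}
  {P B U Px : Subgroup G} {F : Type v} [Field F] {vv : F → F → G} {t : F → G} {p' : G}

/-- `U_j` is transitive on the lines `≠ V` of the panel -/
theorem Nd.tr_Px [Finite G] (n : Nd V R i j P) (K : QPx V R i B U Px P) (hp' : p' ∈ P) (hne : cj p' V ≠ V) :
    ∀ x ∈ Px, x ∉ B → ∃ u ∈ UU V R j, cj x V = cj u (cj p' V) := by
  intro x hx hxB
  obtain ⟨z, hz, hzx⟩ := K.exists_mul hx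
  have hzB : z ∉ B := fun h0 => hxB (by
    have := mul_mem h0 hzx
    rwa [mul_inv_cancel_left] at this)
  have hxz : cj x V = cj z V := by
    have h1 := cj_eq_self_iff.2 (K.dat.BV hzx)
    calc cj x V = cj z (cj (z⁻¹ * x) V) := by rw [← cj_mul, mul_inv_cancel_left]
      _ = cj z V := by rw [h1]
  have hzV : cj z V ≠ V := fun h0 => hzB (K.X.PV (mem_inf.2 ⟨K.QP hz, cj_eq_self_iff.1 h0⟩))
  obtain ⟨u, hu, e⟩ := n.trans p' hp' hne z hz hzV
  exact ⟨u, hu, by rw [hxz, e]⟩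

/-- `D ≤ D Z_i` -/
theorem D_le_DZ : DD V R ≤ Sc.DZ V R i := fun x hx => ⟨x, hx, 1, one_mem _, by rw [mul_one]⟩

/-- **`QuadH` of a node of type `(sigma)`, `(beta)`** -/
theorem Sc.quadH [Finite G] (s : Sc V R i j vv t P p') (b : BTS V R) (τ : TorD V R i j vv t) (hF : ∃ a : F, a ≠ 0 ∧ a ≠ 1)
    (K : QPx V R i B U Px P) : QuadH V R i j B U Px (cj p' V) where
  ne := s.hij
  dat := K.dat
  X := K.X
  tr := s.toNd.tr_Px K s.mem s.ne
  VD := fun _ hx => s.cap b τ hF hx.1 (D_le_DZ hx.2)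

end Cfsg.Agent.Omega.HOneQ

end

section


/-!
# The count of a quadrangle, from transitivity

* `Quad.cnt_of_trans`: if `O` is transitive on the points opposite to `R`, then it has enough conjugates of each;
* `cnt_of_D`: the group `W i` is transitive on the points opposite to `R i`, if `U j` is transitive on the lines `≠ V`
  on `R i` and `D` is transitive on the points `≠ R i` of the line `V ^ m`.
-/

set_option autoImplicit false

namespace Cfsg.Agent.Omega.HOneQ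

open Subgroup Cfsg.Agent.Omega.BTwo Cfsg.Agent.Omega.Lie Cfsg.Agent.ParSys
open scoped Pointwise

universe u w

section abs

variable {G : Type u} [Group G] {B Pa Pb R V W O : Subgroup G} {g : G}

theorem Quad.cnt_of_trans [Finite G] (h : Quad B Pa Pb R V W)
    (tr : ∀ x1 ∈ Pa, x1 ∉ B → ∀ x2 ∈ Pb, x2 ∉ B → ∀ x3 ∈ Pa, x3 ∉ B →
      ∃ o ∈ O, (o * g)⁻¹ * (x1 * x2 * x3) ∈ Pb) :
    (PanS B Pa).ncard * ((PanS B Pb).ncard * (PanS B Pa).ncard) ≤
      (MulAut.conj g • Pb : Subgroup G).relIndex O := by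
  classical
  let P : Bool → Subgroup G := fun i => if i then Pa else Pb
  have e1 : (PanS B Pa).ncard ≤ (Ends B P [true]).ncard := by
    have := ncard_Ends_cons_ge (B := B) (P := P) true [] (fun x _ _ x' _ _ l l' hl hl' h0 => by
      cases l with
      | nil =>
        cases l' with
        | nil => simpa using h0
        | cons y l' => exact hl'.elim
      | cons y l => exact hl.elim)
    rwa [ncard_Ends_nil, mul_one] at this
  have e2 : (PanS B Pb).ncard * (Ends B P [true]).ncard ≤ (Ends B P [false, true]).ncard := by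
    refine ncard_Ends_cons_ge (B := B) (P := P) false [true] fun x hx _ x' hx' _ l l' hl hl' h0 => ?_
    match l, hl, l', hl' with
    | [y], hl, [y'], hl' =>
      have hy : y ∈ Pa := hl.1.1
      have hy' : y' ∈ Pa := hl'.1.1
      refine h.inf (mem_inf.2 ⟨?_, mul_mem (inv_mem hx) hx'⟩)
      have := mul_mem (mul_mem hy (h.leA h0)) (inv_mem hy')
      have e : y * ((x * [y].prod)⁻¹ * (x' * [y'].prod)) * y'⁻¹ = x⁻¹ * x' := by
        simp only [List.prod_cons, List.prod_nil]; group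
      rwa [e] at this
    | [], hl, _, _ => exact hl.elim
    | _ :: _ :: _, hl, _, _ => exact hl.2.elim
    | [_], _, [], hl' => exact hl'.elim
    | [_], _, _ :: _ :: _, hl' => exact hl'.2.elim
  have e3 : (PanS B Pa).ncard * (Ends B P [false, true]).ncard ≤ (Ends B P [true, false, true]).ncard := by
    refine ncard_Ends_cons_ge (B := B) (P := P) true [false, true] fun x hx _ x' hx' _ l l' hl hl' h0 => ?_
    match l, hl, l', hl' with
    | [y, z], hl, [y', z'], hl' =>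
      have h0' : (x * y * z)⁻¹ * (x' * y' * z') ∈ B := by simpa [mul_assoc] using h0
      exact (h.three hx hl.1.1 hl.1.2 hl.2.1.1 hl.2.1.2 hx' hl'.1.1 hl'.2.1.1 (h.leB h0')).1
    | [], hl, _, _ => exact hl.elim
    | [_], hl, _, _ => exact hl.2.elim
    | _ :: _ :: _ :: _, hl, _, _ => exact hl.2.2.elim
    | [_, _], _, [], hl' => exact hl'.elim
    | [_, _], _, [_], hl' => exact hl'.2.elim
    | [_, _], _, _ :: _ :: _ :: _, hl' => exact hl'.2.2.elim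
  have e4 : (PanS B Pa).ncard * ((PanS B Pb).ncard * (PanS B Pa).ncard) ≤ (Ends B P [true, false, true]).ncard :=
    (Nat.mul_le_mul_left _ ((Nat.mul_le_mul_left _ e1).trans e2)).trans e3
  refine e4.trans ?_
  have key : ∀ q : Ends B P [true, false, true], ∃ x1 x2 x3, (x1 ∈ Pa ∧ x1 ∉ B) ∧ (x2 ∈ Pb ∧ x2 ∉ B) ∧
      (x3 ∈ Pa ∧ x3 ∉ B) ∧ ((x1 * x2 * x3 : G) : G ⧸ B) = q ∧
      ∃ o ∈ O, (o * g)⁻¹ * (x1 * x2 * x3) ∈ Pb := by
    rintro ⟨q, l, hl, rfl⟩
    match l, hl with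
    | [x1, x2, x3], hl =>
      obtain ⟨k1, k2, k3, -⟩ := hl
      obtain ⟨o, ho, h5⟩ := tr x1 k1.1 k1.2 x2 k2.1 k2.2 x3 k3.1 k3.2
      exact ⟨x1, x2, x3, k1, k2, k3, by simp [mul_assoc], o, ho, h5⟩
    | [], hl => exact hl.elim
    | [_], hl => exact hl.2.elim
    | [_, _], hl => exact hl.2.2.elim
    | _ :: _ :: _ :: _ :: _, hl => exact hl.2.2.2.elim
  choose x1 x2 x3 k1 k2 k3 hq o ho h5 using key
  rw [← Nat.card_coe_set_eq, relIndex, index_eq_card]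
  refine Nat.card_le_card_of_injective
    (fun s => (QuotientGroup.mk ⟨o s, ho s⟩ : O ⧸ (MulAut.conj g • Pb : Subgroup G).subgroupOf O)) ?_
  intro s s' e
  have h1 := mem_subgroupOf.1 (QuotientGroup.eq.1 e)
  have h2 : g⁻¹ * ((o s)⁻¹ * o s') * g ∈ Pb := by
    rw [mem_pointwise_smul_iff_inv_smul_mem, MulAut.smul_def, MulAut.conj_inv_apply] at h1
    exact h1
  have h3 := mul_mem (mul_mem (inv_mem (h5 s)) h2) (h5 s')
  have e5 : ((o s * g)⁻¹ * (x1 s * x2 s * x3 s))⁻¹ * (g⁻¹ * ((o s)⁻¹ * o s') * g) *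
      ((o s' * g)⁻¹ * (x1 s' * x2 s' * x3 s')) = (x1 s * x2 s * x3 s)⁻¹ * (x1 s' * x2 s' * x3 s') := by group
  rw [e5] at h3
  have h4 := (h.three (k1 s).1 (k2 s).1 (k2 s).2 (k3 s).1 (k3 s).2 (k1 s').1 (k2 s').1 (k3 s').1 h3).2.2
  apply Subtype.ext
  rw [← hq s, ← hq s']
  exact QuotientGroup.eq.2 h4

end abs

variable {G : Type u} [Group G] {ι : Type w} {V : Subgroup G} {R : ι → Subgroup G} {i j : ι} {B U Px W : Subgroup G}

/-- **the count** -/
theorem cnt_of_D [Finite G] (b : BT V R) (hij : i ≠ j) (D : Zero.Dat V R i B U) (hB : B ≤ Px)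
    (hR : Px ≤ normalizer (R i : Set G)) (q : Quad B (Zero.P0 V R B) Px (R i) V W) {n0 m : G} (hn : n0 ∈ XX V R)
    (hn0 : cj n0 (R i) = R j) (hm : m ∈ Px)
    (tb : ∀ x ∈ Px, x ∉ B → ∃ u ∈ UU V R j, (u * m)⁻¹ * x ∈ B)
    (trD : ∀ l, l ≠ i → ∃ d ∈ DD V R, cj d (cj m (R j)) = cj m (R l)) :
    (PanS B (Zero.P0 V R B)).ncard * ((PanS B Px).ncard * (PanS B (Zero.P0 V R B)).ncard) ≤
      (MulAut.conj (n0 * m * n0) • Px : Subgroup G).relIndex (WW V (R i)) := by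
  refine Quad.cnt_of_trans q fun x1 h1 h1B x2 h2 h2B x3 h3 h3B => ?_
  have hn0N := b.X_le_NV hn
  have hn0P : n0 ∈ Zero.P0 V R B := (le_sup_left : XX V R ≤ _) hn
  have hWP : WW V (R i) ≤ Zero.P0 V R B := (W_le_X V R i).trans le_sup_left
  have hWB : WW V (R i) ≤ B := D.WU.trans D.UB
  have hBP : B ≤ Zero.P0 V R B := le_sup_right
  have hnb : ∀ {y b}, b ∈ B → y ∉ B → b * y ∉ B := fun hb hy h0 => hy ((mul_mem_cancel_left hb).1 h0)
  -- `x1 = w n0 b1`
  obtain ⟨l, hl, el⟩ := (Zero.not_mem_B_iff b D h1).1 h1B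
  obtain ⟨w, hw, ew⟩ := b.trans i hij.symm hl
  have hb1 : (w * n0)⁻¹ * x1 ∈ B := by
    refine Zero.mem_B b D (mul_mem (inv_mem (mul_mem (hWP hw) hn0P)) h1) ?_
    rw [← cj_eq_self_iff, cj_mul, el, ← ew, ← hn0, ← cj_mul w n0, cj_inv_cj]
  set b1 := (w * n0)⁻¹ * x1 with hb1e
  -- `b1 x2 = u m b2`
  obtain ⟨u, hu, hb2⟩ := tb (b1 * x2) (mul_mem (hB hb1) h2) (hnb hb1 h2B)
  set b2 := (u * m)⁻¹ * (b1 * x2) with hb2e
  -- `u = u' u''`
  obtain ⟨k, hk⟩ := b.perm_inv hn0N i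
  have hki : k ≠ i := by
    rintro rfl
    rw [hn0] at hk
    exact hij (b.R_index hk).symm
  obtain ⟨u', hu', u'', hu'', e1⟩ : ∃ u' ∈ UU V R k, ∃ u'' ∈ UU V R i, u = u' * u'' := by
    have h4 : u ∈ UU V R k ⊔ UU V R i := by
      rw [← b.Y_eq hki]
      exact UU_le_YY j hu
    have h5 : u ∈ ((UU V R k ⊔ UU V R i : Subgroup G) : Set G) := h4
    rw [coe_mul_of_left_le_normalizer_right _ _ ((UU_le_cen k).trans (b.cen_le_NU i))] at h5
    obtain ⟨u', hu', u'', hu'', e⟩ := h5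
    exact ⟨u', hu', u'', hu'', e.symm⟩
  have hu3 : m⁻¹ * u'' * m ∈ B :=
    hWB (BTwo.conj_inv_mem_of_normalizer (normalizer_le_WW V (R i) (hR hm)) (UU_le_WW i hu''))
  have hu4 : n0 * u' * n0⁻¹ ∈ WW V (R i) := by
    have h4 := conj_mem_cj (g := n0) hu'
    rw [b.cj_UU hn0N hk] at h4
    exact UU_le_WW i h4
  set b3 := m⁻¹ * u'' * m * b2 with hb3e
  have hb3 : b3 ∈ B := mul_mem hu3 hb2
  -- `b3 x3 = (m⁻¹ d m) n0 b4`
  have h3' : b3 * x3 ∈ Zero.P0 V R B := mul_mem (hBP hb3) h3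
  obtain ⟨l3, hl3, el3⟩ := (Zero.not_mem_B_iff b D h3').1 (hnb hb3 h3B)
  obtain ⟨d, hd, ed⟩ := trD l3 hl3
  have hdW : m⁻¹ * d * m ∈ WW V (R i) :=
    BTwo.conj_inv_mem_of_normalizer (normalizer_le_WW V (R i) (hR hm)) (D_le_W V R i hd)
  have hb4 : (m⁻¹ * d * m * n0)⁻¹ * (b3 * x3) ∈ B := by
    refine Zero.mem_B b D (mul_mem (inv_mem (mul_mem (hWP hdW) hn0P)) h3') ?_
    have h5 : cj (m⁻¹ * d * m * n0) (R i) = R l3 := by
      rw [cj_mul, hn0, cj_mul, cj_mul, ed, cj_inv_cj]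
    rw [← cj_eq_self_iff, cj_mul, el3, ← h5, cj_inv_cj]
  refine ⟨w * (n0 * u' * n0⁻¹) * (n0 * d * n0⁻¹), mul_mem (mul_mem hw hu4)
    (D_le_W V R i (BTwo.conj_mem_of_normalizer (b.NV_le_ND hn0N) hd)), ?_⟩
  have e2 : (w * (n0 * u' * n0⁻¹) * (n0 * d * n0⁻¹) * (n0 * m * n0))⁻¹ * (x1 * x2 * x3) =
      (m⁻¹ * d * m * n0)⁻¹ * (b3 * x3) := by
    have e3 : x1 = w * n0 * b1 := by rw [hb1e]; group
    have e4 : b1 * x2 = u' * u'' * m * b2 := by rw [hb2e, ← e1]; group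
    calc (w * (n0 * u' * n0⁻¹) * (n0 * d * n0⁻¹) * (n0 * m * n0))⁻¹ * (x1 * x2 * x3)
        = (n0⁻¹ * m⁻¹ * d⁻¹ * u'⁻¹ * n0⁻¹ * w⁻¹) * (w * n0 * (b1 * x2) * x3) := by rw [e3]; group
      _ = _ := by rw [e4, hb3e]; group
  rw [e2]
  exact hB hb4

end Cfsg.Agent.Omega.HOneQ

end

section


/-!
# Residues `(0, x)`, types `(sigma)` and `(beta)`, over a bare `BT V R`: `Res0`

`QuadH.res0` : `QuadH` and `AptH` give the polygon of the residue; `frat` and `sep` are given.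
-/

set_option autoImplicit false
set_option linter.unusedSectionVars false

namespace Cfsg.Agent.Omega.HOneQ

open Subgroup Cfsg.Agent.Omega.BTwo Cfsg.Agent.ParSys

universe u w

variable {G : Type u} [Group G] {ι : Type w} {V : Subgroup G} {R : ι → Subgroup G} {i j : ι}
  {B U Px V' Q O S T : Subgroup G} {z ρ m0 : G}

namespace QuadH

/-- **The polygon of the residue** -/
theorem poly [Finite G] (b : BT V R) (h : QuadH V R i j B U Px V') (A : AptH V R i j Q O S T V' z ρ m0)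
    (hQ : Q ≤ Px) {J : Type} {P : J → Subgroup G} {x : J} (hx : P x = Px) :
    Polygon B (Lie.End.PPo V R B P) none (some x) 4 := by
  obtain ⟨n0, m, hn, hn0, hm, hmV, -, heq, trD⟩ := A.exists_swap b
  have hmP := hQ hm
  refine h.polygon b hn hn0 hmP hmV heq ?_ hx
  exact cnt_of_D b h.ne h.dat h.X.le h.X.PR (h.quad b) hn hn0 hmP (fun _ hy hyB => h.tb b hmP hmV hy hyB) trD

/-- **The residue `(0, x)`, types `(sigma)` and `(beta)`** -/
theorem res0 [Finite G] (b : BT V R) (h : QuadH V R i j B U Px V') (A : AptH V R i j Q O S T V' z ρ m0)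
    (hQ : Q ≤ Px) {J : Type} {P : J → Subgroup G} {x : J} (hx : P x = Px)
    (frat : ∀ X ≤ U, (∀ u ∈ U, ∃ y ∈ X, y⁻¹ * u ∈ Qk B (P x) ∧ y⁻¹ * u ∈ Qk B (Lie.Zero.P0 V R B)) →
      ∀ u ∈ U, ∃ y ∈ X, y⁻¹ * u ∈ Qk B (P x ⊔ Lie.Zero.P0 V R B))
    (sep : SepG 2 B U (P x) (Lie.Zero.P0 V R B) ∨ SepG 2 B U (Lie.Zero.P0 V R B) (P x)) :
    Lie.End.Res0 V R B U P x 4 := ⟨h.poly b A hQ hx, frat, sep⟩

end QuadH

end Cfsg.Agent.Omega.HOneQ

end

end

-- merged: Cfsg.Agent.Mrg.Omega.HOne.SbOf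
section

/-!
# II.0h1, split, `q ≥ 4`: the residue of a node of type `(σ)` or `(β)` from the pieces (helper976, 591, 759, 843)

`sbRes_of` : `SBRes` at a moved node of `RS`, from the field `frat`.
-/

set_option autoImplicit false
set_option linter.unusedSectionVars false

namespace Cfsg.Agent.Omega.HOne.ResOf

open Subgroup Cfsg Cfsg.Agent.ParSys Cfsg.Agent.Omega.BTwo Cfsg.Agent.Omega.Lie Cfsg.Agent.Omega.Lie.Quot
open Cfsg.Agent.Omega.IIa4 Cfsg.Agent.Omega.Lie.End.OfLay Cfsg.Agent.Omega.Lie.End Cfsg.Agent.Omega.HOneQ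
open Cfsg.Agent.Omega.Lie.Nodes (QPx)

universe u v w

variable {G : Type u} [Group G] {ι : Type w} {V : Subgroup G} {R : ι → Subgroup G} {F : Type v} [Field F] {i j : ι}
  {v : F → F → G} {w1 w2 : F → G} {t : F → G}

variable {S : Subgroup (HQ (R i))} {α : Type} {K : α → Subgroup (HQ (R i))} {J : α → Type}
  {P : ∀ a, J a → Subgroup (K a)} {m : ∀ a, J a → J a → ℕ}

/-- `QPx` for `P ⊓ C(R i)` -/
theorem qpx_cen [Finite G] [Finite α] (b : BT V R) (hij : i ≠ j) {T : Subgroup (HQ (R i))} (D : RS V R i j T S K J P m)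
    (hd : Zero.Dat V R i (BG K T S) (UG K S)) (x : Σ a, J a) (hx : ¬ PG K T S P x ≤ normalizer (V : Set G)) :
    QPx V R i (BG K T S) (UG K S) (PG K T S P x) (PG K T S P x ⊓ centralizer (R i : Set G)) where
  dat := hd
  X := D.nodeX b hij hd x hx
  QP := inf_le_left
  BQ := by
    intro y hy
    have h1 : y ∈ PG K T S P x := D.preG.le x hy
    have h2 : y ∈ normalizer (R i : Set G) := up_le h1
    rw [← BTwo.cj_eq_self_iff, cj_inf, BTwo.cj_eq_self_iff.2 (le_normalizer h1),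
      BTwo.cj_eq_self_iff.2 (normalizer_le_normalizer_centralizer _ h2)]
  PQ := D.PG_le b x

/-- **`SBRes` at a moved node**, from the field `frat` -/
theorem sbRes_of [Finite G] [Finite F] [CharP F 2] [Finite α] (b : BTS V R) (c : Coord V R i j v w1 w2)
    (τ : TorD V R i j v t) (hF : ∃ a : F, a ≠ 0 ∧ a ≠ 1)
    (hodd : Odd ((normalizer (V : Set G)).relIndex (normalizer (R i : Set G))))
    (D : RS V R i j (TT τ) S K J P m) (hd : Zero.Dat V R i (BG K (TT τ) S) (UG K S)) (x : Σ a, J a)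
    (hm : End.Moved (S.subgroupOf (K x.1)) (Tact (TT τ) (K x.1)) (P x.1 x.2))
    (frat : ∀ m p' : G, Sw V R i j t m →
      Sc V R i j v t (PG K (TT τ) S P x ⊓ centralizer (R i : Set G)) p' →
      Sc.Lin V R i (PG K (TT τ) S P x ⊓ centralizer (R i : Set G)) v m p' →
      (∀ w ∈ WW V (R i), ∀ y ∈ cj p' V, ∃ n ∈ WN V (PG K (TT τ) S P x ⊓ centralizer (R i : Set G)), ∃ z ∈ ZZ V R i,
        w * (m⁻¹ * y * m) * w⁻¹ * (m⁻¹ * y * m)⁻¹ = n * z) →
      (∀ w ∈ W0 V R i (PG K (TT τ) S P x ⊓ centralizer (R i : Set G)), ∃ ρ : F, ∀ y z r s',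
        Sc.KX V R (PG K (TT τ) S P x ⊓ centralizer (R i : Set G)) v m w (p' * v y z * p'⁻¹) r s' → s' = z * ρ) →
      (∀ w ∈ WW V (R i), (∀ y ∈ W0 V R i (PG K (TT τ) S P x ⊓ centralizer (R i : Set G)), w * y = y * w) →
        w ∈ WN V (PG K (TT τ) S P x ⊓ centralizer (R i : Set G)) ⊔ ZZ V R i) →
      (∀ p ∈ PW V R i (PG K (TT τ) S P x ⊓ centralizer (R i : Set G)), ∀ y ∈ cj p' V,
        ∃ n ∈ WN V (PG K (TT τ) S P x ⊓ centralizer (R i : Set G)), ∃ z ∈ ZZ V R i,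
          p * (m⁻¹ * y * m) * p⁻¹ * (m⁻¹ * y * m)⁻¹ = n * z) →
      ∀ X ≤ UG K S, (∀ u ∈ UG K S, ∃ y ∈ X, y⁻¹ * u ∈ Qk (BG K (TT τ) S) (PG K (TT τ) S P x) ∧
          y⁻¹ * u ∈ Qk (BG K (TT τ) S) (Zero.P0 V R (BG K (TT τ) S))) →
        ∀ u ∈ UG K S, ∃ y ∈ X, y⁻¹ * u ∈ Qk (BG K (TT τ) S)
          (PG K (TT τ) S P x ⊔ Zero.P0 V R (BG K (TT τ) S))) :
    SBRes V R i j v t (BG K (TT τ) S) (UG K S) (PG K (TT τ) S P) x := by
  intro m p' sw s lin hK2 linJ dc sep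
  have hx : ¬ PG K (TT τ) S P x ≤ normalizer (V : Set G) := D.not_le_of_moved b.toBT c.ne hm
  have Kx := qpx_cen b.toBT c.ne D hd x hx
  have o := s.okh b τ c Kx hF
  have hXV : XX V R ⊓ centralizer (V : Set G) ≤ YY V R := (XV.cen_X_V hF b c).le
  obtain ⟨M, _, _, p, mz⟩ := ModZ.exists_MZ b.toBT i
  obtain ⟨_, f, e, ω, σ, κ, q⟩ := mz.exists_fq hF b.toBT c τ
  obtain ⟨N, _, _, P1, P2, y⟩ := c.exists_yPair b.toBT
  have hS : ∀ p ∈ PW V R i (PG K (TT τ) S P x ⊓ centralizer (R i : Set G)), ∀ l ∈ cj p' V,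
      p * (m⁻¹ * l * m) * p⁻¹ * (m⁻¹ * l * m)⁻¹ ∈ WW V (R i) := by
    intro p hp l hl
    refine s.toNd.step b hF c τ hodd (Sc.conj_U' b sw (s.leU hl)) (fun p hp => ?_) p hp
    exact s.cen_M b c τ sw hF hK2 p hp l hl
  have H4 : ∀ p ∈ PW V R i (PG K (TT τ) S P x ⊓ centralizer (R i : Set G)), ∀ l ∈ cj p' V,
      ∃ n ∈ WN V (PG K (TT τ) S P x ⊓ centralizer (R i : Set G)), ∃ z ∈ ZZ V R i,
        p * (m⁻¹ * l * m) * p⁻¹ * (m⁻¹ * l * m)⁻¹ = n * z := fun p hp l hl =>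
    s.l2 b τ c q y sw hF lin hXV hK2 hS (fun w hw hc => dc w hw fun z hz => (hc z hz).symm) hp hl
  obtain ⟨m0, hm0, h1, h2⟩ := s.toNd.exists_swap b.toBT s.mem
  obtain ⟨a, ha, ha1⟩ := hF
  have A := s.aptH b τ c sw y lin hXV hK2 H4 o.OP o.OK o.PO o.OT o.two o.perf (fun g hg _ h => o.lift g hg h)
    hm0 h1 h2 ha ha1
  have hQP : PW V R i (PG K (TT τ) S P x ⊓ centralizer (R i : Set G)) ≤ PG K (TT τ) S P x :=
    (s.toNd.PW_le b.toBT).trans inf_le_left
  exact (s.quadH b τ ⟨a, ha, ha1⟩ Kx).res0 b.toBT A hQP rfl (frat m p' sw s lin hK2 linJ dc H4) sep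

end Cfsg.Agent.Omega.HOne.ResOf

end

-- merged: Cfsg.Agent.Mrg.Omega.HOneQ.SecCR
section

section


/-!
# The sectional Curtis–Richen property `CRad.SecCR` from the theorem of Curtis and Richen (`Omega/CR`)

* `restrict` : a family of root group data restricted to a subgroup;
* `secAct` : the action of `K` on the section `X / Y`;
* `secCR_of_fam` : `SecCR E T S N M` from `Fam` with `GGt = E ⊔ T`, `S = Ut`, `T' ≤ N`.
-/

set_option autoImplicit false
set_option linter.unusedSectionVars false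

namespace Cfsg.Agent.Omega.HOneQ.SecCR

open CoxeterSystem Cfsg.Agent.ChevalleyStructure.CoxeterGeom Cfsg.Agent.Tits.Roots Cfsg.Agent.Tits.Core
  Cfsg.Agent.Tits.Exchange Cfsg.Agent.Nodes.Reps Cfsg.Agent.Nodes.BNOf Cfsg.Agent.Nodes.StabComb
  Cfsg.Agent.Nodes.Bruhat Cfsg.Agent.Nodes.OppDec Cfsg.Agent.Nodes.LeviDec Cfsg.Agent.KFacts.RgdOpp
open Cfsg.Agent.Omega.CR Cfsg.Agent.Omega.HOneQ.CRad

variable {κ : Type*} [Fintype κ] {I W : κ → Type*} {Y : Type*} [∀ l, Fintype (I l)] [∀ l, DecidableEq (I l)]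
  [∀ l, Group (W l)] [Group Y] {M : ∀ l, CoxeterMatrix (I l)}
  {cs : ∀ l, CoxeterSystem (M l) (W l)} {A : ∀ l, I l → I l → ℤ} {h : ∀ l, IsCartan (M l) (A l)} {p : ℕ}
  {T : Subgroup Y} {n : ∀ l, I l → Y} {X : ∀ l, (I l → ℤ) → Subgroup Y} {C : κ → Subgroup Y}

/-- restriction of a family to a subgroup -/
theorem restrict (F : Fam cs h p T n X C) (K : Subgroup Y) (hX : ∀ l x, IsRoot (cs l) (h l) x → X l x ≤ K)
    (hn : ∀ l i, n l i ∈ K) :
    Fam cs h p (T.subgroupOf K) (fun l i => ⟨n l i, hn l i⟩) (fun l x => (X l x).subgroupOf K)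
      (fun l => (C l).subgroupOf K) where
  rgd l := Cfsg.Agent.Nodes.RGDLib.rgd_restrict (F.rgd l) K (hX l) (hn l)
  X_le l x hx := fun _ hg => F.X_le l x hx hg
  n_mem l i := F.n_mem l i
  comm l m hlm a ha b hb := Subtype.ext (F.comm l m hlm _ ha _ hb)

theorem n_mem_GGt (F : Fam cs h p T n X C) (l : κ) (i : I l) : n l i ∈ GGt cs h T X := by
  apply GG_le_GGt l
  have h1 : n l i ∈ LJ (cs l) (h l) T (X l) Set.univ := n_mem_LJ (F.rgd l) (Set.mem_univ i)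
  have h2 : LJ (cs l) (h l) T (X l) Set.univ ≤ GG (cs l) (h l) T (X l) :=
    sup_le le_sup_left ((RGD.Sup_le fun z hz => (RGD.le_Sup (X := X l) (S := {x | IsRoot (cs l) (h l) x}) hz.1)).trans
      le_sup_right)
  exact h2 h1

theorem X_le_GGt (l : κ) (x : I l → ℤ) (hx : IsRoot (cs l) (h l) x) : X l x ≤ GGt cs h T X :=
  ((RGD.le_Sup (X := X l) (S := {x | IsRoot (cs l) (h l) x}) hx).trans le_sup_right).trans (GG_le_GGt l)

theorem Ut_restrict_le (K : Subgroup Y) :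
    Ut cs h (fun l x => (X l x).subgroupOf K) ≤ (Ut cs h X).subgroupOf K := by
  refine iSup_le fun l => RGD.Sup_le fun z hz => ?_
  intro g hg
  rw [Subgroup.mem_subgroupOf] at hg ⊢
  exact U_le_Ut l (RGD.le_Sup (X := X l) hz hg)

theorem GGt_restrict_eq : GGt cs h (T.subgroupOf (GGt cs h T X)) (fun l x => (X l x).subgroupOf (GGt cs h T X)) = ⊤ := by
  have h1 : (GGt cs h (T.subgroupOf (GGt cs h T X)) (fun l x => (X l x).subgroupOf (GGt cs h T X))).map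
      (GGt cs h T X).subtype = GGt cs h T X := by
    apply le_antisymm
    · rintro _ ⟨g, -, rfl⟩
      exact g.2
    · have hT : T ≤ GGt cs h T X := le_sup_left
      refine sup_le ?_ (iSup_le fun l => sup_le ?_ (RGD.Sup_le fun z hz => ?_))
      · intro t ht
        exact ⟨⟨t, hT ht⟩, Subgroup.mem_sup_left ht, rfl⟩
      · intro t ht
        exact ⟨⟨t, hT ht⟩, Subgroup.mem_sup_left ht, rfl⟩
      · intro g hg
        refine ⟨⟨g, X_le_GGt l z hz hg⟩, ?_, rfl⟩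
        exact GG_le_GGt l (Subgroup.mem_sup_right (RGD.le_Sup
          (X := fun x => (X l x).subgroupOf (GGt cs h T X)) (S := {x | IsRoot (cs l) (h l) x}) hz hg))
  rw [eq_top_iff]
  rintro ⟨g, hg⟩ -
  rw [← h1] at hg
  obtain ⟨g', hg', e⟩ := hg
  have : g' = ⟨g, h1 ▸ ⟨g', hg', e⟩⟩ := Subtype.ext e
  rw [← this]
  exact hg'

section act

variable {V : Type*} [AddCommGroup V] [DistribMulAction Y V]

/-- the action on a section -/
@[reducible] def secAct (K : Subgroup Y) {P Q : AddSubgroup V} (hP : Inv K P) (hQ : Inv K Q) :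
    DistribMulAction K (↥P ⧸ Q.addSubgroupOf P) where
  smul s := Quotient.map' (fun x : ↥P => (⟨(s : Y) • (x : V), hP _ s.2 _ x.2⟩ : ↥P)) (by
    intro a b hab
    rw [QuotientAddGroup.leftRel_apply, AddSubgroup.mem_addSubgroupOf] at hab ⊢
    have h1 := hQ _ s.2 _ hab
    rw [AddSubgroup.coe_add, AddSubgroup.coe_neg, smul_add, smul_neg] at h1
    exact h1)
  one_smul x := by
    induction x using Quotient.inductionOn' with
    | h x =>
      show Quotient.mk'' _ = Quotient.mk'' _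
      congr 1
      exact Subtype.ext (one_smul Y (x : V))
  mul_smul a b x := by
    induction x using Quotient.inductionOn' with
    | h x =>
      show Quotient.mk'' _ = Quotient.mk'' _
      congr 1
      exact Subtype.ext (mul_smul (a : Y) (b : Y) (x : V))
  smul_zero s := by
    show Quotient.mk'' _ = Quotient.mk'' _
    congr 1
    exact Subtype.ext (smul_zero (s : Y))
  smul_add s x y := by
    induction x using Quotient.inductionOn' with
    | h x =>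
      induction y using Quotient.inductionOn' with
      | h y =>
        show Quotient.mk'' _ = Quotient.mk'' _
        congr 1
        exact Subtype.ext (smul_add (s : Y) (x : V) (y : V))

/-- **the sectional Curtis–Richen property** -/
theorem secCR_of_fam [Finite Y] [∀ l, Finite (W l)] [Finite V] (F : Fam cs h 2 T n X C) {E T₀ N : Subgroup Y}
    (hG : GGt cs h T X = E ⊔ T₀) (hN : T ≤ N) (hexp : ∀ v : V, v + v = 0) : SecCR E T₀ (Ut cs h X) N V := by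
  intro P Q hPE hPT hQE hQT hlt hsim D hQD hDP hDN hDS x hx hxS
  have : Fact (Nat.Prime 2) := ⟨Nat.prime_two⟩
  have hP : Inv (GGt cs h T X) P := by rw [hG]; exact inv_sup hPE hPT
  have hQ : Inv (GGt cs h T X) Q := by rw [hG]; exact inv_sup hQE hQT
  let inst : DistribMulAction (GGt cs h T X) (↥P ⧸ Q.addSubgroupOf P) := secAct (GGt cs h T X) hP hQ
  have F' := restrict F (GGt cs h T X) (fun l x hx => X_le_GGt l x hx) (n_mem_GGt F)
  have hsm : ∀ (g : GGt cs h T X) (v : ↥P), g • (v : ↥P ⧸ Q.addSubgroupOf P) =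
      ((⟨(g : Y) • (v : V), hP _ g.2 _ v.2⟩ : ↥P) : ↥P ⧸ Q.addSubgroupOf P) := fun _ _ => rfl
  have hmk : ∀ v w : ↥P, ((v : ↥P ⧸ Q.addSubgroupOf P) = (w : ↥P ⧸ Q.addSubgroupOf P)) ↔ (v : V) - w ∈ Q := by
    intro v w
    rw [eq_comm, QuotientAddGroup.eq, AddSubgroup.mem_addSubgroupOf, AddSubgroup.coe_add, AddSubgroup.coe_neg,
      neg_add_eq_sub]
  have hexp' : ∀ v : ↥P ⧸ Q.addSubgroupOf P, 2 • v = 0 := by
    intro v
    induction v using Quotient.inductionOn' with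
    | h v =>
      rw [two_nsmul]
      show ((v + v : ↥P) : ↥P ⧸ Q.addSubgroupOf P) = 0
      have : v + v = 0 := Subtype.ext (hexp v)
      rw [this]
      rfl
  have hirr : ∀ L : AddSubgroup (↥P ⧸ Q.addSubgroupOf P),
      (∀ g ∈ GGt cs h (T.subgroupOf (GGt cs h T X)) (fun l x => (X l x).subgroupOf (GGt cs h T X)), ∀ v ∈ L, g • v ∈ L) →
        L = ⊥ ∨ L = ⊤ := by
    intro L hL
    let Z : AddSubgroup V := (L.comap (QuotientAddGroup.mk' (Q.addSubgroupOf P))).map P.subtype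
    have hZ : ∀ v : ↥P, (v : V) ∈ Z ↔ (v : ↥P ⧸ Q.addSubgroupOf P) ∈ L := by
      intro v
      constructor
      · rintro ⟨w, hw, e⟩
        have : w = v := Subtype.ext e
        subst this
        exact hw
      · intro hv
        exact ⟨v, hv, rfl⟩
    have hZP : Z ≤ P := by
      rintro _ ⟨v, -, rfl⟩
      exact v.2
    have hZG : Inv (GGt cs h T X) Z := by
      intro g hg v hv
      have h1 := (hZ ⟨v, hZP hv⟩).1 hv
      have h2 := hL ⟨g, hg⟩ (by rw [GGt_restrict_eq]; trivial) _ h1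
      rw [hsm] at h2
      exact (hZ _).2 h2
    have hQZ : Q ≤ Z := by
      intro v hv
      refine (hZ ⟨v, hlt.le hv⟩).2 ?_
      have h1 : ((⟨v, hlt.le hv⟩ : ↥P) : ↥P ⧸ Q.addSubgroupOf P) = 0 := by
        rw [QuotientAddGroup.eq_zero_iff, AddSubgroup.mem_addSubgroupOf]
        exact hv
      rw [h1]
      exact zero_mem _
    have hEG : E ≤ GGt cs h T X := by rw [hG]; exact le_sup_left
    have hTG : T₀ ≤ GGt cs h T X := by rw [hG]; exact le_sup_right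
    rcases hsim Z (fun g hg => hZG g (hEG hg)) (fun g hg => hZG g (hTG hg)) hQZ hZP with h1 | h1
    · left
      rw [eq_bot_iff]
      intro v hv
      induction v using Quotient.inductionOn' with
      | h v =>
        have h2 : (v : V) ∈ Z := (hZ v).2 hv
        rw [h1] at h2
        rw [AddSubgroup.mem_bot]
        exact (QuotientAddGroup.eq_zero_iff v).2 (AddSubgroup.mem_addSubgroupOf.2 h2)
    · right
      rw [eq_top_iff]
      intro v _
      induction v using Quotient.inductionOn' with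
      | h v =>
        have h2 : (v : V) ∈ Z := by rw [h1]; exact v.2
        exact (hZ v).1 h2
  let e : AddSubgroup (↥P ⧸ Q.addSubgroupOf P) := (D.addSubgroupOf P).map (QuotientAddGroup.mk' (Q.addSubgroupOf P))
  have he : ∀ v : ↥P, (v : ↥P ⧸ Q.addSubgroupOf P) ∈ e ↔ (v : V) ∈ D := by
    intro v
    constructor
    · rintro ⟨w, hw, e⟩
      have h1 : (w : V) - v ∈ Q := (hmk w v).1 e
      have h2 : (w : V) ∈ D := AddSubgroup.mem_addSubgroupOf.1 hw
      have h3 := sub_mem h2 (hQD.le h1)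
      rwa [sub_sub_cancel] at h3
    · intro hv
      exact ⟨v, AddSubgroup.mem_addSubgroupOf.2 hv, rfl⟩
  have hUt := Ut_restrict_le (cs := cs) (h := h) (X := X) (GGt cs h T X)
  have key := F'.act_le hexp' hirr (e := e) ?_ ?_ ?_ (x := ((⟨x, hx⟩ : ↥P) : ↥P ⧸ Q.addSubgroupOf P)) ?_
  · exact (he ⟨x, hx⟩).1 key
  · intro h0
    obtain ⟨v, hv, hvQ⟩ := SetLike.exists_of_lt hQD
    apply hvQ
    have h1 := (he ⟨v, hDP hv⟩).2 hv
    rw [h0, AddSubgroup.mem_bot, QuotientAddGroup.eq_zero_iff, AddSubgroup.mem_addSubgroupOf] at h1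
    exact h1
  · intro u hu v hv
    induction v using Quotient.inductionOn' with
    | h v =>
      have h1 : (v : V) ∈ D := (he v).1 hv
      have h2 := hDS u (hUt hu) v h1
      exact (hmk ⟨(u : Y) • (v : V), hP _ u.2 _ v.2⟩ v).2 h2
  · intro t ht v hv
    induction v using Quotient.inductionOn' with
    | h v =>
      have h1 : (v : V) ∈ D := (he v).1 hv
      exact (he ⟨(t : Y) • (v : V), hP _ t.2 _ v.2⟩).2 (hDN t (hN ht) v h1)
  · intro u hu
    exact (hmk ⟨(u : Y) • (x : V), hP _ u.2 _ hx⟩ ⟨x, hx⟩).2 (hxS u (hUt hu))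

end act

end Cfsg.Agent.Omega.HOneQ.SecCR

end

section


/-!
# The K-side data `HOneQ.Fr.KD` from commuting components with root group data

`D : Comps cs h 2 T n X C T0`: `E = ⨆ C l`, `S = Ut`, `HE = ⨆ T l`, `w` the longest element.
-/

set_option autoImplicit false
set_option linter.unusedSectionVars false

namespace Cfsg.Agent.Omega.CR

open Subgroup CoxeterSystem Cfsg.Agent.ChevalleyStructure.CoxeterGeom Cfsg.Agent.Tits.Roots Cfsg.Agent.Tits.Core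
  Cfsg.Agent.Tits.Exchange Cfsg.Agent.Nodes.Reps Cfsg.Agent.Nodes.BNOf Cfsg.Agent.Nodes.StabComb
  Cfsg.Agent.Nodes.Bruhat Cfsg.Agent.Nodes.OppDec Cfsg.Agent.Nodes.LeviDec Cfsg.Agent.Nodes.NormalForm
  Cfsg.Agent.KFacts.RgdOpp
open Cfsg.Agent.Omega.HOneQ Cfsg.Agent.Omega.HOneQ.Fr Cfsg.Agent.Omega.HOneQ.SecCR

universe u

variable {κ : Type*} [Fintype κ] {I W : κ → Type*} {Y : Type u} [∀ l, Fintype (I l)] [∀ l, DecidableEq (I l)]
  [∀ l, Group (W l)] [Group Y] {M : ∀ l, CoxeterMatrix (I l)}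
  {cs : ∀ l, CoxeterSystem (M l) (W l)} {A : ∀ l, I l → I l → ℤ} {h : ∀ l, IsCartan (M l) (A l)}
  {T : κ → Subgroup Y} {n : ∀ l, I l → Y} {X : ∀ l, (I l → ℤ) → Subgroup Y} {C : κ → Subgroup Y} {T0 : Subgroup Y}

namespace Comps

variable (D : Comps cs h 2 T n X C T0) [Finite Y] [∀ l, Finite (W l)]
include D

/-- **The K-side data.** -/
theorem kd (hC : ∀ l, C l ≤ RGD.Sup (X l) {x | IsRoot (cs l) (h l) x})
    (hconn : ∀ l, ∀ J : Set (I l), J.Nonempty → J ≠ Set.univ → ∃ a ∈ J, ∃ b, b ∉ J ∧ M l a b ≠ 2)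
    {A₁ : Subgroup Y} (hne : ∀ l, A₁ ⊓ RGD.Sup (X l) (RGD.Pos (cs l) (h l)) ≠ ⊥)
    (hU : ∀ u ∈ Ut cs h X, ∀ a ∈ A₁, u * a * u⁻¹ ∈ A₁) (hT : ∀ t ∈ ⨆ l, T l, ∀ a ∈ A₁, t * a * t⁻¹ ∈ A₁)
    (hcom : ∀ x ∈ ⨆ l, T l, ∀ t ∈ T0, x * t * x⁻¹ * t⁻¹ ∈ A₁) :
    ∃ w : Y, KD (⨆ l, C l) (Ut cs h X) (⨆ l, T l) A₁ T0 w := by
  have : Fact (Nat.Prime 2) := ⟨Nat.prime_two⟩
  obtain ⟨w, hw, hwN, hwU⟩ := D.exists_w
  have hN : ∀ K : Subgroup Y, (∀ s ∈ Ut cs h X, w * s * w⁻¹ ∈ K) → UNt cs h X ≤ K := by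
    intro K hK
    rw [← hwU]
    rintro _ ⟨u, hu, rfl⟩
    exact hK u hu
  refine ⟨w, ⟨D.cpl hC, hcom, hw, fun t ht => ?_, fun K hAK hK => D.gen hC hconn hne hU hT (hN K hK) hAK, ?_, ?_⟩⟩
  · have h1 := inv_mem (hwN.2 t⁻¹ (inv_mem ht))
    have e : (w⁻¹ * (t⁻¹ * w * t⁻¹⁻¹))⁻¹ = t⁻¹ * w⁻¹ * t * w := by group
    rwa [e] at h1
  · intro V _ _ _ hexp
    have hG : GGt cs h (T0 ⊔ ⨆ m, T m) X = (⨆ l, C l) ⊔ T0 := by
      rw [D.GGt_eq fun l => (D.C_eq hC l).ge, sup_comm]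
    exact secCR_of_fam D.fam hG le_rfl hexp
  · intro V _ _ _ hexp hirr L hL
    rcases subsingleton_or_nontrivial V with hV | hV
    · rw [eq_top_iff]
      intro v _
      rw [Subsingleton.elim v 0]
      exact zero_mem _
    refine D.fam.act_gen (fun v => by rw [two_nsmul]; exact hexp v) ?_ (L := L) ?_
    · intro L' hL'
      rw [D.GGt_eq fun l => (D.C_eq hC l).ge] at hL'
      exact hirr L' (fun g hg x hx => hL' g (mem_sup_right hg) x hx) (fun g hg x hx => hL' g (mem_sup_left hg) x hx)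
    · intro x hx u hu
      rw [← hwU] at hu
      obtain ⟨s, hs, rfl⟩ := hu
      exact hL s hs x hx

end Comps

end Cfsg.Agent.Omega.CR

end

section


/-!
# From `KDiag` of the components to `Comps` and `KD`

`K l ≤ H` pairwise commuting, `T0` of odd order normalises them, `KDiag (S ⊓ K l) (Tact T0 (K l))`:

* `exists_comps` : `Comps` for suitable root group data;
* `exists_kd` : `KD (⨆ K l) (S ⊓ ⨆ K l) HE A₁ T0 w`, `HE` centralised by `T0`.
-/

set_option autoImplicit false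
set_option linter.unusedSectionVars false

namespace Cfsg.Agent.Omega.CR

open Subgroup CoxeterSystem Cfsg.Agent.ChevalleyStructure.CoxeterGeom Cfsg.Agent.Tits.Roots Cfsg.Agent.Tits.Core
  Cfsg.Agent.Tits.RootComb Cfsg.Agent.Nodes.Comb Cfsg.Agent.Nodes.Reps Cfsg.Agent.Nodes.BNOf
  Cfsg.Agent.Nodes.Bruhat Cfsg.Agent.KFacts.RgdAut Cfsg.Agent.KFacts.RgdDiag Cfsg.Agent.KFacts.RgdCharP
  Cfsg.Agent.Omega.Lie.End Cfsg.Agent.Omega.Lie.End.Mov Cfsg.Agent.Omega.Lie.End.OfLay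
open Cfsg.Agent.Omega.HOneQ Cfsg.Agent.Omega.HOneQ.Fr

universe u

variable {H : Type u} [Group H] [Finite H] {κ : Type*} [Fintype κ] {K : κ → Subgroup H} {S T0 : Subgroup H}

theorem mem_map_subtype {K : Subgroup H} {P : Subgroup K} {x : H} : x ∈ P.map K.subtype ↔ ∃ hx : x ∈ K, (⟨x, hx⟩ : K) ∈ P := by
  constructor
  · rintro ⟨y, hy, rfl⟩
    exact ⟨y.2, hy⟩
  · rintro ⟨hx, h⟩
    exact ⟨⟨x, hx⟩, h, rfl⟩

/-- the automorphism induced by `t` -/
theorem exists_tact {K : Subgroup H} {t : H} (ht : t ∈ T0) (hN : t ∈ normalizer (K : Set H)) :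
    ∃ γ ∈ Tact T0 K, ∀ x : K, ((γ x : K) : H) = t * x * t⁻¹ :=
  ⟨K.normalizerMonoidHom ⟨t, hN⟩, mem_Tact.2 ⟨t, ht, hN, fun _ => rfl⟩, fun _ => rfl⟩

theorem exists_comps (hcomm : ∀ l m, l ≠ m → ∀ a ∈ K l, ∀ b ∈ K m, a * b = b * a)
    (hN : ∀ l, T0 ≤ normalizer (K l : Set H)) (hodd : Odd (Nat.card T0))
    (kd : ∀ l, KDiag (S.subgroupOf (K l)) (Tact T0 (K l))) :
    ∃ (d : κ → ℕ) (M : ∀ l, CoxeterMatrix (Fin (d l))) (A : ∀ l, Fin (d l) → Fin (d l) → ℤ)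
      (h : ∀ l, IsCartan (M l) (A l)) (T : κ → Subgroup H) (n : ∀ l, Fin (d l) → H)
      (X : ∀ l, (Fin (d l) → ℤ) → Subgroup H),
      (∀ l, Finite (M l).Group) ∧ (∀ l, Conn (M l)) ∧
      Comps (fun l => (M l).toCoxeterSystem) h 2 T n X K T0 ∧
      (∀ l, K l ≤ RGD.Sup (X l) {x | IsRoot (M l).toCoxeterSystem (h l) x}) ∧
      (∀ l, RGD.Sup (X l) (RGD.Pos (M l).toCoxeterSystem (h l)) = S ⊓ K l) ∧
      (∀ l, ∀ t ∈ T0, ∀ s ∈ T l, t * s * t⁻¹ = s) := by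
  choose d M A h T n X hW hc R hG1 hU hD using kd
  have hSup : ∀ l (S' : Set (Fin (d l) → ℤ)), RGD.Sup (fun x => (X l x).map (K l).subtype) S' =
      (RGD.Sup (X l) S').map (K l).subtype := by
    intro l S'
    unfold RGD.Sup
    rw [Subgroup.map_iSup]
  have key : ∀ l, ∀ t ∈ T0, ∀ s ∈ (T l).map (K l).subtype, t * s * t⁻¹ = s := by
    rintro l t ht _ ⟨s, hs, rfl⟩
    obtain ⟨γ, hγ, e⟩ := exists_tact ht (hN l ht)
    have h1 := e s
    rw [(hD l γ hγ).2 s hs] at h1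
    exact h1.symm
  refine ⟨d, M, A, h, fun l => (T l).map (K l).subtype, fun l i => n l i, fun l x => (X l x).map (K l).subtype, hW, hc,
    ?_, ?_, ?_, key⟩
  · refine ⟨fun l => Nodes.RGDLib.rgd_map_of_injective (R l) (K l).subtype (K l).subtype_injective, fun l => ?_,
      fun l x _ => ?_, fun l i => (n l i).2, hcomm, fun l t ht s hs => ?_, fun l x hx t ht y hy => ?_,
      fun l i t ht => ?_, Nat.coprime_two_right.2 hodd⟩
    · rintro _ ⟨x, -, rfl⟩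
      exact x.2
    · rintro _ ⟨x, -, rfl⟩
      exact x.2
    · rw [key l t ht s hs]
      exact hs
    · obtain ⟨y, hy, rfl⟩ := hy
      obtain ⟨γ, hγ, e⟩ := exists_tact ht (hN l ht)
      have h1 := (Diag.mem_iff (R l) (hD l γ hγ).1 hx y).2 hy
      exact ⟨γ y, h1, e y⟩
    · obtain ⟨γ, hγ, e⟩ := exists_tact ht (hN l ht)
      have h1 := (rp_simple (M l).toCoxeterSystem (R l).nsys i).unique (Diag.rp (R := R l) (hD l γ hγ).1 i)
      refine ⟨(n l i)⁻¹ * γ (n l i), h1, ?_⟩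
      change ((n l i : K l) : H)⁻¹ * ((γ (n l i) : K l) : H) = _
      rw [e]
  · intro l
    rw [hSup, hG1]
    intro x hx
    exact ⟨⟨x, hx⟩, mem_top _, rfl⟩
  · intro l
    rw [hSup, hU, subgroupOf_map_subtype]

theorem iSup_le_norm (hcomm : ∀ l m, l ≠ m → ∀ a ∈ K l, ∀ b ∈ K m, a * b = b * a) (l : κ) :
    (⨆ m, K m) ≤ normalizer (K l : Set H) := by
  refine iSup_le fun m => ?_
  by_cases hm : m = l
  · rw [hm]; exact le_normalizer
  · refine le_normalizer_of fun x hx s hs => ?_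
    rw [hcomm m l hm x hx s hs, mul_inv_cancel_right]
    exact hs

/-- **`KD` for the product of the components.** -/
theorem exists_kd (hcomm : ∀ l m, l ≠ m → ∀ a ∈ K l, ∀ b ∈ K m, a * b = b * a)
    (hN : ∀ l, T0 ≤ normalizer (K l : Set H)) (hodd : Odd (Nat.card T0))
    (kd : ∀ l, KDiag (S.subgroupOf (K l)) (Tact T0 (K l))) (hS : IsPGroup 2 S) {A₁ : Subgroup H}
    (hne : ∀ l, A₁ ⊓ (S ⊓ K l) ≠ ⊥) (hST : ∀ t ∈ T0, ∀ s ∈ S, s⁻¹ * (t * s * t⁻¹) ∈ A₁)
    (hA : ∀ n : H, (∀ s ∈ S ⊓ ⨆ l, K l, n * s * n⁻¹ ∈ S ⊓ ⨆ l, K l) → (∀ t ∈ T0, n * t * n⁻¹ * t⁻¹ ∈ A₁) →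
      ∀ a ∈ A₁, n * a * n⁻¹ ∈ A₁) :
    ∃ (HE : Subgroup H) (w : H), KD (⨆ l, K l) (S ⊓ ⨆ l, K l) HE A₁ T0 w ∧
      (∀ t ∈ T0, ∀ s ∈ HE, t * s * t⁻¹ = s) := by
  have : Fact (Nat.Prime 2) := ⟨Nat.prime_two⟩
  obtain ⟨d, M, A, h, T, n, X, hW, hc, D, hC, hU, hT⟩ := exists_comps hcomm hN hodd kd
  have hUt : Ut (fun l => (M l).toCoxeterSystem) h X = ⨆ l, S ⊓ K l := by
    unfold Ut
    exact iSup_congr hU
  have hUS : Ut (fun l => (M l).toCoxeterSystem) h X ≤ S ⊓ ⨆ l, K l := by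
    rw [hUt]
    exact iSup_le fun l => inf_le_inf_left S (le_iSup K l)
  -- `S ⊓ E = U`
  have hSE : S ⊓ ⨆ l, K l = Ut (fun l => (M l).toCoxeterSystem) h X := by
    refine le_antisymm ?_ hUS
    rintro x ⟨hxS, hxK⟩
    have h1 : ∀ y ∈ S ⊓ ⨆ l, K l, ∀ s ∈ Ut (fun l => (M l).toCoxeterSystem) h X,
        y * s * y⁻¹ ∈ Ut (fun l => (M l).toCoxeterSystem) h X := by
      rintro y ⟨hyS, hyK⟩
      have h2 : Ut (fun l => (M l).toCoxeterSystem) h X ≤
          (Ut (fun l => (M l).toCoxeterSystem) h X).comap (MulAut.conj y).toMonoidHom := by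
        rw [hUt]
        refine iSup_le fun l s hs => (le_iSup (fun l => S ⊓ K l) l) (mem_inf.2 ⟨?_, ?_⟩)
        · exact S.mul_mem (S.mul_mem hyS hs.1) (S.inv_mem hyS)
        · exact (mem_normalizer_iff.1 (iSup_le_norm hcomm l hyK) s).1 hs.2
      exact fun s hs => h2 hs
    have h2 : x ∈ normalizer (Ut (fun l => (M l).toCoxeterSystem) h X : Set H) := by
      refine mem_normalizer_of_le (h1 x ⟨hxS, hxK⟩) fun s hs => ?_
      have h3 := h1 x⁻¹ (inv_mem (mem_inf.2 ⟨hxS, hxK⟩)) s hs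
      rwa [inv_inv] at h3
    have h3 : x ∈ Ut (fun l => (M l).toCoxeterSystem) h X ⊔ ⨆ l, T l := by
      rw [← D.normalizer_eq hC]
      exact ⟨hxK, h2⟩
    obtain ⟨k, hk⟩ := hS ⟨x, hxS⟩
    exact mem_of_pow (le_sup_right.trans D.HE_norm_Ut) D.coprime_HE h3 (congrArg Subtype.val hk)
  have h3 : ∀ t ∈ T0, (⨆ l, T l) ≤ centralizer {t} := by
    intro t ht
    refine iSup_le fun l s hs => ?_
    rw [mem_centralizer_singleton_iff]
    exact (mul_inv_eq_iff_eq_mul.1 (hT l t ht s hs)).symm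
  have h4 : ∀ t ∈ T0, ∀ s ∈ ⨆ l, T l, t * s * t⁻¹ = s := by
    intro t ht s hs
    have h5 := mem_centralizer_singleton_iff.1 (h3 t ht hs)
    rw [← h5, mul_inv_cancel_right]
  have h6 : ∀ x ∈ ⨆ l, T l, ∀ t ∈ T0, x * t * x⁻¹ * t⁻¹ ∈ A₁ := by
    intro x hx t ht
    have h5 := h4 t ht x hx
    have h6 : x * t * x⁻¹ * t⁻¹ = 1 := by
      calc x * t * x⁻¹ * t⁻¹ = x * (t * x * t⁻¹)⁻¹ := by group
        _ = 1 := by rw [h5, mul_inv_cancel]
    rw [h6]
    exact one_mem _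
  obtain ⟨w, hw⟩ := D.kd hC hc (A₁ := A₁) (fun l => by rw [hU l]; exact hne l)
    (fun u hu => by
      rw [← hSE] at hu
      refine hA u (fun s hs => mul_mem (mul_mem hu hs) (inv_mem hu)) fun t ht => ?_
      have h5 := hST t ht u⁻¹ (inv_mem hu.1)
      have e : u⁻¹⁻¹ * (t * u⁻¹ * t⁻¹) = u * t * u⁻¹ * t⁻¹ := by group
      rwa [e] at h5)
    (fun t ht => hA t (fun s hs => by
      rw [hSE] at hs ⊢
      exact (mem_normalizer_iff.1 ((le_sup_right.trans D.HE_norm_Ut) ht) s).1 hs) (h6 t ht)) h6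
  rw [← hSE] at hw
  exact ⟨_, w, hw, h4⟩

end Cfsg.Agent.Omega.CR

end

end

-- merged: Cfsg.Agent.Mrg.Omega.HOneQ.NoExc
section

/-!
# II.0h1, SPLIT, `q ≥ 4`: `T` does not act on a component `L₂(Q)` by field automorphisms

* `cen_act` : `u ∈ S` commuting with `A` and `T` acts on `M' = W i / Z(W i)` as `x ↦ x + e (κ ω x)`;
* `card_le` : an abelian subgroup `P ≤ S` whose nontrivial elements are conjugate in `H⁰` and which contains such an
  element `u ≠ 1` has at most `q` elements;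
* **`no_exc`** : `KExc` does not occur for a component met by `A`.
-/

set_option autoImplicit false
set_option linter.unusedSectionVars false

namespace Cfsg.Agent.Omega.HOneQ.NoExc

open Subgroup Cfsg Cfsg.Agent.Omega.BTwo Cfsg.Agent.Omega.Lie Cfsg.Agent.Omega.Lie.Quot
open Cfsg.Agent.Omega.HOneQ.ECen Cfsg.Agent.Omega.HOneQ.Fr Cfsg.Agent.Omega.HOne.ModZ
open Cfsg.Agent.Omega.Lie.Layer (OddC InnC InnA Cps)

universe u v w

variable {G : Type u} [Group G] {ι : Type w} {V : Subgroup G} {R : ι → Subgroup G} {i j : ι}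
  {F : Type v} [Field F] {vv : F → F → G} {w1 w2 t : F → G}

section act

variable [Finite G] [Finite F] [CharP F 2] (b : BTS V R) (hF : ∃ a : F, a ≠ 0 ∧ a ≠ 1)
  (c : Coord V R i j vv w1 w2) (τ : TorD V R i j vv t)
  {S : Subgroup (HQ (R i))} (I : SylI τ S)
  {N : Type u} [AddCommGroup N] [Module F N] {P1 P2 : G → N} (y : YPair V R i j w1 w2 N P1 P2)
  {M : Type u} [AddCommGroup M] [Module F M] [DistribMulAction (HQ (R i)) M] {p : G → M}
  {f : M →ₗ[F] M →ₗ[F] F} {e : F →ₗ[F] M} {ω : M →ₗ[F] F} {σ : HQ (R i) →* RingAut F} {κ : HQ (R i) → F}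
  (q : Fq V R i vv M p f e ω σ κ)

include b hF c τ I y q

/-- `u ∈ S` commuting with `A` and `T` is trivial on `M` or a transvection with centre `e` -/
theorem cen_act {u : HQ (R i)} (hu : u ∈ S) (huA : ∀ a ∈ AA V R i j, u * a = a * u)
    (huT : ∀ x ∈ TT τ, u * x = x * u) : ∃ s : F, ∀ x : M, u • x - x = e (s * ω x) := by
  obtain ⟨g, hg, hgV, rfl⟩ := I.rep u hu
  set u := pr (R i) ⟨g, hg⟩ with hu'
  have huH : u ∈ H0 R i := q.cenV_H0 c hg hgV
  have hue : ∀ γ, u • e γ = e γ := q.cenV_e c hg hgV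
  have huω : ∀ x, ω (u • x) = ω x := q.cenV_ω c hg hgV
  obtain ⟨s, hs, hs1⟩ := hF
  set s' : Fˣ := Units.mk0 s hs with hs'
  have hs1' : (s' : F) ≠ 1 := hs1
  set x0 := pr (R i) ⟨t s', τ.normR s'.ne_zero⟩ with hx0
  have hx0T : x0 ∈ TT τ := (mem_TT τ).2 ⟨s, hs, rfl⟩
  have h2F : (2 : F) = 0 := CharP.cast_eq_zero F 2
  have hs0 : (s' : F) ≠ 0 := s'.ne_zero
  have hinv1 : (s' : F)⁻¹ ≠ 1 := fun h => hs1' (by rw [← inv_inv (s' : F), h, inv_one])
  have hinv2 : (s' : F)⁻¹ ≠ s' := by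
    intro h
    have h10 : (s' : F) * s' = 1 := by
      nth_rewrite 2 [← h]
      exact mul_inv_cancel₀ hs0
    apply hs1'
    have h11 : ((s' : F) - 1) * (s' - 1) = 0 := by linear_combination h10 + (1 - s') * h2F
    exact sub_eq_zero.1 (mul_self_eq_zero.1 h11)
  have hTe : ∀ γ, x0 • e γ = e ((s' : F)⁻¹ * γ) := fun γ => by
    rw [q.t_e c τ, ← LinearMap.map_smul e, smul_eq_mul]
  have hein : ∀ γ δ, e γ = e δ → γ = δ := fun γ δ h => q.e_inj c b.toBT h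
  have hcomm : ∀ x : M, x0 • u • x = u • x0 • x := fun x => by rw [smul_smul, smul_smul, huT x0 hx0T]
  have hcommA : ∀ a ∈ AA V R i j, ∀ x : M, a • u • x = u • a • x := fun a ha x => by
    rw [smul_smul, smul_smul, huA a ha]
  obtain ⟨π, hsurj, hπ, -, hπA, hπT⟩ := q.exists_pi b.toBT c τ y ⟨s, hs, hs1⟩
  obtain ⟨Λ, -, -, hΛe, hΛA, -⟩ := q.exists_lam b c τ y ⟨s, hs, hs1⟩
  have hDs : ∀ d, d ∈ q.DS b.toBT c τ y ⟨s, hs, hs1⟩ → u • d ∈ q.DS b.toBT c τ y ⟨s, hs, hs1⟩ := by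
    intro d hd
    exact q.toMZ.sb_smul hg (b.NV_le_ND (cen_le_NV V hgV)) hd
  -- (1), (2): `u` is trivial on `D'`
  have k1 : ∀ d, d ∈ q.DS b.toBT c τ y ⟨s, hs, hs1⟩ → u • d = d := by
    intro d hd
    have hd' := hDs d hd
    have h1 : Λ (⟨u • d, hd'⟩ - ⟨d, hd⟩) = 0 := by
      rw [map_sub, sub_eq_zero]
      ext n
      obtain ⟨z, hzY, hz1, hz2⟩ := y.surj 0 n
      have hzU := (y.mem_U2 z hzY).2 hz1
      have hzN := b.cen_le_N i (UU_le_cen j hzU)
      have h3 := hΛA z hzU ⟨d, hd⟩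
      have h4 := hΛA z hzU ⟨u • d, hd'⟩
      rw [hz2] at h3 h4
      apply hein
      rw [← h3, ← h4]
      have h5 : pr (R i) ⟨z, hzN⟩ ∈ AA V R i j := (Lie.Quot.mem_AA b.toBT).2 ⟨z, hzU, rfl⟩
      change pr (R i) ⟨z, hzN⟩ • u • d - u • d = pr (R i) ⟨z, hzN⟩ • d - d
      rw [hcommA _ h5, ← smul_sub, h3, hue]
    obtain ⟨γ, hγ⟩ := (hΛe _).1 h1
    have hγ' : e γ = u • d - d := hγ
    obtain ⟨δ, hδ⟩ := q.t_D b.toBT c τ y s' hd
    have h6 : x0 • (u • d - d) = u • d - d := by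
      have h7 : x0 • d = d + e δ := by rw [hδ]; abel
      rw [smul_sub, hcomm, h7, smul_add, hue]
      abel
    rw [← hγ', hTe] at h6
    have h8 := hein _ _ h6
    have h9 : γ = 0 := by
      have h10 : ((s' : F)⁻¹ - 1) * γ = 0 := by rw [sub_mul, one_mul, h8, sub_self]
      exact (mul_eq_zero.1 h10).resolve_left (sub_ne_zero.2 hinv1)
    rw [h9, map_zero] at hγ'
    exact (sub_eq_zero.1 hγ'.symm)
  -- an element with `ω = 1`
  obtain ⟨m0, hm0⟩ : ∃ m0 : M, ω m0 = 1 := ⟨p (w1 1), q.ω_w1 c 1⟩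
  -- (3), (4): `u` is trivial on `P'`
  have k2 : ∀ x, ω x = 0 → u • x = x := by
    intro x hx
    have hux : ω (u • x) = 0 := by rw [huω, hx]
    -- `π (u x) = π x`
    have h1 : π ⟨u • x, hux⟩ = π ⟨x, hx⟩ := by
      obtain ⟨n, hn⟩ := (N0 b.toBT c y).mkQ_surjective (π ⟨x, hx⟩)
      obtain ⟨z, hzY, hz1, hz2⟩ := y.surj 0 n
      have hzU := (y.mem_U2 z hzY).2 hz1
      have hzN := b.cen_le_N i (UU_le_cen j hzU)
      have h5 : pr (R i) ⟨z, hzN⟩ ∈ AA V R i j := (Lie.Quot.mem_AA b.toBT).2 ⟨z, hzU, rfl⟩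
      set a := pr (R i) ⟨z, hzN⟩ with ha
      have hz3 : ∀ v : M, ω (a • v - v) = 0 := fun v => by
        rw [map_sub, q.cenV_ω c hzN (UU_le_cen j hzU), sub_self]
      have h6 := hπA z hzU m0 (hz3 m0)
      rw [hm0, one_smul, hz2, hn] at h6
      have h7 := hπA z hzU (u • m0) (hz3 (u • m0))
      rw [huω, hm0, one_smul, hz2, hn] at h7
      -- `x = (a m0 - m0) + d`
      have h8 : x - (a • m0 - m0) ∈ q.DS b.toBT c τ y ⟨s, hs, hs1⟩ := by
        have h9 : ω (x - (a • m0 - m0)) = 0 := by rw [map_sub, hx, hz3, sub_zero]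
        rw [← hπ ⟨_, h9⟩]
        have h10 : (⟨_, h9⟩ : LinearMap.ker ω) = ⟨x, hx⟩ - ⟨_, hz3 m0⟩ := rfl
        rw [h10, map_sub, h6, sub_self]
      have h9 := k1 _ h8
      have h10 : u • x = u • (x - (a • m0 - m0)) + (a • u • m0 - u • m0) := by
        rw [hcommA a h5, ← smul_sub, ← smul_add, sub_add_cancel]
      have h11 : (⟨u • x, hux⟩ : LinearMap.ker ω) = (⟨x, hx⟩ - ⟨_, hz3 m0⟩) + ⟨_, hz3 (u • m0)⟩ := by
        apply Subtype.ext
        change u • x = (x - (a • m0 - m0)) + (a • u • m0 - u • m0)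
        rw [h10, h9]
      rw [h11, map_add, map_sub, h6, h7, sub_add_cancel]
    have h2 : u • x - x ∈ q.DS b.toBT c τ y ⟨s, hs, hs1⟩ := by
      have h9 : ω (u • x - x) = 0 := by rw [map_sub, hux, hx, sub_zero]
      rw [← hπ ⟨_, h9⟩]
      have h10 : (⟨_, h9⟩ : LinearMap.ker ω) = ⟨u • x, hux⟩ - ⟨x, hx⟩ := rfl
      rw [h10, map_sub, h1, sub_self]
    -- `t x = s x + d₁`
    have htx : ω (x0 • x) = 0 := by rw [q.t_ω c τ, hx, mul_zero]
    have h3 := hπT s' ⟨x, hx⟩ htx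
    have h4 : x0 • x - (s' : F) • x ∈ q.DS b.toBT c τ y ⟨s, hs, hs1⟩ := by
      have h9 : ω (x0 • x - (s' : F) • x) = 0 := by rw [map_sub, htx, map_smul, hx, smul_zero, sub_zero]
      rw [← hπ ⟨_, h9⟩]
      have h10 : (⟨_, h9⟩ : LinearMap.ker ω) = ⟨x0 • x, htx⟩ - (s' : F) • ⟨x, hx⟩ := rfl
      rw [h10, map_sub, map_smul, h3, sub_self]
    have h5 : x0 • (u • x - x) = (s' : F) • (u • x - x) := by
      have h6 := k1 _ h4
      rw [smul_sub, q.H0_smul c huH] at h6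
      rw [smul_sub, hcomm, smul_sub, ← sub_eq_zero]
      have h7 := sub_eq_zero.2 h6
      rw [← h7]
      abel
    obtain ⟨γ, hγ⟩ := q.t_D b.toBT c τ y s' h2
    have h6 : e (((s' : F) - 1)⁻¹ * γ) = u • x - x := by
      have h7 : x0 • (u • x - x) - (u • x - x) = ((s' : F) - 1) • (u • x - x) := by rw [h5, sub_smul, one_smul]
      rw [← smul_eq_mul, LinearMap.map_smul, hγ, h7, smul_smul, inv_mul_cancel₀ (sub_ne_zero.2 hs1'), one_smul]
    set γ' := ((s' : F) - 1)⁻¹ * γ with hγ'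
    rw [← h6, hTe, ← LinearMap.map_smul e, smul_eq_mul] at h5
    have h8 := hein _ _ h5
    have h9 : γ' = 0 := by
      have h10 : ((s' : F)⁻¹ - s') * γ' = 0 := by rw [sub_mul, h8, sub_self]
      exact (mul_eq_zero.1 h10).resolve_left (sub_ne_zero.2 hinv2)
    rw [h9, map_zero] at h6
    exact sub_eq_zero.1 h6.symm
  -- duality
  have k3 : ∀ x, ∃ γ, u • x - x = e γ := by
    intro x
    have h1 : ∀ z, ω z = 0 → f (u • x - x) z = 0 := by
      intro z hz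
      rw [map_sub, LinearMap.sub_apply, ← q.H0_isom c huH x z, k2 z hz, sub_self]
    refine ⟨f (u • x - x) m0, ?_⟩
    rw [← sub_eq_zero]
    apply q.nd
    intro z
    have h2 := h1 (z - ω z • m0) (by rw [map_sub, map_smul, hm0, smul_eq_mul, mul_one, sub_self])
    rw [map_sub, map_smul, smul_eq_mul, sub_eq_zero] at h2
    rw [map_sub, LinearMap.sub_apply, q.symm (e _) z, q.fe, h2, sub_self]
  obtain ⟨s₁, h1⟩ := k3 m0
  refine ⟨s₁, fun x => ?_⟩
  have h2 : u • (x - ω x • m0) = x - ω x • m0 := k2 _ (by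
    rw [map_sub, map_smul, hm0, smul_eq_mul, mul_one, sub_self])
  have h3 : u • x - x = ω x • (u • m0 - m0) := by
    have h4 : u • x = u • (x - ω x • m0) + ω x • u • m0 := by
      rw [← q.H0_smul c huH, ← smul_add, sub_add_cancel]
    rw [h4, h2, smul_sub]
    abel
  rw [h3, h1, ← LinearMap.map_smul e, smul_eq_mul, mul_comm]

omit [Finite G] [Finite F] [CharP F 2] hF y in
/-- an element of `S` trivial on `M` lies in `N₀` -/
theorem KN_of_triv {u : HQ (R i)} (hu : u ∈ S) (h : ∀ x : M, u • x = x) : u ∈ KN V R i := by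
  obtain ⟨g, hg, hgV, rfl⟩ := I.rep u hu
  have hgR : g ∈ centralizer (R i : Set G) := by
    rw [mem_centralizer_iff]
    exact fun r hr => mem_centralizer_iff.1 hgV r (b.R_le i hr)
  refine (pr_mem_KN b.toBT hg).2 ⟨hgR, LemNS.N_le_NZ i hg, fun w hw => ?_⟩
  have h1 := h (p w)
  rw [q.p_act g hg w hw, q.toMZ.p_eq_iff (conj_mem_of_normalizer (normalizer_le_WW V (R i) hg) hw) hw] at h1
  exact h1

/-- `|P| ≤ q` -/
theorem card_le {P : Subgroup (HQ (R i))} (hPS : P ≤ S)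
    (hconj : ∀ x ∈ P, ∀ z ∈ P, x ≠ 1 → z ≠ 1 → ∃ h ∈ H0 R i, h * x * h⁻¹ = z)
    (hfaith : ∀ s ∈ S, s ∈ KN V R i → s = 1) {u : HQ (R i)} (hu : u ∈ P) (hu1 : u ≠ 1)
    (huA : ∀ a ∈ AA V R i j, u * a = a * u) (huT : ∀ x ∈ TT τ, u * x = x * u) : Nat.card P ≤ Nat.card F := by
  obtain ⟨s₁, hs₁⟩ := cen_act b hF c τ I y q (hPS hu) huA huT
  have hPe : ∀ x ∈ P, ∀ γ, x • e γ = e γ := by
    intro x hx γ
    obtain ⟨g, hg, hgV, rfl⟩ := I.rep x (hPS hx)
    exact q.cenV_e c hg hgV γ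
  have hein : ∀ γ δ, e γ = e δ → γ = δ := fun γ δ h => q.e_inj c b.toBT h
  have hs0 : s₁ ≠ 0 := by
    rintro rfl
    refine hu1 (hfaith u (hPS hu) (KN_of_triv b c τ I q (hPS hu) fun x => ?_))
    have h1 := hs₁ x
    rw [zero_mul, map_zero] at h1
    exact sub_eq_zero.1 h1
  have hω : ∀ x, ω x = f x (e 1) := fun x => by rw [q.fe, mul_one]
  -- conjugates of `u`
  have k1 : ∀ x ∈ P, x ≠ 1 → ∃ v : M, v ≠ 0 ∧ ∀ m : M, x • m - m = (s₁ * f m v) • v := by
    intro x hx hx1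
    obtain ⟨h, hh, rfl⟩ := hconj u hu x hx hu1 hx1
    refine ⟨h • e 1, ?_, fun m => ?_⟩
    · intro h0
      have h2 : e 1 = 0 := by
        rw [← inv_smul_smul h (e 1), h0, smul_zero]
      rw [← map_zero e] at h2
      exact one_ne_zero (hein _ _ h2)
    · have h2 : (h * u * h⁻¹) • m - m = h • (u • h⁻¹ • m - h⁻¹ • m) := by
        rw [smul_sub, smul_inv_smul, mul_smul, mul_smul]
      rw [h2, hs₁, hω, ← q.H0_isom c hh (h⁻¹ • m) (e 1), smul_inv_smul, ← q.H0_smul c hh]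
      congr 1
      rw [← LinearMap.map_smul e, smul_eq_mul, mul_one]
  have he1 : e 1 ≠ 0 := by
    intro h2
    rw [← map_zero e] at h2
    exact one_ne_zero (hein _ _ h2)
  -- all of them have centre `e`
  have k2 : ∀ x ∈ P, ∃ s : F, ∀ m : M, x • m - m = e (s * ω m) := by
    intro x hx
    by_cases hx1 : x = 1
    · refine ⟨0, fun m => ?_⟩
      rw [hx1, one_smul, sub_self, zero_mul, map_zero]
    by_cases hxu : x * u = 1
    · refine ⟨-s₁, fun m => ?_⟩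
      have h1 : x • u • m = m := by rw [smul_smul, hxu, one_smul]
      have h2 : x • m - m = - (x • (u • m - m)) := by rw [smul_sub, h1]; abel
      rw [h2, hs₁, hPe x hx, neg_mul, map_neg]
    obtain ⟨v, hv, hxv⟩ := k1 x hx hx1
    suffices h : ∃ δ : F, v = δ • e 1 by
      obtain ⟨δ, rfl⟩ := h
      refine ⟨s₁ * δ ^ 2, fun m => ?_⟩
      rw [hxv, map_smul, smul_smul, hω, ← LinearMap.map_smul e]
      congr 1
      simp only [smul_eq_mul]
      ring
    · obtain ⟨v', hv', hxuv⟩ := k1 (x * u) (mul_mem hx hu) hxu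
      have key : ∀ m : M, ω m • e 1 + f m v • v = f m v' • v' := by
        intro m
        have h1 : (x * u) • m - m = x • (u • m - m) + (x • m - m) := by
          rw [mul_smul, smul_sub]; abel
        rw [hxuv, hs₁, hPe x hx, hxv] at h1
        have h2 : e (s₁ * ω m) = (s₁ * ω m) • e 1 := by rw [← LinearMap.map_smul e, smul_eq_mul, mul_one]
        rw [h2, ← smul_smul, ← smul_smul, ← smul_smul, ← smul_add] at h1
        exact (smul_right_injective M hs0 h1).symm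
      by_contra hne
      -- an element with `f m v = 0`, `ω m ≠ 0`
      obtain ⟨m1, hm1, hm1'⟩ : ∃ m, f m v = 0 ∧ ω m ≠ 0 := by
        by_contra hcon
        push Not at hcon
        obtain ⟨z, hz⟩ : ∃ z, f z v ≠ 0 := by
          by_contra h0
          push Not at h0
          exact hv (q.nd v fun z => by rw [q.symm]; exact h0 z)
        set z0 := (f z v)⁻¹ • z with hz0
        have hz0' : f z0 v = 1 := by
          rw [hz0, map_smul, LinearMap.smul_apply, smul_eq_mul, inv_mul_cancel₀ hz]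
        have h1 : ∀ m, ω m = f m v * ω z0 := by
          intro m
          have h2 := hcon (m - f m v • z0) (by
            rw [map_sub, LinearMap.sub_apply, map_smul, LinearMap.smul_apply, hz0', smul_eq_mul, mul_one, sub_self])
          rw [map_sub, map_smul, smul_eq_mul, sub_eq_zero] at h2
          exact h2
        have h2 : e 1 = ω z0 • v := by
          rw [← sub_eq_zero]
          apply q.nd
          intro m
          rw [q.symm, map_sub, map_smul, smul_eq_mul, ← hω, h1 m]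
          ring
        have h3 : ω z0 ≠ 0 := by
          intro h0
          rw [h0, zero_smul] at h2
          exact he1 h2
        exact hne ⟨(ω z0)⁻¹, by rw [h2, smul_smul, inv_mul_cancel₀ h3, one_smul]⟩
      have h1 := key m1
      rw [hm1, zero_smul, add_zero] at h1
      have h2 : f m1 v' ≠ 0 := by
        intro h0
        rw [h0, zero_smul] at h1
        exact he1 ((smul_eq_zero.1 h1).resolve_left hm1')
      -- `v' ∈ F e`
      have h3 : v' = ((f m1 v')⁻¹ * ω m1) • e 1 := by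
        rw [← smul_smul, h1, smul_smul, inv_mul_cancel₀ h2, one_smul]
      -- an element with `f z v = 1`
      obtain ⟨z, hz⟩ : ∃ z, f z v ≠ 0 := by
        by_contra h0
        push Not at h0
        exact hv (q.nd v fun z => by rw [q.symm]; exact h0 z)
      have h4 := key z
      apply hne
      refine ⟨(f z v)⁻¹ * (f z v' * ((f m1 v')⁻¹ * ω m1) - ω z), ?_⟩
      have h5 : f z v • v = (f z v' * ((f m1 v')⁻¹ * ω m1) - ω z) • e 1 := by
        rw [sub_smul, ← smul_smul, ← h3, ← h4, add_sub_cancel_left]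
      rw [← smul_smul, ← h5, smul_smul, inv_mul_cancel₀ hz, one_smul]
  -- the injection
  choose! φ hφ using k2
  have hinj : Function.Injective (fun x : P => φ x) := by
    intro x z hxz
    have hxz' : φ x = φ z := hxz
    have h1 : ((x : HQ (R i))⁻¹ * z) ∈ KN V R i := by
      refine KN_of_triv b c τ I q (mul_mem (inv_mem (hPS x.2)) (hPS z.2)) fun m => ?_
      have h2 := hφ x x.2 m
      have h3 := hφ z z.2 m
      rw [hxz', ← h3] at h2
      have h4 := sub_left_injective h2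
      rw [mul_smul, ← h4, inv_smul_smul]
    have h2 := hfaith _ (mul_mem (inv_mem (hPS x.2)) (hPS z.2)) h1
    exact Subtype.ext (inv_mul_eq_one.1 h2)
  exact Nat.card_le_card_of_injective _ hinj

end act


open scoped MatrixGroups Pointwise in
/-- the Sylow 2-subgroups of `L₂(q)`, `q` even -/
theorem exists_co {K : Type*} [Group K] [Finite K] {F : Type} [Field F] [Finite F] [CharP F 2]
    (e₀ : K ≃* Matrix.ProjectiveSpecialLinearGroup (Fin 2) F) (S : Sylow 2 K) :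
    ∃ φ : F → K, Lie.End.LTwoSide.Co (S : Subgroup K) φ := by
  obtain ⟨e₁⟩ := EH3.Rank1.LTwo.psl_equiv (F := F)
  obtain ⟨Q, hQ⟩ := Lie.End.LTwoSide.sylow_eq (e₀.trans e₁)
  obtain ⟨g, hg⟩ := MulAction.exists_smul_eq K Q S
  have hS : ∀ x, x ∈ (S : Subgroup K) ↔ ((MulAut.conj g⁻¹).trans (e₀.trans e₁)) x ∈ EH3.Rank1.LTwo.U F := by
    intro x
    have h1 : x ∈ (S : Subgroup K) ↔ g⁻¹ * x * g ∈ Q := by
      rw [← hg]
      show x ∈ MulAut.conj g • (Q : Subgroup K) ↔ _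
      rw [Subgroup.mem_pointwise_smul_iff_inv_smul_mem]
      show ((MulAut.conj g)⁻¹ x ∈ (Q : Subgroup K)) ↔ _
      rw [MulAut.conj_inv_apply]
      rfl
    rw [h1, hQ]
    show (e₀.trans e₁) (g⁻¹ * x * g) ∈ EH3.Rank1.LTwo.U F ↔ (e₀.trans e₁) (g⁻¹ * x * g⁻¹⁻¹) ∈ EH3.Rank1.LTwo.U F
    rw [inv_inv]
  exact ⟨_, Lie.End.LTwoSide.co hS⟩

section final

variable [Finite G] [Finite F] [CharP F 2] (b : BTS V R) (hF : ∃ a : F, a ≠ 0 ∧ a ≠ 1)
  (c : Coord V R i j vv w1 w2) (τ : TorD V R i j vv t)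
  (hodd : Odd ((normalizer (V : Set G)).relIndex (normalizer (R i : Set G)))) (hUD : ¬ UU V R j ≤ DD V R)
  {S : Subgroup (HQ (R i))} (I : SylI τ S) (hinn : InnC V R i j) (hoddC : OddC V R i j)

include b hF c τ hodd hUD I hinn hoddC

/-- **`T` does not act on a component `L₂(Q)` by field automorphisms** -/
theorem no_exc {K : Subgroup (HQ (R i))} (hK : Met V R i j K) (hTK : TT τ ≤ normalizer (K : Set (HQ (R i)))) :
    ¬ Lie.End.KExc K (S.subgroupOf K) (Lie.End.OfLay.Tact (TT τ) K) := by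
  rintro ⟨-, ⟨u₀, hu₀, hu1, hfix⟩, F', _, _, hchar, ⟨e₀⟩⟩
  have : CharP F' 2 := ringChar.eq_iff.1 hchar
  have hp2 : Fact (Nat.Prime 2) := ⟨Nat.prime_two⟩
  -- `S ∩ K` is a Sylow 2-subgroup of `K`
  obtain ⟨P, hP⟩ : ∃ P : Sylow 2 K, (P : Subgroup K) = S.subgroupOf K := by
    have h2 : IsPGroup 2 (S.subgroupOf K) := I.S2.comap_of_injective K.subtype K.subtype_injective
    obtain ⟨P, hP⟩ := h2.exists_le_sylow
    refine ⟨P, le_antisymm ?_ hP⟩
    intro x hx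
    have h3 := I.syl K hK.1.1.1 hK.1.2 ((P : Subgroup K).map K.subtype) (map_subtype_le _)
      (P.isPGroup'.map K.subtype) (by
        rintro y ⟨hyS, hyK⟩
        exact ⟨⟨y, hyK⟩, hP (mem_subgroupOf.2 hyS), rfl⟩)
    exact mem_subgroupOf.2 (h3 ⟨x, hx, rfl⟩)
  obtain ⟨φ, C⟩ := exists_co e₀ P
  rw [hP] at C
  have hcomm : ∀ x ∈ S ⊓ K, ∀ z ∈ S ⊓ K, x * z = z * x := by
    intro x hx z hz
    obtain ⟨a, ha⟩ := (C.mem ⟨x, hx.2⟩).1 (mem_subgroupOf.2 hx.1)
    obtain ⟨a', ha'⟩ := (C.mem ⟨z, hz.2⟩).1 (mem_subgroupOf.2 hz.1)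
    have h1 : (⟨x, hx.2⟩ : K) * ⟨z, hz.2⟩ = ⟨z, hz.2⟩ * ⟨x, hx.2⟩ := by
      rw [← ha, ← ha', ← C.add, ← C.add, add_comm]
    exact congrArg Subtype.val h1
  have hφ0 : ∀ x : K, x ≠ 1 → ∀ a, φ a = x → a ≠ 0 := by
    rintro x hx a rfl rfl
    exact hx C.zero
  have hconj : ∀ x ∈ S ⊓ K, ∀ z ∈ S ⊓ K, x ≠ 1 → z ≠ 1 → ∃ h ∈ H0 R i, h * x * h⁻¹ = z := by
    intro x hx z hz hx1 hz1
    obtain ⟨a, ha⟩ := (C.mem ⟨x, hx.2⟩).1 (mem_subgroupOf.2 hx.1)
    obtain ⟨a', ha'⟩ := (C.mem ⟨z, hz.2⟩).1 (mem_subgroupOf.2 hz.1)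
    have ha0 := hφ0 _ (fun h => hx1 (congrArg Subtype.val h)) a ha
    have ha0' := hφ0 _ (fun h => hz1 (congrArg Subtype.val h)) a' ha'
    obtain ⟨d, -, hd⟩ := C.dia (a' * a⁻¹) (mul_ne_zero ha0' (inv_ne_zero ha0))
    refine ⟨d, hK.1.2 d.2, ?_⟩
    have h1 := hd a
    rw [inv_mul_cancel_right₀ ha0, ha, ha'] at h1
    exact congrArg Subtype.val h1
  set u : HQ (R i) := (u₀ : HQ (R i)) with hu
  have huS : u ∈ S ⊓ K := ⟨mem_subgroupOf.1 hu₀, u₀.2⟩
  have hu1' : u ≠ 1 := fun h => hu1 (Subtype.ext h)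
  have huT : ∀ x ∈ TT τ, u * x = x * u := by
    intro x hx
    have h1 := hfix (K.normalizerMonoidHom ⟨x, hTK hx⟩) (Lie.End.OfLay.mem_Tact.2 ⟨x, hx, hTK hx, fun _ => rfl⟩)
    have h2 : x * u * x⁻¹ = u := congrArg Subtype.val h1
    rw [mul_inv_eq_iff_eq_mul] at h2
    exact h2.symm
  have huA : ∀ a ∈ AA V R i j, u * a = a * u := by
    intro a ha
    obtain ⟨d, hd, hact⟩ := hinn K hK.1.1 hK.1.2 a ha
    have h1 := hact u huS.2
    have h2 := hcomm d ⟨I.AS hd.1, hd.2⟩ u huS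
    rw [h2, mul_inv_cancel_right, mul_inv_eq_iff_eq_mul] at h1
    exact h1.symm
  obtain ⟨M, _, _, p, _, f, e, ω, σ, κ, q⟩ := exists_frame hF b.toBT c τ
  obtain ⟨N, _, _, P1, P2, y⟩ := c.exists_yPair b.toBT
  have h1 := card_le b hF c τ I y q (inf_le_left : S ⊓ K ≤ S) hconj
    (fun s hs hs0 => S_inf_KN' b hF c τ hodd hUD I hinn hoddC hs hs0) huS hu1' huA huT
  -- `|A ∩ K| ≥ q`
  obtain ⟨a₀, ha₀A, ha₀K, ha₀⟩ := hK.exists
  have h2 : Nat.card F ≤ Nat.card (AA V R i j ⊓ K : Subgroup (HQ (R i))) := by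
    have key : ∀ x ∈ TT τ, x * a₀ * x⁻¹ ∈ AA V R i j ⊓ K := fun x hx =>
      ⟨TA_mem b.toBT τ hx ha₀A, conj_mem_of_normalizer (hTK hx) ha₀K⟩
    let ψ : Option (TT τ) → (AA V R i j ⊓ K : Subgroup (HQ (R i))) := fun o =>
      o.elim 1 fun x => ⟨_, key x x.2⟩
    have hinj : Function.Injective ψ := by
      have h3 : ∀ x : TT τ, ψ (some x) ≠ 1 := by
        intro x h
        have h4 : (x : HQ (R i)) * a₀ * (x : HQ (R i))⁻¹ = 1 := congrArg Subtype.val h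
        apply ha₀
        rwa [mul_inv_eq_one, mul_eq_left] at h4
      rintro (_ | x) (_ | z) h
      · rfl
      · exact absurd h.symm (h3 z)
      · exact absurd h (h3 x)
      · have h4 : (x : HQ (R i)) * a₀ * (x : HQ (R i))⁻¹ = z * a₀ * (z : HQ (R i))⁻¹ := congrArg Subtype.val h
        have h5 : (z : HQ (R i))⁻¹ * x = 1 := by
          refine T_reg b.toBT τ c.ne ha₀A ha₀ (mul_mem (inv_mem z.2) x.2) ?_
          calc (z : HQ (R i))⁻¹ * x * a₀ * ((z : HQ (R i))⁻¹ * x)⁻¹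
              = (z : HQ (R i))⁻¹ * (x * a₀ * (x : HQ (R i))⁻¹) * z := by group
            _ = a₀ := by rw [h4]; group
        rw [inv_mul_eq_one] at h5
        rw [Subtype.ext h5]
    have h3 := Nat.card_le_card_of_injective ψ hinj
    rwa [Finite.card_option, card_T b.toBT τ] at h3
  have h3 : Nat.card (AA V R i j ⊓ K : Subgroup (HQ (R i))) < Nat.card (S ⊓ K : Subgroup (HQ (R i))) := by
    by_contra hge
    have h4 : AA V R i j ⊓ K = S ⊓ K := eq_of_le_of_card_ge (inf_le_inf_right K I.AS) (not_lt.1 hge)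
    have huA' : u ∈ AA V R i j := by
      have : u ∈ AA V R i j ⊓ K := by rw [h4]; exact huS
      exact this.1
    obtain ⟨s, hs, hs1⟩ := hF
    have hx : pr (R i) ⟨t s, τ.normR hs⟩ ∈ TT τ := (mem_TT τ).2 ⟨s, hs, rfl⟩
    have h5 := T_reg b.toBT τ c.ne huA' hu1' hx (by rw [← huT _ hx, mul_inv_cancel_right])
    rw [pr_eq_one] at h5
    exact hs1 (t_notin b.toBT τ hs h5)
  omega

end final

end Cfsg.Agent.Omega.HOneQ.NoExc

end

-- merged: Cfsg.Agent.Mrg.Omega.CR.KDBT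
section

/-!
# II.0h1, SPLIT, `q ≥ 4`: the K-side data `KD` of `E = ⟨A^H⟩`, and the Frattini property

* `exists_kd_bt` : `KD (EE V R i j) (S ⊓ EE V R i j) HE (AA V R i j) (TT τ) w` from LAYER, `KTable`, `KPhi`;
* `frattini` : `N(R i) = Ê (N(R i) ∩ N(V))`.
-/

set_option autoImplicit false
set_option linter.unusedSectionVars false

namespace Cfsg.Agent.Omega.CR

open Subgroup Cfsg Cfsg.Agent.Omega.BTwo Cfsg.Agent.Omega.Lie Cfsg.Agent.Omega.Lie.Quot Cfsg.Agent.Omega.IIa4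
open Cfsg.Agent.Omega.HOneQ Cfsg.Agent.Omega.HOneQ.ECen Cfsg.Agent.Omega.HOneQ.Fr
open Cfsg.Agent.Omega.Lie.End Cfsg.Agent.Omega.Lie.End.OfLay

universe u v w

variable {G : Type u} [Group G] {ι : Type w} {V : Subgroup G} {R : ι → Subgroup G} {i j : ι}
  {F : Type v} [Field F] {vv : F → F → G} {w1 w2 t : F → G}
  [Finite G] [Finite F] [CharP F 2] (tab : KTable.{u}) (phi : KPhi.{u}) (b : BTS V R) (h4 : 4 ≤ Nat.card F)
  (hF : ∃ a : F, a ≠ 0 ∧ a ≠ 1) (c : Coord V R i j vv w1 w2) (τ : TorD V R i j vv t)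
  (hodd : Odd ((normalizer (V : Set G)).relIndex (normalizer (R i : Set G))))
  {S : Subgroup (HQ (R i))} (I : SylI τ S) (l : Lay V R i j (TT τ) S)

theorem met_mcomp (b : BT V R) (hij : i ≠ j) {K : Subgroup (HQ (R i))} (hK : Met V R i j K) : MComp V R i j K := by
  obtain ⟨x, hx, hxK, h⟩ := hK.not_cen b hij
  push Not at h
  obtain ⟨y, hy, hne⟩ := h
  exact ⟨hK.1.1, hK.1.2, x, hx, y, hy, hne⟩

include tab phi b h4 hF c hodd I l

/-- **The K-side data of `E`.** -/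
theorem exists_kd_bt (hUD : ¬ UU V R j ≤ DD V R) : ∃ (HE : Subgroup (HQ (R i))) (w : HQ (R i)),
    KD (EE V R i j) (S ⊓ EE V R i j) HE (AA V R i j) (TT τ) w := by
  classical
  have hinn := l.innC
  have hoddC := l.odd
  let κ := {K : Subgroup (HQ (R i)) // Met V R i j K}
  have : Fintype κ := Fintype.ofFinite κ
  have hE : EE V R i j = ⨆ K : κ, (K : Subgroup (HQ (R i))) := by
    have h1 := E_eq b hF c τ hodd hUD I hinn hoddC
    rw [iSup_subtype]
    exact h1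
  have hM : ∀ K : κ, MComp V R i j K := fun K => met_mcomp b.toBT c.ne K.2
  have key : ∀ K : κ, KDiag (S.subgroupOf (K : Subgroup (HQ (R i)))) (Tact (TT τ) (K : Subgroup (HQ (R i)))) := by
    intro K
    have hh := l.hyp K (hM K)
    obtain ⟨P, hP⟩ := exists_sylow hh.toPre
    have hT := tact_of_lay b.toBT τ c.ne h4 l (hM K)
    have h1 := kDiag_all tab phi K (hM K).1.2.1.commutator_eq_top (hM K).1.2.2 (odd_center (pCore_HQ (R i)) (hM K).1)
      (l.lie K (hM K)) P (Γ := Tact (TT τ) (K : Subgroup (HQ (R i)))) (by rw [hP]; exact hT)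
    rw [hP] at h1
    exact h1.resolve_right (NoExc.no_exc b hF c τ hodd hUD I hinn hoddC K.2 (T_le hh.toPre))
  have h1 := exists_kd (H := HQ (R i)) (K := fun K : κ => (K : Subgroup (HQ (R i)))) (S := S) (T0 := TT τ)
    (fun K L hKL x hx y hy => Layer.comm_of_ne (hM K).1 (hM L).1 (fun e => hKL (Subtype.ext e)) hx hy)
    (fun K => T_le (l.hyp K (hM K)).toPre) (odd_TT b.toBT τ) key I.S2 (A₁ := AA V R i j)
    (fun K h0 => by
      apply K.2.2
      rw [eq_bot_iff, ← h0]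
      exact fun x hx => ⟨hx.1, I.AS hx.1, hx.2⟩)
    (fun t ht s hs => I.ST t ht s hs)
    (fun n hn hnT a ha => by
      rw [← hE] at hn
      exact norm_A I b.toBT c.ne hF (S' := S ⊓ EE V R i j) (le_inf I.AS AA_le_EE) inf_le_left hn hnT ha)
  rw [← hE] at h1
  obtain ⟨HE, w, h2, -⟩ := h1
  exact ⟨HE, w, h2⟩

/-- **(Fr)**: `N(R i) = Ê (N(R i) ∩ N(V))`, `Ê` the preimage of `E = ⟨A^H⟩` -/
theorem frattini (hZ : ∃ z ∈ BTwo.ZZ V R j, z ∉ DD V R) {g : G} (hg : g ∈ normalizer (R i : Set G)) :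
    ∃ x ∈ lift (R i) (EE V R i j), x * g ∈ normalizer (V : Set G) := by
  obtain ⟨HE, w, k⟩ := exists_kd_bt tab phi b h4 hF c τ hodd I l (hUD_of hZ)
  exact Fr.frattini b hF c τ hodd hZ I l.innC l.odd k hg

end Cfsg.Agent.Omega.CR

end

-- merged: Cfsg.Agent.Mrg.Omega.HOne.KDT
section

/-!
# The split chain over a 2-group `T`: `KDT` (helper951) and `DT` (helper499)
-/

set_option autoImplicit false
set_option linter.unusedSectionVars false

namespace Cfsg.Agent.Omega.HOne.TLift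

open Subgroup Cfsg Cfsg.Agent.ZN Cfsg.Agent.Omega.MinPar Cfsg.Agent.Omega.Frame
open Cfsg.Agent.Omega.NatPair (NatMod)
open Cfsg.Agent.Omega.BTwo Cfsg.Agent.Omega.Lie Cfsg.Agent.Omega.Lie.Quot Cfsg.Agent.Omega.Lie.End
open Cfsg.Agent.Omega.HOneQ

universe u

/-- **`KDT`** -/
theorem kdT (tab : KTable.{u}) (phi : KPhi.{u}) : KDT.{u} := by
  intro G _ _ T F _ _ _ N M h hl i j v w1 w2 t c τ S I
  have l := hl i j v w1 w2 t c τ S I
  have hUD : ¬ UU N (pt M) j ≤ DD N (pt M) := by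
    obtain ⟨z, hz, h'⟩ := h.exists_ZZ' (i := i) (k := j) c.ne
    exact fun hle => h' (hle (zU_le j hz))
  exact CR.exists_kd_bt tab phi h.bts h.four h.exists_ne c τ (h.odd i) I l hUD

/-- **`DT`** -/
theorem dT : DT.{u} := by
  intro G _ _ T F _ _ _ N M h hl
  obtain ⟨i, j, hij⟩ := h.exists_pair
  obtain ⟨v, w1, w2, c⟩ := h.exists_coord hij
  obtain ⟨t, τ⟩ := h.exists_torD c
  obtain ⟨T₁, hT₁⟩ := h.exists_T i
  have I := h.sylI c τ hT₁
  have l := hl i j v w1 w2 t c τ _ I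
  exact DHof.dcx_ne h.bts h.exists_ne c τ (h.odd i) I l.innC l.odd h.CenX_ne

end Cfsg.Agent.Omega.HOne.TLift

end

-- merged: Cfsg.Agent.Mrg.Omega.HOneQ.ResFrat
section

/-!
# II.0h1, split, `q ≥ 4`, residues `(0, x)`, types `(sigma)` and `(beta)`: the field `frat`

* `QuadH.frat` : the field from `U_i ≤ [U, U] (U ∩ K)`, `K` the kernel of the residue (bare `BT V R`);
* `Sc.U_le_frat` : `U_i ≤ [U, U] (U ∩ K)` (node data `Sc`, `SigL`, `Lin`, `linJ`);
* `Sc.frat` : **the field `frat`** of `Res0`;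

-/

set_option autoImplicit false
set_option linter.unusedSectionVars false

namespace Cfsg.Agent.Omega.HOneQ

open Subgroup Cfsg.Agent.Omega.BTwo Cfsg.Agent.ParSys
open Cfsg.Agent.Omega.Lie (TorD)
open Cfsg.Agent.Omega.Lie.Nodes (NodeX QPx)
open scoped commutatorElement

universe u v w

variable {G : Type u} [Group G] {ι : Type w} {V : Subgroup G} {R : ι → Subgroup G} {i j : ι}
  {B U Px V' Q O S T : Subgroup G} {z ρ m0 : G}

/-- **The field `frat`** from `U_i ≤ [U, U] (U ∩ K)` -/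
theorem QuadH.frat [Finite G] (b : BT V R) (h : QuadH V R i j B U Px V') (A : AptH V R i j Q O S T V' z ρ m0)
    (hQ : Q ≤ Px) (hO : UU V R i ≤ ⁅U, U⁆ ⊔ (U ⊓ Qk B (Px ⊔ Lie.Zero.P0 V R B))) :
    ∀ X ≤ U, (∀ u ∈ U, ∃ y ∈ X, y⁻¹ * u ∈ Qk B Px ∧ y⁻¹ * u ∈ Qk B (Lie.Zero.P0 V R B)) →
      ∀ u ∈ U, ∃ y ∈ X, y⁻¹ * u ∈ Qk B (Px ⊔ Lie.Zero.P0 V R B) := by
  let P : Unit → Subgroup G := fun _ => Px
  have poly : Polygon B (Lie.End.PPo V R B P) none (some ()) 4 := h.poly b A hQ rfl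
  obtain ⟨n0, m, hn, hn0, hm, hmV, -, -, trD⟩ := A.exists_swap b
  have hmP : m ∈ Px := hQ hm
  have hn0P : n0 ∈ Lie.Zero.P0 V R B := (le_sup_left : XX V R ≤ _) hn
  have hn0B : n0 ∉ B := (Lie.Zero.not_mem_B_iff b h.dat hn0P).2 ⟨j, h.ne.symm, hn0⟩
  have hmB : m ∉ B := fun hB => h.V'_ne b (by rw [← hmV, cj_eq_self_iff.2 (h.dat.BV hB)])
  have hn0B' : n0⁻¹ ∉ B := fun h1 => hn0B (inv_mem_iff.1 h1)
  have hji : cj n0⁻¹ (R j) = R i := by rw [← hn0, cj_inv_cj]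
  have hUiU : UU V R i ≤ U := (UU_le_YY i).trans h.X.YU
  have hfr := frat_of_cover (p := 2) (P := Lie.End.PPo V R B P) (a := none) (b := some ()) (U := U)
    (O := UU V R i) (B := B) (le_sup_right : B ≤ Lie.Zero.P0 V R B) h.dat.UB h.X.isP hUiU ?_
    (by
      change UU V R i ≤ ⁅U, U⁆ ⊔ (U ⊓ Qk B (Lie.Zero.P0 V R B ⊔ Px))
      rw [sup_comm (Lie.Zero.P0 V R B)]
      exact hO)
  · intro X hX h1 u hu
    obtain ⟨y, hy, h2⟩ := hfr X hX (fun u hu => by
      obtain ⟨y, hy, h2, h3⟩ := h1 u hu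
      exact ⟨y, hy, h3, h2⟩) u hu
    refine ⟨y, hy, ?_⟩
    have h3 : y⁻¹ * u ∈ Qk B (Lie.Zero.P0 V R B ⊔ Px) := h2
    rwa [sup_comm] at h3
  · refine poly.cover_four (U2 := UU V R j) (n := n0⁻¹) (y := m) (z := n0) (le_sup_right : B ≤ Lie.Zero.P0 V R B)
      h.X.le h.dat.UB (mem_U_of_conj (p := 2) h.X.norm h.X.isP h.X.index) (Lie.Zero.reg b h.dat) h.X.reg
      (inv_mem hn0P) hn0B' hmP hmB hn0P hn0B hUiU
      ((UU_le_WW i).trans (Lie.Nodes.W_le_Qx (P := P) (x := ()) h.dat h.X)) ?_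
      (fun y hy hyB => h.tb b hmP hmV hy hyB) ?_
    · intro u hu
      rw [← b.cj_UU (b.X_le_NV (inv_mem hn)) hji]
      exact conj_mem_cj hu
    · intro z' hz' hz'B
      have hz'' : z' ∈ Lie.Zero.P0 V R B := hz'
      obtain ⟨k', hk', ek'⟩ := (Lie.Zero.not_mem_B_iff b h.dat hz'').1 hz'B
      obtain ⟨d, hd, ed⟩ := trD k' hk'
      refine ⟨d, b.D_le_U j hd, ?_⟩
      have e1 : (d * m * n0)⁻¹ * (m * z') = n0⁻¹ * (m⁻¹ * d * m)⁻¹ * z' := by group
      rw [e1]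
      have hw : m⁻¹ * d * m ∈ WW V (R i) :=
        BTwo.conj_inv_mem_of_normalizer (normalizer_le_WW V (R i) (h.X.PR hmP)) (D_le_W V R i hd)
      refine Lie.Zero.mem_B b h.dat (mul_mem (mul_mem (inv_mem hn0P)
        (inv_mem ((le_sup_left : XX V R ≤ _) (W_le_X V R i hw)))) hz'') ?_
      have h5 : cj (m⁻¹ * d * m) (R j) = R k' := by
        rw [cj_mul, cj_mul, ed, cj_inv_cj]
      rw [← cj_eq_self_iff, cj_mul, cj_mul, ek', ← h5, cj_inv_cj, hji]

variable {P : Subgroup G} {F : Type v} [Field F] {vv : F → F → G} {t : F → G} {w1 w2 : F → G}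

namespace Sc

variable {p' : G} (s : Sc V R i j vv t P p') (b : BTS V R) (τ : TorD V R i j vv t) {m : G} (sw : Sw V R i j t m)
  (c : Coord V R i j vv w1 w2)
include s b τ sw c

/-- `P_x` normalises `Sh` -/
theorem Px_norm_Sh [Finite G] (K : QPx V R i B U Px P) : Px ≤ normalizer (Sh V R P : Set G) := by
  intro x hx
  obtain ⟨z, hz, hzx⟩ := K.exists_mul hx
  have e : x = z * (z⁻¹ * x) := by group
  rw [e]
  exact mul_mem (P_norm_Sh hz) (norm_Sh b.toBT (K.BQ hzx) (K.dat.BV hzx))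

/-- **`U_i ≤ [U, U] (U ∩ K)`** -/
theorem U_le_frat [Finite G] [Finite F] (hXV : XX V R ⊓ centralizer (V : Set G) ≤ YY V R) (L : SigL V R i j P)
    (lin : Lin V R i P vv m p')
    (linJ : ∀ w ∈ W0 V R i P, ∃ ρ : F, ∀ y z r s', KX V R P vv m w (p' * vv y z * p'⁻¹) r s' → s' = z * ρ)
    {a : F} (ha : a ≠ 0) (ha1 : a ≠ 1) (K : QPx V R i B U Px P) :
    UU V R i ≤ ⁅U, U⁆ ⊔ (U ⊓ Qk B (Px ⊔ Lie.Zero.P0 V R B)) := by
  have hF : ∃ a : F, a ≠ 0 ∧ a ≠ 1 := ⟨a, ha, ha1⟩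
  have hWU : WW V (R i) ≤ U := K.dat.WU
  have hUjU : UU V R j ≤ U := (UU_le_YY j).trans K.X.YU
  have hUiU : UU V R i ≤ U := (UU_le_YY i).trans K.X.YU
  have hVT : V ≤ Sh V R P := (V_le_WN V P).trans (WN_le_S0.trans S0_le_Sh)
  have hPx := s.Px_norm_Sh b τ sw c K
  set Φ : Subgroup G := ⁅U, U⁆ ⊔ (U ⊓ Qk B (Px ⊔ Lie.Zero.P0 V R B)) with hΦ
  have hcΦ : ∀ u ∈ U, ∀ w ∈ U, u * w * u⁻¹ * w⁻¹ ∈ Φ := fun u hu w hw =>
    Subgroup.mem_sup_left (commutator_mem_commutator hu hw)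
  have hKΦ : ∀ z ∈ U, z ∈ centralizer (Sh V R P : Set G) → z ∈ Φ := by
    intro z hz hzS
    refine Subgroup.mem_sup_right (mem_inf.2 ⟨hz, ?_⟩)
    let P' : Bool → Subgroup G := fun q => if q then Lie.Zero.P0 V R B else Px
    have h1 := Lie.Nodes.cen_le_Qk_res (P := P') (o := true) (x := false) b.toBT K.dat rfl K.X hVT L.X_norm hPx hz hzS
    have h2 : z ∈ Qk B (Lie.Zero.P0 V R B ⊔ Px) := h1
    rwa [sup_comm] at h2
  have hVΦ : V ≤ Φ := by
    intro z hz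
    refine hKΦ z (hWU (V_le_WW V (R i) hz)) ?_
    rw [mem_centralizer_iff]
    exact fun g hg => L.Sh_comm hg (hVT hz)
  have htX : t a ∈ XX V R := τ.memX a ha
  have htB : t a ∈ B := K.dat.XB (mem_inf.2 ⟨htX, τ.normR ha⟩)
  have htU := K.X.norm htB
  have htΦ : ∀ z ∈ Φ, t a * z * (t a)⁻¹ ∈ Φ := by
    have h1 : Φ ≤ Φ.comap (MulAut.conj (t a)).toMonoidHom := by
      refine sup_le ?_ fun z hz => ?_
      · rw [commutator_le]
        intro u hu w hw
        show t a * ⁅u, w⁆ * (t a)⁻¹ ∈ Φ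
        have e1 : t a * ⁅u, w⁆ * (t a)⁻¹ = ⁅t a * u * (t a)⁻¹, t a * w * (t a)⁻¹⁆ := by
          rw [commutatorElement_def, commutatorElement_def]; group
        rw [e1]
        exact Subgroup.mem_sup_left (commutator_mem_commutator (BTwo.conj_mem_of_normalizer htU hu)
          (BTwo.conj_mem_of_normalizer htU hw))
      · show t a * z * (t a)⁻¹ ∈ Φ
        obtain ⟨hz1, hz2⟩ := mem_inf.1 hz
        exact Subgroup.mem_sup_right (mem_inf.2 ⟨BTwo.conj_mem_of_normalizer htU hz1,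
          Qk_conj' hz2 ((le_sup_left : Px ≤ _) (K.X.le htB))⟩)
    exact fun z hz => h1 hz
  have hΦU : Φ ≤ U := sup_le (commutator_le.2 fun p hp r hr =>
    mul_mem (mul_mem (mul_mem hp hr) (inv_mem hp)) (inv_mem hr)) inf_le_left
  have hNorm : ∀ u ∈ U, ∀ z ∈ Φ, u * z * u⁻¹ ∈ Φ := fun u hu z hz => by
    have h2 := mul_mem (hcΦ u hu z (hΦU hz)) hz
    rwa [inv_mul_cancel_right] at h2
  refine le_of_tau (W0 := W0 V R i P) (D := DD V R) (t := t a) htΦ ?_ ?_ W0_le_U ?_ ?_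
  · -- duality
    have h1 : UU V R i ≤ Φ ⊔ W0 V R i P := by
      obtain ⟨M, _, _, p, mz⟩ := Cfsg.Agent.Omega.HOne.ModZ.exists_MZ b.toBT i
      obtain ⟨_, f, e, ω, σ, κ, q⟩ := mz.exists_fq hF b.toBT c τ
      exact NodeQ.U_le_dual q c s.toNd b.toBT
        (fun u hu w hw => Subgroup.mem_sup_left (hcΦ u (hUjU hu) w (hWU hw))) le_sup_right
        fun x hx h => s.WN_fix b τ hF hx h
    have hn : W0 V R i P ≤ normalizer (Φ : Set G) :=
      le_normalizer_of fun z hz t ht => hNorm z (hUiU (W0_le_U hz)) t ht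
    intro z hz
    have h2 : z ∈ ((Φ ⊔ W0 V R i P : Subgroup G) : Set G) := h1 hz
    rw [coe_mul_of_right_le_normalizer_left _ _ hn] at h2
    obtain ⟨p, hp, r, hr, e1⟩ := h2
    exact ⟨p, hp, r, hr, e1.symm⟩
  · exact Lie.Nodes.U_le_D b.toBT c fun w hw u hu => hcΦ w (hWU hw) u (hUjU hu)
  · exact fun d hd => hVΦ (b.XD htX hd)
  · intro w hw
    obtain ⟨w', hw', h3, h4⟩ := s.exists_W0 b τ sw c hXV L lin linJ ha ha1 hw
    exact ⟨w', hw', hKΦ _ (hWU h3) h4⟩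

/-- **The field `frat`** of the residue `(0, x)`, types `(sigma)` and `(beta)` -/
theorem frat [Finite G] [Finite F] (hXV : XX V R ⊓ centralizer (V : Set G) ≤ YY V R) (L : SigL V R i j P)
    (lin : Lin V R i P vv m p')
    (linJ : ∀ w ∈ W0 V R i P, ∃ ρ : F, ∀ y z r s', KX V R P vv m w (p' * vv y z * p'⁻¹) r s' → s' = z * ρ)
    (hF : ∃ a : F, a ≠ 0 ∧ a ≠ 1) (K : QPx V R i B U Px P) (A : AptH V R i j Q O S T (cj p' V) z ρ m0) (hQ : Q ≤ Px) :
    ∀ X ≤ U, (∀ u ∈ U, ∃ y ∈ X, y⁻¹ * u ∈ Qk B Px ∧ y⁻¹ * u ∈ Qk B (Lie.Zero.P0 V R B)) →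
      ∀ u ∈ U, ∃ y ∈ X, y⁻¹ * u ∈ Qk B (Px ⊔ Lie.Zero.P0 V R B) := by
  obtain ⟨a, ha, ha1⟩ := id hF
  exact (s.quadH b τ hF K).frat b.toBT A hQ (s.U_le_frat b τ sw c hXV L lin linJ ha ha1 K)

end Sc

end Cfsg.Agent.Omega.HOneQ

end

-- merged: Cfsg.Agent.Mrg.Omega.HOneQ.GamH
section

/-!
# II.0h1, split, `q ≥ 4`: there is no node of type `(γ)` (#17641 (5))

* `reg_of_gam` : a node of type `(γ)` is regular (BT version of helper988's `hreg_of_gam`);
* **`not_gamT`** : with helper678's `uniq_of_reg`, `false_of_unique`.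
-/

set_option autoImplicit false
set_option linter.unusedSectionVars false

namespace Cfsg.Agent.Omega.HOneQ.GamH

open Subgroup Cfsg Cfsg.Agent.ParSys Cfsg.Agent.Omega.BTwo Cfsg.Agent.Omega.Lie Cfsg.Agent.Omega.Lie.Quot
open Cfsg.Agent.Omega.IIa4 Cfsg.Agent.Omega.Lie.End.OfLay Cfsg.Agent.Omega.Lie.End
open Cfsg.Agent.Omega.HOne Cfsg.Agent.Omega.HOne.ModZ

universe u v w

variable {G : Type u} [Group G] {ι : Type w} {V : Subgroup G} {R : ι → Subgroup G} {i j : ι} {F : Type v} [Field F]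
  {v : F → F → G} {w1 w2 t : F → G}

/-- `pr x ∈ im N(V)` iff `x ∈ N(V)` -/
theorem mem_E0 (b : BT V R) {x : G} (hx : x ∈ normalizer (R i : Set G)) :
    pr (R i) ⟨x, hx⟩ ∈ im (R i) (normalizer (V : Set G)) ↔ x ∈ normalizer (V : Set G) :=
  pr_mem_im_iff (b.Q_le_NV i) hx

/-- **type `(γ)` is regular** -/
theorem reg_of_gam (b : BT V R) (c : Coord V R i j v w1 w2)
    {S' B' P' : Subgroup (HQ (R i))} (hptr : Hall.HallData.PTr B' S' P')
    (hS : S' ≤ im (R i) (normalizer (V : Set G))) (hB : B' ≤ im (R i) (normalizer (V : Set G))) {p : G}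
    (hp : p ∈ normalizer (R i : Set G)) (hpP : pr (R i) ⟨p, hp⟩ ∈ P')
    (hpV : ∃ x ∈ V, ∃ y ∈ V, p * x * p⁻¹ * y ≠ y * (p * x * p⁻¹)) {u g : G} (hu : u ∈ UU V R j)
    (hg : g ∈ normalizer (R i : Set G)) (hgP : pr (R i) ⟨g, hg⟩ ∈ P') (hgV : g ∉ normalizer (V : Set G))
    (hug : g⁻¹ * u * g ∈ normalizer (V : Set G)) : u ∈ DD V R := by
  have hpE : pr (R i) ⟨p, hp⟩ ∉ im (R i) (normalizer (V : Set G)) := by
    rw [mem_E0 b]
    intro h
    obtain ⟨x, hx, y, hy, hxy⟩ := hpV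
    exact hxy (b.V_comm _ (BTwo.conj_mem_of_normalizer h hx) y hy)
  have hgE : pr (R i) ⟨g, hg⟩ ∉ im (R i) (normalizer (V : Set G)) := by rwa [mem_E0 b]
  obtain ⟨s, hs, d, hd, hsd⟩ := hptr _ hpP (fun h => hpE (hB h)) _ hgP (fun h => hgE (hB h))
  obtain ⟨s, hsN, rfl⟩ := exists_pr s
  obtain ⟨d, hdN, rfl⟩ := exists_pr d
  have hsV := (mem_E0 b hsN).1 (hS hs)
  have hdV := (mem_E0 b hdN).1 (hB hd)
  have hgN : s * p * d ∈ normalizer (R i : Set G) := mul_mem (mul_mem hsN hp) hdN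
  -- `g = s p d q`, `q ∈ Q_i ≤ N(V)`
  have h0 : (s * p * d)⁻¹ * g ∈ normalizer (V : Set G) := by
    have h1 : pr (R i) ⟨s * p * d, hgN⟩ = pr (R i) ⟨g, hg⟩ := hsd.symm
    exact b.Q_le_NV i ((pr_eq_pr hgN hg).1 h1)
  have h1 : (s * p * d)⁻¹ * u * (s * p * d) ∈ normalizer (V : Set G) := by
    have h2 := mul_mem (mul_mem h0 hug) (inv_mem h0)
    have e : (s * p * d)⁻¹ * g * (g⁻¹ * u * g) * ((s * p * d)⁻¹ * g)⁻¹ = (s * p * d)⁻¹ * u * (s * p * d) := by group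
    rwa [e] at h2
  refine GamOf.mem_D_of_norm b c hgN ?_ hu h1
  obtain ⟨x, hx, y, hy, hxy⟩ := hpV
  have hd' := BTwo.conj_mem_of_normalizer (inv_mem hdV) hx
  rw [inv_inv] at hd'
  refine ⟨d⁻¹ * x * d, hd', s * y * s⁻¹, BTwo.conj_mem_of_normalizer hsV hy, fun h3 => hxy ?_⟩
  have e1 : s * p * d * (d⁻¹ * x * d) * (s * p * d)⁻¹ * (s * y * s⁻¹) = s * (p * x * p⁻¹ * y) * s⁻¹ := by group
  have e2 : s * y * s⁻¹ * (s * p * d * (d⁻¹ * x * d) * (s * p * d)⁻¹) = s * (y * (p * x * p⁻¹)) * s⁻¹ := by group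
  rw [e1, e2] at h3
  exact mul_left_cancel (mul_right_cancel h3)

variable {S : Subgroup (HQ (R i))} {α : Type} {K : α → Subgroup (HQ (R i))} {J : α → Type}
  {P : ∀ a, J a → Subgroup (K a)} {m : ∀ a, J a → J a → ℕ}

/-- **No node of type `(γ)`** -/
theorem not_gamT [Finite G] [Finite α] [Finite F] [CharP F 2] (b : BTS V R) (c : Coord V R i j v w1 w2)
    (τ : TorD V R i j v t) (h4 : 4 ≤ Nat.card F) (hF : ∃ a : F, a ≠ 0 ∧ a ≠ 1)
    (hodd : Odd ((normalizer (V : Set G)).relIndex (normalizer (R i : Set G))))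
    (hz : ∃ z ∈ ZZ V R j, z ∉ DD V R) (D : RS V R i j (TT τ) S K J P m) (hone : ∀ a, OneL (K a) (J a))
    (hNV : ∀ (g : G) (hg : g ∈ normalizer (R i : Set G)),
      pr (R i) ⟨g, hg⟩ ∈ normalizer (AA V R i j : Set (HQ (R i))) → g ∈ normalizer (V : Set G))
    (x : Σ a, J a) : ¬ GamT V (PG K (TT τ) S P x) := by
  intro hg
  have hij : i ≠ j := c.ne
  have hNV' : ∀ g (hg : g ∈ normalizer (R i : Set G)),
      (∀ a ∈ AA V R i j, pr (R i) ⟨g, hg⟩ * a * (pr (R i) ⟨g, hg⟩)⁻¹ ∈ AA V R i j) →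
        g ∈ normalizer (V : Set G) := fun g hg h => hNV g hg (mem_normalizer_of_conj fun a ha => h a ha)
  obtain ⟨p, hp, hpV⟩ := hg
  obtain ⟨hpN, hpP⟩ := mem_up.1 hp
  have hCE := D.CC_le_E0 hNV
  have hpre := D.psit.pre
  have hx : ¬ PG K (TT τ) S P x ≤ normalizer (V : Set G) := by
    intro h
    obtain ⟨y, hy, z, hz, hne⟩ := hpV
    exact hne (b.V_comm _ (BTwo.conj_mem_of_normalizer (h hp) hy) z hz)
  have huniq := OneNode.uniq_of_reg b.toBT τ hij h4 D hNV' x hx fun u hu g hg hgV hug => by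
    obtain ⟨hgN, hgP⟩ := mem_up.1 hg
    exact reg_of_gam b.toBT c (hpre.ptr x) ((hpre.U_le).trans hCE) hCE hpN hpP hpV hu hgN hgP hgV hug
  obtain ⟨M, _, _, p, mz⟩ := exists_MZ b.toBT i
  obtain ⟨_, f, e, ω, σ, κ, q⟩ := mz.exists_fq hF b.toBT c τ
  obtain ⟨N, _, _, P1, P2, y⟩ := c.exists_yPair b.toBT
  exact OneNode.false_of_unique q b c τ y hF h4 hodd hz D hone hNV' huniq

end Cfsg.Agent.Omega.HOneQ.GamH

end

-- merged: Cfsg.Agent.Mrg.Omega.HOneQ.GaT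
section

/-!
# `GaT` (helper493's `not_gamT` at the `SitT` socket)
-/

namespace Cfsg.Agent.Omega.HOneQ.GaT

open Cfsg.Agent.Omega.HOne

universe u

theorem gaT : TLift.GaT.{u} := by
  intro G _ _ T F _ _ _ N M h _ _ hNV i j v w1 w2 t c τ _ n C J Q m _ _ D hone x
  exact HOneQ.GamH.not_gamT h.bts c τ h.four h.exists_ne (h.odd i) (h.exists_ZZ' c.ne) D hone
    (hNV i j c.ne) x

end Cfsg.Agent.Omega.HOneQ.GaT

end

-- merged: Cfsg.Agent.Omega.Lie.Out.Suz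
section

/-!
# `OutNil` for the Suzuki groups
-/

set_option autoImplicit false

namespace Cfsg.Agent.Omega.Lie.OutT

/-- **`Sz(2^(2m+1))`.** -/
theorem outNil_suz {K : Type*} [Group K] (h : Cfsg.Lie.IsoSuzuki K) : OutNil K := by
  have hfin : Finite K := by
    obtain ⟨F, _, _, m, -, -, ⟨e⟩⟩ := h
    classical
    exact Finite.of_equiv _ e.symm.toEquiv
  obtain ⟨F, _, _, m, hm, hF, ⟨R⟩⟩ := Cfsg.Agent.ThreePrime.SzRel.exists_rel h
  rw [outNil_iff]
  intro X T c x hx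
  obtain ⟨j, hj⟩ := R.inner hm hF x ⟨1, by rw [pow_one, pow_two]; exact c.sq x hx⟩
  exact ⟨j, hj.symm⟩

end Cfsg.Agent.Omega.Lie.OutT

end

-- merged: Cfsg.Agent.Mrg.Omega.Lie.OutSys
section

section


/-!
# `OutNil` for the simply laced groups of characteristic two and for `F₄(q)`, `q` even

* `outNil_of_isSLC` : `PSL_n` (`n ≥ 4`), `PΩ⁺_{2n}` (`n ≥ 4`, the triality case included), `E₆, E₇, E₈`;
* `outNil_F4`.
-/

set_option autoImplicit false
set_option linter.unusedSectionVars false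

namespace Cfsg.Agent.Omega.Lie.OutSys

open Cfsg
open CoxeterSystem Cfsg.Agent.ChevalleyStructure.CoxeterGeom Cfsg.Agent.Tits.Roots Cfsg.Agent.Tits.Core
  Cfsg.Agent.Nodes.Reps Cfsg.Agent.Nodes.BNOf Cfsg.Agent.Nodes.RGDLib Cfsg.Agent.KFacts.SLRow.Def
  Cfsg.Agent.KFacts.ChevTwo Cfsg.Agent.KFacts.SLRow.Diag Cfsg.Agent.KFacts.SLRow.Row Cfsg.Agent.KFacts.SysFree
  Cfsg.Agent.Omega.Lie.OutT Cfsg.Agent.KFacts
open Cfsg.Lie Cfsg.Agent.ChevalleyStructure Cfsg.Agent.ChevalleyStructure.CoxeterGeomTypes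
  Cfsg.Agent.Nodes Cfsg.Agent.Nodes.RGDChev Cfsg.Agent.Nodes.KindF

universe u v

/-- If `X` is contained in `N ⟨g⟩`, then `X ≤ N`. -/
theorem le_of_cyclic {B : Type*} [Group B] [Finite B] {X T : Subgroup B} (c : Cfg X T) {N : Subgroup B} [hn : N.Normal]
    {g : B} (h : ∀ x ∈ X, ∃ m : ℤ, ∃ n ∈ N, x = n * g ^ m) : X ≤ N := by
  refine c.le_of_two' fun x hx y hy hxN hyN => ?_
  let π : B →* B ⧸ N := QuotientGroup.mk' N
  have hπ : ∀ b, π b = 1 ↔ b ∈ N := fun b => QuotientGroup.eq_one_iff b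
  obtain ⟨m, a, ha, e1⟩ := h x hx
  obtain ⟨k, b, hb, e2⟩ := h y hy
  have hx1 : π x = π g ^ m := by rw [e1, map_mul, (hπ a).2 ha, one_mul, map_zpow]
  have hy1 : π y = π g ^ k := by rw [e2, map_mul, (hπ b).2 hb, one_mul, map_zpow]
  have hx2 : π g ^ (2 * m) = 1 := by
    rw [two_mul, zpow_add, ← hx1, ← map_mul, c.sq x hx, map_one]
  have hy2 : π g ^ (2 * k) = 1 := by
    rw [two_mul, zpow_add, ← hy1, ← map_mul, c.sq y hy, map_one]
  have hx3 : π g ^ m ≠ 1 := by rw [← hx1]; exact fun h0 => hxN ((hπ x).1 h0)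
  have hy3 : π g ^ k ≠ 1 := by rw [← hy1]; exact fun h0 => hyN ((hπ y).1 h0)
  rw [← hπ, map_mul, hx1, hy1, ← zpow_add, ← orderOf_dvd_iff_zpow_eq_one]
  rw [← orderOf_dvd_iff_zpow_eq_one] at hx2 hy2
  rw [Ne, ← orderOf_dvd_iff_zpow_eq_one] at hx3 hy3
  obtain ⟨r, hr⟩ := hx2
  obtain ⟨s, hs⟩ := hy2
  have hro : ¬ (2 : ℤ) ∣ r := by
    rintro ⟨r', rfl⟩
    apply hx3
    refine ⟨r', ?_⟩
    have : (2 : ℤ) * m = 2 * ((orderOf (π g) : ℤ) * r') := by rw [hr]; ring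
    omega
  have hso : ¬ (2 : ℤ) ∣ s := by
    rintro ⟨s', rfl⟩
    apply hy3
    refine ⟨s', ?_⟩
    have : (2 : ℤ) * k = 2 * ((orderOf (π g) : ℤ) * s') := by rw [hs]; ring
    omega
  have hrs : (2 : ℤ) ∣ r + s := by omega
  obtain ⟨w, hw⟩ := hrs
  refine ⟨w, ?_⟩
  have : (2 : ℤ) * (m + k) = 2 * ((orderOf (π g) : ℤ) * w) := by
    have h1 : (2 : ℤ) * (m + k) = (orderOf (π g) : ℤ) * (r + s) := by rw [mul_add, hr, hs]; ring
    rw [h1, hw]; ring
  omega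

/-- **The simply laced groups.** -/
theorem outNil_of_isSLC {q l : ℕ} {M : CoxeterMatrix (Fin l)} {L : Type v} [Group L] [Finite L]
    (hK : IsSLC q M L) : OutNil L := by
  obtain ⟨A, h, T₀, n, X₀, F, _, _, _, e, hW, rfl, hM, D, S⟩ := hK
  have hI : Nonempty (Fin l) := by
    rw [← Fintype.card_pos_iff]
    have := D.three
    omega
  have H : Hyp M.toCoxeterSystem h T₀ X₀ := hyp_of_SL (R := D.rgd) D.gen D.cent (fun J hJ hJ1 => by
    obtain ⟨i, hi, j, hj, hij⟩ := D.irr J hJ (Set.nonempty_compl.2 hJ1)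
    exact ⟨i, hi, j, hj, hij⟩) D.h4 D.h6
  obtain ⟨o, ho⟩ := exists_isOut S H
  rw [outNil_iff]
  intro X T c x hx
  -- diagram symmetries
  have hsym : ∀ α i j, M ((o α).1 i) ((o α).1 j) = M i j := by
    intro α i j
    obtain ⟨y, β, -, B⟩ := ho.rep α
    exact (Reindex.matrix_eq h h (e := (o α).1) (fun i j => (B.cartan i j).symm) i j).symm
  have h1 : o x = 1 := by
    have hX : X ≤ o.ker := by
      refine c.le_of fun x hx t ht => ?_
      rw [MonoidHom.mem_ker, map_mul, map_mul, map_mul, map_inv, map_inv]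
      refine Prod.ext ?_ ?_
      · -- the diagram part
        show (o x).1⁻¹ * ((o t).1 * (o x).1 * (o t).1⁻¹) = 1
        rw [inv_mul_eq_one]
        by_cases h0 : (o x).1 = 1
        · rw [h0]; group
        have hP : IsPGroup 2 ↥(X.map ((MonoidHom.fst _ _).comp o)) := by
          have h2 : IsPGroup 2 ↥X := fun x => ⟨1, by
            rw [pow_one, pow_two]
            exact Subtype.ext (c.sq x x.2)⟩
          exact h2.map _
        refine hM _ hP ?_ _ ⟨x, hx, rfl⟩ _ ⟨t * x * t⁻¹, c.nrm t ht x hx, ?_⟩ h0 ?_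
        · rintro _ ⟨α, -, rfl⟩
          exact hsym α
        · show (o (t * x * t⁻¹)).1 = _
          rw [map_mul, map_mul, map_inv]
          rfl
        · intro h3
          apply h0
          have h4 : (o x).1 = (o t).1⁻¹ * ((o t).1 * (o x).1 * (o t).1⁻¹) * (o t).1 := by group
          rw [h4, h3, mul_one, inv_mul_cancel]
      · show (o x).2⁻¹ * ((o t).2 * (o x).2 * (o t).2⁻¹) = 1
        rw [StdRank2.OutField.comm (o t).2 (o x).2, mul_inv_cancel_right, inv_mul_cancel]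
    exact hX hx
  obtain ⟨y, hy⟩ := ho.ker x 1 (by rw [pow_one, pow_two]; exact c.sq x hx) h1
  exact ⟨y, hy.symm⟩

section F4

variable (K : Type u) [Field K] [Finite K] [CharP K 2]

theorem conj_injective {L : Type*} [Group L] (hZ : Subgroup.center L = ⊥) :
    Function.Injective (MulAut.conj : L →* MulAut L) := by
  rw [injective_iff_map_eq_one]
  intro a ha
  have h1 : a ∈ Subgroup.center L := by
    rw [Subgroup.mem_center_iff]
    intro b
    have h2 : MulAut.conj a b = b := by rw [ha]; rfl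
    rw [MulAut.conj_apply, mul_inv_eq_iff_eq_mul] at h2
    exact h2.symm
  rw [hZ, Subgroup.mem_bot] at h1
  exact h1

theorem eq_one_of_comm {L : Type*} [Group L] (hZ : Subgroup.center L = ⊥) {c : MulAut L}
    (hc : ∀ y, c * MulAut.conj y = MulAut.conj y * c) : c = 1 := by
  ext y
  apply conj_injective hZ
  have h1 : MulAut.conj (c y) = c * MulAut.conj y * c⁻¹ := by
    ext z
    simp
  show MulAut.conj (c y) = MulAut.conj y
  rw [h1, hc, mul_inv_cancel_right]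

/-- **`F₄(q)`, `q` even.** -/
theorem outNil_F4 : OutNil ↥(chevF4.group K) := by
  let cs := CoxeterMatrix.F₄.toCoxeterSystem
  have hW : Finite CoxeterMatrix.F₄.Group := finite_W isType cs
  have hp2 : Fact (Nat.Prime 2) := ⟨Nat.prime_two⟩
  have hZ : Subgroup.center ↥(chevF4.group K) = ⊥ := S1077.center_group_eq_bot (K := K) isType.inList
  let f : ↥(chevF4.group K) →* MulAut ↥(chevF4.group K) := MulAut.conj
  have hf : Function.Injective f := conj_injective hZ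
  have hG1 : RGD.Sup (F4Pair.XF K) {x | IsRoot cs isType.isCartan x} = ⊤ := G1_eq_top isType cs
  have R := rgd (K := K) isType cs 2
  obtain ⟨P, hP⟩ := RgdAutFacts.exists_sylow R (by rw [Bruhat.GG, hG1]; exact sup_top_eq _)
  have hfP : IsPGroup 2 ↥((P : Subgroup ↥(chevF4.group K)).map f) := P.2.map f
  obtain ⟨S, hS⟩ := hfP.exists_le_sylow
  -- `S ∩ Inn = f(U)`
  have hSf : ∀ y, f y ∈ S → y ∈ P := by
    intro y hy
    have h1 : P.1 ≤ (S : Subgroup (MulAut ↥(chevF4.group K))).comap f := by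
      intro z hz
      exact hS ⟨z, hz, rfl⟩
    have h2 : IsPGroup 2 ↥((S : Subgroup (MulAut ↥(chevF4.group K))).comap f) := S.2.comap_of_injective f hf
    have h3 := P.3 h2 h1
    have h4 : y ∈ (S : Subgroup (MulAut ↥(chevF4.group K))).comap f := hy
    rw [h3] at h4
    exact h4
  have hconj : ∀ (s : MulAut ↥(chevF4.group K)) y, s * f y * s⁻¹ = f (s y) := by
    intro s y
    ext z
    simp [f]
  have hSU : (S : Subgroup (MulAut ↥(chevF4.group K))) ≤ Subgroup.normalizer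
      (((RGD.Sup (F4Pair.XF K) (RGD.Pos cs isType.isCartan)).map f : Subgroup (MulAut ↥(chevF4.group K))) : Set _) := by
    rw [show RGD.Sup (F4Pair.XF K) (RGD.Pos cs isType.isCartan) = (P : Subgroup ↥(chevF4.group K)) from hP.symm]
    intro s hs
    have key : ∀ s ∈ S, ∀ g ∈ (P : Subgroup ↥(chevF4.group K)).map f, s * g * s⁻¹ ∈ (P : Subgroup ↥(chevF4.group K)).map f := by
      rintro s hs _ ⟨y, hy, rfl⟩
      rw [hconj]
      refine ⟨s y, hSf _ ?_, rfl⟩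
      rw [← hconj]
      exact mul_mem (mul_mem hs (hS ⟨y, hy, rfl⟩)) (inv_mem hs)
    rw [Subgroup.mem_normalizer_iff]
    intro g
    refine ⟨fun hg => key s hs g hg, fun hg => ?_⟩
    have h1 := key s⁻¹ (inv_mem hs) _ hg
    have h2 : s⁻¹ * (s * g * s⁻¹) * s⁻¹⁻¹ = g := by group
    rwa [h2] at h1
  obtain ⟨g, -, -, -, -, -, hgen⟩ := RgdGraphF4.gen_F4 (K := K) cs f hf S.2 (by
    intro s _
    rw [Subgroup.mem_normalizer_iff]
    intro z
    constructor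
    · rintro ⟨y, rfl⟩
      exact ⟨s y, (hconj s y).symm⟩
    · rintro ⟨y, hy⟩
      refine ⟨s⁻¹ y, ?_⟩
      rw [← hconj, hy]
      group) hSU (by
    rw [show RGD.Sup (F4Pair.XF K) (RGD.Pos cs isType.isCartan) = (P : Subgroup ↥(chevF4.group K)) from hP.symm]
    exact hS)
  rw [outNil_iff]
  intro X T c
  have h2 : IsPGroup 2 ↥X := fun x => ⟨1, by
    rw [pow_one, pow_two]
    exact Subtype.ext (c.sq x x.2)⟩
  obtain ⟨S', hS'⟩ := h2.exists_le_sylow
  obtain ⟨a, ha⟩ := MulAction.exists_smul_eq (MulAut ↥(chevF4.group K)) S' S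
  have hn : (MulAut.conj : ↥(chevF4.group K) →* MulAut ↥(chevF4.group K)).range.Normal := by
    constructor
    rintro _ ⟨y, rfl⟩ s
    exact ⟨s y, (hconj s y).symm⟩
  have c' := c.map (MulAut.conj a).toMonoidHom
  have h3 := le_of_cyclic c' (N := (MulAut.conj : ↥(chevF4.group K) →* MulAut ↥(chevF4.group K)).range) (g := g) (by
    rintro _ ⟨x, hx, rfl⟩
    have h4 : a * x * a⁻¹ ∈ S := by
      rw [← ha]
      exact ⟨x, hS' hx, rfl⟩
    obtain ⟨m, u, -, k, -, hk, e⟩ := hgen _ h4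
    refine ⟨m, f u, ⟨u, rfl⟩, ?_⟩
    rw [eq_one_of_comm hZ hk, mul_one] at e
    exact e)
  intro x hx
  have h4 : a * x * a⁻¹ ∈ (MulAut.conj : ↥(chevF4.group K) →* MulAut ↥(chevF4.group K)).range := h3 ⟨x, hx, rfl⟩
  have h5 := hn.conj_mem _ h4 a⁻¹
  have h6 : a⁻¹ * (a * x * a⁻¹) * a⁻¹⁻¹ = x := by group
  rwa [h6] at h5

end F4

/-! ### The rows -/

theorem outNil_E6 (K : Type) [Field K] [Finite K] [CharP K 2] : OutNil ↥(chevE6.group K) :=
  outNil_of_isSLC (isSLC_E6 K)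

theorem outNil_E7 (K : Type) [Field K] [Finite K] [CharP K 2] : OutNil ↥(chevE7.group K) :=
  outNil_of_isSLC (isSLC_E7 K)

theorem outNil_E8 (K : Type) [Field K] [Finite K] [CharP K 2] : OutNil ↥(chevE8.group K) :=
  outNil_of_isSLC (isSLC_E8 K)

theorem outNil_PSL {n : ℕ} (hn : 4 ≤ n) (K : Type) [Field K] [Finite K] [CharP K 2] :
    OutNil (Matrix.ProjectiveSpecialLinearGroup (Fin n) K) := by
  obtain ⟨m, rfl⟩ : ∃ m, n = m + 1 := ⟨n - 1, by omega⟩
  exact outNil_of_isSLC (isSLC_PSL (by omega) K)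

theorem outNil_OPlus {n : ℕ} (hn : 4 ≤ n) (K : Type) [Field K] [Finite K] [CharP K 2] :
    OutNil (POmega K (quadFormPlus n K)) := by
  obtain ⟨m, rfl⟩ : ∃ m, n = m + 2 := ⟨n - 2, by omega⟩
  exact outNil_of_isSLC (isSLC_OPlus (by omega) K)

end Cfsg.Agent.Omega.Lie.OutSys

end

section


/-!
# `OutNil` for `G₂(q)`, `F₄(q)`, `E₆(q)`, `E₇(q)`, `E₈(q)`, `q` even
-/

set_option autoImplicit false

namespace Cfsg.Agent.Omega.Lie.OutT

/-- **The exceptional Chevalley groups.** -/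
theorem outNil_exc {L : Type*} [Group L] (h : Cfsg.IsExceptionalChevChar 2 L) : OutNil L := by
  obtain ⟨F, _, _, _, h⟩ := h
  rcases h with ⟨h3, ⟨e⟩⟩ | ⟨⟨e⟩⟩ | ⟨⟨e⟩⟩ | ⟨⟨e⟩⟩ | ⟨⟨e⟩⟩
  · have hF : ∃ a : F, a ≠ 0 ∧ a ≠ 1 := by
      classical
      by_contra hcon
      push Not at hcon
      have h1 : (Finset.univ : Finset F) ⊆ {0, 1} := fun a _ => by
        by_cases ha : a = 0
        · simp [ha]
        · simp [hcon a ha]
      have h2 := Finset.card_le_card h1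
      rw [Finset.card_univ] at h2
      have h4 : ({0, 1} : Finset F).card ≤ 2 := Finset.card_le_two
      omega
    have := (Cfsg.Agent.S1055.result hF).1
    exact OutNil.of_equiv e.symm (OutRgd.outNil_G2 F)
  · have := (Cfsg.Agent.S1054.result (F := F) Cfsg.Lie.chevF4 (by simp)).1
    exact OutNil.of_equiv e.symm (OutRgd.outNil_F4 F)
  · have : Finite ↥(Cfsg.Lie.chevE6.group F) := inferInstance
    exact OutNil.of_equiv e.symm (OutSys.outNil_of_isSLC (KFacts.SLRow.Row.isSLC_E6 F))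
  · have : Finite ↥(Cfsg.Lie.chevE7.group F) := inferInstance
    exact OutNil.of_equiv e.symm (OutSys.outNil_of_isSLC (KFacts.SLRow.Row.isSLC_E7 F))
  · have : Finite ↥(Cfsg.Lie.chevE8.group F) := inferInstance
    exact OutNil.of_equiv e.symm (OutSys.outNil_of_isSLC (KFacts.SLRow.Row.isSLC_E8 F))

end Cfsg.Agent.Omega.Lie.OutT

end

end

-- merged: Cfsg.Agent.Mrg.Omega.Lie.OutTw
section

/-!
# `OutNil` for the twisted groups `²E₆(q)`, `³D₄(q)`, `²F₄(q)` of characteristic two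

`outNil_of_cyc2` : a group whose 2-groups of automorphisms are cyclic modulo inner automorphisms.
-/

set_option autoImplicit false
set_option linter.unusedSectionVars false

namespace Cfsg.Agent.Omega.Lie.OutTw

open Cfsg Cfsg.Lie Cfsg.Agent.Omega.Lie.OutT Cfsg.Agent.Omega.Lie.OutSys Cfsg.Agent.KFacts.OutCyc.Gen

universe u

/-- `Out L` with cyclic Sylow 2-subgroups -/
theorem outNil_of_cyc2 {L : Type*} [Group L] [Finite L] (h : Cyc2 L) : OutNil L := by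
  rw [outNil_iff]
  intro X T c
  have hX : IsPGroup 2 ↥X := fun x => ⟨1, by
    rw [pow_one, pow_two]
    exact Subtype.ext (c.sq x x.2)⟩
  obtain ⟨γ, -, h1⟩ := h X hX
  have hn : (MulAut.conj : L →* MulAut L).range.Normal := by
    constructor
    rintro _ ⟨y, rfl⟩ s
    refine ⟨s y, ?_⟩
    ext z
    simp
  have hfin : Finite (MulAut L) := inferInstance
  refine le_of_cyclic c (g := γ) fun x hx => ?_
  obtain ⟨k, y, rfl⟩ := h1 x hx
  exact ⟨k, γ ^ k * MulAut.conj y * (γ ^ k)⁻¹, hn.conj_mem _ ⟨y, rfl⟩ _, by group⟩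

theorem outNil_of_hom {L : Type*} [Group L] [Finite L]
    (h : ∀ P : Subgroup (MulAut L), IsPGroup 2 ↥P → ∃ (A : Type) (_ : Group A) (_ : IsCyclic A) (f : ↥P →* A),
      ∀ α : ↥P, f α = 1 → ∃ x, α.1 = MulAut.conj x) : OutNil L := outNil_of_cyc2 (cyc2_of_hom h)

variable {K : Type} [Field K] [Fintype K] [CharP K 2] {q : ℕ}

/-- **`²E₆(q)`** -/
theorem outNil_twE6 (hq : IsPrimePow q) (hK : Fintype.card K = q ^ 2) : OutNil ↥(twistedE6 K q) := by
  have : Fact (Nat.Prime 2) := ⟨Nat.prime_two⟩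
  refine outNil_of_hom fun P hP => ?_
  obtain ⟨f, hf⟩ := Cfsg.Agent.KFacts.TwESix.OutMain.exists_hom hq hK (MulEquiv.refl _) 2 hP
  exact ⟨K ≃+* K, inferInstance, Cfsg.Agent.LieRecognition.FieldSemilinear.isCyclic_ringAut K, f,
    fun α h => (hf α).1 h⟩

/-- **`³D₄(q)`** -/
theorem outNil_twD4 (hq : IsPrimePow q) (hK : Fintype.card K = q ^ 3) : OutNil ↥(twistedD4 K q) := by
  have : Fact (Nat.Prime 2) := ⟨Nat.prime_two⟩
  refine outNil_of_hom fun P hP => ?_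
  obtain ⟨f, hf⟩ := Cfsg.Agent.KFacts.TwDFour.Out.exists_hom hq hK (MulEquiv.refl _) 2 hP
  exact ⟨K ≃+* K, inferInstance, Cfsg.Agent.LieRecognition.FieldSemilinear.isCyclic_ringAut K, f,
    fun α h => (hf α).1 h⟩

/-- **`²F₄(q)`**, `q ≥ 8` -/
theorem outNil_twF4 {m : ℕ} (hm : 1 ≤ m) (hK : Fintype.card K = 2 ^ (2 * m + 1)) :
    OutNil ↥(twistedF4 K (2 ^ m)) := by
  obtain ⟨φ, hφ⟩ := Cfsg.Agent.ChevalleyStructure.TwF4.TwistedFix.exists_rln hK
  have hF : ∃ c : Kˣ, c ≠ 1 := by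
    have h1 : 1 < Nat.card Kˣ := by
      rw [Nat.card_units, Nat.card_eq_fintype_card, hK]
      have : 2 ^ 3 ≤ 2 ^ (2 * m + 1) := Nat.pow_le_pow_right (by norm_num) (by omega)
      omega
    have h2 : Nontrivial Kˣ := Finite.one_lt_card_iff_nontrivial.1 h1
    exact exists_ne 1
  rw [outNil_iff]
  intro X T c x hx
  obtain ⟨y, hy⟩ := Cfsg.Agent.KFacts.TwF4.OutTwo.inner (Cfsg.Agent.KFacts.TwF4.Inst.full hK hφ)
    (m := m) (by rw [Nat.card_eq_fintype_card, hK]) hF rfl (n := 1) (α := x)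
    (by rw [pow_one, pow_two]; exact c.sq x hx)
  exact ⟨y, hy.symm⟩

/-- every group of type `²E₆`, `³D₄` of characteristic two -/
theorem outNil_twisted {L : Type} [Group L] (h : IsTwistedE6D4Char 2 L) : OutNil L := by
  obtain ⟨K, _, _, _, q, hq, ⟨hK, ⟨e⟩⟩ | ⟨hK, ⟨e⟩⟩⟩ := h
  · exact (outNil_twE6 hq hK).of_equiv e.symm
  · exact (outNil_twD4 hq hK).of_equiv e.symm

end Cfsg.Agent.Omega.Lie.OutTw

end

-- merged: Cfsg.Agent.Mrg.Omega.Lie.Out.All
section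

/-!
# `OutNil` for the groups of Lie type in characteristic two and for the groups left over by `(ZS)`

`OutT.out` is the field `out` of `KRows`.
-/

set_option autoImplicit false

namespace Cfsg.Agent.Omega.Lie.OutT

open Cfsg

theorem charTwo_of_card {F : Type*} [Field F] [Fintype F] {a : ℕ} (h : Fintype.card F = 2 ^ a) :
    CharP F 2 := by
  obtain ⟨n, hp, hn⟩ := FiniteField.card F (ringChar F)
  have h1 : ringChar F ∣ 2 ^ a := by
    rw [← h, hn]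
    exact dvd_pow_self _ n.2.ne'
  have h2 : ringChar F = 2 := (Nat.prime_dvd_prime_iff_eq hp Nat.prime_two).1 (hp.dvd_of_dvd_pow h1)
  have h3 : CharP F (ringChar F) := inferInstance
  rwa [h2] at h3

/-- **`²F₄(q)`, `q ≥ 8`.** -/
theorem outNil_iso2F4 {L : Type*} [Group L] (h : Lie.Iso2F4 L) : OutNil L := by
  obtain ⟨K, _, _, m, hm, hK, ⟨e⟩⟩ := h
  have := charTwo_of_card hK
  exact (OutTw.outNil_twF4 hm hK).of_equiv e.symm

/-- **`²E₆(q)`, `³D₄(q)`.** -/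
theorem outNil_twisted {L : Type*} [Group L] (h : IsTwistedE6D4Char 2 L) : OutNil L := by
  obtain ⟨K, _, _, _, q, hq, ⟨hK, ⟨e⟩⟩ | ⟨hK, ⟨e⟩⟩⟩ := h
  · exact (OutTw.outNil_twE6 hq hK).of_equiv e.symm
  · exact (OutTw.outNil_twD4 hq hK).of_equiv e.symm

/-- **All groups of Lie type in characteristic two.** -/
theorem outNil {L : Type*} [Group L] (h : IsLieTypeChar 2 L) : OutNil L := by
  rcases h with h | h | h | h | h | h | h | h | ⟨-, h⟩ | ⟨-, h⟩ | ⟨h2, -⟩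
  · exact outNil_psl h
  · exact outNil_psp h
  · exact outNil_psu h
  · exact outNil_pOmegaOdd h
  · exact outNil_pOmegaPlus h
  · exact outNil_pOmegaMinus h
  · exact outNil_exc h
  · exact outNil_twisted h
  · exact outNil_suz h
  · exact outNil_iso2F4 h
  · exact absurd h2 (by norm_num)

universe u

/-- **The field `out` of `KRows`.** -/
theorem out (L : Type u) [Group L] [Finite L] (h : IsLieTypeChar 2 L ∨ KFacts.OutZS L) : OutNil L :=
  h.elim outNil outNil_outZS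

end Cfsg.Agent.Omega.Lie.OutT

end

-- merged: Cfsg.Agent.Mrg.Omega.HOne.StFour
section

/-!
# II.0h1, split, `q ≥ 4`: the chain over `T`, all sockets plugged

* `sbT : SBT` : the residues of types `(σ)` and `(β)` (helper976, 591, 759, 843, 811);
* `kdT' : KDT`, `kRows' : KRows`, `resT' : ResT`;
* **`out_of`** : `SitT T M → TSyl V R i T → ∃ G₀ U v, OutT T M i G₀ U v`;
* **`stFour_of`** : `Cut.StFour K` for every `K`.
-/

set_option autoImplicit false
set_option linter.unusedSectionVars false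

namespace Cfsg.Agent.Omega.HOne.StFour

open Subgroup Cfsg Cfsg.Agent.ParSys Cfsg.Agent.Omega.BTwo Cfsg.Agent.Omega.Lie Cfsg.Agent.Omega.Lie.Quot
open Cfsg.Agent.Omega.IIa4 Cfsg.Agent.Omega.Lie.End.OfLay Cfsg.Agent.Omega.Lie.End Cfsg.Agent.Omega.HOneQ
open Cfsg.Agent.Omega.NatPair (NatMod)
open Cfsg.Agent.Omega.HOne.TLift Cfsg.Agent.Omega.HOne.ResOf
open Cfsg.Agent.Omega.HOneQ.SylIOf (TSyl)

universe u

/-- **The residues of types `(σ)`, `(β)`** -/
theorem sbT : SBT.{u} := by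
  intro G _ _ T F _ _ _ N M h i j v w1 w2 t c τ n C J Q m S D hd x hm
  have b := h.bts
  have hF := h.exists_ne
  refine sbRes_of b c τ hF (h.odd i) D hd x hm ?_
  intro m p' sw s lin hK2 linJ dc H4
  have hx := D.not_le_of_moved b.toBT c.ne hm
  have Kx := qpx_cen b.toBT c.ne D hd x hx
  have o := s.okh b τ c Kx hF
  have hXV := (XV.cen_X_V hF b c).le
  obtain ⟨N', _, _, P1, P2, y⟩ := c.exists_yPair b.toBT
  obtain ⟨m0, hm0, h1, h2⟩ := s.toNd.exists_swap b.toBT s.mem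
  obtain ⟨a, ha, ha1⟩ := id hF
  have A := s.aptH b τ c sw y lin hXV hK2 H4 o.OP o.OK o.PO o.OT o.two o.perf (fun g hg _ h => o.lift g hg h)
    hm0 h1 h2 ha ha1
  have L := s.sigL b τ sw c y hF lin hXV hK2 H4
  exact s.frat b τ sw c hXV L lin linJ hF Kx A ((s.toNd.PW_le b.toBT).trans inf_le_left)

theorem kdT' : KDT.{u} := kdT Lie.End.kTable Lie.End.kPhi

theorem kRows' : Lie.LayerMain.KRows.{u} := Lie.KRowsPlug.kRows Lie.OutT.out

/-- **`ResT`** -/
theorem resT' : ResT.{u} := resT kdT' HOneQ.GaT.gaT sbT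

/-- **The chain over `T`** -/
theorem out_of {G : Type u} [Group G] [Finite G] {T : Subgroup G} {F : Type} [Field F] [Finite F] [CharP F 2]
    {V : Subgroup G} {M : NatMod F V} (h : SitT T M) {o : Pt M} (hi : TSyl V (pt M) o T) :
    ∃ (G₀ U : Subgroup G) (v : G), OutT T M o G₀ U v :=
  h.out (h.layS kRows') (frT kdT') dT (rsT Lie.End.kSideX kdT') (nvT kdT') resT' HOneQ.GaT.gaT hi

end Cfsg.Agent.Omega.HOne.StFour

namespace Cfsg.Agent.Omega.HOne.StFour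

open Cfsg Cfsg.Agent.Omega.MinPar Cfsg.Agent.Omega.Frame
open Cfsg.Agent.Omega.HOne.TLift

universe u

/-- **`Cut.StFour K`** -/
theorem stFour_of (K : Cls.{u}) : Cut.StFour K :=
  stFour kRows' (frT kdT') dT (rsT Lie.End.kSideX kdT') (nvT kdT') resT' HOneQ.GaT.gaT

end Cfsg.Agent.Omega.HOne.StFour

end
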